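import Cfsg.Agent.H20.CR2

/-! The simple modules of a simply connected Chevalley group in the defining characteristic
are parametrised by their weights. -/

set_option autoImplicit false
set_option linter.unusedSectionVars false

namespace H20.CR

open MonoidAlgebra Subgroup Finset H24 H24.St0

variable {ι Φ : Type} [Fintype ι] [DecidableEq ι] [Fintype Φ] [DecidableEq Φ] {R : CD ι Φ}
  {F : Type*} [Field F] [Fintype F] {G : Type*} [Group G] {S : St R F G}
  {k M M' : Type*} [Field k] [AddCommGroup M] [Module k M] [AddCommGroup M'] [Module k M']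
  {ρ : Representation k G M} {ρ' : Representation k G M'} {l l' : ι → Option (Fˣ →* kˣ)} {m : M}
  {m' : M'}

theorem WV.of_ann (h : WV S ρ l m) (hm : m' ≠ 0)
    (H : ∀ a, ρ.asAlgebraHom a m = 0 → ρ'.asAlgebraHom a m' = 0) : WV S ρ' l m' := by
  refine ⟨hm, fun u hu => ?_, fun i t => ?_, fun i hi => ?_, fun i hi => ?_⟩
  · have := H (single u 1 - 1) (by simp [h.fix u hu])
    rw [map_sub, Representation.asAlgebraHom_single_one, map_one] at this
    exact sub_eq_zero.1 this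
  · have := H (single (S.h (R.sim i) t) 1 - ((l i).getD 1 t : k) • 1) (by simp [h.tor])
    rw [map_sub, Representation.asAlgebraHom_single_one, map_smul, map_one] at this
    exact sub_eq_zero.1 this
  · have := H (∑ a, single (S.x (R.sim i) a * S.n (R.sim i) 1) 1 + 1) (by
      simp only [map_add, map_sum, Representation.asAlgebraHom_single_one, map_one]
      exact add_eq_zero_iff_eq_neg.2 (h.ti0 i hi))
    simp only [map_add, map_sum, Representation.asAlgebraHom_single_one, map_one] at this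
    exact add_eq_zero_iff_eq_neg.1 this
  · have := H (∑ a, single (S.x (R.sim i) a * S.n (R.sim i) 1) 1) (by
      simp only [map_sum, Representation.asAlgebraHom_single_one]
      exact h.ti1 i hi)
    simp only [map_sum, Representation.asAlgebraHom_single_one] at this
    exact this

theorem WV.prod (h : WV S ρ l m) (h' : WV S ρ' l m') : WV S (ρ.prod ρ') l (m, m') := by
  have h1 : ∀ g, ρ.prod ρ' g (m, m') = (ρ g m, ρ' g m') := fun g => rfl
  have h2 : ∀ i, Ti S (ρ.prod ρ') i (m, m') = (Ti S ρ i m, Ti S ρ' i m') := fun i => by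
    simp only [Ti_apply, h1, prod_mk_sum]
  exact ⟨fun e => h.ne (congrArg Prod.fst e), fun u hu => by rw [h1, h.fix u hu, h'.fix u hu],
    fun i t => by rw [h1, h.tor, h'.tor]; rfl, fun i hi => by rw [h2, h.ti0 i hi, h'.ti0 i hi]; rfl,
    fun i hi => by rw [h2, h.ti1 i hi, h'.ti1 i hi]; rfl⟩

theorem WV.smul (h : WV S ρ l m) {c : k} (hc : c ≠ 0) : WV S ρ l (c • m) :=
  ⟨smul_ne_zero hc h.ne, fun u hu => by rw [map_smul, h.fix u hu],
    fun i t => by rw [map_smul, h.tor, smul_comm], fun i hi => by rw [map_smul, h.ti0 i hi, smul_neg],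
    fun i hi => by rw [map_smul, h.ti1 i hi, smul_zero]⟩

theorem WV.eq (h : WV S ρ l m) (h' : WV S ρ l' m) : l = l' := by
  funext i
  rcases h1 : l i with _ | χ <;> rcases h2 : l' i with _ | χ'
  · rfl
  · exact (h.ne (neg_eq_zero.1 ((h.ti0 i h1).symm.trans (h'.ti1 i (by simp [h2]))))).elim
  · exact (h.ne (neg_eq_zero.1 ((h'.ti0 i h2).symm.trans (h.ti1 i (by simp [h1]))))).elim
  · refine congrArg some (MonoidHom.ext fun t => Units.ext (smul_left_injective k h.ne ?_))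
    simpa [h1, h2] using (h.tor i t).symm.trans (h'.tor i t)

theorem WV.exists_ker (h : WV S ρ l m) (hG : S.Gr = ⊤) (h3 : S.R3) : ∃ n0 : G,
    ∀ Λ : Module.Dual k M, (∀ u ∈ S.U, ∀ x, Λ (ρ u x) = Λ x) → Λ (ρ n0 m) = 0 →
      ∀ a, Λ (ρ.asAlgebraHom a m) = 0 := by
  obtain ⟨n0, h0⟩ := WV.exists_span hG h3
  refine ⟨n0, fun Λ h1 h2 => alg_mem ρ (K := LinearMap.ker Λ) fun g => Submodule.span_le.2 ?_ (h0 h g)⟩
  rintro _ ⟨u, rfl⟩
  exact (congrArg Λ (rmul ρ _ _ _)).trans ((h1 u u.2 _).trans h2)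

theorem dual_ap (ρ : Representation k G M) (g : G) (f : Module.Dual k M) (x : M) :
    ρ.dual g f x = f (ρ g⁻¹ x) := rfl

variable (p : ℕ) [Fact p.Prime] [CharP F p] [CharP k p] [Finite G] (W : Wed k k[G])

theorem proj_ne (n : ℕ) : (LinearMap.proj 0 : Module.Dual k (Fin (n + 1) → k)) ≠ 0 := fun h => by
  simpa using DFunLike.congr_fun h 1

include p in
theorem exists_cofix (S : St R F G) (i : Fin W.n) : ∃ φ : Module.Dual k (Fin (W.d i + 1) → k),
    φ ≠ 0 ∧ ∀ u ∈ S.U, ∀ x, φ (rq W i u x) = φ x := by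
  obtain ⟨φ, h0, h⟩ := exists_fix p (rq W i).dual (S.isPGroup_U p) (proj_ne _)
  exact ⟨φ, h0, fun u hu x => by
    conv_rhs => rw [← h _ (inv_mem hu), dual_ap, inv_inv]⟩

include p in
theorem eq_of_wv (hG : S.Gr = ⊤) (h3 : S.R3) {i j : Fin W.n} {m m'} (h : WV S (rq W i) l m)
    (h' : WV S (rq W j) l m') : i = j := by
  by_contra hij
  obtain ⟨n0, h0⟩ := (h.prod h').exists_ker hG h3
  obtain ⟨φ, hφ, h1⟩ := exists_cofix p W S i
  obtain ⟨ψ, hψ, h2⟩ := exists_cofix p W S j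
  have h4 : ∀ y, ∃ a, ((rq W i).prod (rq W j)).asAlgebraHom a (m, m') = y := fun y => by
    obtain ⟨A, hA⟩ := exists_mat h.ne y.1
    obtain ⟨B, hB⟩ := exists_mat h'.ne y.2
    obtain ⟨a, ha⟩ := W.surj (Pi.single i A + Pi.single j B)
    have h5 : ∀ a, ((rq W i).prod (rq W j)).asAlgebraHom a (m, m') =
        ((rq W i).asAlgebraHom a m, (rq W j).asAlgebraHom a m') := fun a => by
      induction a using MonoidAlgebra.induction_on with
      | of g => simp only [Representation.asAlgebraHom_of]; rfl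
      | add b c hb hc => simp [hb, hc]
      | smul r b hb => simp [hb]
    refine ⟨a, ?_⟩
    rw [h5, rq_alg, rq_alg, ha]
    simp [Pi.single_eq_of_ne hij, Pi.single_eq_of_ne (Ne.symm hij), hA, hB]
  have h5 : ∀ c d : k, c * φ (rq W i n0 m) + d * ψ (rq W j n0 m') = 0 →
      ∀ x y, c * φ x + d * ψ y = 0 := fun c d e x y => by
    obtain ⟨a, ha⟩ := h4 (x, y)
    have := h0 (c • φ ∘ₗ LinearMap.fst _ _ _ + d • ψ ∘ₗ LinearMap.snd _ _ _)
      (fun u hu x => congrArg₂ (fun a b => c * a + d * b) (h1 u hu _) (h2 u hu _)) e a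
    rwa [ha] at this
  obtain ⟨x, hx⟩ := DFunLike.ne_iff.1 hφ
  obtain ⟨y, hy⟩ := DFunLike.ne_iff.1 hψ
  have h6 := h5 (ψ (rq W j n0 m')) (-φ (rq W i n0 m)) (by ring) x 0
  rw [map_zero, mul_zero, add_zero] at h6
  exact hy (by simpa using h5 0 1 (by simpa using (mul_eq_zero.1 h6).resolve_right hx) 0 y)

include p in
theorem weight_eq [IsAlgClosed k] (hG : S.Gr = ⊤) (h3 : S.R3) {i : Fin W.n} {m m'}
    (h : WV S (rq W i) l m) (h' : WV S (rq W i) l' m') : l = l' := by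
  obtain ⟨l0, f, hf⟩ := exists_wv S p hG h3 (rq W i).dual (proj_ne _)
  obtain ⟨n0, h0⟩ := hf.exists_ker hG h3
  have h1 : ∀ x, (∀ u ∈ S.U, rq W i u x = x) → (rq W i).dual n0 f x = 0 → x = 0 := fun x h1 h2 => by
    by_contra hx
    refine hf.ne (LinearMap.ext fun y => ?_)
    obtain ⟨A, rfl⟩ := exists_mat hx y
    obtain ⟨a, ha⟩ := W.surj (Pi.single i A)
    have := alg_mem (rq W i) (K := LinearMap.ker f) (m := x) (fun g => by
      have := h0 (Module.Dual.eval k _ x) (fun u hu y => by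
        simp only [Module.Dual.eval_apply, dual_ap, h1 _ (inv_mem hu)]) h2 (single g⁻¹ 1)
      rwa [Representation.asAlgebraHom_single_one, Module.Dual.eval_apply, dual_ap, inv_inv] at this) a
    rwa [rq_alg, ha, Pi.single_eq_same] at this
  have h2 := h1 ((rq W i).dual n0 f m' • m - (rq W i).dual n0 f m • m')
    (fun u hu => by rw [map_sub, map_smul, map_smul, h.fix u hu, h'.fix u hu])
    (by rw [map_sub, map_smul, map_smul, smul_eq_mul, smul_eq_mul, mul_comm, sub_self])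
  exact (h.smul fun e => h'.ne (h1 _ h'.fix e)).eq
    (sub_eq_zero.1 h2 ▸ h'.smul fun e => h.ne (h1 _ h.fix e))

theorem conj_hh (h3 : S.R3) (i : ι) (c : ι → Fˣ) : ∃ s : Fˣ,
    S.n (R.sim i) 1 * S.hh h3 c * (S.n (R.sim i) 1)⁻¹ = S.hh h3 (c * Pi.mulSingle i s) := by
  induction c using S.hh_induction h3 with
  | h1 j t => exact ⟨t ^ (-R.A (R.sim j) (R.sim i)), by
      rw [map_mul, S.hh_single, S.hh_single, S.rep_conj_h h3 (S.n_rep_s i one_ne_zero) _ t.ne_zero,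
        S.h_s h3]⟩
  | h0 => exact ⟨1, by simp⟩
  | hm c d hc hd =>
    obtain ⟨s, hs⟩ := hc
    obtain ⟨t, ht⟩ := hd
    refine ⟨s * t, ?_⟩
    rw [Pi.mulSingle_mul, mul_mul_mul_comm c d, map_mul _ (c * _), ← hs, ← ht, map_mul]; group

variable (S) in
/-- the subgroup generated by some of the `n_i(t)` -/
def N0 (K : Set ι) : Subgroup G := closure {g | ∃ i ∈ K, ∃ t, t ≠ 0 ∧ g = S.n (R.sim i) t}

theorem N0_le (K : Set ι) : N0 S K ≤ S.N :=
  (closure_le _).2 <| by rintro _ ⟨i, -, t, ht, rfl⟩; exact S.n_mem ht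

theorem n_mem_N0 {K : Set ι} {i : ι} (hi : i ∈ K) {t : F} (ht : t ≠ 0) :
    S.n (R.sim i) t ∈ N0 S K := subset_closure ⟨i, hi, t, ht, rfl⟩

section
variable (h3 : S.R3) {K : Set ι} {χ : (ι → Fˣ) →* kˣ} (hχ : ∀ i ∈ K, ∀ t, χ (Pi.mulSingle i t) = 1)
include hχ

theorem h_mem_ker {i : ι} (hi : i ∈ K) {t : F} (ht : t ≠ 0) :
    S.h (R.sim i) t ∈ χ.ker.map (S.hh h3) :=
  ⟨_, hχ i hi (Units.mk0 t ht), S.hh_single h3 _ _⟩

theorem N0_form {g : G} (hg : g ∈ N0 S K) :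
    ∃ z ∈ χ.ker.map (S.hh h3), ∃ l : List ι, (∀ i ∈ l, i ∈ K) ∧ g = z * S.nw l := by
  have h1 : ∀ i ∈ K, ∀ t ≠ 0, ∀ g, (∃ z ∈ χ.ker.map (S.hh h3), ∃ l : List ι, (∀ i ∈ l, i ∈ K) ∧
      g = z * S.nw l) → ∃ z ∈ χ.ker.map (S.hh h3), ∃ l : List ι, (∀ i ∈ l, i ∈ K) ∧
      S.n (R.sim i) t * g = z * S.nw l := by
    rintro i hi t ht _ ⟨_, ⟨c, hc, rfl⟩, l, hl, rfl⟩
    obtain ⟨s, hs⟩ := conj_hh h3 i c
    refine ⟨_, mul_mem (h_mem_ker h3 hχ hi ht) ⟨_, mul_mem hc (hχ i hi s), rfl⟩, i :: l,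
      by simpa [hi] using hl, ?_⟩
    rw [← hs, S.nw_cons, S.n_eq _ t]; group
  induction hg using closure_induction_left with
  | one => exact ⟨1, one_mem _, [], by simp, by simp⟩
  | mul_left x hx y _ ih => obtain ⟨i, hi, t, ht, rfl⟩ := hx; exact h1 i hi t ht y ih
  | inv_mul_cancel x hx y _ ih =>
    obtain ⟨i, hi, t, ht, rfl⟩ := hx
    rw [← S.n_neg]; exact h1 i hi _ (neg_ne_zero.2 ht) y ih

theorem N0_inf {g : G} (hg : g ∈ N0 S K) (hH : g ∈ S.H) : g ∈ χ.ker.map (S.hh h3) := by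
  obtain ⟨_, ⟨c, hc, rfl⟩, l, hl, rfl⟩ := N0_form h3 hχ hg
  refine mul_mem ⟨c, hc, rfl⟩ (R.wd_eq_one_induction (fun l => (∀ i ∈ l, i ∈ K) →
    S.nw l ∈ χ.ker.map (S.hh h3)) (fun _ => one_mem _) (fun i l1 t l2 e ih hl => ?_) l
    (S.rep_unique (rep_H_mul S (S.nw_rep l) (S.hh_mem h3 c)) (S.rep_of_mem_H hH)) hl)
  obtain ⟨ha, c, h1, h2⟩ := S.nw_rep l1
  have e1 := h2.conj_n ha h1 (R.sim t) 1
  rw [e] at e1
  have : S.nw (i :: (l1 ++ t :: l2)) =
      (S.n (R.sim i) 1 * S.n (R.sim i) (c (R.sim t) * 1)) * S.nw (l1 ++ l2) := by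
    rw [S.nw_cons, S.nw_append, S.nw_cons, S.nw_append, ← e1]; group
  rw [this, S.n_mul_n]
  have hi := hl i (by simp)
  exact mul_mem (mul_mem (h_mem_ker h3 hχ hi one_ne_zero) (inv_mem (h_mem_ker h3 hχ hi (by simp))))
    (ih fun j hj => hl j (by simp at hj ⊢; tauto))

end

include p in
theorem exists_of_weight (hG : S.Gr = ⊤) (h3 : S.R3) (hi : Function.Injective (S.hh h3))
    (l : ι → Option (Fˣ →* kˣ)) : ∃ v, WV S (ry k S.U) l v := by
  classical
  obtain ⟨χ, hχ⟩ : ∃ χ : (ι → Fˣ) →* kˣ, ∀ i t, χ (Pi.mulSingle i t) = (l i).getD 1 t :=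
    ⟨∏ i, ((l i).getD 1).comp (Pi.evalMonoidHom _ i), fun i t => by
      rw [MonoidHom.finset_prod_apply, Fintype.prod_eq_single i fun j hj => by simp [hj]]; simp⟩
  obtain ⟨K, hK⟩ : ∃ K : Set ι, ∀ i, i ∈ K ↔ l i = some 1 := ⟨{i | l i = some 1}, fun _ => Iff.rfl⟩
  have hK' : ∀ i ∈ K, ∀ t, χ (Pi.mulSingle i t) = 1 := fun i h t => by rw [hχ, (hK i).1 h]; rfl
  obtain ⟨w0, hw, h0⟩ := R.exists_w0
  obtain ⟨n0, hn0, hr⟩ := S.exists_N_rep hw
  obtain ⟨f, hf1, hf2⟩ : ∃ f : (G ⧸ S.U) → k, (∀ u ∈ S.U, ry k S.U u f = f) ∧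
      ∀ n ∈ S.N, f n = if n * n0⁻¹ ∈ N0 S K then 1 else 0 := by
    refine ⟨fun q => if ∃ u ∈ S.U, ∃ g ∈ N0 S K, q = (u * (g * n0) : G) then 1 else 0,
      fun u hu => funext fun q => if_congr ⟨?_, ?_⟩ rfl rfl, fun n hn => if_congr ⟨?_, fun h =>
        ⟨1, one_mem _, _, h, by simp⟩⟩ rfl rfl⟩
    · rintro ⟨v, hv, g, hg, e⟩
      exact ⟨_, mul_mem hu hv, g, hg, by rw [inv_smul_eq_iff.1 e, mul_assoc]; rfl⟩
    · rintro ⟨v, hv, g, hg, rfl⟩
      exact ⟨_, mul_mem (inv_mem hu) hv, g, hg, by rw [mul_assoc]; rfl⟩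
    · rintro ⟨v, hv, g, hg, e⟩
      rwa [bruhat_unique S (mul_mem (N0_le K hg) hn0) hn hv (QuotientGroup.eq.1 e.symm)
        (by group), mul_inv_cancel_right]
  obtain ⟨v, hv⟩ : ∃ v, v = ∑ c, ((χ c)⁻¹ : kˣ) • ry k S.U (S.hh h3 c) f := ⟨_, rfl⟩
  have h1 : ∀ n ∈ S.N, v n = ∑ c, if (S.hh h3 c)⁻¹ * n * n0⁻¹ ∈ N0 S K then (((χ c)⁻¹ : kˣ) : k)
      else 0 := fun n hn => by
    rw [hv, Finset.sum_apply]
    refine sum_congr rfl fun c _ => ?_
    rw [Pi.smul_apply, ry_mk, hf2 _ (mul_mem (inv_mem (S.H_le_N (S.hh_mem h3 c))) hn)]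
    split_ifs <;> simp [Units.smul_def]
  have h2 : ∀ u ∈ S.U, ry k S.U u v = v := fun u hu => by
    rw [hv, map_sum]
    exact sum_congr rfl fun c _ => by
      rw [Units.smul_def, map_smul, conj_fix S hf1 (S.hh_mem h3 c) u hu]
  have h4 : ∀ i (t : Fˣ), ry k S.U (S.h (R.sim i) t) v = ((l i).getD 1 t : k) • v := fun i t => by
    rw [← S.hh_single h3, ← hχ, hv, map_sum, smul_sum]
    refine Fintype.sum_equiv (Equiv.mulLeft (Pi.mulSingle i t)) _ _ fun c => ?_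
    simp [Units.smul_def, smul_smul, mul_left_comm ((χ (Pi.mulSingle i t) : kˣ) : k)]
  have h5 : ∀ n ∈ S.N, ∀ w, S.Rep n w → ∀ i ∉ K, R.Pos (w⁻¹ (R.sim i)) → v n = 0 := by
    intro n hn w h i hi hp
    rw [h1 n hn]
    refine sum_eq_zero fun c _ => if_neg fun hc => ?_
    obtain ⟨_, ⟨d, -, rfl⟩, l, hl, e⟩ := N0_form h3 hK' hc
    have h6 := rep_H_mul S ((rep_H_mul S (S.nw_rep l) (S.hh_mem h3 d)).mul hr) (S.hh_mem h3 c)
    rw [← e, show ∀ a b c : G, a * (a⁻¹ * b * c⁻¹ * c) = b from fun _ _ _ => by group] at h6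
    rw [S.rep_unique h h6] at hp
    refine (h0 _).1 ?_ hp
    simpa using (RS.pos_iff_of_mem_WJ (inv_mem (R.wd_mem_WJ hl)) (mt R.InJ_sim.1 hi)).2
      (R.pos_sim i)
  have h6 : ∀ n ∈ S.N, ∀ i ∈ K, v ((S.n (R.sim i) 1)⁻¹ * n : G) = v n := fun n hn i hi => by
    rw [h1 n hn, h1 _ (mul_mem (inv_mem (S.n_mem one_ne_zero)) hn)]
    refine sum_congr rfl fun c _ => if_congr ?_ rfl rfl
    obtain ⟨s, hs⟩ := conj_hh h3 i c
    rw [map_mul, S.hh_single, S.h_eq] at hs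
    rw [← mul_mem_cancel_left (mul_mem (mul_mem (n_mem_N0 hi s.ne_zero) (inv_mem (n_mem_N0 hi
      one_ne_zero))) (n_mem_N0 hi one_ne_zero))]
    conv_rhs => rw [eq_mul_inv_of_mul_eq hs.symm]
    congr! 1; group
  have h7 : ∀ n w i, S.Rep n w → ¬ R.Pos (w⁻¹ (R.sim i)) → Ti S (ry k S.U) i v n =
      v ((S.n (R.sim i) 1)⁻¹ * n : G) + (if (l i).getD 1 = 1 then -1 else 0) * v n := by
    intro n w i h hp
    rw [Ti_neg S h2 h hp, ← sum_chr p, sum_mul]
    refine congrArg _ (Fintype.sum_equiv (Equiv.inv _) _ _ fun t => ?_)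
    have := congrFun (h4 i t⁻¹) n
    rwa [ry_mk, S.h_inv h3 _ (Units.ne_zero _), ← Units.val_inv_eq_inv_val, inv_inv] at this
  refine ⟨v, fun e => ?_, h2, h4, fun i hi => ext_N S hG (Ti_fix S h2 i)
    (fun u hu => by rw [map_neg, h2 u hu]) fun n hn => ?_, fun i hi => ext_N S hG (Ti_fix S h2 i)
    (fun u hu => map_zero _) fun n hn => ?_⟩
  · have h8 := h1 n0 hn0
    rw [e, Pi.zero_apply, sum_congr rfl (g := fun c => if c ∈ (N0 S K).comap (S.hh h3) then 1 else 0),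
      sum_boole, eq_comm, CharP.cast_eq_zero_iff k p] at h8
    · have h9 := ((N0 S K).comap (S.hh h3)).card_subgroup_dvd_card
      rw [Nat.card_eq_fintype_card, Fintype.card_subtype, Nat.card_fun, Nat.card_units] at h9
      obtain ⟨e, hp, he⟩ := FiniteField.card F p
      have := hp.dvd_of_dvd_pow (h8.trans h9)
      rw [Nat.card_eq_fintype_card, he] at this
      exact hp.not_dvd_one ((Nat.dvd_sub_iff_right (Nat.one_le_pow _ _ hp.pos)
        (dvd_pow_self p e.ne_zero)).1 this)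
    · intro c _
      rw [mul_inv_cancel_right, inv_mem_iff]
      refine if_ctx_congr Iff.rfl (fun h => ?_) fun _ => rfl
      obtain ⟨d, hd, e⟩ := N0_inf h3 hK' h (S.hh_mem h3 c)
      rw [← hi e, MonoidHom.mem_ker.1 hd]; simp
  · obtain ⟨w, -, h⟩ := S.exists_rep hn
    have h8 : i ∉ K := fun h => by simpa [hi] using (hK i).1 h
    by_cases hp : R.Pos (w⁻¹ (R.sim i))
    · rw [Ti_pos S p h hp, Pi.neg_apply, h5 n hn w h i h8 hp, neg_zero]
    · rw [h7 n w i h hp, h5 _ (mul_mem (inv_mem (S.n_mem one_ne_zero)) hn) _ (rep_inv_mul S h i) i h8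
        ((pos_s_mul h.1).2 hp), hi]
      simp
  · obtain ⟨w, -, h⟩ := S.exists_rep hn
    by_cases hp : R.Pos (w⁻¹ (R.sim i))
    · exact Ti_pos S p h hp
    by_cases h8 : i ∈ K
    · rw [h7 n w i h hp, h6 n hn i h8, (hK i).1 h8]; simp
    · rw [h7 n w i h hp, h5 _ (mul_mem (inv_mem (S.n_mem one_ne_zero)) hn) _ (rep_inv_mul S h i) i h8
        ((pos_s_mul h.1).2 hp), if_neg]
      · simp
      · obtain ⟨ψ, e⟩ := Option.ne_none_iff_exists'.1 hi
        exact fun h => h8 ((hK i).2 (by rw [e] at h ⊢; exact congrArg some h))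

include p in
theorem card_simple [IsAlgClosed k] (hG : S.Gr = ⊤) (h3 : S.R3)
    (hi : Function.Injective (S.hh h3)) : W.n = Fintype.card F ^ Fintype.card ι := by
  choose l m h using fun i => exists_wv S p hG h3 (rq W i) (v := 1) one_ne_zero
  have h1 := Nat.card_congr (Equiv.ofBijective l ⟨fun i j e =>
    eq_of_wv p W hG h3 (h i) (e ▸ h j), fun l' => by
      obtain ⟨v, hv⟩ := exists_of_weight p hG h3 hi l'
      obtain ⟨i, m', h0, H⟩ := exists_simple W (ry k S.U) hv.ne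
      exact ⟨i, weight_eq p W hG h3 (h i) (hv.of_ann h0 H)⟩⟩)
  have : NeZero ((Monoid.exponent Fˣ : ℕ) : k) := ⟨fun h => by
    obtain ⟨e, hp, he⟩ := FiniteField.card F p
    have := ((CharP.cast_eq_zero_iff k p _).1 h).trans Group.exponent_dvd_nat_card
    rw [Nat.card_units, Nat.card_eq_fintype_card, he] at this
    exact hp.not_dvd_one ((Nat.dvd_sub_iff_right (Nat.one_le_pow _ _ hp.pos)
      (dvd_pow_self p e.ne_zero)).1 this)⟩
  rwa [Nat.card_fin, Nat.card_fun, Finite.card_option,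
    CommGroup.card_monoidHom_of_hasEnoughRootsOfUnity, Nat.card_units,
    Nat.sub_add_cancel Nat.card_pos, Nat.card_eq_fintype_card, Nat.card_eq_fintype_card] at h1

/-- The number of `p`-regular classes of a simply connected Chevalley group. -/
theorem card_classes (S : St R F G) (hG : S.Gr = ⊤) (h3 : S.R3) (ha : S.Adj)
    (hk : Nat.card (R.theta F).ker = 1) :
    Nat.card {c : ConjClasses G // ∃ g, ConjClasses.mk g = c ∧ (orderOf g).Coprime p} =
      Fintype.card F ^ Fintype.card ι := by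
  obtain ⟨O, _⟩ := H19.exists_val p
  obtain ⟨W⟩ := nonempty_wed (H19.kk O) (H19.kk O)[G]
  rw [← card_simple p W hG h3 ((MonoidHom.ker_eq_bot_iff _).1 (by
    rw [S.ker_hh h3 ha, ← Subgroup.card_eq_one, hk])), ← card_reg (p := p) W]
  simp only [Nat.coprime_comm (m := p), (Fact.out : p.Prime).coprime_iff_not_dvd]

end H20.CR
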