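import Cfsg.Agent.H20.Wed
import Cfsg.Agent.H20.Trc
import Cfsg.Agent.H19.Star1

/-! Decomposition numbers and Brauer characters. -/

set_option autoImplicit false
set_option linter.unusedSectionVars false

namespace H20
open MonoidAlgebra Subgroup H10 Cfsg H17 Finset
open H19 (kk Blk irr eB fB lam OG red ZZ om ev IsPElt ppart rpart il tau liftG GC ZB)
open CF (Irr)
open scoped ComplexConjugate

variable {O : ValuationSubring ℂ} {G : Type*} [Group G] [Finite G] {p : ℕ} [hp : Fact p.Prime]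
  [CharP (kk O) p] {θ : G → ℂ} {F : ℂ[G]} {ε ε' : (kk O)[G]}

omit hp [CharP (kk O) p] in
theorem exists_scale (O : ValuationSubring ℂ) {ι : Type*} [Finite ι] {c : ι → ℂ} {i : ι}
    (h : c i ≠ 0) : ∃ j, c j ≠ 0 ∧ ∀ l, c l / c j ∈ O := by
  have := Fintype.ofFinite ι
  obtain ⟨j, -, hj⟩ := exists_max_image univ (fun l => O.valuation (c l)) ⟨i, mem_univ i⟩
  have h0 : c j ≠ 0 := fun e => h (by simpa [e] using hj i (mem_univ i))
  exact ⟨j, h0, fun l => (H19.div_mem_iff_val h0).2 (hj l (mem_univ l))⟩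

omit hp [CharP (kk O) p] in
theorem linearIndependent_of_red {ι : Type*} [Finite ι] {v : ι → ℂ[G]} (hv : ∀ i, v i ∈ OG O G)
    (h : LinearIndependent (kk O) fun i => red O (v i)) : LinearIndependent ℂ v := by
  have := Fintype.ofFinite ι
  rw [Fintype.linearIndependent_iff] at h ⊢
  intro c hc i
  by_contra h0
  obtain ⟨j, h1, h2⟩ := exists_scale O h0
  have h3 : ∑ l, (c l / c j) • v l = 0 := by
    simp only [div_eq_inv_mul, mul_smul, ← smul_sum, hc, smul_zero]
  have := h (fun l => H19.res O (c l / c j)) (by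
    rw [← sum_congr rfl fun l _ => H19.red_smul (h2 l) (hv l),
      ← H19.red_sum _ fun l _ => H19.smul_mem_OG (h2 l) (hv l), h3, H19.red_zero]) j
  rw [div_self h1, H19.res_one] at this
  exact one_ne_zero this

theorem exists_li {K V : Type*} [Field K] [AddCommGroup V] [Module K V] (S : Submodule K V) :
    ∃ b : Fin (Module.finrank K S) → V, (∀ i, b i ∈ S) ∧ LinearIndependent K b := by
  obtain ⟨b, hb⟩ := exists_linearIndependent_of_le_finrank (R := K) (M := S) le_rfl
  exact ⟨_, fun i => (b i).2, hb.map' S.subtype S.ker_subtype⟩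

theorem card_le_of_li {K V ι : Type*} [Field K] [AddCommGroup V] [Module K V] [Module.Finite K V]
    [Fintype ι] {S : Submodule K V} {b : ι → V} (h : ∀ i, b i ∈ S) (hb : LinearIndependent K b) :
    Fintype.card ι ≤ Module.finrank K S :=
  (LinearIndependent.of_comp S.subtype (v := fun i => ⟨b i, h i⟩)
    (by exact hb)).fintype_card_le_finrank

omit hp [CharP (kk O) p] in
theorem finrank_le_of_lift {S : Submodule ℂ ℂ[G]} {S' : Submodule (kk O) (kk O)[G]}
    (h : ∀ a ∈ S', ∃ b ∈ S, b ∈ OG O G ∧ red O b = a) :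
    Module.finrank (kk O) S' ≤ Module.finrank ℂ S := by
  obtain ⟨b, hb, hb'⟩ := exists_li S'
  choose x h1 h2 h3 using fun i => h _ (hb i)
  have := card_le_of_li h1 (linearIndependent_of_red h2 (funext h3 ▸ hb'))
  rwa [Fintype.card_fin] at this

omit hp [CharP (kk O) p] in
theorem finrank_range_le {T : ℂ[G] →ₗ[ℂ] ℂ[G]} {T' : (kk O)[G] →ₗ[kk O] (kk O)[G]}
    (h : ∀ a ∈ OG O G, T a ∈ OG O G ∧ red O (T a) = T' (red O a)) :
    Module.finrank (kk O) (LinearMap.range T') ≤ Module.finrank ℂ (LinearMap.range T) :=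
  finrank_le_of_lift (by
    rintro _ ⟨a, rfl⟩
    exact ⟨_, ⟨_, rfl⟩, (h _ (H19.liftG_mem_OG a)).1, by
      rw [(h _ (H19.liftG_mem_OG a)).2, H19.red_liftG]⟩)

omit hp [CharP (kk O) p] in
theorem finrank_range_eq {T : ℂ[G] →ₗ[ℂ] ℂ[G]} {T' : (kk O)[G] →ₗ[kk O] (kk O)[G]}
    (h : ∀ a ∈ OG O G, T a ∈ OG O G ∧ red O (T a) = T' (red O a)) (h1 : IsIdempotentElem T)
    (h2 : IsIdempotentElem T') :
    (Module.finrank (kk O) (LinearMap.range T') : ℂ) = LinearMap.trace ℂ _ T := by
  have e1 := finrank_range_le h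
  have e2 := finrank_range_le (T := 1 - T) (T' := 1 - T') fun a ha =>
    ⟨sub_mem ha (h a ha).1, by
      rw [LinearMap.sub_apply, LinearMap.sub_apply, Module.End.one_apply, Module.End.one_apply,
        H19.red_sub ha (h a ha).1, (h a ha).2]⟩
  have e3 := T.finrank_range_add_finrank_ker
  have e4 := T'.finrank_range_add_finrank_ker
  have := Fintype.ofFinite G
  rw [LinearMap.IsIdempotentElem.ker_eq_range h1,
    Module.finrank_eq_card_basis (MonoidAlgebra.basis G ℂ)] at e3
  rw [LinearMap.IsIdempotentElem.ker_eq_range h2,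
    Module.finrank_eq_card_basis (MonoidAlgebra.basis G (kk O))] at e4
  rw [(LinearMap.IsIdempotentElem.isProj_range T h1).trace]
  exact congrArg _ (le_antisymm e1 (by rw [Module.End.one_eq_id, Module.End.one_eq_id] at e2; omega))

omit hp [CharP (kk O) p] in
theorem trace_mulLeftRight (x y : ℂ[G]) : LinearMap.trace ℂ _ (LinearMap.mulLeftRight ℂ (x, y)) =
    ∑ χ : IrrCharacter G, ev (χ : G → ℂ) x * ev (χ : G → ℂ) y := by
  classical
  have := Fintype.ofFinite G
  have h1 : ∑ u, cj u y ∈ ZZ ℂ G := mem_cen_top_iff.1 (mem_cen_top.2 fun g _ => by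
    rw [map_sum]; exact Fintype.sum_equiv (Equiv.mulLeft g) _ _ fun u => by simp [cj_mul])
  have h2 := H19.sum_deg_mul_ev ((∑ u, cj u y) * x)
  rw [sum_congr rfl fun χ _ => by
    rw [H19.ev_central_mul χ.2 h1, ← mul_assoc, ← H19.ev_eq_om_mul χ.2, map_sum,
      sum_congr rfl fun u _ => H19.ev_cj' (H19.irr_class χ) u y, sum_const, card_univ,
      ← Nat.card_eq_fintype_card, nsmul_eq_mul, mul_assoc, mul_comm (ev _ y)],
    ← mul_sum, mul_right_inj' card_ne_zero_complex] at h2
  rw [h2, LinearMap.trace_eq_matrix_trace ℂ (MonoidAlgebra.basis G ℂ), Matrix.trace,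
    H19.ZZ_comm h1, mul_sum, H19.coeff_sum_apply]
  refine sum_congr rfl fun u _ => ?_
  rw [Matrix.diag_apply, LinearMap.toMatrix_apply, cj_eq, ← mul_assoc, ← mul_assoc,
    coeff_mul_single_apply]
  simp
  rfl

variable (p) in
/-- value of a class function at a lift of an idempotent -/
noncomputable def tv (θ : G → ℂ) (ε : (kk O)[G]) : ℂ := ev θ (il p ε)

theorem tv_eq_tau : tv p θ ε = tau p θ 1 ε := by rw [tau, ← one_def, one_mul, tv]

theorem tv_red (hθ : IsClassFunction G θ) (hO : F ∈ OG O G) (hF : IsIdempotentElem F) :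
    tv p θ (red O F) = ev θ F := by
  rw [tv_eq_tau, H19.tau_eq hθ (by rw [IsIdempotentElem, ← H19.red_mul hO hO, hF.eq]) (cj_one _) hO
    hF (cj_one _) rfl, ← one_def, one_mul]

theorem isTau_tv (hθ : IsClassFunction G θ) : IsTau (tv (O := O) p θ) where
  zero := by rw [tv_eq_tau, H19.tau_zero hθ]
  add e e' h h' h1 h2 := by
    simp only [tv_eq_tau]; exact H19.tau_add hθ h (cj_one _) h' (cj_one _) h1 h2
  comm a b h h' := by
    have ha := H19.liftG_mem_OG (O := O) a
    have hb := H19.liftG_mem_OG (O := O) b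
    obtain ⟨P, hP⟩ := H19.exists_fit p (mul_mem ha hb) (mul_mem hb ha)
    have key : ∀ z ∈ OG O G, z = liftG O a * liftG O b ∨ z = liftG O b * liftG O a →
        IsIdempotentElem (red O z) → tv p θ (red O z) = ev θ (z * Polynomial.aeval z P) :=
      fun z hz h1 h2 => by
        have := (hP z h1).2 ⊥ IsPGroup.of_bot (fun g hg => by rw [mem_bot.1 hg, cj_one])
          (by rwa [br_bot])
        rw [br_bot, br_bot] at this
        rw [← this, tv_red hθ (mul_mem hz (H19.aeval_mem_OG hz P)) (hP z h1).1]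
    have e1 : red O (liftG O a * liftG O b) = a * b := by
      rw [H19.red_mul ha hb, H19.red_liftG, H19.red_liftG]
    have e2 : red O (liftG O b * liftG O a) = b * a := by
      rw [H19.red_mul hb ha, H19.red_liftG, H19.red_liftG]
    rw [← e1, ← e2, key _ (mul_mem ha hb) (.inl rfl) (e1 ▸ h), key _ (mul_mem hb ha) (.inr rfl)
      (e2 ▸ h'), mul_assoc, H19.ev_mul_comm hθ, mul_assoc, ← H19.mul_aeval_mul, mul_assoc]

theorem exists_tv_nat (hθ : IsCharacter G θ) (h : IsIdempotentElem ε) : ∃ n : ℕ, tv p θ ε = n := by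
  obtain ⟨n, hn⟩ := (H19.isCharacter_ev_idem (E := ⊥) hθ (H19.il_idem (p := p) h)
    (fun g hg => by rw [mem_bot.1 hg, cj_one])).exists_nat_one
  exact ⟨n, by simpa [← one_def, tv] using hn⟩

theorem finrank_corner (h : IsIdempotentElem ε) (h' : IsIdempotentElem ε') :
    (Module.finrank (kk O) (LinearMap.range (LinearMap.mulLeftRight (kk O) (ε, ε'))) : ℂ) =
      ∑ χ : IrrCharacter G, tv p (χ : G → ℂ) ε * tv p (χ : G → ℂ) ε' := by
  have key : ∀ {R : Type} [CommRing R] {x y : R[G]}, IsIdempotentElem x → IsIdempotentElem y →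
      IsIdempotentElem (LinearMap.mulLeftRight R (x, y)) := fun hx hy => LinearMap.ext fun a => by
    simp only [Module.End.mul_apply, LinearMap.mulLeftRight_apply, mul_assoc, hy.eq]
    rw [← mul_assoc, hx.eq]
  rw [finrank_range_eq (T := LinearMap.mulLeftRight ℂ (il p ε, il p ε')) (fun a ha =>
    ⟨mul_mem (mul_mem (H19.il_OG _) ha) (H19.il_OG _), by
      rw [LinearMap.mulLeftRight_apply, H19.red_mul (mul_mem (H19.il_OG _) ha) (H19.il_OG _),
        H19.red_mul (H19.il_OG _) ha, H19.red_il h, H19.red_il h', LinearMap.mulLeftRight_apply]⟩)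
    (key (H19.il_idem h) (H19.il_idem h')) (key h h'), trace_mulLeftRight]
  rfl

theorem pci_mem_OG {K : Subgroup G} (hK : ¬ p ∣ Nat.card K) (h : θ ∈ Irr K) : pci K θ ∈ OG O G :=
  fun g => by
    rw [coeff_pci]
    exact mul_mem (H19.inv_natCast_mem p hK) (mul_mem (irr_mem O h _) (irr_mem O h _))

omit hp [CharP (kk O) p] in
theorem sum_pci_Irr (K : Subgroup G) : ∑ θ ∈ Irr K, pci K θ = 1 := ext_coeff fun g => by
  classical
  rw [H19.coeff_sum_apply, sum_congr rfl fun θ _ => coeff_pci K θ g, ← mul_sum,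
    H19.coeff_one_apply]
  split_ifs with h
  · simp only [h, inv_one, ← sq, CF.sum_irr_sq, inv_mul_cancel₀ (CF.card_ne K)]
  · rw [CF.sum_irr_one_mul K (inv_ne_one.2 h), mul_zero]

namespace Wed
variable (W : Wed (kk O) (kk O)[G]) {i j : Fin W.n} {β : Blk O G} {χ : IrrCharacter G}

variable (p) in
/-- decomposition numbers -/
noncomputable def dn (χ : G → ℂ) (i : Fin W.n) : ℕ := ⌊(tv p χ (W.f i)).re⌋₊

theorem cast_dn (hθ : IsCharacter G θ) (i : Fin W.n) : (W.dn p θ i : ℂ) = tv p θ (W.f i) := by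
  obtain ⟨n, hn⟩ := exists_tv_nat (p := p) hθ (W.idem i)
  simp [dn, hn]

theorem tv_idem (hθ : IsCharacter G θ) (h : IsIdempotentElem ε) :
    tv p θ ε = ∑ i, (W.r ε i : ℂ) * (W.dn p θ i : ℂ) := by
  rw [W.tau_eq (isTau_tv hθ.isClassFunction) h]
  simp [W.cast_dn hθ]

theorem ev_idem (hθ : IsCharacter G θ) (hO : F ∈ OG O G) (hF : IsIdempotentElem F) :
    ev θ F = ∑ i, (W.r (red O F) i : ℂ) * (W.dn p θ i : ℂ) := by
  rw [← tv_red (p := p) hθ.isClassFunction hO hF,
    W.tv_idem hθ (by rw [IsIdempotentElem, ← H19.red_mul hO hO, hF.eq])]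

theorem deg_eq (hθ : IsCharacter G θ) : 
    θ 1 = ∑ i, ((W.d i + 1 : ℕ) : ℂ) * (W.dn p θ i : ℂ) := by
  rw [← H19.ev_one θ, W.ev_idem (p := p) hθ (one_mem _) .one]
  simp [H19.red_one, W.r_of_one]

omit hp [CharP (kk O) p] in
theorem eG_comm (β : Blk O G) (a : (kk O)[G]) : a * eG β = eG β * a := (H19.ZZ_comm (eB β).2 a).symm

omit hp [CharP (kk O) p] in
theorem exists_blk (i : Fin W.n) : ∃ β : Blk O G, W.π (eG β) i = 1 := by
  by_contra! h
  have := congrFun (congrArg W.π (sum_eG (O := O) (G := G))) i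
  rw [map_sum, Finset.sum_apply, sum_eq_zero fun β _ => (W.central_idem (isBlk_eG β).idem
    (eG_comm β) i).resolve_right (h β), map_one] at this
  exact zero_ne_one this

/-- the block of a simple module -/
noncomputable def blk (i : Fin W.n) : Blk O G := (W.exists_blk i).choose

omit hp [CharP (kk O) p] in
theorem π_blk (i : Fin W.n) : W.π (eG (W.blk i)) i = 1 := (W.exists_blk i).choose_spec

omit hp [CharP (kk O) p] in
theorem π_of_ne (h : W.blk i ≠ β) : W.π (eG β) i = 0 := by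
  have := congrFun (congrArg W.π ((isBlk_eG β).mul_eq_zero (isBlk_eG (W.blk i))
    (eG_injective.ne h))) i
  rwa [map_mul, Pi.mul_apply, W.π_blk, one_mul, map_zero] at this

omit hp [CharP (kk O) p] in
theorem f_mul_blk (i : Fin W.n) : W.f i * eG (W.blk i) = W.f i :=
  W.f_mul_of_one (isBlk_eG _).idem (eG_comm _) (W.π_blk i)

theorem dn_eq_zero (h : lam O χ ≠ W.blk i) : W.dn p (χ : G → ℂ) i = 0 := by
  have hc := H19.ZZ_comm (H19.fB_mem_ZZ (irr (W.blk i)))
  have h1 := tv_red (p := p) (H19.irr_class χ) (mul_mem (H19.fB_irr_mem_OG (W.blk i))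
    (H19.il_OG (p := p) (W.f i))) (IsIdempotentElem.mul_of_commute (hc _) (H19.fB_mul_self _)
      (H19.il_idem (W.idem i)))
  rw [H19.red_mul (H19.fB_irr_mem_OG _) (H19.il_OG _), red_fB, H19.red_il (W.idem i), ← eG_comm,
    W.f_mul_blk, H19.ev_fB_mul_of_not_mem (by exact h), ← W.cast_dn χ.2.isCharacter] at h1
  exact_mod_cast h1

theorem t_rpart (i : Fin W.n) (g : G) : W.t i (single (rpart p g) 1) = W.t i (single g 1) := by
  obtain ⟨n, hn⟩ := H19.isPElt_iff.1 (H19.ppart_isPElt (p := p) g)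
  have h1 : IsNilpotent (single (ppart p g) (1 : kk O) - 1) := ⟨p ^ n - 1 + 1, by
    rw [pow_succ, sub_one_pow_eq_gs (kk O) p, geom_sum_mul, single_pow, hn, one_pow, ← one_def,
      sub_self]⟩
  have h2 : Commute (single (ppart p g) (1 : kk O) - 1) (single (rpart p g) 1) :=
    Commute.sub_left (by
      rw [Commute, SemiconjBy, single_mul_single, single_mul_single,
        (H19.commute_ppart_rpart g).eq]) (Commute.one_left _)
  have h3 := (Matrix.isNilpotent_trace_of_isNilpotent (((h2.isNilpotent_mul_right h1).map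
    W.π).map (Pi.evalRingHom _ i))).eq_zero
  rw [Pi.evalRingHom_apply, ← t_apply, sub_mul, single_mul_single, H19.ppart_mul_rpart, one_mul,
    one_mul, map_sub, sub_eq_zero] at h3
  exact h3.symm

variable (p) in
include hp in
theorem exists_GC_t (i : Fin W.n) :
    ∃ θ ∈ GC O.toSubring G, ∀ g, H19.res O (θ g) = W.t i (single g 1) := by
  have h : IsClassFunction G fun g => H19.lift O (W.t i (single g 1)) := fun g h => by
    have : (single (h * g * h⁻¹) 1 : (kk O)[G]) = single h 1 * (single g 1 * single h⁻¹ 1) := by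
      simp [single_mul_single, mul_assoc]
    beta_reduce
    rw [this, W.t_comm]
    simp [single_mul_single]
  exact ⟨_, hat_mem_GC (p := p) h fun _ _ => H19.lift_mem _,
    fun g => by rw [H19.res_lift, W.t_rpart]⟩

theorem indep_mod {x : Fin W.n → ℂ} (hx : ∀ i, x i ∈ O)
    (h : ∀ χ : IrrCharacter G, ∑ i, x i * W.dn p (χ : G → ℂ) i ∈ O.nonunits) (j : Fin W.n) :
    x j ∈ O.nonunits := by
  obtain ⟨θ, h1, h2⟩ := W.exists_GC_t p j
  have hO := fun i => H19.smul_mem_OG (hx i) (H19.il_OG (p := p) (W.f i))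
  have h3 := res_ev (apply_mem_of_GC h1) (W.t j) h2 (sum_mem fun i (_ : i ∈ univ) => hO i)
  rw [H19.red_sum _ fun i _ => hO i, map_sum (W.t j)] at h3
  simp only [fun i => H19.red_smul (hx i) (H19.il_OG (p := p) (W.f i)), H19.red_il (W.idem _),
    map_smul, W.t_f, smul_eq_mul, mul_ite, mul_one, mul_zero, sum_ite_eq, mem_univ, if_true] at h3
  rw [← H19.res_eq_zero_iff (hx j), ← h3]
  refine H19.res_eq_zero_of_nonunits (H19.GC_induction (P := fun θ => ev θ _ ∈ O.nonunits) h1
    (fun χ => ?_) (by rw [H19.ev_zero_left]; exact zero_mem _) (fun a b ha hb => ?_)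
    fun c hc a ha => ?_)
  · simpa [W.cast_dn χ.2.isCharacter, tv] using h χ
  · rw [H19.ev_add_left]; exact add_mem ha hb
  · rw [H19.ev_smul_left]; exact H19.nonunits_mul_left hc ha

theorem indep {x : Fin W.n → ℂ} (h : ∀ χ : IrrCharacter G, ∑ i, x i * W.dn p (χ : G → ℂ) i = 0)
    (i : Fin W.n) : x i = 0 := by
  by_contra h0
  obtain ⟨j, h1, h2⟩ := exists_scale O h0
  have := W.indep_mod (p := p) h2 (fun χ => by
    simp only [div_eq_inv_mul, mul_assoc, ← mul_sum, h χ, mul_zero]; exact zero_mem _) j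
  rw [div_self h1] at this
  exact H19.one_not_mem_nonunits this

theorem ext_dn {x y : Fin W.n → ℂ} (h : ∀ χ : IrrCharacter G,
    ∑ i, x i * W.dn p (χ : G → ℂ) i = ∑ i, y i * W.dn p (χ : G → ℂ) i) (i : Fin W.n) : x i = y i :=
  sub_eq_zero.1 (W.indep (p := p) (x := fun i => x i - y i) (fun χ => by
    simp only [sub_mul, sum_sub_distrib, h χ, sub_self]) i)

theorem exists_dn_ne_zero (i : Fin W.n) : ∃ χ ∈ irr (W.blk i), W.dn p (χ : G → ℂ) i ≠ 0 := by
  by_contra! h
  have := W.indep (p := p) (x := Pi.single i 1) (fun χ => by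
    rw [sum_eq_single i (fun j _ hj => by simp [hj]) (by simp)]
    by_cases e : lam O χ = W.blk i
    · simp [h χ e]
    · simp [W.dn_eq_zero e]) i
  simp at this

theorem exists_eigen {y : G} (hy : ¬ p ∣ orderOf y) (hO : F ∈ OG O G) (hF : IsIdempotentElem F)
    (hc : cj y F = F) : ∃ c : Fin W.n → ℂ, (∀ i, IsIntegral ℤ (c i)) ∧
      (∀ i, H19.res O (c i) = W.t i (single y 1 * red O F)) ∧
      ∀ θ, IsCharacter G θ → ev θ (single y 1 * F) = ∑ i, c i * W.dn p θ i := by
  set Y := zpowers y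
  have hY : ¬ p ∣ Nat.card Y := by rwa [Nat.card_zpowers]
  have hf : F ∈ fixed ℂ Y := fun g hg => (zpowers_le.2 (mem_stab.2 hc) : Y ≤ stab F) hg
  have h1 : ∀ μ ∈ Irr Y, IsIdempotentElem (pci Y μ * F) := fun μ hμ =>
    IsIdempotentElem.mul_of_commute (commute_of_fixed_of_supp hf (pci_cen hμ).1).symm
      (pci_idem hμ) hF
  have h2 : ∀ μ ∈ Irr Y, pci Y μ * F ∈ OG O G := fun μ hμ => mul_mem (pci_mem_OG hY hμ) hO
  have h3 : single y 1 * F = ∑ μ ∈ Irr Y, μ y • (pci Y μ * F) := by
    conv_lhs => rw [← one_mul F, ← sum_pci_Irr Y, sum_mul, mul_sum]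
    refine sum_congr rfl fun μ hμ => ?_
    rw [← mul_assoc, cen_mul_pci hμ ⟨single_mem_supp (mem_zpowers y) 1, single_mem_fixed
      (mem_centralizer_iff.2 fun g hg => by obtain ⟨n, rfl⟩ := hg; group) 1⟩, ev_single_one,
      CF.irr_one_of_comm inferInstance hμ, div_one, smul_mul_assoc]
  refine ⟨fun i => ∑ μ ∈ Irr Y, μ y * W.r (red O (pci Y μ * F)) i, fun i => IsIntegral.sum _
    fun μ hμ => ((CF.irr_char hμ).isIntegral y).mul (isIntegral_natCast _), fun i => ?_,
    fun θ hθ => ?_⟩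
  · have := congrArg (red O) h3
    rw [H19.red_mul (H19.single_mem_OG y (one_mem _)) hO, H19.red_single, H19.res_one,
      H19.red_sum _ fun μ hμ => H19.smul_mem_OG (irr_mem O hμ y) (h2 μ hμ)] at this
    rw [this, map_sum, H19.res_sum _ fun μ hμ => mul_mem (irr_mem O hμ y) (natCast_mem _ _)]
    refine sum_congr rfl fun μ hμ => ?_
    rw [H19.res_mul (irr_mem O hμ y) (natCast_mem _ _), H19.red_smul (irr_mem O hμ y) (h2 μ hμ),
      map_smul, W.t_idem (by rw [IsIdempotentElem, ← H19.red_mul (h2 μ hμ) (h2 μ hμ), (h1 μ hμ).eq]),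
      H19.res_natCast, smul_eq_mul]
  · rw [h3, map_sum, sum_congr rfl fun μ hμ => by
      rw [map_smul, W.ev_idem (p := p) hθ (h2 μ hμ) (h1 μ hμ), smul_eq_mul, mul_sum], sum_comm]
    simp only [sum_mul, mul_assoc]

theorem exists_bc (g : G) : ∃ c : Fin W.n → ℂ, (∀ i, IsIntegral ℤ (c i)) ∧
    (∀ i, H19.res O (c i) = W.t i (single g 1)) ∧
    ∀ θ, IsCharacter G θ → θ (rpart p g) = ∑ i, c i * W.dn p θ i := by
  simpa [H19.red_one, W.t_rpart, ev_single_one] using
    W.exists_eigen (H19.rpart_reg (p := p) g) (one_mem _) .one (map_one _)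

variable (p) in
/-- the Brauer character of a simple module, extended to be constant on sections -/
noncomputable def bc (i : Fin W.n) (g : G) : ℂ := (W.exists_bc (p := p) g).choose i

theorem bc_int (i : Fin W.n) (g : G) : IsIntegral ℤ (W.bc p i g) :=
  (W.exists_bc (p := p) g).choose_spec.1 i

theorem bc_mem (i : Fin W.n) (g : G) : W.bc p i g ∈ O := H19.mem_of_isIntegral O (W.bc_int i g)

theorem res_bc (i : Fin W.n) (g : G) : H19.res O (W.bc p i g) = W.t i (single g 1) :=
  (W.exists_bc (p := p) g).choose_spec.2.1 i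

theorem dec (hθ : IsCharacter G θ) (g : G) : θ (rpart p g) = ∑ i, W.bc p i g * W.dn p θ i :=
  (W.exists_bc (p := p) g).choose_spec.2.2 θ hθ

theorem dec_reg (hθ : IsCharacter G θ) {y : G} (hy : ¬ p ∣ orderOf y) :
    θ y = ∑ i, W.bc p i y * W.dn p θ i := by rw [← W.dec hθ, H19.rpart_of_reg hy]

theorem bc_class (i : Fin W.n) : IsClassFunction G (W.bc p i) := fun g h =>
  W.ext_dn (p := p) (x := fun i => W.bc p i _) (y := fun i => W.bc p i _) (fun χ => by
    rw [← W.dec χ.2.isCharacter, ← W.dec χ.2.isCharacter, H19.rpart_conj, H19.irr_class χ]) i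

theorem bc_rpart (i : Fin W.n) (g : G) : W.bc p i (rpart p g) = W.bc p i g :=
  W.ext_dn (p := p) (x := fun i => W.bc p i _) (y := fun i => W.bc p i _) (fun χ => by
    rw [← W.dec χ.2.isCharacter, ← W.dec χ.2.isCharacter, H19.rpart_of_reg (H19.rpart_reg g)]) i

theorem bc_one (i : Fin W.n) : W.bc p i 1 = (W.d i + 1 : ℕ) :=
  W.ext_dn (p := p) (x := fun i => W.bc p i _) (y := fun i => (W.d i + 1 : ℕ)) (fun χ => by
    rw [← W.dec_reg χ.2.isCharacter (by simpa using hp.out.ne_one),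
      W.deg_eq (p := p) χ.2.isCharacter]) i

theorem bc_indep {x : Fin W.n → ℂ} (h : ∀ y, ¬ p ∣ orderOf y → ∑ i, x i * W.bc p i y = 0)
    (i : Fin W.n) : x i = 0 := by
  by_contra h0
  obtain ⟨j, h1, h2⟩ := exists_scale O h0
  have := Fintype.ofFinite G
  have h3 : ∀ g, ∑ i, H19.res O (x i / x j) * W.t i (single g 1) = 0 := fun g => by
    have := congrArg (fun z => H19.res O ((x j)⁻¹ * z)) (h _ (H19.rpart_reg (p := p) g))
    simp only [mul_sum, ← mul_assoc, ← div_eq_inv_mul, mul_zero, H19.res_zero, W.bc_rpart] at this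
    rw [← this, H19.res_sum _ fun i _ => mul_mem (h2 i) (W.bc_mem i g)]
    exact sum_congr rfl fun i _ => by rw [H19.res_mul (h2 i) (W.bc_mem i g), W.res_bc]
  have h4 : ∑ i, H19.res O (x i / x j) * W.t i (W.f j) = 0 := by
    simp only [map_eq_sum_single (W.t _) (W.f j), mul_sum, mul_left_comm (H19.res O _)]
    rw [sum_comm]
    exact sum_eq_zero fun g _ => by rw [← mul_sum, h3, mul_zero]
  simp [W.t_f, div_self h1, H19.res_one] at h4

/-- projective characters vanish on singular elements -/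
theorem proj_sing (i : Fin W.n) {g : G} (hg : p ∣ orderOf g) :
    ∑ χ : IrrCharacter G, W.dn p (χ : G → ℂ) i * (χ : G → ℂ) g = 0 :=
  W.bc_indep (p := p) (x := fun i => ∑ χ : IrrCharacter G, W.dn p (χ : G → ℂ) i * (χ : G → ℂ) g)
    (fun y hy => by
      classical
      have := H19.Kr_univ y g⁻¹
      rw [if_neg fun h => hy (by rwa [← H19.orderOf_isConj h, orderOf_inv]), H19.Kr_eq] at this
      simp only [sum_mul]
      rw [sum_comm, ← this, inv_inv, filter_true_of_mem fun _ _ => Set.mem_univ _]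
      refine sum_congr rfl fun χ _ => ?_
      rw [W.dec_reg χ.2.isCharacter hy, sum_mul]
      exact sum_congr rfl fun i _ => by ring) i

theorem bil_dec (h : ∀ g, p ∣ orderOf g → θ g = 0) {χ : G → ℂ} (hχ : IsCharacter G χ) :
    bil θ χ = ∑ i, bil θ (W.bc p i) * W.dn p χ i := by
  have := Fintype.ofFinite G
  simp only [bil_apply, mul_assoc, ← mul_sum, sum_mul]
  rw [sum_comm]
  refine congrArg _ (sum_congr rfl fun g _ => ?_)
  by_cases hg : p ∣ orderOf g
  · simp [h g hg]
  · rw [W.dec_reg hχ (y := g⁻¹) (by rwa [orderOf_inv]), mul_sum]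

theorem card_blk (β : Blk O G) [DecidablePred fun i => W.blk i = β] :
    (univ.filter fun i => W.blk i = β).card = blockRank p (irr β) := by
  refine le_antisymm ?_ ?_
  · rw [← Fintype.card_subtype]
    refine card_le_blockRank β (fun i : {i // W.blk i = β} => W.t i.1)
      (fun i => ⟨W.f i, by simp [W.t_f], fun j hj => by simp [W.t_f, Subtype.val_inj, hj]⟩)
      (fun i => W.t_comm i) (fun i => W.t_rpart i) fun i a => ?_
    rw [t_apply, t_apply, map_mul, Pi.mul_apply, (congrArg (fun β => W.π (eG β) i) i.2).symm.trans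
      (W.π_blk _), one_mul]
  · classical
    refine le_trans (Submodule.finrank_mono (t := Submodule.span ℂ (((univ.filter fun i =>
      W.blk i = β).image fun i => pRegularPart p (W.bc p i) : Finset (G → ℂ)) : Set (G → ℂ)))
      (Submodule.span_le.2 ?_)) ((finrank_span_finset_le_card _).trans card_image_le)
    rintro _ ⟨χ, hχ, rfl⟩
    have : pRegularPart p (χ : G → ℂ) = ∑ i with W.blk i = β,
        (W.dn p (χ : G → ℂ) i : ℂ) • pRegularPart p (W.bc p i) := funext fun g => by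
      rw [Finset.sum_apply]
      by_cases hg : p ∣ orderOf g
      · simp [H19.pr_of_sing _ hg]
      · simp only [Pi.smul_apply, H19.pr_of_reg _ hg, W.dec_reg χ.2.isCharacter hg, smul_eq_mul]
        rw [sum_filter_of_ne fun i _ h => by_contra fun e => h (by
          rw [W.dn_eq_zero fun e' => e (e'.symm.trans hχ)]; simp)]
        exact sum_congr rfl fun i _ => mul_comm _ _
    beta_reduce
    rw [this]
    exact sum_mem fun i hi => Submodule.smul_mem _ _ (Submodule.subset_span (by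
      rw [coe_image]; exact ⟨i, hi, rfl⟩))

theorem finrank_f (i j : Fin W.n) :
    Module.finrank (kk O) (LinearMap.range (LinearMap.mulLeftRight (kk O) (W.f i, W.f j))) =
      ∑ χ : IrrCharacter G, W.dn p (χ : G → ℂ) i * W.dn p (χ : G → ℂ) j := by
  have := finrank_corner (p := p) (W.idem i) (W.idem j)
  simp only [← W.cast_dn (Subtype.prop _ : IsIrrCharacter G _).isCharacter] at this
  exact_mod_cast this

end Wed

theorem exists_prim_coprime (hG : ¬ p ∣ Nat.card G) (η : IrrCharacter G) :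
    ∃ F ∈ OG O G, IsIdempotentElem F ∧ ev (η : G → ℂ) F = 1 ∧
      ∀ ξ : IrrCharacter G, ξ ≠ η → ev (ξ : G → ℂ) F = 0 := by
  obtain ⟨W⟩ := nonempty_wed (kk O) (kk O)[G]
  have : NeZero (Nat.card G : kk O) := ⟨mt (CharP.cast_eq_zero_iff _ p _).1 hG⟩
  have hi : ∀ a, W.π a = 0 → a = 0 := fun a ha => by
    obtain ⟨e, he, h⟩ := IsSemisimpleRing.ideal_eq_span_idempotent (RingHom.ker W.π)
    have := W.eq_zero he (show e ∈ RingHom.ker W.π from h ▸ Ideal.mem_span_singleton_self e)
    have h1 : a ∈ RingHom.ker W.π := ha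
    simpa [h, this] using h1
  obtain ⟨i, -, h⟩ := exists_ne_zero_of_sum_ne_zero
    (W.deg_eq (p := p) η.2.isCharacter ▸ H19.irr_one_ne_zero η)
  have h1 : W.dn p (η : G → ℂ) i ≠ 0 := by exact_mod_cast right_ne_zero_of_mul h
  have h2 := W.finrank_f (p := p) i i
  have h3 : LinearMap.range (LinearMap.mulLeftRight (kk O) (W.f i, W.f i)) ≤
      Submodule.span (kk O) {W.f i} := by
    rintro _ ⟨a, rfl⟩
    refine Submodule.mem_span_singleton.2 ⟨W.t i (LinearMap.mulLeftRight (kk O) (W.f i, W.f i) a),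
      (sub_eq_zero.1 (hi _ ?_)).symm⟩
    rw [map_sub, map_smul, W.π_corner (i := i), sub_self]
    simp only [LinearMap.mulLeftRight_apply, ← mul_assoc, (W.idem i).eq]
    rw [mul_assoc, (W.idem i).eq]
  have h4 := (Submodule.finrank_mono h3).trans (finrank_span_singleton (W.f_ne_zero i)).le
  classical
  rw [h2, ← add_sum_erase _ _ (mem_univ η)] at h4
  have h5 := Nat.pos_of_ne_zero (mul_ne_zero h1 h1)
  refine ⟨il p (W.f i), H19.il_OG _, H19.il_idem (W.idem i), ?_, fun ξ hξ => ?_⟩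
  · rw [← tv, ← W.cast_dn η.2.isCharacter, Nat.eq_one_of_mul_eq_one_left (by omega :
      W.dn p (η : G → ℂ) i * W.dn p (η : G → ℂ) i = 1), Nat.cast_one]
  · rw [← tv, ← W.cast_dn ξ.2.isCharacter, mul_self_eq_zero.1 (sum_eq_zero_iff.1 (by omega :
      ∑ x ∈ univ.erase η, W.dn p (x : G → ℂ) i * W.dn p (x : G → ℂ) i = 0) ξ
      (mem_erase.2 ⟨hξ, mem_univ _⟩)), Nat.cast_zero]

theorem Wed.bc_mem_GC (W : Wed (kk O) (kk O)[G]) (i : Fin W.n) : W.bc p i ∈ GC ZB G := by
  refine H19.mem_GC_of_local le_rfl (W.bc_class i) fun q hq y Q hy hQ hc => ?_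
  have hc' : ∀ u : Q, Commute y u := fun u => (mem_centralizer_singleton_iff.1 (hc u.2)).symm
  by_cases hqp : q = p
  · subst hqp
    have : (fun u : Q => W.bc q i (y * u)) = fun _ => W.bc q i y := funext fun u => by
      rw [← W.bc_rpart, (hc' u).eq, H19.rpart_mul (H19.isPElt_of_mem hQ u.2) hy (hc' u).symm]
    rw [this]; exact H19.const_mem_GC (W.bc_int i y)
  have : Fact q.Prime := ⟨hq⟩
  have hQ' : ¬ p ∣ Nat.card Q := fun h2 => by
    obtain ⟨n, hn⟩ := IsPGroup.iff_card.1 hQ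
    rw [hn] at h2
    exact hqp ((Nat.prime_dvd_prime_iff_eq hp.out hq).1 (hp.out.dvd_of_dvd_pow h2)).symm
  have hcl : ∀ {θ : G → ℂ} (z : G), IsClassFunction G θ → (∀ u : Q, Commute z u) →
      IsClassFunction Q fun u => θ (z * u) := fun z hθ hz u v => by
    have : z * ((v * u * v⁻¹ : Q) : G) = v * (z * u) * (v : G)⁻¹ := by
      simp only [Subgroup.coe_mul, Subgroup.coe_inv, ← mul_assoc, (hz v).eq]
    beta_reduce
    rw [this, hθ]
  have := Fintype.ofFinite Q
  refine H19.mem_GC_of_inner (hcl y (W.bc_class i) hc') fun η => ?_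
  obtain ⟨F, h1, h2, h3, h4⟩ := exists_prim_coprime (O := O) hQ' η
  have hr : ∀ u : Q, Commute (rpart p y) u := fun u => by
    have := H19.rpart_conj (p := p) y u
    rw [← (hc' u).eq, mul_inv_cancel_right, eq_mul_inv_iff_mul_eq] at this
    exact this
  obtain ⟨c, c1, -, c3⟩ := W.exists_eigen (H19.rpart_reg (p := p) y) (H19.embH_mem_OG Q h1)
    (h2.map _) (supp_cent_le_fixed (zpowers (rpart p y)) (supp_mono (le_centralizer_iff.2
      (zpowers_le.2 (mem_centralizer_iff.2 fun u hu => (hr ⟨u, hu⟩).symm.eq)))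
      (emb_mem_supp Q F)) _ (mem_zpowers _))
  have key : ∀ {f : Q → ℂ}, IsClassFunction Q f → ev f F = bil f η := fun hf => by
    rw [eq_sum_bil hf, H19.ev_sum_left, sum_eq_single η (fun ξ _ hξ => by
      rw [H19.ev_smul_left, h4 ξ hξ, mul_zero]) (by simp), H19.ev_smul_left, h3, mul_one,
      ← eq_sum_bil hf]
  rw [inner_irr_eq_bil, W.ext_dn (p := p) (x := fun i => bil (fun u : Q => W.bc p i (y * u)) η)
    (y := c) (fun χ => ?_) i]
  · exact c1 i
  · rw [← c3 _ χ.2.isCharacter, H19.ev_single_mul, H19.ev_embH,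
      key (hcl _ (H19.irr_class χ) hr)]
    have : (fun u : Q => (χ : G → ℂ) (rpart p y * u)) =
        ∑ i, (W.dn p (χ : G → ℂ) i : ℂ) • fun u : Q => W.bc p i (y * u) := funext fun u => by
      rw [← H19.rpart_mul_reg (fun h => hQ' (h.trans (Subgroup.orderOf_dvd_natCard Q u.2))) (hc' u),
        W.dec χ.2.isCharacter, Finset.sum_apply]
      exact sum_congr rfl fun i _ => mul_comm _ _
    rw [this, map_sum, LinearMap.sum_apply]
    exact sum_congr rfl fun i _ => by rw [map_smul, LinearMap.smul_apply, smul_eq_mul, mul_comm]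

end H20
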