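import Cfsg.Agent.H13.LX3
import Cfsg.Agent.H10.Spe
import Cfsg.Agent.H3.Extraspecial

/-! An extraspecial group of order `32` of minus type: Clifford frames. -/

set_option autoImplicit false
set_option linter.unusedSectionVars false

namespace H20A3
open Subgroup Cfsg H10 Equiv
open H13 (XS XP Cz mem_Cz mem_Cz' mem_Cz_iff self_mem_Cz)

variable {G : Type*} [Group G] [Finite G]

/-- equality up to `z` -/
def pm (z x y : G) : Prop := x = y ∨ x = y * z

theorem pm.rfl {z x : G} : pm z x x := Or.inl (Eq.refl x)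

theorem pm.symm {z x y : G} (zz : z * z = 1) (h : pm z x y) : pm z y x := by
  rcases h with rfl | rfl
  exacts [.rfl, .inr (by rw [mul_assoc, zz, mul_one])]

theorem pm.trans {z x y w : G} (zz : z * z = 1) (h : pm z x y) (k : pm z y w) : pm z x w := by
  rcases h with rfl | rfl <;> rcases k with rfl | rfl
  exacts [.rfl, .inr (Eq.refl _), .inr (Eq.refl _), .inl (by rw [mul_assoc, zz, mul_one])]

theorem pm.mul {z x y x' y' : G} (zz : z * z = 1) (c : Commute y' z) (h : pm z x y) (k : pm z x' y') :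
    pm z (x * x') (y * y') := by
  rcases h with rfl | rfl <;> rcases k with rfl | rfl
  · exact .rfl
  · exact .inr (mul_assoc _ _ _).symm
  · exact .inr (by rw [mul_assoc, ← c.eq, mul_assoc])
  · exact .inl (by rw [mul_assoc, ← mul_assoc z, ← c.eq, mul_assoc y', zz, mul_one])

theorem pm.comm {z x y t : G} (c : Commute t z) (h : pm z x y) : Commute t x ↔ Commute t y := by
  rcases h with rfl | rfl
  exacts [Iff.rfl, ⟨fun k => by simpa using k.mul_right c.inv_right, fun k => k.mul_right c⟩]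

theorem pm.conj {z x y g : G} (c : g ∈ Cz z) (h : pm z x y) : pm z (g * x * g⁻¹) (g * y * g⁻¹) := by
  rcases h with rfl | rfl
  exacts [.rfl, .inr (by rw [← mul_assoc, mul_assoc _ z, ← mem_Cz.1 (inv_mem c), ← mul_assoc])]

theorem pm.mem {z x y : G} {B : Subgroup G} (hz : z ∈ B) (hy : y ∈ B) (h : pm z x y) : x ∈ B := by
  rcases h with rfl | rfl
  exacts [hy, B.mul_mem hy hz]

theorem pm.sq {z x y : G} (zz : z * z = 1) (c : Commute y z) (h : pm z x y) : x * x = y * y := by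
  rcases h with rfl | rfl
  exacts [Eq.refl _, by rw [mul_assoc, ← mul_assoc z, ← c.eq, mul_assoc y, zz, mul_one]]

theorem comm_conj {g x y : G} : Commute (g * x * g⁻¹) (g * y * g⁻¹) ↔ Commute x y :=
  ⟨fun h => by simpa [mul_assoc] using h.map (MulAut.conj g⁻¹), fun h => h.map (MulAut.conj g)⟩

theorem conj_sq (g x : G) : g * x * g⁻¹ * (g * x * g⁻¹) = g * (x * x) * g⁻¹ := by group

/-- the extension of `B` by an element `x` normalizing it with square in it -/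
def ext (B : Subgroup G) (x : G) (hn : ∀ b ∈ B, x * b * x⁻¹ ∈ B) (h2 : x * x ∈ B) : Subgroup G where
  carrier := {y | y ∈ B ∨ y * x ∈ B}
  one_mem' := .inl B.one_mem
  mul_mem' := by
    have hn' : ∀ b ∈ B, x⁻¹ * b * x ∈ B := fun b hb => by
      have := B.mul_mem (B.mul_mem (B.inv_mem h2) (hn b hb)) h2
      rwa [show (x * x)⁻¹ * (x * b * x⁻¹) * (x * x) = x⁻¹ * b * x by group] at this
    rintro u v (hu | hu) (hv | hv)
    · exact .inl (B.mul_mem hu hv)
    · exact .inr (by rw [mul_assoc]; exact B.mul_mem hu hv)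
    · refine .inr ?_
      rw [show u * v * x = u * x * (x⁻¹ * v * x) by group]
      exact B.mul_mem hu (hn' v hv)
    · refine .inl ?_
      rw [show u * v = u * x * (x⁻¹ * (v * x) * x) * (x * x)⁻¹ by group]
      exact B.mul_mem (B.mul_mem hu (hn' _ hv)) (B.inv_mem h2)
  inv_mem' := by
    rintro u (hu | hu)
    · exact .inl (B.inv_mem hu)
    · refine .inr ?_
      rw [show u⁻¹ * x = x * (u * x)⁻¹ * x⁻¹ * (x * x) by group]
      exact B.mul_mem (hn _ (B.inv_mem hu)) h2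

theorem mem_ext {B : Subgroup G} {x y : G} {hn : ∀ b ∈ B, x * b * x⁻¹ ∈ B} {h2 : x * x ∈ B} :
    y ∈ ext B x hn h2 ↔ y ∈ B ∨ y * x ∈ B := Iff.rfl

theorem card_ext {B : Subgroup G} {x : G} (hn : ∀ b ∈ B, x * b * x⁻¹ ∈ B) (h2 : x * x ∈ B)
    (hx : x ∉ B) : Nat.card (ext B x hn h2) = Nat.card B * 2 := by
  rw [← card_mul_relIndex (K := B) (L := ext B x hn h2) fun y hy => .inl hy,
    relIndex_eq_two_iff_exists_notMem_and.2 ⟨x, mem_ext.2 (.inr h2), hx, fun b hb => (mem_ext.1 hb).symm⟩]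

/-- an elementary abelian extension -/
theorem exists_ext {B : Subgroup G} {x : G} (hB : ∀ b ∈ B, b * b = 1) (hx : x * x = 1)
    (hc : ∀ b ∈ B, Commute x b) (hn : x ∉ B) : ∃ B' : Subgroup G, Nat.card B' = Nat.card B * 2 ∧
      (∀ b ∈ B', b * b = 1) ∧ ∀ y, y ∈ B' ↔ y ∈ B ∨ y * x ∈ B := by
  refine ⟨ext B x (fun b hb => by rwa [(hc b hb).eq, mul_inv_cancel_right]) (hx ▸ B.one_mem),
    card_ext _ _ hn, fun b hb => hb.elim (hB b) fun e => ?_, fun y => Iff.rfl⟩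
  have h1 := hB _ e
  have h2 : Commute x b := by simpa [mul_assoc, hx] using (hc _ e).mul_right (Commute.refl x)
  rwa [mul_assoc, ← mul_assoc x, h2.eq, mul_assoc, hx, mul_one] at h1

theorem cm_mul {z : G} {E : Subgroup G} {w : ℕ} (h : XS z E w) {x y t : G} (ht : t ∈ Cz z)
    (hx : pm z (t * x * t⁻¹) x) (hy : pm z (t * y * t⁻¹) y) (hy' : y ∈ E) :
    Commute t (x * y) ↔ (Commute t x ↔ Commute t y) := by
  have k : ∀ u, Commute t u ↔ t * u * t⁻¹ = u := fun u => mul_inv_eq_iff_eq_mul.symm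
  have e : t * (x * y) * t⁻¹ = t * x * t⁻¹ * (t * y * t⁻¹) := by group
  have c := h.comm hy'
  simp only [k, e]
  rcases hx with a | a <;> rcases hy with b | b <;> rw [a, b]
  · simp
  · simp [← mul_assoc, h.ne_mul, h.z_ne]
  · rw [mul_assoc, ← c, ← mul_assoc]; simp [h.z_ne]
  · rw [mul_assoc, ← mul_assoc z, ← c, mul_assoc y, h.zz, mul_one]; simp [h.z_ne]

/-- large extraspecial of order `32` without elementary abelian subgroup of order `8` -/
structure XM (z : G) (E : Subgroup G) : Prop where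
  xs : XS z E 2
  m3 : ∀ u ∈ E, ∀ v ∈ E, u * u = 1 → v * v = 1 → Commute u v → pm z u 1 ∨ pm z v 1 ∨ pm z v u

namespace XM
variable {z : G} {E : Subgroup G} (h : XM z E)
include h

theorem conj (g : G) : XM (g * z * g⁻¹) (cj g E) := by
  refine ⟨h.xs.cj' g, fun u hu v hv u2 v2 c => ?_⟩
  obtain ⟨u, hu', rfl⟩ := mem_cj'.1 hu
  obtain ⟨v, hv', rfl⟩ := mem_cj'.1 hv
  have k : ∀ {x y : G}, pm z x y → pm (g * z * g⁻¹) (g * x * g⁻¹) (g * y * g⁻¹) := by
    rintro x y (rfl | rfl)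
    exacts [.rfl, .inr (by group)]
  rw [conj_sq, conj_eq_one_iff] at u2 v2
  simpa only [mul_one, mul_inv_cancel] using
    (h.m3 u hu' v hv' u2 v2 (comm_conj.1 c)).imp k (Or.imp k k)

theorem cmE {x y t : G} (ht : t ∈ E) (hx : x ∈ E) (hy : y ∈ E) :
    Commute t (x * y) ↔ (Commute t x ↔ Commute t y) :=
  cm_mul h.xs (h.xs.le ht) (h.xs.conj ht hx) (h.xs.conj ht hy) hy

theorem ac {x y : G} (hx : x ∈ E) (hy : y ∈ E) (c : ¬ Commute x y) : x * y = y * x * z :=
  (h.xs.com hx hy).resolve_left c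

theorem sq_ac {x y : G} (hx : x ∈ E) (hy : y ∈ E) (c : ¬ Commute x y) :
    x * y * (x * y) = x * x * (y * y) * z := by
  rw [show x * y * (x * y) = x * (y * x) * y by group, h.ac hy hx fun e => c e.symm,
    show x * (x * y * z) * y = x * x * (y * (z * y)) by group, ← h.xs.comm hy]
  group

theorem le4 {B : Subgroup G} (hB : B ≤ E) (h2 : ∀ b ∈ B, b * b = 1) : Nat.card B ≤ 4 := by
  by_cases e : ∃ u ∈ B, u ≠ 1 ∧ u ≠ z
  · obtain ⟨u, hu, u1, uz⟩ := e
    rw [← h.xs.card_K4 (hB hu) u1 uz]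
    refine card_le_of_le fun v hv => (h.xs.mem_K4 _).2 ?_
    have c : Commute u v := by
      have := h2 _ (B.mul_mem hu hv)
      rw [Commute, SemiconjBy, ← inv_eq_of_mul_eq_one_right this, mul_inv_rev,
        inv_eq_of_mul_eq_one_right (h2 u hu), inv_eq_of_mul_eq_one_right (h2 v hv)]
    rcases h.m3 u (hB hu) v (hB hv) (h2 u hu) (h2 v hv) c with (k | k) | (k | k) | k | k
    exacts [(u1 k).elim, (uz (by rw [k, one_mul])).elim, .inl k, .inr (.inl (by rw [k, one_mul])),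
      .inr (.inr (.inl k)), .inr (.inr (.inr k))]
  · push Not at e
    refine (card_le_of_le (K := zpowers z) fun v hv => ?_).trans (by rw [Nat.card_zpowers, h.xs.z2]; omega)
    by_cases v1 : v = 1
    exacts [v1 ▸ one_mem _, e v hv v1 ▸ mem_zpowers _]

end XM

/-- four pairwise anticommuting involutions -/
structure Fr (z : G) (E : Subgroup G) (γ : Fin 4 → G) : Prop extends XM z E where
  mem : ∀ i, γ i ∈ E
  sq : ∀ i, γ i * γ i = 1
  nc : ∀ i j, i ≠ j → ¬ Commute (γ i) (γ j)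

/-- the fifth involution -/
def aa (γ : Fin 4 → G) : G := γ 0 * γ 1 * (γ 2 * γ 3)

namespace Fr
variable {z : G} {E : Subgroup G} {γ : Fin 4 → G} (h : Fr z E γ)
include h

theorem zz : z * z = 1 := h.xs.zz
theorem cz {x : G} (hx : x ∈ E) : Commute x z := h.xs.cz hx
theorem cg {i j : Fin 4} : Commute (γ i) (γ j) ↔ i = j :=
  ⟨fun c => by_contra fun e => h.nc i j e c, fun e => e ▸ .refl _⟩
theorem mem2 (i j : Fin 4) : γ i * γ j ∈ E := E.mul_mem (h.mem i) (h.mem j)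
theorem am : aa γ ∈ E := E.mul_mem (h.mem2 0 1) (h.mem2 2 3)
theorem sq2 {i j : Fin 4} (e : i ≠ j) : γ i * γ j * (γ i * γ j) = z := by
  rw [h.sq_ac (h.mem i) (h.mem j) (h.nc i j e), h.sq, h.sq, one_mul, one_mul]

theorem cm_a {t : G} (ht : t ∈ E) : Commute t (aa γ) ↔
    ((Commute t (γ 0) ↔ Commute t (γ 1)) ↔ (Commute t (γ 2) ↔ Commute t (γ 3))) := by
  rw [aa, h.cmE ht (h.mem2 0 1) (h.mem2 2 3), h.cmE ht (h.mem 0) (h.mem 1), h.cmE ht (h.mem 2) (h.mem 3)]

theorem nca (i : Fin 4) : ¬ Commute (γ i) (aa γ) := by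
  rw [h.cm_a (h.mem i)]
  simp only [h.cg]
  revert i; decide

theorem nac (i : Fin 4) : ¬ Commute (aa γ) (γ i) := fun c => h.nca i c.symm

theorem rw1 {i j : Fin 4} (e : j < i) (x : G) : γ i * (γ j * x) = z * (γ j * (γ i * x)) := by
  rw [← mul_assoc, h.ac (h.mem i) (h.mem j) (h.nc i j e.ne'), h.xs.comm (h.mem2 j i)]; group
theorem rw2 {i j : Fin 4} (e : j < i) : γ i * γ j = z * (γ j * γ i) := by
  simpa using h.rw1 e 1
theorem rw3 (i : Fin 4) (x : G) : γ i * (z * x) = z * (γ i * x) := by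
  rw [← mul_assoc, h.xs.comm (h.mem i), mul_assoc]
theorem rw4 (i : Fin 4) (x : G) : γ i * (γ i * x) = x := by rw [← mul_assoc, h.sq, one_mul]
theorem rw5 (x : G) : z * (z * x) = x := by rw [← mul_assoc, h.zz, one_mul]

theorem asq : aa γ * aa γ = 1 := by
  simp [aa, mul_assoc, h.rw1, h.rw2, h.rw3, h.rw4, h.rw5, h.sq, h.zz]

theorem prod4 {i j k l : Fin 4} (h1 : i ≠ j) (h2 : i ≠ k) (h3 : i ≠ l) (h4 : j ≠ k) (h5 : j ≠ l)
    (h6 : k ≠ l) : pm z (γ i * γ j * (γ k * γ l)) (aa γ) := by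
  rw [pm, h.xs.comm h.am]
  fin_cases i <;> fin_cases j <;> (try exact (h1 rfl).elim) <;> fin_cases k <;>
    (try exact (h2 rfl).elim) <;> (try exact (h4 rfl).elim) <;> fin_cases l <;>
    (try exact (h3 rfl).elim) <;> (try exact (h5 rfl).elim) <;> (try exact (h6 rfl).elim) <;>
    simp [aa, mul_assoc, h.rw1, h.rw2, h.rw3, h.rw5]

theorem np1 {x y : G} (c : ¬ Commute x y) : ¬ pm z y 1 ∨ ¬ Commute x z := by
  by_contra k
  push Not at k
  exact c ((k.1.comm k.2).2 (.one_right _))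

theorem npg1 (i : Fin 4) : ¬ pm z (γ i) 1 := (h.np1 (h.nac i)).resolve_right (not_not.2 (h.cz h.am))
theorem npa1 : ¬ pm z (aa γ) 1 := (h.np1 (h.nca 0)).resolve_right (not_not.2 (h.cz (h.mem 0)))
theorem npga (i : Fin 4) : ¬ pm z (γ i) (aa γ) := fun k =>
  h.nac i ((k.comm (h.cz h.am)).2 (.refl _))
theorem pm_inj {i j : Fin 4} (k : pm z (γ i) (γ j)) : i = j :=
  (h.cg.1 ((k.comm (h.cz (h.mem j))).2 (.refl _))).symm
theorem a1 : aa γ ≠ 1 := fun e => h.npa1 (.inl e)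
theorem az : aa γ ≠ z := fun e => h.npa1 (.inr (by rw [e, one_mul]))

/-- the involutions of `E` -/
theorem inv {x : G} (hx : x ∈ E) (x2 : x * x = 1) : pm z x 1 ∨ pm z x (aa γ) ∨ ∃ i, pm z x (γ i) := by
  by_cases e : ∃ i, Commute (γ i) x
  · obtain ⟨i, c⟩ := e
    rcases h.m3 _ (h.mem i) x hx (h.sq i) x2 c with k | k | k
    exacts [(h.npg1 i k).elim, .inl k, .inr (.inr ⟨i, k⟩)]
  · have c : ∀ i, ¬ Commute x (γ i) := fun i c => e ⟨i, c.symm⟩
    rcases h.m3 _ h.am x hx h.asq x2 ((h.cm_a hx).2 (by simp [c])).symm with k | k | k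
    exacts [(h.npa1 k).elim, .inl k, .inr (.inl k)]

theorem inv_a {x : G} (hx : x ∈ E) (x2 : x * x = 1) (c : Commute x (aa γ)) : pm z x 1 ∨ pm z x (aa γ) :=
  (h.m3 _ h.am x hx h.asq x2 c.symm).resolve_left h.npa1

theorem cen4 {x : G} (hx : x ∈ E) (c : ∀ i, Commute x (γ i)) : pm z x 1 := by
  have k : ∀ {y : G} (i j : Fin 4), i ≠ j → y ∈ E → y * y = 1 → Commute y (γ i) → Commute y (γ j) → pm z y 1 :=
    fun i j e hy y2 ci cj => ((h.m3 _ (h.mem i) _ hy (h.sq i) y2 ci.symm).resolve_left (h.npg1 i)).elim id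
      fun k => (h.nc j i e.symm ((k.comm (h.cz (h.mem j))).1 cj.symm)).elim
  refine (h.xs.sq hx).elim (fun x2 => k 0 1 (by decide) hx x2 (c 0) (c 1)) fun x2 => ?_
  have c1 : Commute x (γ 0 * γ 1) := (c 0).mul_right (c 1)
  have c2 : ∀ i, i ≠ 0 → i ≠ 1 → Commute (x * (γ 0 * γ 1)) (γ i) := fun i e0 e1 =>
    (c i).mul_left ((h.cmE (h.mem i) (h.mem 0) (h.mem 1)).2 (by simp [h.cg, e0, e1])).symm
  have k1 := k 2 3 (by decide) (E.mul_mem hx (h.mem2 0 1)) (by
    rw [mul_assoc, ← mul_assoc (γ 0 * γ 1), ← c1.eq, mul_assoc x, ← mul_assoc x x, x2,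
      h.sq2 (by decide), h.zz]) (c2 2 (by decide) (by decide)) (c2 3 (by decide) (by decide))
  have k2 := (k1.comm (h.cz (h.mem 0))).2 (.one_right _)
  rw [h.cmE (h.mem 0) hx (h.mem2 0 1), h.cmE (h.mem 0) (h.mem 0) (h.mem 1)] at k2
  simp [(c 0).symm, h.cg] at k2

/-- the centralizer of the fifth involution in `E` -/
theorem cls {f : G} (hf : f ∈ E) (c : Commute f (aa γ)) :
    ∃ j, pm z f (γ 0 * γ j) ∨ pm z f (γ 0 * γ j * aa γ) := by
  have k : ∀ {x : G}, x ∈ E → (∀ i, Commute (γ i) f ↔ Commute (γ i) x) → pm z f x := fun {x} hx e => by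
    have := (h.cen4 (E.mul_mem hf (E.inv_mem hx)) fun i =>
      h.xs.commute_mul_inv hf hx (h.mem i) ⟨fun a => ((e i).1 a.symm).symm, fun a => ((e i).2 a.symm).symm⟩)
    simpa using this.mul h.zz (h.cz hx) (pm.rfl (x := x))
  have k1 : ∀ i j, Commute (γ i) (γ 0 * γ j) ↔ (i = 0 ↔ i = j) := fun i j => by
    rw [h.cmE (h.mem i) (h.mem 0) (h.mem j), h.cg, h.cg]
  have k2 : ∀ i j, Commute (γ i) (γ 0 * γ j * aa γ) ↔ ¬ (i = 0 ↔ i = j) := fun i j => by
    rw [h.cmE (h.mem i) (h.mem2 0 j) h.am, k1]; simp [h.nca]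
  rw [h.cm_a hf] at c
  simp only [Commute.symm_iff (a := f)] at c
  have : ∃ j, (∀ i, Commute (γ i) f ↔ (i = 0 ↔ i = j)) ∨ ∀ i, Commute (γ i) f ↔ ¬ (i = 0 ↔ i = j) := by
    simp only [Fin.exists_fin_succ, Fin.forall_fin_succ]
    by_cases c0 : Commute (γ 0) f <;> by_cases c1 : Commute (γ 1) f <;>
      by_cases c2 : Commute (γ 2) f <;> by_cases c3 : Commute (γ 3) f <;> simp_all
  obtain ⟨j, e⟩ := this
  exact ⟨j, e.imp (fun e => k (h.mem2 0 j) fun i => (e i).trans (k1 i j).symm)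
    fun e => k (E.mul_mem (h.mem2 0 j) h.am) fun i => (e i).trans (k2 i j).symm⟩

/-- an element of `C(z)` fixing the frame up to `z` lies in `E` -/
theorem mem_of_fix {g : G} (hg : g ∈ Cz z) (e : ∀ i, pm z (g * γ i * g⁻¹) (γ i)) : g ∈ E := by
  refine h.xs.mem_of_triv hg fun x hx => ?_
  have := h.cen4 (E.mul_mem (h.xs.nrm g hg x hx) (E.inv_mem hx)) fun i =>
    h.xs.commute_mul_inv (h.xs.nrm g hg x hx) hx (h.mem i) (by
      rw [← (e i).comm (h.cz (h.xs.nrm g hg x hx)), comm_conj])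
  change pm z _ _
  simpa using this.mul h.zz (h.cz hx) (pm.rfl (x := x))

end Fr

end H20A3
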