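import Cfsg.Agent.H20.L4e

/-! The Sylow `2`-subgroup of the linear group of degree three over four elements. -/

set_option autoImplicit false
set_option linter.unusedSectionVars false

namespace H20L4
open Subgroup Cfsg H10 Matrix

variable {F : Type*} [Field F]

/-- unitriangular matrices -/
def ut (a b c : F) : SpecialLinearGroup (Fin 3) F :=
  ⟨!![1, a, c; 0, 1, b; 0, 0, 1], by simp [det_fin_three]⟩

theorem ut_mul (a b c a' b' c' : F) : ut a b c * ut a' b' c' = ut (a + a') (b + b') (c + c' + a * b') := by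
  refine Subtype.ext ?_
  show !![1, a, c; 0, 1, b; 0, 0, 1] * !![1, a', c'; 0, 1, b'; 0, 0, 1] =
    !![1, a + a', c + c' + a * b'; 0, 1, b + b'; 0, 0, 1]
  ext i j
  fin_cases i <;> fin_cases j <;> simp [Matrix.mul_apply, Fin.sum_univ_three] <;> ring

theorem ut_zero : ut (0 : F) 0 0 = 1 := by
  ext i j
  fin_cases i <;> fin_cases j <;> simp [ut]

theorem ut_inj {a b c a' b' c' : F} (h : ut a b c = ut a' b' c') : a = a' ∧ b = b' ∧ c = c' :=
  ⟨congrArg (fun m : SpecialLinearGroup (Fin 3) F => m 0 1) h,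
    congrArg (fun m : SpecialLinearGroup (Fin 3) F => m 1 2) h,
    congrArg (fun m : SpecialLinearGroup (Fin 3) F => m 0 2) h⟩

theorem ut_inv (a b c : F) : (ut a b c)⁻¹ = ut (-a) (-b) (a * b - c) :=
  inv_eq_of_mul_eq_one_right (by rw [ut_mul, ← ut_zero]; congr 1 <;> ring)

/-- the first elementary abelian subgroup -/
def V0 (F : Type*) [Field F] : Subgroup (SpecialLinearGroup (Fin 3) F) where
  carrier := Set.range fun x : F × F => ut x.1 0 x.2
  one_mem' := ⟨0, ut_zero⟩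
  mul_mem' := by
    rintro _ _ ⟨x, rfl⟩ ⟨y, rfl⟩
    exact ⟨x + y, by simp [ut_mul]⟩
  inv_mem' := by
    rintro _ ⟨x, rfl⟩
    exact ⟨-x, by simp [ut_inv]⟩

/-- the second elementary abelian subgroup -/
def A0 (F : Type*) [Field F] : Subgroup (SpecialLinearGroup (Fin 3) F) where
  carrier := Set.range fun x : F × F => ut 0 x.1 x.2
  one_mem' := ⟨0, ut_zero⟩
  mul_mem' := by
    rintro _ _ ⟨x, rfl⟩ ⟨y, rfl⟩
    exact ⟨x + y, by simp [ut_mul]⟩
  inv_mem' := by
    rintro _ ⟨x, rfl⟩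
    exact ⟨-x, by simp [ut_inv]⟩

variable [Fintype F]

theorem l0_model (hF : Fintype.card F = 4) : L0 (V0 F) (A0 F) := by
  haveI : Fact (Nat.Prime 2) := ⟨Nat.prime_two⟩
  haveI : CharP F 2 := charP_of_card_eq_prime_pow (f := 2) (by rw [hF]; rfl)
  have h2 : ∀ x : F, x + x = 0 := CharTwo.add_self_eq_zero
  have hc : Nat.card F = 4 := by rw [Nat.card_eq_fintype_card, hF]
  refine ⟨?_, ?_, le_NN_iff.2 ?_, le_NN_iff.2 ?_, ?_, ?_, ?_, ?_⟩
  · rintro _ ⟨x, rfl⟩; simp [ut_mul, h2, ut_zero]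
  · rintro _ ⟨x, rfl⟩; simp [ut_mul, h2, ut_zero]
  · rintro _ ⟨x, rfl⟩ _ ⟨y, rfl⟩
    exact ⟨(y.1, y.2 + x.1 * y.1), by simp only [ut_inv, ut_mul]; congr 1 <;> ring⟩
  · rintro _ ⟨x, rfl⟩ _ ⟨y, rfl⟩
    exact ⟨(y.1, y.2 - x.1 * y.1), by simp only [ut_inv, ut_mul]; congr 1 <;> ring⟩
  · rw [← hc]
    refine (Nat.card_congr (Equiv.ofBijective (fun c : F => (⟨ut 0 0 c, ⟨(0, c), rfl⟩, (0, c), rfl⟩ :
      (V0 F ⊓ A0 F : Subgroup _))) ⟨fun a b e => (ut_inj (congrArg Subtype.val e)).2.2, ?_⟩)).symm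
    rintro ⟨_, ⟨x, rfl⟩, y, e⟩
    exact ⟨x.2, Subtype.ext (by simp [← (ut_inj e).1])⟩
  · refine (Nat.card_range_of_injective fun x y e => Prod.ext (ut_inj e).1 (ut_inj e).2.2).trans ?_
    rw [Nat.card_prod, hc]
  · refine (Nat.card_range_of_injective fun x y e => Prod.ext (ut_inj e).2.1 (ut_inj e).2.2).trans ?_
    rw [Nat.card_prod, hc]
  · rintro _ ⟨x, rfl⟩ _ ⟨y, rfl⟩ e
    simp only [ut_mul] at e
    have h3 : x.1 * y.1 = 0 := by linear_combination (ut_inj e).2.2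
    rcases mul_eq_zero.1 h3 with h4 | h4
    · exact Or.inl ⟨(0, x.2), by simp [h4]⟩
    · exact Or.inr ⟨(0, y.2), by simp [h4]⟩

theorem L0.cardR {G : Type*} [Group G] [Finite G] {V A : Subgroup G} (h : L0 V A) :
    Nat.card (V ⊔ A : Subgroup G) = 64 := by
  have := card_sup_mul_card_inf h.nA
  rw [h.cW, h.cV, h.cA] at this
  omega

theorem lo_model (hF : Fintype.card F = 4) :
    ∃ V A : Subgroup (ProjectiveSpecialLinearGroup (Fin 3) F), Lo V A := by
  have h := l0_model hF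
  have h1 := H22.gcd_mul_card_PSL (F := F) 3 (by norm_num)
  have h2 := H22.card_SL (F := F) 3 (by norm_num)
  have h3 := H22.card_center_SL (F := F) 3 (by norm_num)
  rw [hF] at h1 h2 h3
  rw [Fin.prod_univ_three] at h2
  norm_num [-Nat.card_eq_fintype_card] at h1 h2 h3
  have h' := h.map (QuotientGroup.mk' (center _)) fun x hx e => H1.CIT.eq_one_of_pg h.pgR hx
    (H6.odd_orderOf_of_odd_card (by rw [h3]; decide) ((QuotientGroup.eq_one_iff x).1 e))
  have h5 : Nat.card (ProjectiveSpecialLinearGroup (Fin 3) F) = 20160 := by omega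
  suffices k : ∀ V A : Subgroup (ProjectiveSpecialLinearGroup (Fin 3) F), L0 V A → Lo V A from
    ⟨_, _, k _ _ h'⟩
  intro V A k
  refine ⟨k, isSylowIn_of_not_dvd le_top k.pgR ?_⟩
  have h4 := card_mul_relIndex (le_top : V ⊔ A ≤ ⊤)
  rw [k.cardR, card_top, h5] at h4
  omega

theorem lo_of_iso {G : Type*} [Group G] [Finite G] (hF : Fintype.card F = 4) (S : Sylow 2 G)
    (P : Sylow 2 (ProjectiveSpecialLinearGroup (Fin 3) F))
    (e : (S : Subgroup G) ≃* (P : Subgroup (ProjectiveSpecialLinearGroup (Fin 3) F))) :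
    ∃ V A : Subgroup G, Lo V A := by
  obtain ⟨V, A, h⟩ := lo_model hF
  obtain ⟨g, -, hg⟩ := h.syl.exists_cj (isSylowIn_top P)
  have h1 := (h.conj g).toL0
  rw [cj_sup] at hg
  have h2 := (h1.sub hg.le).map ((S : Subgroup G).subtype.comp e.symm.toMonoidHom)
    fun x _ hx => by simpa using hx
  refine ⟨_, _, h2, isSylowIn_of_card_ge (isSylowIn_top S) h2.pgR le_top ?_⟩
  rw [h2.cardR, Nat.card_congr e.toEquiv, ← hg, h1.cardR]

end H20L4
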