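import Cfsg.Agent.H20.A3b
import Cfsg.Agent.H20.L4f
import Cfsg.Agent.H4.Dk5
import Cfsg.Agent.S0215

/-! Fusion of the central involution; the subgroup of order `64`. -/

set_option autoImplicit false
set_option linter.unusedSectionVars false

namespace H20A3
open Subgroup Cfsg H10 Equiv
open H13 (XS XP Cz mem_Cz mem_Cz' mem_Cz_iff self_mem_Cz)
open H20L4 (L0 Lo)

variable {G : Type*} [Group G] [Finite G]

theorem fix_oth : ∀ s : Perm (Fin 4), s * s = 1 → ∀ i, s i = i → ∃ k, k ≠ i ∧ s k = k := by decide +kernel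

theorem XM.exD {z t : G} {E P : Subgroup G} (h : XM t P) (hz : z ∈ P) (z1 : z ≠ 1) (zt : z ≠ t) :
    ∃ d ∈ P ⊓ Cz z, d * d = t := by
  by_contra k
  have := h.le4 (B := P ⊓ Cz z) inf_le_left fun b hb => (h.xs.sq hb.1).resolve_right fun e => k ⟨b, hb, e⟩
  rw [h.xs.card_cent hz z1 zt] at this
  omega

theorem conj_ne_one {z : G} (z1 : z ≠ 1) (g : G) : g * z * g⁻¹ ≠ 1 := fun e => z1 (conj_eq_one_iff.1 e)

namespace Cf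
variable {z : G} {E : Subgroup G} {γ : Fin 4 → G} {σ : G → Perm (Fin 4)} (h : Cf z E γ σ)
include h

theorem aH : aa γ ∈ Cz z := h.le h.am
theorem cj2 (g : G) : g * z * g⁻¹ * (g * z * g⁻¹) = 1 := by rw [conj_sq, h.zz, mul_one, mul_inv_cancel]
theorem ga (i : Fin 4) : γ i * aa γ * (γ i)⁻¹ = aa γ * z := h.xs.conj_of_not (h.mem i) h.am (h.nca i)

/-- the members of the frame are not conjugate to `z` -/
theorem nb (g : G) (i : Fin 4) : ¬ pm z (g * z * g⁻¹) (γ i) := fun k => by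
  have ht := k.mem h.xs.zm (h.mem i)
  obtain ⟨d, hd, e⟩ := (h.toXM.conj g).exD (E := E) (h.xs.sym le_rfl ht) h.xs.z_ne fun e =>
    h.npg1 i ((k.symm h.zz).trans h.zz (.inr (by rw [← e, one_mul])))
  have c : Commute d (γ i) := (k.comm (mem_Cz_iff.1 hd.2)).1 (e ▸ (Commute.refl d).mul_right (.refl d))
  obtain ⟨l, hl, e'⟩ := fix_oth _ (h.sq1 hd.2 (e ▸ ht)) i (h.fix hd.2 c)
  have := h.sq_comm hd.2 (h.act_fix hd.2 e')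
  rw [e] at this
  exact h.nc l i hl ((k.comm (h.cz (h.mem l))).1 this.symm)

theorem zE {g : G} (hg : g * z * g⁻¹ ∈ E) : g * z * g⁻¹ = z ∨ pm z (g * z * g⁻¹) (aa γ) := by
  rcases h.inv hg (h.cj2 g) with (k | k) | k | ⟨i, k⟩
  exacts [(conj_ne_one h.xs.z_ne g k).elim, .inl (by rw [k, one_mul]), .inr k, (h.nb g i k).elim]

theorem conj_xa {x : G} (hx : x ∈ Cz z) (x2 : x * x = 1) (k : Kl (σ x)) (e : x ∉ E) : IsConj x (x * aa γ) := by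
  obtain ⟨j, l, -, h1, -⟩ : ∃ j l : Fin 4, j ≠ l ∧ (σ x 0 ≠ j ∧ j ≠ 0) ∧ True := by
    generalize σ x 0 = m; revert m; decide
  have hf := h.mem2 0 j
  have k1 : IsConj x (x * (x * (γ 0 * γ j) * x⁻¹ * (γ 0 * γ j)) * z) := isConj_iff.2 ⟨γ 0 * γ j, by
    rw [← mul_assoc x, ← mul_assoc x, ← mul_assoc x, x2, one_mul, inv_eq_of_mul_eq_one_right x2, mul_assoc _ _ z,
      ← h.sq2 h1.2.symm]
    congr 1
    rw [inv_eq_iff_mul_eq_one, ← mul_assoc, h.sq2 h1.2.symm, h.zz]⟩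
  have c := h.dbl hx x2 k e
  rcases h.cross hx k e h1.2 h1.1 with a | a <;> rw [a] at k1
  · refine k1.trans (h.conj_z (mul_mem hx h.aH) ?_ (fun b => e ?_) fun b => e ?_).symm
    · rw [mul_assoc, ← mul_assoc (aa γ), ← c.eq, mul_assoc, h.asq, mul_one, x2]
    · exact (mul_mem_cancel_right h.am).1 (b ▸ E.one_mem)
    · exact (mul_mem_cancel_right h.am).1 (b ▸ h.xs.zm)
  · rwa [mul_assoc, mul_assoc, h.zz, mul_one] at k1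

theorem sqa (i : Fin 4) : γ i * aa γ * (γ i * aa γ) = z := by
  rw [h.sq_ac (h.mem i) h.am (h.nca i), h.sq, h.asq, one_mul, one_mul]

theorem odd_y {t : G} (ht : t ∈ Cz z) {k l : Fin 4} (kl : k ≠ l) (e1 : σ t k = k) (e2 : σ t l = l) :
    ∃ y ∈ E, Commute t y ∧ y * y = z := by
  have a1 := h.act_fix ht e1
  have a2 := h.act_fix ht e2
  have a3 := h.act_a ht
  by_cases c : Commute t (γ k) ↔ Commute t (γ l)
  · exact ⟨_, h.mem2 k l, (cm_mul h.xs ht a1 a2 (h.mem l)).2 c, h.sq2 kl⟩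
  by_cases c' : Commute t (γ k) ↔ Commute t (aa γ)
  · exact ⟨_, E.mul_mem (h.mem k) h.am, (cm_mul h.xs ht a1 a3 h.am).2 c', h.sqa k⟩
  · exact ⟨_, E.mul_mem (h.mem l) h.am, (cm_mul h.xs ht a2 a3 h.am).2 (by tauto), h.sqa l⟩

theorem solvH : Group.IsSolvable (Cz z) := by
  have := H4.isSolvable_s4
  have := isSolvable_of_isPGroup (isPGroup_subgroupOf h.xs.pg (Cz z))
  exact Group.isSolvable_of_ker_le_range (E.subgroupOf (Cz z)).subtype h.hom fun x hx =>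
    ⟨⟨x, (h.ker x.2).1 hx⟩, rfl⟩

theorem exists_fus (hG : ¬ Group.IsSolvable G) : ∃ g, g * z * g⁻¹ ∈ Cz z ∧ g * z * g⁻¹ ≠ z := by
  by_contra k
  obtain ⟨T, hT, h1, h2⟩ := h.xs.exists_syl (N := ⊤) le_top
  obtain ⟨N, hN, ho, e⟩ := Cfsg.Agent.S0215.result hT.toSylowTop z h.xs.z2 (h1 h.xs.zm) fun g hg =>
    by_contra fun n => k ⟨g, h2 hg, n⟩
  have := h.solvH
  refine hG ((Group.isSolvable_iff_subgroup_quotient N).2 ⟨Cfsg.Agent.S0205.result ho,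
    Group.isSolvable_of_surjective (f := (QuotientGroup.mk' N).comp (Cz z).subtype) fun q => ?_⟩)
  obtain ⟨g, rfl⟩ := QuotientGroup.mk'_surjective N q
  have m : z * (g * z * g⁻¹) ∈ N := by simpa [h.xs.z_inv, mul_assoc] using e g
  obtain ⟨n, hn⟩ := H6.exists_pow_conj_of_odd h.zz (h.cj2 g)
    (ho.of_dvd_nat (Subgroup.orderOf_dvd_natCard _ m))
  have m' := N.pow_mem m n
  generalize (z * (g * z * g⁻¹)) ^ n = w at hn m'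
  refine ⟨⟨w⁻¹ * g, mem_Cz'.2 ?_⟩, ?_⟩
  · rw [show w⁻¹ * g * z * (w⁻¹ * g)⁻¹ = w⁻¹ * (g * z * g⁻¹) * w by group, ← hn]; group
  · simp [(QuotientGroup.eq_one_iff w).2 m']

theorem exa (hG : ¬ Group.IsSolvable G) : ∃ g, g * z * g⁻¹ = aa γ := by
  by_contra k
  have k0 : ∀ g, g * z * g⁻¹ ∈ E → g * z * g⁻¹ = z := fun g hg => (h.zE hg).elim id fun e => (k (by
    rcases e with e | e
    · exact ⟨g, e⟩
    · exact ⟨(γ 0)⁻¹ * g, by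
        rw [show (γ 0)⁻¹ * g * z * ((γ 0)⁻¹ * g)⁻¹ = (γ 0)⁻¹ * (g * z * g⁻¹) * γ 0 by group, e, ← h.ga 0]
        group⟩)).elim
  have k1 : ∀ g, g * z * g⁻¹ ∈ Cz z → g * z * g⁻¹ ≠ z → ¬ Kl (σ (g * z * g⁻¹)) := fun g hg n e => by
    have hE := mt (k0 g) n
    have c := h.dbl hg (h.cj2 g) e hE
    have c1 := h.conj_z (t := g⁻¹ * aa γ * g) (H13.conj_mem_Cz.2 (mem_Cz_iff.2 c.symm))
      (by simpa [h.asq] using conj_sq g⁻¹ (aa γ)) (by simpa using conj_ne_one h.a1 g⁻¹)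
      fun e => k ⟨g, by rw [← e]; group⟩
    have c2 : IsConj (g⁻¹ * aa γ * g * z) (g * z * g⁻¹ * aa γ) := isConj_iff.2 ⟨g, by rw [c.eq]; group⟩
    have c3 : IsConj (g⁻¹ * aa γ * g) (aa γ) := isConj_iff.2 ⟨g, by group⟩
    exact k (isConj_iff.1 (((isConj_iff.2 ⟨g, rfl⟩).trans (h.conj_xa hg (h.cj2 g) e hE)).trans
      ((c3.symm.trans c1).trans c2).symm))
  obtain ⟨g, hg, n⟩ := h.exists_fus hG
  obtain ⟨i, j, l, m, e, -, h2, h3, h4, h5, h6⟩ := odd_inv _ (h.sq1 hg (h.cj2 g ▸ E.one_mem)) (k1 g hg n)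
  obtain ⟨y, -, c, y2⟩ := h.odd_y hg h6 (by rw [e, swap_apply_of_ne_of_ne h2.symm h4.symm])
    (by rw [e, swap_apply_of_ne_of_ne h3.symm h5.symm])
  have hy : g⁻¹ * y * g ∈ Cz z := H13.conj_mem_Cz.2 (mem_Cz_iff.2 c.symm)
  have e1 : g⁻¹ * z * g⁻¹⁻¹ = g⁻¹ * y * g * (g⁻¹ * y * g) := by rw [← y2]; group
  have hz : g⁻¹ * z * g⁻¹⁻¹ ∈ Cz z := e1 ▸ mul_mem hy hy
  refine k1 g⁻¹ hz (fun e => n (by nth_rw 1 [← e]; group)) ?_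
  have := h.sq1 hz (h.cj2 g⁻¹ ▸ E.one_mem)
  rw [e1, h.mul hy hy] at this ⊢
  exact kl_sq _ this

end Cf

/-- the situation where the fifth involution is conjugate to `z` -/
structure Cg (z : G) (E : Subgroup G) (γ : Fin 4 → G) (σ : G → Perm (Fin 4)) (P : Subgroup G) : Prop
    extends Cf z E γ σ where
  xp : XP z (aa γ) E P 2
  mp : XM (aa γ) P
  tr : ∀ g, g * z * g⁻¹ = aa γ → cj g E = P

theorem Cf.exists_cg {z : G} {E : Subgroup G} {γ : Fin 4 → G} {σ : G → Perm (Fin 4)} (h : Cf z E γ σ)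
    (hG : ¬ Group.IsSolvable G) : ∃ P, Cg z E γ σ P := by
  obtain ⟨g, e⟩ := h.exa hG
  exact ⟨cj g E, h, e ▸ h.xs.xp (e ▸ h.am) (h.xs.sym le_rfl (e ▸ h.am)) (e ▸ h.az), e ▸ h.toXM.conj g,
    fun k e' => h.xs.cj_eq (e'.trans e.symm)⟩

/-- the subgroup of order `64` -/
abbrev UU (z : G) (E : Subgroup G) (γ : Fin 4 → G) (P : Subgroup G) : Subgroup G :=
  P ⊓ Cz z ⊔ E ⊓ Cz (aa γ)

namespace Cg
variable {z : G} {E P : Subgroup G} {γ : Fin 4 → G} {σ : G → Perm (Fin 4)} (h : Cg z E γ σ P)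
include h

theorem memA {x : G} : x ∈ E ⊓ P ↔ pm z x 1 ∨ pm z x (aa γ) :=
  ⟨fun e => h.inv_a e.1 (h.xs.inf_sq h.mp.xs h.az e) (h.mp.xs.cz e.2), fun e => e.elim
    (pm.mem ⟨h.xs.zm, h.xp.zP⟩ (one_mem _)) (pm.mem ⟨h.xs.zm, h.xp.zP⟩ ⟨h.am, h.mp.xs.zm⟩)⟩
theorem zA : z ∈ E ⊓ P := ⟨h.xs.zm, h.xp.zP⟩
theorem aA : aa γ ∈ E ⊓ P := ⟨h.am, h.mp.xs.zm⟩
theorem sqA {x : G} (e : x ∈ E ⊓ P) : x * x = 1 := h.xs.inf_sq h.mp.xs h.az e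
theorem cA {x c : G} (e : x ∈ E ⊓ P) (hc : c ∈ Cz z ⊓ Cz (aa γ)) : Commute c x :=
  (h.memA.1 e).elim (fun k => (k.comm (mem_Cz_iff.1 hc.1)).2 (.one_right _))
    fun k => (k.comm (mem_Cz_iff.1 hc.1)).2 (mem_Cz_iff.1 hc.2)
theorem cardA : Nat.card (E ⊓ P : Subgroup G) = 4 := by
  rw [← h.xs.card_K4 h.am h.a1 h.az]
  congr 2
  ext x
  rw [h.memA, XS.mem_K4, pm, pm, one_mul, or_assoc]
theorem U_le : UU z E γ P ≤ Cz z ⊓ Cz (aa γ) := h.xp.R_le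
theorem A_le : E ⊓ P ≤ UU z E γ P := h.xp.E_le.trans le_sup_right
theorem gF (i j : Fin 4) : γ i * γ j ∈ E ⊓ Cz (aa γ) := ⟨h.mem2 i j, mem_Cz_iff.2
  ((h.cmE h.am (h.mem i) (h.mem j)).2 (iff_of_false (h.nac i) (h.nac j))).symm⟩

theorem D_sq {d : G} (hd : d ∈ P ⊓ Cz z) (e : d ∉ E) : d * d = aa γ :=
  (h.mp.xs.sq hd.1).resolve_left fun d2 => by
    rcases h.mp.m3 z h.xp.zP d hd.1 h.zz d2 (mem_Cz_iff.1 hd.2).symm with (k | k) | k | k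
    exacts [h.xs.z_ne k, h.az (by rw [k, one_mul]), e (k.mem h.am E.one_mem), e (k.mem h.am h.xs.zm)]

theorem D_kl {d : G} (hd : d ∈ P ⊓ Cz z) : Kl (σ d) := by
  by_cases e : d ∈ E
  · rw [h.one e]; decide
  · exact kl_of_fpf _ (h.sq1 hd.2 (h.D_sq hd e ▸ h.am)) fun i k =>
      h.nac i (h.D_sq hd e ▸ h.sq_comm hd.2 (h.act_fix hd.2 k))

theorem exD {j : Fin 4} (j0 : j ≠ 0) : ∃ d ∈ P ⊓ Cz z, σ d 0 = j := by
  obtain ⟨d, hd, e⟩ := h.mp.exD (E := E) h.xp.zP h.xs.z_ne h.az.symm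
  obtain ⟨r, hr⟩ := kl_mv _ (h.D_kl hd) (fun k => (h.xs.sq ((h.ker hd.2).1 k)).elim
    (fun k => h.a1 (e ▸ k)) fun k => h.az (e ▸ k)) j j0
  obtain ⟨g, hg, c, rfl⟩ := h.lift r
  exact ⟨g * d * g⁻¹, conj_mem_of_mem_NN (h.xp.symm.C_nA ⟨mem_Cz_iff.2 c, hg⟩) hd, by rw [h.cnj hg hd.2, hr]⟩

theorem memU {u : G} : u ∈ UU z E γ P ↔ u ∈ Cz z ∧ Commute u (aa γ) ∧ Kl (σ u) := by
  refine ⟨fun hu => ⟨(h.U_le hu).1, mem_Cz_iff.1 (h.U_le hu).2, ?_⟩, fun ⟨h1, h2, h3⟩ => ?_⟩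
  · obtain ⟨d, hd, f, hf, rfl⟩ := h.xp.mem_R.1 hu
    rw [h.mulE hd.2 hf.1]; exact h.D_kl hd
  by_cases e : σ u 0 = 0
  · exact mem_sup_right ⟨(h.ker h1).1 (kl_fix _ h3 0 e), mem_Cz_iff.2 h2⟩
  obtain ⟨d, hd, k⟩ := h.exD e
  refine h.xp.mem_R.2 ⟨d, hd, d⁻¹ * u, ⟨(h.ker (mul_mem (inv_mem hd.2) h1)).1 ?_, (Cz (aa γ)).mul_mem
    ((Cz (aa γ)).inv_mem (h.mp.xs.le hd.1)) (mem_Cz_iff.2 h2)⟩, by group⟩
  rw [h.mul (inv_mem hd.2) h1, h.inv' hd.2, ((kl_mul _ (h.D_kl hd) _ h3).2 k), inv_mul_cancel]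

theorem exp : ∃ p ∈ E ⊔ P, p * z * p⁻¹ = z * aa γ ∧ p * aa γ * p⁻¹ = aa γ := by
  obtain ⟨p, hp, e⟩ := h.xp.symm.exq
  exact ⟨p, mem_sup_right hp, e, mem_Cz'.1 (h.mp.xs.le hp)⟩

theorem exx : ∃ x ∈ E ⊔ P, x * z * x⁻¹ = aa γ ∧ x * aa γ * x⁻¹ = aa γ * z := by
  obtain ⟨p, hp, e, e'⟩ := h.exp
  refine ⟨γ 0 * p, mul_mem (mem_sup_left (h.mem 0)) hp, ?_, ?_⟩
  · rw [show γ 0 * p * z * (γ 0 * p)⁻¹ = γ 0 * (p * z * p⁻¹) * (γ 0)⁻¹ by group, e, ← conj_mul, h.ga,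
      mem_Cz'.1 (h.gH 0), ← mul_assoc, ← h.xs.comm h.am, mul_assoc, h.zz, mul_one]
  · rw [show γ 0 * p * aa γ * (γ 0 * p)⁻¹ = γ 0 * (p * aa γ * p⁻¹) * (γ 0)⁻¹ by group, e', h.ga]

theorem nz {u : G} (hu : u ∈ Cz z) (c : Commute u (aa γ)) (k : ¬ Kl (σ u)) : u * u ≠ z := fun e => by
  obtain ⟨x, hx, x1, -⟩ := h.exx
  have h1 := conj_mem_of_mem_NN (h.xp.nV_nC (h.xp.X_nV hx)) (⟨hu, mem_Cz_iff.2 c⟩ : u ∈ Cz z ⊓ Cz (aa γ))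
  have h2 : x * u * x⁻¹ * (x * u * x⁻¹) = aa γ := by rw [conj_sq, e, x1]
  obtain ⟨i, j, l, m, e, -, h3, -, h4, -⟩ := odd_inv _ (h.sq1 h1.1 (h2 ▸ h.am)) fun k' => k (h.memU.1 (by
    simpa [mul_assoc] using conj_mem_of_mem_NN' (h.xp.X_nR hx) (h.memU.2 ⟨h1.1, mem_Cz_iff.1 h1.2, k'⟩))).2.2
  exact h.nac l (h2 ▸ h.sq_comm h1.1 (h.act_fix h1.1 (by rw [e, swap_apply_of_ne_of_ne h3.symm h4.symm])))

theorem cls' {f : G} (hf : f ∈ E ⊓ Cz (aa γ)) : ∃ j, ∃ α ∈ E ⊓ P, f = γ 0 * γ j * α := by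
  obtain ⟨j, (e | e) | e | e⟩ := h.cls hf.1 (mem_Cz_iff.1 hf.2)
  exacts [⟨j, 1, one_mem _, by rw [e, mul_one]⟩, ⟨j, z, h.zA, e⟩, ⟨j, _, h.aA, e⟩,
    ⟨j, _, mul_mem h.aA h.zA, by rw [e, mul_assoc]⟩]

theorem nz1 {u : G} (hu : u ∈ UU z E γ P) (e : u * u = aa γ) : u ∈ P := by
  obtain ⟨d, hd, f, hf, rfl⟩ := h.xp.mem_R.1 hu
  have hE : d ∉ E := fun k => (h.xs.sq (E.mul_mem k hf.1)).elim (fun k => h.a1 (e ▸ k)) fun k => h.az (e ▸ k)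
  obtain ⟨j, α, hα, rfl⟩ := h.cls' hf
  by_cases j0 : j = 0
  · rw [j0, h.sq, one_mul]; exact P.mul_mem hd.1 hα.2
  have dC : d ∈ Cz z ⊓ Cz (aa γ) := h.U_le (mem_sup_left hd)
  have wC := h.U_le (mem_sup_right (h.gF 0 j))
  have e1 : d * (γ 0 * γ j) * d⁻¹ = γ 0 * γ j * z := by
    have c := h.cA hα (mul_mem dC wC)
    rw [← mul_assoc d, mul_assoc, ← mul_assoc α, ← c.eq, mul_assoc _ α, h.sqA hα, mul_one, ← h.D_sq hd hE,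
      mul_assoc, mul_left_cancel_iff] at e
    have e2 := h.sq2 (Ne.symm j0)
    generalize γ 0 * γ j = w at e e2 wC
    have e3 : w⁻¹ = w * z := by rw [inv_eq_iff_mul_eq_one, ← mul_assoc, e2, h.zz]
    rw [← e3, mul_inv_eq_iff_eq_mul, eq_inv_mul_iff_mul_eq, e]
  by_cases k : σ d 0 = j
  · have := (h.swp hd.2 (k ▸ j0) (h.D_kl hd).1).2 (h.D_sq hd hE ▸ h.nac 0)
    rw [k] at this
    exact (h.xs.not_commute e1 this).elim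
  · exact (h.cross' hd.2 (h.D_kl hd) hE j0 k (.inr e1)).elim

theorem nz2 {u : G} (hu : u ∈ UU z E γ P) (e : u * u = z) : u ∈ E := by
  obtain ⟨x, hx, x1, -⟩ := h.exx
  have := h.nz1 (conj_mem_of_mem_NN (h.xp.X_nR hx) hu) (by rw [conj_sq, e, x1])
  rwa [← h.tr x x1, conj_mem_cj_iff] at this

theorem cmU {u v : G} (hu : u ∈ UU z E γ P) (hv : v ∈ UU z E γ P) : u * v * u⁻¹ * v⁻¹ ∈ E ⊓ P :=
  (h.xp.R_mod hu hv).1

theorem exc {j : Fin 4} (j0 : j ≠ 0) : ∃ c ∈ UU z E γ P, c * c = 1 ∧ σ c 0 = j := by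
  obtain ⟨d, hd, e⟩ := h.exD j0
  have hE : d ∉ E := fun k => j0 (by rw [← e, h.one k]; rfl)
  obtain ⟨l, h1, h2⟩ : ∃ l, l ≠ 0 ∧ j ≠ l := by revert j0; generalize j = m; revert m; decide
  have hu : γ 0 * γ l * d ∈ UU z E γ P := mul_mem (mem_sup_right (h.gF 0 l)) (mem_sup_left hd)
  have k := h.cross hd.2 (h.D_kl hd) hE h1 (e ▸ h2)
  refine ⟨d * (γ 0 * γ l * d) * d⁻¹, conj_mem_of_mem_NN (le_NN_self _ (mem_sup_left hd)) hu, ?_,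
    by rw [mul_assoc, mul_inv_cancel_right, h.mulE hd.2 (h.mem2 _ _), e]⟩
  have e2 : γ 0 * γ l * d * (γ 0 * γ l * d) =
      d⁻¹ * (d * (γ 0 * γ l) * d⁻¹ * (d * d * (γ 0 * γ l) * (d * d)⁻¹) * (d * d)) * d := by group
  rw [h.D_sq hd hE, ← (mem_Cz_iff.1 (h.gF 0 l).2).eq, mul_inv_cancel_right] at e2
  rw [conj_sq, conj_eq_one_iff]
  rcases k with k | k <;> rw [k] at e2
  · rw [e2, h.asq]; group
  · refine (hE ((mul_mem_cancel_left (h.mem2 0 l)).1 (h.nz2 hu ?_))).elim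
    rw [e2, h.xs.comm h.am, mul_assoc z, h.asq, mul_one, mul_assoc, ← mem_Cz.1 hd.2]; group

end Cg

end H20A3
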