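import Cfsg.Agent.H20.A3c
import Cfsg.Agent.H10.Spe

/-! The two elementary abelian subgroups of order `16`; fusion of the outer involutions. -/

set_option autoImplicit false
set_option linter.unusedSectionVars false

namespace H20A3
open Subgroup Cfsg H10 Equiv
open H13 (XS XP Cz mem_Cz mem_Cz' mem_Cz_iff self_mem_Cz)
open H20L4 (L0 Lo)

variable {G : Type*} [Group G] [Finite G]

theorem comm_of_sq {x y : G} (hx : x * x = 1) (hy : y * y = 1) (e : x * y * (x * y) = 1) : Commute x y := by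
  rw [Commute, SemiconjBy, ← inv_eq_of_mul_eq_one_right e, mul_inv_rev, inv_eq_of_mul_eq_one_right hx,
    inv_eq_of_mul_eq_one_right hy]

theorem kl_12 : ∀ s, Kl s → ∀ t, Kl t → s 0 = 1 → t 0 = 2 → (s * t) 0 = 3 ∧ (t * s) 0 = 3 := by decide +kernel

/-- centralizing a member of the frame and a square root of `z` -/
def Gd (z : G) (E : Subgroup G) (γ : Fin 4 → G) (t : G) : Prop :=
  (∃ k, Commute t (γ k)) ∧ ∃ y ∈ E, Commute t y ∧ y * y = z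

namespace Cf
variable {z : G} {E : Subgroup G} {γ : Fin 4 → G} {σ : G → Perm (Fin 4)} (h : Cf z E γ σ)
include h

theorem nE {c : G} {j : Fin 4} (e : σ c 0 = j) (j0 : j ≠ 0) : c ∉ E := fun k => j0 (by rw [← e, h.one k]; rfl)

theorem cm_a' {x y : G} (hx : x ∈ Cz z) (hy : y ∈ Cz z) :
    Commute (x * y) (aa γ) ↔ (Commute x (aa γ) ↔ Commute y (aa γ)) := by
  have k : ∀ u, Commute u (aa γ) ↔ u * aa γ * u⁻¹ = aa γ := fun u => mul_inv_eq_iff_eq_mul.symm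
  have e : x * y * aa γ * (x * y)⁻¹ = x * (y * aa γ * y⁻¹) * x⁻¹ := by group
  simp only [k, e]
  rcases h.act_a hy with b | b <;> rw [b]
  · simp
  · rw [← conj_mul, mem_Cz'.1 hx]
    rcases h.act_a hx with a | a <;> rw [a]
    · simp [h.xs.z_ne]
    · rw [mul_assoc, h.zz, mul_one]; simp [h.xs.z_ne]

theorem lemS {t : G} (ht : t ∈ Cz z) (hg : Gd z E γ t) {B : Subgroup G} (hB : IsPGroup 2 B) (hBt : B ≤ Cz t) :
    ∃ m ∈ Cz t, cj m B ≤ Cz z := by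
  obtain ⟨⟨k, ck⟩, y, hy, cy, y2⟩ := hg
  obtain ⟨T, hT, hle⟩ := exists_isSylowIn_ge (P := E ⊓ Cz t) (L := Cz z ⊓ Cz t) (h.xs.pg.to_le inf_le_left)
    (inf_le_inf_right _ h.le)
  have hz : z ∈ T := hle ⟨h.xs.zm, mem_Cz_iff.2 (mem_Cz_iff.1 ht).symm⟩
  have hS : IsSylowIn 2 T (Cz t) := hT.of_NN_le (hT.le.trans inf_le_right) fun n hn => ⟨by
    have hu := (hT.le (conj_mem_of_mem_NN hn.2 (hle ⟨hy, mem_Cz_iff.2 cy.symm⟩))).1
    have e : n * z * n⁻¹ = n * y * n⁻¹ * (n * y * n⁻¹) := by rw [conj_sq, y2]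
    have hn' : n * z * n⁻¹ ∈ Cz z := e ▸ mul_mem hu hu
    have c : Commute (n * z * n⁻¹) (γ k) := (mem_Cz_iff.1 (H13.conj_mem_Cz.1
      (hT.le (conj_mem_of_mem_NN' hn.2 (hle ⟨h.mem k, mem_Cz_iff.2 ck.symm⟩))).1)).symm
    have kl : Kl (σ (n * z * n⁻¹)) := by
      have := h.sq1 hn' (h.cj2 n ▸ E.one_mem)
      rw [e, h.mul hu hu] at this ⊢
      exact kl_sq _ this
    exact mem_Cz'.2 ((h.zE ((h.ker hn').1 (kl_fix _ kl k (h.fix hn' c)))).resolve_right fun a =>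
      h.nca k ((a.comm (h.cz (h.mem k))).1 c.symm)), hn.1⟩
  obtain ⟨m, hm, e⟩ := hS.exists_cj_le hB hBt
  exact ⟨m, hm, e.trans (hT.le.trans inf_le_left)⟩

theorem gd_nz {g : G} (ht : g * z * g⁻¹ ∈ Cz z) (hg : Gd z E γ (g * z * g⁻¹)) : g * z * g⁻¹ = z := by
  obtain ⟨T, hT, h1, h2⟩ := h.xs.exists_syl (N := ⊤) le_top
  have k : cj g T ≤ Cz (g * z * g⁻¹) := fun x hx => H13.conj_mem_Cz.1 (h2 (mem_cj.1 hx))
  obtain ⟨m, hm, e⟩ := h.lemS ht hg (isPGroup_cj g hT.isPGroup) k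
  have k2 : E ≤ cj m (cj g T) := ((hT.cj_top g).cj_top m).le_of_NN h.xs.pg le_top (e.trans h.xs.le_norm)
  exact (h.xs.cent fun x hx => mem_Cz.1 (cj_le_of_mem hm k (k2 hx))).resolve_left (conj_ne_one h.xs.z_ne g)

theorem gd_g {t : G} {m : Fin 4} (e : pm z t (γ m)) : Gd z E γ t := by
  obtain ⟨u, v, h1, h2, h3⟩ := two_oth m
  refine ⟨⟨m, ((e.comm (h.cz (h.mem m))).2 (.refl _)).symm⟩, _, h.mem2 u v, ((e.comm (h.cz (h.mem2 u v))).2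
    ((h.cmE (h.mem m) (h.mem u) (h.mem v)).2 (by simp [h.cg, h2, h3])).symm).symm, h.sq2 h1⟩

end Cf

namespace Cg
variable {z : G} {E P : Subgroup G} {γ : Fin 4 → G} {σ : G → Perm (Fin 4)} (h : Cg z E γ σ P)
include h

theorem sqU {u : G} (hu : u ∈ UU z E γ P) (hE : u ∉ E) : u * u = 1 ∨ pm z (u * u) (aa γ) :=
  (h.memA.1 (pow_two u ▸ (h.xp.R_mod hu hu).2)).imp_left fun k => k.resolve_right fun k =>
    hE (h.nz2 hu (by rw [k, one_mul]))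

theorem exc2 : ∃ c ∈ UU z E γ P, ∃ d ∈ UU z E γ P, c * c = 1 ∧ d * d = 1 ∧ σ c 0 = 1 ∧ σ d 0 = 2 ∧
    Commute c d := by
  obtain ⟨c, hc, c2, ec⟩ := h.exc (j := 1) (by decide)
  obtain ⟨d, hd, d2, ed⟩ := h.exc (j := 2) (by decide)
  have hc' := h.memU.1 hc
  have hd' := h.memU.1 hd
  have hu := mul_mem hc hd
  have hu' := h.memU.1 hu
  have e3 : σ (c * d) 0 = 3 := by rw [h.mul hc'.1 hd'.1]; exact (kl_12 _ hc'.2.2 _ hd'.2.2 ec ed).1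
  have uE := h.nE e3 (by decide)
  rcases h.sqU hu uE with k | k
  · exact ⟨c, hc, d, hd, c2, d2, ec, ed, comm_of_sq c2 d2 k⟩
  have hf : γ 0 * γ 2 ∈ UU z E γ P := mem_sup_right (h.gF 0 2)
  have k1 : d * (γ 0 * γ 2) * d⁻¹ = γ 0 * γ 2 * z := by
    have a := h.swp_pm hd'.1 (i := 0) (by rw [ed]; decide) hd'.2.2.1
    have b := h.swp1 hd'.1 d2 (i := 0) (by rw [ed]; decide)
    rw [ed] at a b
    exact a.resolve_left fun e => b (mul_inv_eq_iff_eq_mul.1 e)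
  have k2 : d * (γ 0 * γ 2) * (d * (γ 0 * γ 2)) = 1 := by
    rw [← inv_eq_of_mul_eq_one_right d2] at k1 ⊢
    rw [inv_inv] at k1
    nth_rw 2 [inv_eq_of_mul_eq_one_right d2]
    rw [← mul_assoc, k1, mul_assoc _ z, ← h.xs.comm (h.mem2 0 2), ← mul_assoc, h.sq2 (by decide), h.zz]
  refine ⟨c, hc, _, mul_mem hd hf, c2, k2, ec, by rw [h.mulE hd'.1 (h.mem2 0 2), ed], comm_of_sq c2 k2 ?_⟩
  have k3 := (h.cross hu'.1 hu'.2.2 uE (j := 2) (by decide) (by rw [e3]; decide)).mul h.zz (h.cz h.am) k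
  have k4 : Commute (γ 0 * γ 2) (c * d * (c * d)) :=
    (k.comm (h.cz (h.mem2 0 2))).2 (mem_Cz_iff.1 (h.gF 0 2).2)
  rw [h.asq, mul_assoc, k4.eq, show c * d * (γ 0 * γ 2) * (c * d)⁻¹ * (c * d * (c * d) * (γ 0 * γ 2)) =
    c * (d * (γ 0 * γ 2)) * (c * (d * (γ 0 * γ 2))) by group] at k3
  refine k3.resolve_right fun e => uE ((mul_mem_cancel_right (h.mem2 0 2)).1 ?_)
  rw [mul_assoc]
  exact h.nz2 (mul_mem hc (mul_mem hd hf)) (by rw [e, one_mul])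

theorem exV : ∃ V : Subgroup G, E ⊓ P ≤ V ∧ V ≤ UU z E γ P ∧ (∀ v ∈ V, v ∈ E → v ∈ E ⊓ P) ∧
    (∀ v ∈ V, v * v = 1) ∧ Nat.card V = 16 := by
  obtain ⟨c, hc, d, hd, c2, d2, ec, ed, cd⟩ := h.exc2
  have hc' := h.memU.1 hc
  have hd' := h.memU.1 hd
  have cE := h.nE ec (by decide)
  have dE := h.nE ed (by decide)
  have uE : d * c ∉ E := h.nE (j := 3)
    (by rw [h.mul hd'.1 hc'.1]; exact (kl_12 _ hc'.2.2 _ hd'.2.2 ec ed).2) (by decide)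
  obtain ⟨B, b1, b2, b3⟩ := exists_ext (B := E ⊓ P) (fun b => h.sqA) c2 (fun b hb => h.cA hb (h.U_le hc))
    fun k => cE k.1
  obtain ⟨V, v1, v2, v3⟩ := exists_ext b2 d2 (fun b hb => ((b3 b).1 hb).elim (fun k => h.cA k (h.U_le hd))
    fun k => by simpa using (h.cA k (h.U_le hd)).mul_right cd.symm.inv_right)
    fun k => ((b3 d).1 k).elim (fun k => dE k.1) fun k => uE k.1
  have bU : B ≤ UU z E γ P := fun b hb => ((b3 b).1 hb).elim (fun k => h.A_le k)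
    fun k => (mul_mem_cancel_right hc).1 (h.A_le k)
  refine ⟨V, fun x hx => (v3 x).2 (.inl ((b3 x).2 (.inl hx))), fun v hv => ((v3 v).1 hv).elim (fun k => bU k)
    fun k => (mul_mem_cancel_right hd).1 (bU k), fun v hv hE => ?_, v2, by rw [v1, b1, h.cardA]⟩
  rcases (v3 v).1 hv with k | k <;> rcases (b3 _).1 k with k | k
  exacts [k, (cE ((mul_mem_cancel_left hE).1 k.1)).elim, (dE ((mul_mem_cancel_left hE).1 k.1)).elim,
    (uE ((mul_mem_cancel_left hE).1 (mul_assoc v d c ▸ k.1))).elim]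

theorem U_NN {B : Subgroup G} (h1 : E ⊓ P ≤ B) (h2 : B ≤ UU z E γ P) : UU z E γ P ≤ NN(B) :=
  le_NN_iff.2 fun u hu b hb => by simpa using B.mul_mem (h1 (h.cmU hu (h2 hb))) hb

theorem H_nA {g : G} (hg : g ∈ Cz z) {x : G} (hx : x ∈ E ⊓ P) : g * x * g⁻¹ ∈ E ⊓ P :=
  h.memA.2 ((h.memA.1 hx).imp (fun k => by simpa using k.conj hg) fun k => (k.conj hg).trans h.zz (h.act_a hg))

theorem H_nU {g : G} (hg : g ∈ Cz z) {u : G} (hu : u ∈ UU z E γ P) : g * u * g⁻¹ ∈ UU z E γ P := by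
  obtain ⟨h1, h2, h3⟩ := h.memU.1 hu
  have k := mul_mem (mul_mem hg h1) (inv_mem hg)
  refine h.memU.2 ⟨k, ((h.act_a hg).comm (mem_Cz_iff.1 k)).1 (comm_conj.2 h2), ?_⟩
  rw [h.cnj hg h1]; exact kl_conj _ h3 _

theorem cardU : Nat.card (UU z E γ P) = 64 := by
  have := card_sup_mul_card_inf (L := P ⊓ Cz z) (N := E ⊓ Cz (aa γ))
    ((le_sup_left.trans h.U_le).trans h.xp.C_nA)
  rw [h.xp.inf_eq, h.cardA, h.mp.xs.card_cent h.xp.zP h.xs.z_ne h.az.symm, h.xs.card_cent h.am h.a1 h.az] at this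
  change Nat.card (P ⊓ Cz z ⊔ E ⊓ Cz (aa γ) : Subgroup G) = 64
  omega

theorem exVW : ∃ V : Subgroup G, L0 V (cj (γ 0) V) ∧ V ⊔ cj (γ 0) V = UU z E γ P ∧ z ∈ V ⊓ cj (γ 0) V := by
  obtain ⟨V, h1, h2, h3, h4, h5⟩ := h.exV
  have w1 : E ⊓ P ≤ cj (γ 0) V := fun x hx => mem_cj.2 (h1 (by simpa using h.H_nA (inv_mem (h.gH 0)) hx))
  have w2 : cj (γ 0) V ≤ UU z E γ P := cj_le_of fun x hx => h.H_nU (h.gH 0) (h2 hx)
  have key : ∀ v ∈ V, pm z (v * (γ 0 * v * (γ 0)⁻¹)) (γ (σ v 0) * γ 0) := fun v hv => by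
    have := (h.act v (h.U_le (h2 hv)).1 0).mul h.zz (h.cz (h.mem 0)) (pm.rfl (x := γ 0))
    rwa [inv_eq_of_mul_eq_one_right (h4 v hv), show v * γ 0 * v * γ 0 = v * (γ 0 * v * (γ 0)⁻¹) by
      rw [inv_eq_of_mul_eq_one_right (h.sq 0)]; group] at this
  have key2 : ∀ v ∈ V, σ v 0 = 0 → γ 0 * v * (γ 0)⁻¹ ∈ E ⊓ P := fun v hv e => h.H_nA (h.gH 0)
    (h3 v hv ((h.ker (h.U_le (h2 hv)).1).1 (kl_fix _ (h.memU.1 (h2 hv)).2.2 0 e)))
  have l0 : L0 V (cj (γ 0) V) := by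
    refine ⟨h4, fun a ha => ?_, h2.trans (h.U_NN w1 w2), w2.trans (h.U_NN h1 h2), ?_, h5,
      (card_cj _ _).trans h5, fun v hv a ha e => ?_⟩
    · obtain ⟨v, hv, rfl⟩ := mem_cj'.1 ha
      rw [conj_sq, h4 v hv, mul_one, mul_inv_cancel]
    · refine (congrArg (fun X : Subgroup G => Nat.card X)
        (le_antisymm (fun x hx => ?_) (le_inf h1 w1))).trans h.cardA
      obtain ⟨v, hv, rfl⟩ := mem_cj'.1 hx.2
      refine key2 v hv (by_contra fun e => h.xs.z_ne ?_)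
      rw [← h.sq2 e, ← (key v hv).sq h.zz (h.cz (h.mem2 _ _)), h4 _ (V.mul_mem hv hx.1)]
    · obtain ⟨u, hu, rfl⟩ := mem_cj'.1 ha
      by_cases e1 : v ∈ E
      · exact .inl (w1 (h3 v hv e1))
      refine .inr (h1 (key2 u hu (by_contra fun e2 => ?_)))
      have hv' := h.memU.1 (h2 hv)
      have c := ((key u hu).comm (mem_Cz_iff.1 hv'.1)).1
        ((comm_of_sq (h4 v hv) (h4 u hu) (h4 _ (V.mul_mem hv hu))).mul_right e)
      have c' : Commute v (γ 0 * γ (σ u 0)) := by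
        simpa [inv_eq_of_mul_eq_one_right (h.sq _)] using c.inv_right
      by_cases e3 : σ v 0 = σ u 0
      · exact h.swp1 hv'.1 (h4 v hv) (i := 0) (e3 ▸ e2) (e3 ▸ c')
      · exact h.cross' hv'.1 hv'.2.2 e1 e2 e3 (.inl (mul_inv_eq_iff_eq_mul.2 c'))
  exact ⟨V, l0, eq_of_le_of_card_ge (sup_le h2 w2) (by rw [h.cardU, l0.cardR]), h1 h.zA, w1 h.zA⟩

theorem odd_a {t : G} (ht : t ∈ Cz z) (t2 : t * t = 1) {i j k l : Fin 4} (e : σ t = swap i j) (h1 : i ≠ j)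
    (h2 : i ≠ k) (h3 : i ≠ l) (h4 : j ≠ k) (h5 : j ≠ l) (h6 : k ≠ l) :
    Commute t (aa γ) ↔ ¬ (Commute t (γ k) ↔ Commute t (γ l)) := by
  have ei : σ t i = j := by rw [e, swap_apply_left]
  have a1 := h.act_fix ht (i := k) (by rw [e, swap_apply_of_ne_of_ne h2.symm h4.symm])
  have a2 := h.act_fix ht (i := l) (by rw [e, swap_apply_of_ne_of_ne h3.symm h5.symm])
  have b := h.swp1 ht t2 (i := i) (ei ▸ h1.symm)
  have b' := h.swp_pm ht (i := i) (ei ▸ h1.symm) (h.sq1 ht (t2 ▸ E.one_mem))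
  rw [ei] at b b'
  rw [h.cm_prod ht h1 h2 h3 h4 h5 h6 b' (by simpa [mul_assoc] using a1.mul h.zz (h.cz (h.mem l)) a2),
    cm_mul h.xs ht a1 a2 (h.mem l)]
  tauto

theorem gd_odd {t : G} (ht : t ∈ Cz z) (t2 : t * t = 1) (o : ¬ Kl (σ t)) : Gd z E γ t := by
  obtain ⟨i, j, k, l, e, h1, h2, h3, h4, h5, h6⟩ := odd_inv _ (h.sq1 ht (t2 ▸ E.one_mem)) o
  have e1 : σ t k = k := by rw [e, swap_apply_of_ne_of_ne h2.symm h4.symm]
  refine ⟨by_contra fun n => ?_, h.odd_y ht h6 e1 (by rw [e, swap_apply_of_ne_of_ne h3.symm h5.symm])⟩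
  have c : ∀ m, ¬ Commute t (γ m) := fun m c => n ⟨m, c⟩
  have c1 := h.odd_a ht t2 e h1 h2 h3 h4 h5 h6
  refine h.nz (mul_mem ht (h.gH k)) ((h.cm_a' ht (h.gH k)).2 (by simp [c1, c, h.nca]))
    (by rwa [h.mulE ht (h.mem k)]) ?_
  have := (h.act_fix ht e1).resolve_left fun a => c k (mul_inv_eq_iff_eq_mul.1 a)
  rw [inv_eq_of_mul_eq_one_right t2] at this
  rw [← mul_assoc, this, h.xs.comm (h.mem k), mul_assoc, h.sq, mul_one]

theorem zU {g : G} (hg : g * z * g⁻¹ ∈ Cz z) : g * z * g⁻¹ ∈ UU z E γ P := by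
  have k : Kl (σ (g * z * g⁻¹)) := by_contra fun o => o (by
    rw [h.gd_nz hg (h.gd_odd hg (h.cj2 g) o), h.one h.xs.zm]; decide)
  by_cases e : g * z * g⁻¹ ∈ E
  · exact (h.zE e).elim (fun a => a.symm ▸ h.A_le h.zA) (pm.mem (h.A_le h.zA) (h.A_le h.aA))
  · exact h.memU.2 ⟨hg, h.dbl hg (h.cj2 g) k e, k⟩

theorem lemI {t : G} (ht : t ∈ Cz z) (hg : Gd z E γ t) (na : ¬ Commute t (aa γ)) {j : Fin 4}
    (hj : ∀ x ∈ Cz z, Commute x t → Kl (σ x) → σ x 0 = 0 ∨ σ x 0 = j) (g : G) :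
    g * t * g⁻¹ ∉ Cz z ⊓ Cz (aa γ) := fun hc => by
  obtain ⟨m, hm, e⟩ := h.lemS ht hg (B := cj g⁻¹ (E ⊓ P)) (isPGroup_cj _ (h.xs.pg.to_le inf_le_left))
    (cj_le_of fun x hx => by
      rw [inv_inv]; exact H13.conj_mem_Cz.2 (mem_Cz_iff.2 (h.cA hx hc).symm))
  have k1 : ∀ x ∈ E ⊓ P, m * g⁻¹ * x * (m * g⁻¹)⁻¹ ∈ Cz z ∧ Commute (m * g⁻¹ * x * (m * g⁻¹)⁻¹) t :=
    fun x hx => ⟨e (cj_mul m g⁻¹ _ ▸ conj_mem_cj hx), by
      have := (comm_conj (g := m * g⁻¹)).2 (h.cA hx hc).symm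
      rwa [show m * g⁻¹ * (g * t * g⁻¹) * (m * g⁻¹)⁻¹ = m * t * m⁻¹ by group, mem_Cz'.1 hm] at this⟩
  generalize m * g⁻¹ = n at k1
  have k2 : ∀ x ∈ E ⊔ P, ∀ y ∈ E ⊓ P, x * y * x⁻¹ ∈ E ⊓ P := fun x hx y hy => h.xp.V_le
    (conj_mem_of_mem_NN (h.xp.X_nV hx) (h.xp.mem_V.2 (by
      simpa only [pm, one_mul, or_assoc] using h.memA.1 hy)))
  have k3 : ∀ x ∈ E ⊔ P, (σ (n * (x * z * x⁻¹) * n⁻¹) 0 = 0 ∨ σ (n * (x * z * x⁻¹) * n⁻¹) 0 = j) ∧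
      Kl (σ (n * (x * z * x⁻¹) * n⁻¹)) ∧ σ (n * (x * z * x⁻¹) * n⁻¹) ≠ 1 := fun x hx => by
    obtain ⟨a, b⟩ := k1 _ (k2 x hx z h.zA)
    have e1 : n * (x * z * x⁻¹) * n⁻¹ = n * x * z * (n * x)⁻¹ := by group
    have kl := (h.memU.1 (e1 ▸ h.zU (e1 ▸ a))).2.2
    refine ⟨hj _ a b kl, kl, fun e => ?_⟩
    rcases h.zE (e1 ▸ (h.ker a).1 e) with c | c
    · have := (k1 _ (k2 x hx _ h.aA)).2
      rw [show n * (x * aa γ * x⁻¹) * n⁻¹ = n * x * aa γ * (n * x)⁻¹ by group] at this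
      exact na (((h.act_a (mem_Cz'.2 c)).comm (mem_Cz_iff.1 ht)).1 this.symm)
    · exact na ((c.comm (mem_Cz_iff.1 ht)).1 (e1 ▸ b).symm)
  obtain ⟨p, hp, p1, -⟩ := h.exp
  obtain ⟨x, hx, x1, -⟩ := h.exx
  obtain ⟨a1, a2, a3⟩ := k3 1 (one_mem _)
  obtain ⟨b1, b2, b3⟩ := k3 x hx
  obtain ⟨-, -, c3⟩ := k3 p hp
  rw [one_mul, inv_one, mul_one] at a1 a2 a3
  rw [x1] at b1 b2 b3
  rw [p1, ← conj_mul, h.mul (k1 _ h.zA).1 (k1 _ h.aA).1] at c3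
  exact (kl_three _ a2 _ b2 j a1 b1).elim a3 fun k => k.elim b3 c3

theorem lemI_g {t : G} {m : Fin 4} (e : pm z t (γ m)) (g : G) : g * t * g⁻¹ ∉ Cz z ⊓ Cz (aa γ) :=
  h.lemI (e.mem (self_mem_Cz z) (h.gH m)) (h.gd_g e) (fun c => h.nca m ((e.comm (h.cz h.am)).1 c.symm).symm)
    (j := 0) (fun x hx c k => .inl (by
      rw [kl_fix _ k m (h.fix hx ((e.comm (mem_Cz_iff.1 hx)).1 c))]; rfl)) g

theorem cenS {t x : G} (ht : t ∈ Cz z) (hx : x ∈ Cz z) (c : Commute x t) : σ x * σ t = σ t * σ x := by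
  rw [← h.mul hx ht, ← h.mul ht hx, c.eq]

theorem lemI_o {t : G} (ht : t ∈ Cz z) (t2 : t * t = 1) (o : ¬ Kl (σ t)) (na : ¬ Commute t (aa γ)) (g : G) :
    g * t * g⁻¹ ∉ Cz z ⊓ Cz (aa γ) := by
  obtain ⟨i, j, k, l, e, h1, h2, h3, h4, h5, h6⟩ := odd_inv _ (h.sq1 ht (t2 ▸ E.one_mem)) o
  exact h.lemI ht (h.gd_odd ht t2 o) na (fun x hx c =>
    (cen_swap i j k l h1 h2 h3 h4 h5 h6 _ (e ▸ h.cenS ht hx c)).2) g

theorem lemC {t : G} (ht : t ∈ Cz z) (t2 : t * t = 1) (o : ¬ Kl (σ t)) (ca : Commute t (aa γ)) (g : G)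
    (hg : g * t * g⁻¹ ∈ Cz z) : ¬ Kl (σ (g * t * g⁻¹)) := fun kl => by
  have gd := h.gd_odd ht t2 o
  have tE : t ∉ E := fun e => o (by rw [h.one e]; decide)
  have s2 : g * t * g⁻¹ * (g * t * g⁻¹) = 1 := by rw [conj_sq, t2, mul_one, mul_inv_cancel]
  have nz : ∀ x, x * z * x⁻¹ ≠ g * t * g⁻¹ := fun x e => by
    have e' : g⁻¹ * x * z * (g⁻¹ * x)⁻¹ = t := by
      rw [show g⁻¹ * x * z * (g⁻¹ * x)⁻¹ = g⁻¹ * (x * z * x⁻¹) * g by group, e]; group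
    exact tE (e' ▸ (h.gd_nz (e' ▸ ht) (e' ▸ gd)).symm ▸ h.xs.zm)
  by_cases hE : g * t * g⁻¹ ∈ E
  · obtain ⟨p, -, p1, -⟩ := h.exp
    obtain ⟨x, -, x1, -⟩ := h.exx
    rcases h.inv hE s2 with (k | k) | (k | k) | ⟨m, k⟩
    exacts [tE (conj_eq_one_iff.1 k ▸ E.one_mem), nz 1 (by rw [k]; group), nz x (x1.trans k.symm),
      nz p (by rw [p1, k, h.xs.comm h.am]), h.lemI_g k g⁻¹ (by simpa [mul_assoc] using ⟨ht, mem_Cz_iff.2 ca⟩)]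
  obtain ⟨V, l0, e, -⟩ := h.exVW
  obtain ⟨B, b1, b2, b3⟩ : ∃ B : Subgroup G, (∀ b ∈ B, b * b = 1) ∧ Nat.card B = 16 ∧ g * t * g⁻¹ ∈ B :=
    (l0.inv_mem (e ▸ h.memU.2 ⟨hg, h.dbl hg s2 kl hE, kl⟩) s2).elim (fun k => ⟨_, l0.sv, l0.cV, k⟩)
      fun k => ⟨_, l0.sa, l0.cA, k⟩
  have hB : cj g⁻¹ B ≤ Cz t := cj_le_of fun x hx => by
    rw [inv_inv]
    exact H13.conj_mem_Cz.2 (mem_Cz_iff.2 (comm_of_sq (b1 x hx) s2 (b1 _ (B.mul_mem hx b3))))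
  obtain ⟨m, hm, k1⟩ := h.lemS ht gd (isPGroup_cj _ (.of_card (n := 4) b2)) hB
  have k2 := cj_le_of_mem hm hB
  have k3 : ∀ b ∈ cj m (cj g⁻¹ B), b * b = 1 := fun b hb => by
    rw [← cj_mul] at hb
    obtain ⟨y, hy, rfl⟩ := mem_cj'.1 hb
    rw [conj_sq, b1 y hy, mul_one, mul_inv_cancel]
  have k4 : Nat.card (cj m (cj g⁻¹ B)) = 16 := by rw [card_cj, card_cj, b2]
  generalize cj m (cj g⁻¹ B) = D at k1 k2 k3 k4
  obtain ⟨i, j, k, l, e, h1, h2, h3, h4, h5, h6⟩ := odd_inv _ (h.sq1 ht (t2 ▸ E.one_mem)) o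
  have k5 : (h.hom.comp (inclusion k1)).range ≤ zpowers (swap i j) := by
    rintro _ ⟨x, rfl⟩
    have c := mem_Cz_iff.1 (k2 x.2)
    change σ x ∈ _
    rcases (cen_swap i j k l h1 h2 h3 h4 h5 h6 _ (e ▸ h.cenS ht (k1 x.2) c)).1 with a | a | a
    · refine ((h.odd_a ht t2 e h1 h2 h3 h4 h5 h6).1 ca ?_).elim
      rw [← a, ← (h.act x (k1 x.2) k).comm (mem_Cz_iff.1 ht), ← comm_conj (g := (x : G)) (x := t), c.eq,
        mul_inv_cancel_right]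
    exacts [a ▸ one_mem _, a ▸ mem_zpowers _]
  have k6 : Nat.card (h.hom.comp (inclusion k1)).ker ≤ 4 := by
    rw [← card_map_subtype]
    refine h.le4 ?_ fun b hb => k3 b (map_subtype_le _ hb)
    rintro _ ⟨x, hx, rfl⟩
    exact (h.ker (k1 x.2)).1 hx
  have k7 := (h.hom.comp (inclusion k1)).ker.card_mul_index
  have k8 := card_le_of_le k5
  rw [Nat.card_zpowers, (Perm.swap_isSwap_iff.2 h1).orderOf, ← index_ker] at k8
  rw [k4] at k7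
  nlinarith

theorem ex_odd : ∃ t ∈ Cz z, t * t = 1 ∧ ¬ Kl (σ t) := by
  have k : ∀ u ∈ Cz z, Commute u (aa γ) → σ u = swap 0 1 → Commute (u * u) (γ 0) → u * u = 1 :=
    fun u hu c e c0 => by
      have hE : u * u ∈ E := (h.ker (mul_mem hu hu)).1 (by rw [h.mul hu hu, e, swap_mul_self])
      have c2 := h.sq_comm hu (h.act_fix hu (i := 2) (by rw [e]; decide))
      have c3 := h.sq_comm hu (h.act_fix hu (i := 3) (by rw [e]; decide))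
      have c1 := (h.cm_a hE).1 (c.mul_left c)
      refine (h.cen4 hE fun i => ?_).resolve_right fun a => h.nz hu c (by rw [e]; decide) (by rw [a, one_mul])
      fin_cases i
      exacts [c0, by tauto, c2, c3]
  obtain ⟨u, hu, c, e⟩ := h.lift (swap 0 1)
  by_cases c0 : Commute (u * u) (γ 0)
  · exact ⟨u, hu, k u hu c e c0, by rw [e]; decide⟩
  have hE : u * u ∈ E := (h.ker (mul_mem hu hu)).1 (by rw [h.mul hu hu, e, swap_mul_self])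
  have e' := (h.mulE hu (h.mem2 0 2)).trans e
  have hu' := mul_mem hu (h.le (h.mem2 0 2))
  refine ⟨_, hu', k _ hu' (c.mul_left (mem_Cz_iff.1 (h.gF 0 2).2)) e' (Commute.symm ?_), by rw [e']; decide⟩
  have hw := h.xs.nrm u hu _ (h.mem2 0 2)
  rw [show u * (γ 0 * γ 2) * (u * (γ 0 * γ 2)) = u * (γ 0 * γ 2) * u⁻¹ * (u * u * (γ 0 * γ 2)) by group,
    h.cmE (h.mem 0) hw (E.mul_mem hE (h.mem2 0 2)), h.cmE (h.mem 0) hE (h.mem2 0 2),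
    (h.act2 hu 0 2).comm (h.cz (h.mem 0)), h.cmE (h.mem 0) (h.mem _) (h.mem _),
    h.cmE (h.mem 0) (h.mem _) (h.mem _), Commute.symm_iff (b := u * u), e]
  simp only [h.cg, c0]
  decide

end Cg

end H20A3
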