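import Cfsg.Agent.H20.A3d
import Cfsg.Agent.S0111
import Cfsg.Agent.S0813
import Cfsg.Agent.S0307
import Cfsg.Agent.S0249

/-! Transfer to the subgroup of index four and identification. -/

set_option autoImplicit false
set_option linter.unusedSectionVars false

namespace H20A3
open Subgroup Cfsg H10 Equiv
open H13 (XS XP Cz mem_Cz mem_Cz' mem_Cz_iff self_mem_Cz)
open H20L4 (L0 Lo Pl)
open H1.CIT (Pt pt_cj)

variable {G : Type*} [Group G] [Finite G]

theorem idx_cz (x : G) : (Cz x).index = {y | IsConj x y}.ncard := by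
  have h2 : (centralizer ({x} : Set G)).index = (MulAction.stabilizer (ConjAct G) x).index := by
    rw [centralizer_eq_comap_stabilizer]
    exact index_comap_of_surjective _ ConjAct.toConjAct.surjective
  rw [Cz, h2, MulAction.index_stabilizer]
  congr 1
  ext y
  rw [ConjAct.mem_orbit_conjAct, isConj_comm, Set.mem_setOf]

theorem card_inv {V A : Subgroup G} (h : Pl V A) : {t : G | orderOf t = 2}.ncard = 315 := by
  have := H20L4.ncard_bip {t : G | orderOf t = 2} {P | Pt V P} (fun t P => t ∈ P) (m := 1) (n := 15)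
    (fun t ht => by
      obtain ⟨g, hg⟩ := h.exists_flag ht
      exact Set.ncard_eq_one.2 ⟨cj g V, Set.eq_singleton_iff_unique_mem.2 ⟨⟨pt_cj V g, hg.1⟩,
        fun P k => h.pt_eq k.1 (pt_cj V g) k.2 hg.1 (H6.ord2_ne_one ht)⟩⟩)
    fun P hP => by
      have k := H20L4.ncard_ne_one P
      obtain ⟨g, e⟩ := id hP
      rw [← e, card_cj, h.lo.cV, e] at k
      rw [show {a | a ∈ {t : G | orderOf t = 2} ∧ a ∈ P} = {y | y ∈ P ∧ y ≠ 1} from Set.ext fun y =>
        ⟨fun a => ⟨a.2, H6.ord2_ne_one a.1⟩, fun a => ⟨H6.ord2_of (h.pt_sq hP a.1) a.2, a.1⟩⟩]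
      omega
  rw [h.card21] at this
  omega

theorem kl_odd : ∀ s t : Perm (Fin 4), s ^ 4 = 1 → t ^ 4 = 1 → (s * t) ^ 4 = 1 → ¬ Kl s → ¬ Kl t →
    Kl (s * t) := by decide +kernel

theorem aut_le {X S B : Type*} [Group X] [Finite X] [Group S] [IsSimpleGroup S] [CommGroup B] (ι : S →* X)
    (hι : Function.Injective ι) (g : X →* B) (hg : g.ker = ι.range) (hB : Odd (Nat.card B))
    (hs : ¬ Group.IsSolvable X) (hO : pPrimeCore 2 X = ⊥) : Nat.card (MulAut X) ≤ Nat.card (MulAut S) := by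
  have nc : ¬ ∀ a b : S, a * b = b * a := fun c => hs (by
    have := Group.isSolvable_of_comm c
    exact Group.isSolvable_of_ker_le_range ι g hg.le)
  have c1 : commutator S = ⊤ := (IsSimpleGroup.eq_bot_or_eq_top_of_normal _ inferInstance).resolve_left
    fun e => nc fun a b => commutatorElement_eq_one_iff_mul_comm.1
      (mem_bot.1 (e ▸ commutator_mem_commutator (mem_top a) (mem_top b)))
  have c2 : ι.range = commutator X := le_antisymm (by
    rw [MonoidHom.range_eq_map, ← c1, commutator_def, map_commutator]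
    exact commutator_mono le_top le_top) (hg ▸ Abelianization.commutator_subset_ker g)
  have c3 : ∀ x ∈ CC(commutator X), g x = 1 → x = 1 := fun x hx e => by
    obtain ⟨s, rfl⟩ := hg.le (g.mem_ker.2 e)
    have : s ∈ center S := mem_center_iff.2 fun t => hι (by
      rw [map_mul, map_mul]; exact hx _ (c2.le ⟨t, rfl⟩))
    rcases IsSimpleGroup.eq_bot_or_eq_top_of_normal (center S) inferInstance with k | k
    · rw [mem_bot.1 (k.le this), map_one]
    · exact (nc fun a b => mem_center_iff.1 (k.ge (mem_top b)) a).elim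
  have c4 : CC(commutator X) = ⊥ := H1.pPrimeCore_eq_bot_iff.1 hO _ inferInstance
    (Nat.coprime_two_right.2 (hB.of_dvd_nat (card_dvd_of_injective (g.comp (Subgroup.subtype _))
      ((injective_iff_map_eq_one _).2 fun x e => Subtype.ext (c3 x x.2 e)))))
  have := Finite.of_injective ι hι
  rw [Nat.card_congr (MulAut.congr ((MonoidHom.ofInjective hι).trans (MulEquiv.subgroupCongr c2))).toEquiv]
  refine Nat.card_le_card_of_injective (MulAut.characteristic (commutator X))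
    ((injective_iff_map_eq_one _).2 fun α e => MulEquiv.ext fun x => ?_)
  have k : ∀ l ∈ commutator X, α l = l := fun l hl =>
    congrArg (fun β : MulAut (commutator X) => (β ⟨l, hl⟩ : X)) e
  refine (inv_mul_eq_one.1 (mem_bot.1 (c4.le (show x⁻¹ * α x ∈ _ from fun l hl => ?_)))).symm
  have := k _ (Normal.conj_mem inferInstance l hl x)
  rw [map_mul, map_mul, map_inv, k l hl] at this
  rw [show l * (x⁻¹ * α x) = x⁻¹ * (x * l * x⁻¹) * α x by group, ← this]; group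

theorem card_pgl {F : Type*} [Field F] [Fintype F] (hF : Fintype.card F = 4) :
    Nat.card (GL (Fin 3) F ⧸ center (GL (Fin 3) F)) = 60480 := by
  rw [← H20L4.card_range hF, ← H20L4.ker_gl]
  exact Nat.card_congr (QuotientGroup.quotientKerEquivRange _).toEquiv

theorem aut_pgl {F : Type*} [Field F] [Fintype F] (hF : Fintype.card F = 4)
    (hs : ¬ Group.IsSolvable (GL (Fin 3) F ⧸ center (GL (Fin 3) F)))
    (hO : pPrimeCore 2 (GL (Fin 3) F ⧸ center (GL (Fin 3) F)) = ⊥) :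
    Nat.card (MulAut (GL (Fin 3) F ⧸ center (GL (Fin 3) F))) ≤ 241920 := by
  obtain ⟨g, -, hg⟩ := Cfsg.Agent.S0307.result hF 3 (by omega)
  have := Cfsg.Agent.S0249.result (F := F) 3 le_rfl
  have k := Cfsg.Agent.S0813.result (F := F) 2 2 (by omega) hF 3 (by omega) (by omega)
  have k2 : Nat.card (Matrix.ProjGenLinGroup (Fin 3) F) = 60480 := card_pgl hF
  rw [k2] at k
  have : Finite (Matrix.ProjGenLinGroup (Fin 3) F) := Nat.finite_of_card_ne_zero (by omega)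
  exact (aut_le (X := Matrix.ProjGenLinGroup (Fin 3) F) _ Matrix.ProjectiveSpecialLinearGroup.toPGL_injective
    g hg (by simp; decide) hs hO).trans k.le

namespace Cg
variable {z : G} {E P : Subgroup G} {γ : Fin 4 → G} {σ : G → Perm (Fin 4)} (h : Cg z E γ σ P)
include h

theorem U_M {M : Subgroup G} (hn : M.Normal) (hM : M.index = 2) : UU z E γ P ≤ M := by
  obtain ⟨x, -, x1, x2⟩ := h.exx
  have hz : z ∈ M := h.sq2 (i := 0) (j := 1) (by decide) ▸ mul_self_mem_of_index_two hM _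
  have ha : aa γ ∈ M := x1 ▸ hn.conj_mem z hz x
  have hF : E ⊓ Cz (aa γ) ≤ M := fun f hf => by
    obtain ⟨j, α, hα, rfl⟩ := h.cls' hf
    refine M.mul_mem ?_ ((h.memA.1 hα).elim (pm.mem hz M.one_mem) (pm.mem hz ha))
    obtain ⟨g, hg, e⟩ := h.surj (swap 0 j)
    have k := h.act g hg 0
    rw [e, swap_apply_left] at k
    exact (mul_mem_iff_of_index_two hM).2 ⟨fun a => (k.symm h.zz).mem hz (hn.conj_mem _ a g),
      fun a => by simpa [mul_assoc] using hn.conj_mem _ (k.mem hz a) g⁻¹⟩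
  refine sup_le (fun d hd => ?_) hF
  have : x⁻¹ * d * x ∈ M := hF ⟨mem_cj.1 ((h.tr x x1).ge hd.1), H13.conj_mem_Cz.2 (x2 ▸ mem_Cz_iff.2
    ((h.mp.xs.cz hd.1).mul_right (mem_Cz_iff.1 hd.2)))⟩
  simpa [mul_assoc] using hn.conj_mem _ this x

/-- the elements inducing an element of the four-group -/
def ev (h : Cg z E γ σ P) : Subgroup G where
  carrier := {x | x ∈ Cz z ∧ Kl (σ x)}
  one_mem' := ⟨one_mem _, by rw [h.one E.one_mem]; decide⟩
  mul_mem' := fun a b => ⟨mul_mem a.1 b.1, by rw [h.mul a.1 b.1]; exact (kl_mul _ a.2 _ b.2).1⟩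
  inv_mem' := fun a => ⟨inv_mem a.1, by rw [h.inv' a.1, kl_inv _ a.2]; exact a.2⟩

theorem exN : ∃ T N : Subgroup G, N.Normal ∧ IsSylowIn 2 T ⊤ ∧ T ≤ Cz z ∧ (∀ g, g * g ∈ N) ∧
    T ⊓ N = UU z E γ P := by
  obtain ⟨T, hT, hE, hH⟩ := h.xs.exists_syl (N := ⊤) le_top
  have hU : UU z E γ P ≤ T := hT.le_of_NN h.xp.R_pg le_top (le_NN_iff.2 fun g hg u hu => h.H_nU (hH hg) hu)
  obtain ⟨t, ht, t2, o⟩ : ∃ t ∈ T, t * t = 1 ∧ ¬ Kl (σ t) := by
    obtain ⟨t, ht, t2, o⟩ := h.ex_odd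
    obtain ⟨m, hm, e⟩ := (hT.of_le hH le_top).exists_cj_le
      (isPGroup_zpowers (k := 1) (by rw [pow_one, pow_two, t2])) (zpowers_le.2 ht)
    refine ⟨_, e (conj_mem_cj (mem_zpowers t)), by rw [conj_sq, t2, mul_one, mul_inv_cancel], fun k => o ?_⟩
    rw [h.cnj hm ht] at k
    simpa [mul_assoc] using kl_conj _ k (σ m)⁻¹
  obtain ⟨φ, hφ, τ, hτ, φ2, τ2, oφ, oτ, cφ, cτ⟩ : ∃ φ ∈ T, ∃ τ ∈ T, φ * φ = 1 ∧ τ * τ = 1 ∧ ¬ Kl (σ φ) ∧
      ¬ Kl (σ τ) ∧ ¬ Commute φ (aa γ) ∧ Commute τ (aa γ) := by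
    obtain ⟨⟨k, ck⟩, -⟩ := h.gd_odd (hH ht) t2 o
    have a := T.mul_mem ht (hE (h.mem k))
    have b : t * γ k * (t * γ k) = 1 := by
      rw [mul_assoc, ← mul_assoc (γ k), ← ck.eq, mul_assoc, h.sq, mul_one, t2]
    have c : ¬ Kl (σ (t * γ k)) := by rwa [h.mulE (hH ht) (h.mem k)]
    have d := h.cm_a' (hH ht) (h.gH k)
    by_cases e : Commute t (aa γ)
    exacts [⟨_, a, t, ht, b, t2, c, o, by simp [d, e, h.nca], e⟩, ⟨t, ht, _, a, t2, b, o, c, e, by simp [d, e, h.nca]⟩]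
  have p4 : ∀ x ∈ T, σ x ^ 4 = 1 := fun x hx => by
    obtain ⟨k, e⟩ := isPGroup_iff_mem.1 hT.isPGroup x hx
    have a : orderOf (σ x) ∣ 2 ^ k := orderOf_dvd_of_pow_eq_one (by rw [← h.pow (hH hx), e, h.one E.one_mem])
    exact orderOf_dvd_iff_pow_eq_one.1 ((Nat.Coprime.coprime_dvd_left a
      (Nat.Coprime.pow_left k (by decide : Nat.Coprime 2 3))).dvd_of_dvd_mul_right
        (orderOf_dvd_of_pow_eq_one (pow12 _)))
  have od : ∀ x ∈ T, ∀ y ∈ T, ¬ Kl (σ x) → ¬ Kl (σ y) → Kl (σ (x * y)) := fun x hx y hy a b => by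
    have := p4 _ (T.mul_mem hx hy)
    rw [h.mul (hH hx) (hH hy)] at this ⊢
    exact kl_odd _ _ (p4 x hx) (p4 y hy) this a b
  have n1 : ∀ {x}, ¬ Kl (σ x) → x ≠ 1 := fun o e => o (by rw [e, h.one E.one_mem]; decide)
  have i1 : (T ⊓ Cz (aa γ)).relIndex T = 2 := relIndex_eq_two_iff_exists_notMem_and.2
    ⟨γ 0, hE (h.mem 0), fun k => h.nca 0 (mem_Cz_iff.1 k.2), fun b hb => by
      by_cases c : Commute b (aa γ)
      exacts [.inr ⟨hb, mem_Cz_iff.2 c⟩, .inl ⟨T.mul_mem hb (hE (h.mem 0)),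
        mem_Cz_iff.2 ((h.cm_a' (hH hb) (h.gH 0)).2 (by simp [c, h.nca]))⟩]⟩
  have i2 : (T ⊓ h.ev).relIndex T = 2 := relIndex_eq_two_iff_exists_notMem_and.2
    ⟨τ, hτ, fun k => oτ k.2.2, fun b hb => by
      by_cases c : Kl (σ b)
      exacts [.inr ⟨hb, hH hb, c⟩, .inl ⟨T.mul_mem hb hτ, hH (T.mul_mem hb hτ), od b hb τ hτ c oτ⟩]⟩
  obtain ⟨M1, a1, b1, c1⟩ := (Cfsg.Agent.S0111.result hT.toSylowTop _ inf_le_left i1 (γ 0)
    (H6.ord2_of (h.sq 0) fun e => h.npg1 0 (.inl e)) (hE (h.mem 0)) fun k => h.nca 0 (mem_Cz_iff.1 k.2)).resolve_right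
    fun ⟨g, k⟩ => h.lemI_g .rfl g ⟨hH k.1, k.2⟩
  obtain ⟨M2, a2, b2, c2⟩ := (Cfsg.Agent.S0111.result hT.toSylowTop _ inf_le_left i1 φ
    (H6.ord2_of φ2 (n1 oφ)) hφ fun k => cφ (mem_Cz_iff.1 k.2)).resolve_right
    fun ⟨g, k⟩ => h.lemI_o (hH hφ) φ2 oφ cφ g ⟨hH k.1, k.2⟩
  obtain ⟨M3, a3, b3, c3⟩ := (Cfsg.Agent.S0111.result hT.toSylowTop _ inf_le_left i2 τ
    (H6.ord2_of τ2 (n1 oτ)) hτ fun k => oτ k.2.2).resolve_right
    fun ⟨g, k⟩ => h.lemC (hH hτ) τ2 oτ cτ g k.2.1 k.2.2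
  refine ⟨T, M1 ⊓ M2 ⊓ M3, inferInstance, hT, hH, fun g => ⟨⟨mul_self_mem_of_index_two b1 g,
    mul_self_mem_of_index_two b2 g⟩, mul_self_mem_of_index_two b3 g⟩, le_antisymm (fun x hx => ?_)
    (le_inf hU (le_inf (le_inf (h.U_M a1 b1) (h.U_M a2 b2)) (h.U_M a3 b3)))⟩
  have hx' := hH hx.1
  by_cases c : Commute x (aa γ) <;> by_cases k : Kl (σ x)
  · exact h.memU.2 ⟨hx', c, k⟩
  · exact (c3 ((M3.mul_mem_cancel_left hx.2.2).1 (h.U_M a3 b3
      (h.memU.2 ⟨mul_mem hx' (hH hτ), c.mul_left cτ, od x hx.1 τ hτ k oτ⟩)))).elim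
  · exact (c1 ((M1.mul_mem_cancel_left hx.2.1.1).1 (h.U_M a1 b1 (h.memU.2 ⟨mul_mem hx' (h.gH 0),
      (h.cm_a' hx' (h.gH 0)).2 (by simp [c, h.nca]), by rwa [h.mulE hx' (h.mem 0)]⟩)))).elim
  · exact (c2 ((M2.mul_mem_cancel_left hx.2.1.2).1 (h.U_M a2 b2 (h.memU.2 ⟨mul_mem hx' (hH hφ),
      (h.cm_a' hx' (hH hφ)).2 (by simp [c, cφ]), od x hx.1 φ hφ k oφ⟩)))).elim

theorem iso {F : Type*} [Field F] [Fintype F] (hF : Fintype.card F = 4) (hG : ¬ Group.IsSolvable G) :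
    Nonempty (G ≃* MulAut (GL (Fin 3) F ⧸ center (GL (Fin 3) F))) := by
  obtain ⟨T, N, hN, hT, hH, sq, e⟩ := h.exN
  obtain ⟨V, l0, eV, hz⟩ := h.exVW
  obtain ⟨x, -, x1, -⟩ := h.exx
  have hUN : V ⊔ cj (γ 0) V ≤ N := eV ▸ e ▸ inf_le_right
  have vN := le_sup_left.trans hUN
  have wN := le_sup_right.trans hUN
  have lo : Lo (V.subgroupOf N) ((cj (γ 0) V).subgroupOf N) := ⟨l0.sub hUN, by
    rw [← subgroupOf_sup vN wN, eV, ← e]
    exact isSylowIn_subgroupOf_top (hT.inf_normal le_top (le_NN_of_normal _ _))⟩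
  have h4 := (h.xs.large_of_conj le_rfl (g := x) (x1 ▸ h.am) (x1 ▸ h.az)).2.2.2
  have hO := H20L4.core_normal (H13.XS.odd_core h4) N
  have hs : ¬ Group.IsSolvable N := fun s => hG ((Group.isSolvable_iff_subgroup_quotient N).2 ⟨s, by
    have : IsPGroup 2 (G ⧸ N) := fun q => by
      obtain ⟨g, rfl⟩ := QuotientGroup.mk'_surjective N q
      exact ⟨1, by rw [pow_one, pow_two, ← map_mul]; exact (QuotientGroup.eq_one_iff _).2 (sq g)⟩
    have := this.isNilpotent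
    infer_instance⟩)
  have nn : ∀ g, ¬ N ≤ NN(cj g V) := fun g k => hs (by
    have k' : ∀ y, N ≤ NN(cj y V) := fun y => by
      have := cj_mono (y * g⁻¹) k
      rwa [cj_eq_of_normal, cj_normalizer, ← cj_mul, inv_mul_cancel_right] at this
    have := normal_subgroupOf (cj_one V ▸ k' 1)
    have := normal_subgroupOf (k' (γ 0))
    exact (Group.isSolvable_iff_subgroup_quotient _).2 ⟨H10.isSolvable_of_isPGroup lo.pgR,
      Cfsg.Agent.S0205.result (Nat.coprime_two_left.1 (H20L4.IsSylowIn.cop lo.syl))⟩)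
  have pl : Pl (V.subgroupOf N) ((cj (γ 0) V).subgroupOf N) := ⟨lo, SetLike.not_le_iff_exists.1 fun k =>
    nn _ (le_NN_of_normal_subgroupOf wN (lo.symm.normal hO (inf_comm (V.subgroupOf N) _ ▸ k))),
    SetLike.not_le_iff_exists.1 fun k => nn 1 ((cj_one V).symm ▸ le_NN_of_normal_subgroupOf vN
      (lo.normal hO (inf_comm _ (V.subgroupOf N) ▸ k))), hO⟩
  have zN : z ∈ N := vN hz.1
  have cG : Nat.card G = 241920 := by
    rw [← (Cz z).card_mul_index, h.card, idx_cz, show {y | IsConj z y} = Subtype.val '' {t : N | orderOf t = 2} from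
      Set.ext fun y => ⟨fun k => by
        obtain ⟨g, rfl⟩ := isConj_iff.1 k
        exact ⟨⟨_, hN.conj_mem z zN g⟩, by
          rw [Set.mem_setOf, ← orderOf_coe]; exact H6.ord2_conj h.xs.z2 g, rfl⟩, by
        rintro ⟨t, ht, rfl⟩
        exact N.subtype.map_isConj (lo.conjG pl.mv pl.ma (w := ⟨z, zN⟩) hz
          (fun k => h.xs.z_ne (congrArg Subtype.val k)) ht)⟩,
      Set.ncard_image_of_injective _ Subtype.val_injective, card_inv pl]
  have cT : Nat.card T = 256 := by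
    rw [(hT.of_le hH le_top).card_eq_pow, h.card, ← Nat.primeFactorsList_count_eq]
    simp [Nat.primeFactorsList_ofNat]
  have cN : Nat.card N = 60480 := by
    have := card_sup_mul_card_inf (L := T) (N := N) (le_NN_of_normal _ _)
    rw [H20L4.top_of_syl hT (fun g => mem_sup_right (sq g)) le_sup_left, e, h.cardU, card_top, cG, cT] at this
    omega
  obtain ⟨f, hf⟩ := pl.emb hF
  let eN := MulEquiv.ofBijective f ((Nat.bijective_iff_injective_and_card f).2 ⟨hf, cN.trans (card_pgl hF).symm⟩)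
  have cC : CC(N) = ⊥ := by_contra fun k => by
    have := card_le_of_le (K := Cz z) (H := N) fun y hy =>
      mem_Cz.2 (h.xs.mem_of_norm h4 (le_NN_of_normal _ _) k y hy)
    rw [cN, h.card] at this
    omega
  let ψ : G →* MulAut _ := (MulAut.congr eN).toMonoidHom.comp (MulAut.conjNormal (H := N))
  have hψ : Function.Injective ψ := (MulAut.congr eN).injective.comp ((injective_iff_map_eq_one _).2 fun g k =>
    mem_bot.1 (cC.le fun y hy => (mul_inv_eq_iff_eq_mul.1 (show g * y * g⁻¹ = y from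
      congrArg (fun β : MulAut N => (β ⟨y, hy⟩ : G)) k)).symm))
  exact ⟨MulEquiv.ofBijective ψ ((Nat.bijective_iff_injective_and_card ψ).2 ⟨hψ, le_antisymm
    (Nat.card_le_card_of_injective ψ hψ) (cG ▸ aut_pgl hF (fun s => hs (Group.isSolvable_of_surjective
      (f := eN.symm.toMonoidHom) eN.symm.surjective)) (by rw [← H1.map_pPrimeCore_equiv 2 eN, hO, Subgroup.map_bot]))⟩)⟩

end Cg

theorem odd_comm {z : G} {E : Subgroup G} {w : ℕ} (h : XS z E w) : IsMulCommutative (pPrimeCore 2 G) := by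
  have f : MonoidHom.FixedPointFree (MulAut.conjNormal (H := pPrimeCore 2 G) z) := fun k e => Subtype.ext
    (h.odd_eq_one (Nat.coprime_two_right.1 (H1.coprime_card_pPrimeCore 2)) (le_NN_of_normal _ _) k.2
      (Commute.symm (mul_inv_eq_iff_eq_mul.1 (show z * k * z⁻¹ = k from congrArg Subtype.val e))))
  exact ⟨⟨f.commute_all_of_involutive fun k => by rw [← MulAut.mul_apply, ← map_mul, h.zz, map_one]; rfl⟩⟩

theorem xm_of {z : G} (hz : orderOf z = 2) (E : Subgroup (Cz z)) [hn : E.Normal] (hE : IsExtraspecial 2 E)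
    (hc : Nat.card E = 32) (hm : ∀ A : Subgroup E, IsElementaryAbelian 2 A → Nat.card A ≠ 8)
    (hC : CC(E) ≤ E) : XM z (E.map (Cz z).subtype) := by
  have e : E ≃* E.map (Cz z).subtype := E.equivMapOfInjective _ (Cz z).subtype_injective
  have es := H7.isExtraspecial_of_equiv hE e
  have zm : z ∈ E.map (Cz z).subtype :=
    ⟨⟨z, self_mem_Cz z⟩, hC fun y _ => Subtype.ext (mem_Cz.1 y.2), rfl⟩
  have xs : XS z (E.map (Cz z).subtype) 2 := by
    refine ⟨hz, es, (eq_of_le_of_card_ge (zpowers_le.2 (mem_inf.2 ⟨zm, ?_⟩)) ?_).symm,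
      (Nat.card_congr e.toEquiv).symm.trans hc, ?_, ?_⟩
    · rintro _ ⟨y, -, rfl⟩; exact mem_Cz.1 y.2
    · rw [H7.extraspecial_card_center es, Nat.card_zpowers, hz]
    · rintro g hg _ ⟨x, hx, rfl⟩
      exact ⟨_, hn.conj_mem x hx ⟨g, hg⟩, rfl⟩
    · exact fun g hg => ⟨⟨g, mem_Cz.2 (hg z zm).symm⟩, hC fun y hy => Subtype.ext (hg _ ⟨y, hy, rfl⟩), rfl⟩
  refine ⟨xs, fun u hu v hv u2 v2 c => by_contra fun k => ?_⟩
  simp only [not_or, pm, one_mul] at k
  obtain ⟨⟨u1, uz⟩, ⟨v1, vz⟩, vu, vuz⟩ := k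
  have k1 : ∀ b ∈ xs.K4 hu, b * b = 1 ∧ Commute v b := fun b hb => by
    rcases (xs.mem_K4 hu).1 hb with rfl | rfl | rfl | rfl
    exacts [⟨mul_one 1, .one_right _⟩, ⟨xs.zz, xs.cz hv⟩, ⟨u2, c.symm⟩,
      ⟨(pm.sq xs.zz (xs.cz hu) (.inr rfl)).trans u2, c.symm.mul_right (xs.cz hv)⟩]
  obtain ⟨B, b1, b2, b3⟩ := exists_ext (fun b hb => (k1 b hb).1) v2 (fun b hb => (k1 b hb).2)
    fun a => by simpa [v1, vz, vu, vuz] using (xs.mem_K4 hu).1 a
  have bE : B ≤ E.map (Cz z).subtype := fun b hb => ((b3 b).1 hb).elim (fun a => xs.K4_le hu a)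
    fun a => (mul_mem_cancel_right hv).1 (xs.K4_le hu a)
  let f : E →* G := (Cz z).subtype.comp E.subtype
  have hf : Function.Injective f := (Cz z).subtype_injective.comp E.subtype_injective
  refine hm (B.comap f) ⟨⟨⟨fun x y => Subtype.ext (hf ?_)⟩⟩, fun a ha => hf ?_⟩ ?_
  · exact comm_of_sq (b2 _ x.2) (b2 _ y.2) (b2 _ (B.mul_mem x.2 y.2))
  · rw [map_pow, pow_two, map_one]; exact b2 _ ha
  · rw [← card_map_of_injective hf, map_comap_eq_self fun b hb => ?_, b1, xs.card_K4 hu u1 uz]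
    obtain ⟨y, hy, rfl⟩ := bE hb
    exact ⟨⟨y, hy⟩, rfl⟩

end H20A3
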