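import Cfsg.Agent.H20.AS1
import Cfsg.Agent.H19.V4

/-! Principal `2`-blocks with an abelian Sylow subgroup: direct factors and counting. -/

set_option autoImplicit false
set_option linter.unusedSectionVars false

namespace H20.AS

open Subgroup H10 Cfsg H17 Finset
open H19 (kk Blk irr B0 Kr IsPElt lam infl RS)

variable {O : ValuationSubring ℂ} {G : Type*} [Group G] [Finite G] {p : ℕ} [hp : Fact p.Prime]
  {N P L K H : Subgroup G} {χ : IrrCharacter G} {x : G}

theorem mem_cent_sub {n : H} : n ∈ cent (P.subgroupOf H) ↔ (n : G) ∈ cent (P ⊓ H) :=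
  ⟨fun h => mem_centralizer_iff.2 fun u hu =>
    congrArg Subtype.val (mem_centralizer_iff.1 h ⟨u, hu.2⟩ hu.1),
    fun h => mem_centralizer_iff.2 fun u hu => Subtype.ext (mem_centralizer_iff.1 h u ⟨hu, u.2⟩)⟩

theorem mem_nrm_sub {n : H} : n ∈ nrm (P.subgroupOf H) ↔ (n : G) ∈ nrm (P ⊓ H) :=
  ⟨fun h => mem_normalizer_fintype fun u hu => ⟨conj_mem_of_mem_NN h (x := ⟨u, hu.2⟩) hu.1,
    H.mul_mem (H.mul_mem n.2 hu.2) (H.inv_mem n.2)⟩,
    fun h => mem_normalizer_fintype fun u hu => (conj_mem_of_mem_NN (G := G) h ⟨hu, u.2⟩).1⟩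

theorem cent_sub (h : P ≤ H) : cent (P.subgroupOf H) = (cent P).subgroupOf H :=
  Subgroup.ext fun _ => by rw [mem_cent_sub, inf_eq_left.2 h, mem_subgroupOf]

theorem nrm_sub (h : P ≤ H) : nrm (P.subgroupOf H) = (H ⊓ nrm P).subgroupOf H :=
  Subgroup.ext fun _ => by rw [mem_nrm_sub, inf_eq_left.2 h, inf_subgroupOf_left, mem_subgroupOf]

theorem relIndex_sub (h : P ≤ H) : (cent (P.subgroupOf H)).relIndex (nrm (P.subgroupOf H)) =
    (cent P).relIndex (H ⊓ nrm P) := by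
  rw [cent_sub h, nrm_sub h, relIndex_subgroupOf inf_le_left]

theorem free_sub (h : P ≤ H) {y : H} : nrm (P.subgroupOf H) ⊓ centralizer {y} ≤
    cent (P.subgroupOf H) ↔ H ⊓ nrm P ⊓ centralizer {(y : G)} ≤ cent P := by
  rw [cent_sub h, nrm_sub h]
  exact ⟨fun k n hn => k (x := ⟨n, hn.1.1⟩) ⟨hn.1, mem_centralizer_singleton_iff.2
    (Subtype.ext (mem_centralizer_singleton_iff.1 hn.2))⟩, fun k n hn => k ⟨hn.1,
      mem_centralizer_singleton_iff.2 (congrArg Subtype.val (mem_centralizer_singleton_iff.1 hn.2))⟩⟩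

theorem syl_sub [N.Normal] (hP : IsSylowIn p P ⊤) : IsSylowIn p (P.subgroupOf N) ⊤ := by
  rw [← inf_subgroupOf_right]
  exact isSylowIn_subgroupOf_top (hP.inf_normal le_top (top_le_nrm N))

theorem ab_sub (hc : P ≤ cent P) (H : Subgroup G) : P.subgroupOf H ≤ cent (P.subgroupOf H) :=
  H19.ab_subgroupOf hc H

theorem pg_of_npc [K.Normal] (hO : pPrimeCore p G = ⊥) (h : HasNormalPComplement p K) :
    IsPGroup p K := by
  obtain ⟨M, _, h1, h2⟩ := H19.exists_compl h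
  have h3 := (map_mono (f := K.subtype) (H1.le_pPrimeCore
    (hp.out.coprime_iff_not_dvd.2 h1).symm)).trans (H1.map_pPrimeCore_subtype_le p K)
  rw [hO, le_bot_iff, map_eq_bot_iff_of_injective _ K.subtype_injective] at h3
  subst h3
  exact h2.of_equiv QuotientGroup.quotientBot

theorem core_sub (N : Subgroup G) [N.Normal] (hO : pPrimeCore p G = ⊥) : pPrimeCore p N = ⊥ :=
  (map_eq_bot_iff_of_injective _ N.subtype_injective).1
    (le_bot_iff.1 ((H1.map_pPrimeCore_subtype_le p N).trans hO.le))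

theorem exists_free (he : ((cent P).relIndex (nrm P)).Prime) :
    ∃ x ∈ P, nrm P ⊓ centralizer {x} ≤ cent P := by
  by_contra! h
  refine he.one_lt.ne' (relIndex_eq_one.2 fun n hn => mem_centralizer_iff.2 fun u hu => ?_)
  exact (mem_centralizer_singleton_iff.1
    (((eq_or_eq he (cent_le hu) inf_le_left).resolve_left (h u hu)) hn).2).symm

section fac
variable [L.Normal] [K.Normal] (hP : IsSylowIn p P ⊤) (hK : K ≤ cent L) (hs : L ⊔ K = ⊤)
include hP hK hs

theorem sup_inf : P ⊓ L ⊔ P ⊓ K = P := by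
  have := (hP.inf_normal le_top (top_le_nrm L)).sup (hP.inf_normal le_top (top_le_nrm K))
    (le_NN_of_normal _ _) (inf_le_right.trans ((le_CC_symm hK).trans
      ((cent_anti inf_le_right).trans (cent_le_nrm _))))
  rw [hs] at this
  exact (this.eq_of_le hP.isPGroup (sup_le inf_le_left inf_le_left) le_top).symm

theorem dec (hx : x ∈ P) : ∃ l ∈ P ⊓ L, ∃ k ∈ P ⊓ K, l * k = x :=
  (mem_sup_of_NN (inf_le_right.trans ((le_CC_symm hK).trans ((cent_anti inf_le_right).trans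
    (cent_le_nrm _))))).1 ((sup_inf hP hK hs).ge hx)

theorem nrm_le : L ⊓ nrm (P ⊓ L) ≤ nrm P := by
  have := le_NN_sup (inf_le_right : L ⊓ nrm (P ⊓ L) ≤ _) (inf_le_left.trans ((le_CC_symm hK).trans
    ((cent_anti (inf_le_right : P ⊓ K ≤ K)).trans (cent_le_nrm _))))
  rwa [sup_inf hP hK hs] at this

theorem cent_le' : L ⊓ cent (P ⊓ L) ≤ cent P := by
  have := (le_inf (inf_le_right : L ⊓ cent (P ⊓ L) ≤ _) (inf_le_left.trans ((le_CC_symm hK).trans
    (cent_anti (inf_le_right : P ⊓ K ≤ K))))).trans (CC_sup _ _).ge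
  rwa [sup_inf hP hK hs] at this

theorem free_fac {l k : G} (hl : l ∈ L) (hk : k ∈ K)
    (h : nrm P ⊓ centralizer {l * k} ≤ cent P) :
    nrm (P.subgroupOf L) ⊓ centralizer {⟨l, hl⟩} ≤ cent (P.subgroupOf L) := fun n hn =>
  mem_cent_sub.2 (cent_anti inf_le_left (h ⟨nrm_le hP hK hs ⟨n.2, mem_nrm_sub.1 hn.1⟩,
    mem_centralizer_singleton_iff.2 (by
      have h1 : (n : G) * l = l * n := congrArg Subtype.val (mem_centralizer_singleton_iff.1 hn.2)
      rw [← mul_assoc, h1, mul_assoc, mem_centralizer_iff.1 (hK hk) n n.2, mul_assoc])⟩))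

end fac

variable [CharP (kk O) 2]

/-- the properties of `L₂(2 ^ n)` and `L₂(q)`, `q ≡ ± 3 (mod 8)`, used below -/
structure GS (O : ValuationSubring ℂ) {G : Type*} [Group G] [Finite G] (P : Subgroup G) : Prop where
  ne : ¬ nrm P ≤ cent P
  sq : ∀ x ∈ P, x * x = 1
  free : ∀ x ∈ P, x ≠ 1 → nrm P ⊓ centralizer {x} ≤ cent P
  tr : ∀ a ∈ P, a ≠ 1 → ∀ b ∈ P, b ≠ 1 → ∃ n ∈ nrm P, n * a * n⁻¹ = b
  card : Nat.card (irr (B0 O G)) = Nat.card P

omit [CharP (kk O) 2] in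
theorem GS.exists_ne (h : GS O P) : ∃ t ∈ P, t ≠ 1 := by
  by_contra! k
  exact h.ne fun n _ => mem_centralizer_iff.2 fun u hu => by rw [k u hu, one_mul, mul_one]

theorem GS.odd (h : GS O P) (hP : IsSylowIn 2 P ⊤) (hc : P ≤ cent P) (hχ : χ ∈ irr (B0 O G)) :
    Odd (charDegree (χ : G → ℂ)) := by
  obtain ⟨t, ht, h1⟩ := h.exists_ne
  have h2 := sq_of_card hP hc ht (h.sq t ht) (h.free t ht h1) h.card hχ
  have h3 := irr_mul_sub_mem (O := O) (p := 2) (CF.mem_Irr_top.2 χ.2) (mem_top t) (mem_top 1)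
    (H19.isPElt_of_mem hP.isPGroup ht) (Commute.one_right t)
  rw [mul_one, ← H19.cast_deg] at h3
  by_contra h4
  have h5 := O.nonunits.add_mem h3 ((H19.natCast_mem_nonunits_iff 2 _).2
    (even_iff_two_dvd.1 (Nat.not_odd_iff_even.1 h4)))
  rw [sub_add_cancel] at h5
  exact H19.not_mem_nonunits_of_pow_eq_one two_ne_zero h2 h5

theorem GS.factor [L.Normal] (hP : IsSylowIn 2 P ⊤) (hc : P ≤ cent P) (hO : pPrimeCore 2 G = ⊥)
    (hs : L ⊔ cent L = ⊤) (hZ : L ⊓ cent L = ⊥) (he : ((cent P).relIndex (nrm P)).Prime)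
    (h : GS O (P.subgroupOf L)) : ∃ t ∈ P, t * t = 1 ∧ nrm P ⊓ centralizer {t} ≤ cent P ∧
      (∀ χ ∈ irr (B0 O G), (χ : G → ℂ) t ^ 2 = 1) ∧
      Nat.card P = Nat.card (P ⊓ cent (nrm P) : Subgroup G) * ((cent P).relIndex (nrm P) + 1) := by
  have hn := nrm_le hP le_rfl hs
  have hM : nrm P ≤ cent P ⊔ L ⊓ nrm (P ⊓ L) :=
    (eq_or_eq he le_sup_left (sup_le (cent_le_nrm P) hn)).resolve_left fun k => h.ne fun n h1 =>
      mem_cent_sub.2 (cent_anti inf_le_left (k (mem_sup_right ⟨n.2, mem_nrm_sub.1 h1⟩)))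
  have hd : ∀ n ∈ nrm P, ∃ c ∈ cent P, ∃ m ∈ L ⊓ nrm (P ⊓ L), c * m = n := fun n h1 =>
    (mem_sup_of_NN' (hn.trans (nrm_le_nrm_cent P))).1 (hM h1)
  have h1 : nrm P ≤ cent (P ⊓ cent L) := hM.trans (sup_le (cent_anti inf_le_left)
    (inf_le_left.trans (le_CC_symm inf_le_right)))
  have h2 : cent L ≤ P := hP.le_of_NN (pg_of_npc hO (H19.npc_of_nrm_le
    (hP.inf_normal le_top (top_le_nrm _)) ((nrm_le hP (le_CC_symm le_rfl)
      (sup_comm L _ ▸ hs)).trans h1))) le_top (le_NN_of_normal _ _)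
  have hf : ∀ t ∈ P ⊓ L, t ≠ 1 → nrm P ⊓ centralizer {t} ≤ cent P := fun t ht t1 n k => by
    obtain ⟨c, k1, m, k2, rfl⟩ := hd n k.1
    have k3 : m ∈ centralizer {t} :=
      (mul_mem_cancel_left (Subgroup.mem_inf.1 (cent_le ht.1 k1)).2).1 (Subgroup.mem_inf.1 k).2
    have k4 : (⟨m, k2.1⟩ : L) ∈ nrm (P.subgroupOf L) ⊓ centralizer {⟨t, ht.2⟩} :=
      ⟨mem_nrm_sub.2 k2.2, mem_centralizer_singleton_iff.2
        (Subtype.ext (mem_centralizer_singleton_iff.1 k3))⟩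
    exact mul_mem k1 (cent_le' hP le_rfl hs ⟨k2.1, mem_cent_sub.1
      (h.free ⟨t, ht.2⟩ ht.1 (by simpa using t1) k4)⟩)
  have h3 : P ⊓ cent (nrm P) = cent L := by
    refine le_antisymm (fun u hu => ?_) (le_inf h2 (le_CC_symm (h1.trans (cent_anti (le_inf h2 le_rfl)))))
    obtain ⟨l, hl, k, hk, rfl⟩ := dec hP le_rfl hs hu.1
    by_cases l1 : l = 1
    · rw [l1, one_mul]; exact hk.2
    refine (he.one_lt.ne' (relIndex_eq_one.2 fun n k1 => hf l hl l1 ⟨k1, ?_⟩)).elim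
    exact mem_centralizer_singleton_iff.2 (mem_centralizer_iff.1
      ((mul_mem_cancel_right (le_CC_symm h1 hk)).1 hu.2) n k1)
  obtain ⟨t, ht, t1⟩ := h.exists_ne
  have t1' : (t : G) ≠ 1 := by simpa using t1
  refine ⟨t, ht, congrArg Subtype.val (h.sq t ht), hf t ⟨ht, t.2⟩ t1', fun χ hχ => ?_, ?_⟩
  · obtain ⟨α, hα, β, -, e⟩ := exists_prod (p := 2) le_rfl hs hχ
    have := e t 1
    rw [β.2.one_eq_one_of_comm fun a b => Subtype.ext (mem_centralizer_iff.1 (hc (h2 b.2)) a (h2 a.2)),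
      mul_one, OneMemClass.coe_one, mul_one] at this
    rw [this]
    exact sq_of_card (syl_sub hP) (ab_sub hc L) ht (h.sq t ht) (h.free t ht t1) h.card hα
  have h4 : cls (nrm P) t = ((P ⊓ L : Subgroup G) : Set G) \ ({1} : Set G) := by
    refine Set.ext fun y => ⟨?_, fun hy => ?_⟩
    · rintro ⟨n, k, rfl⟩
      exact ⟨⟨conj_mem_of_mem_NN k ht, Normal.conj_mem inferInstance _ t.2 n⟩, by simpa using t1⟩
    · obtain ⟨n, k1, k2⟩ := h.tr t ht t1 ⟨y, hy.1.2⟩ hy.1.1 (by simpa using hy.2)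
      exact ⟨n, hn ⟨n.2, mem_nrm_sub.1 k1⟩, congrArg Subtype.val k2⟩
  have h5 := ncard_cls (nrm P) t
  rw [h4, ← inf_relIndex_left, le_antisymm (hf t ⟨ht, t.2⟩ t1') (cent_le ht)] at h5
  have h6 := card_sup_mul_card_inf (L := P ⊓ L) (N := P ⊓ cent L) (inf_le_left.trans
    (hc.trans ((cent_anti inf_le_left).trans (cent_le_nrm _))))
  rw [sup_inf hP le_rfl hs, inf_eq_right.2 h2, inf_assoc, hZ, inf_bot_eq, card_bot, mul_one] at h6
  rw [h3, ← h5, Set.ncard_diff_singleton_add_one (by exact one_mem _), h6, mul_comm]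
  rfl

/-- the lifting from the normal closure of the Sylow subgroup -/
theorem prime_of_normal [N.Normal] (hP : IsSylowIn 2 P ⊤) (hc : P ≤ cent P) (hPN : P ≤ N)
    (he : ((cent P).relIndex (nrm P)).Prime) (hM : nrm P ≤ cent P ⊔ N ⊓ nrm P) {t : N}
    (ht : t ∈ P.subgroupOf N) (h2 : t * t = 1)
    (hf : nrm (P.subgroupOf N) ⊓ centralizer {t} ≤ cent (P.subgroupOf N))
    (hv : ∀ χ ∈ irr (B0 O N), (χ : N → ℂ) t ^ 2 = 1)
    (hk : Nat.card (P.subgroupOf N) = Nat.card (P.subgroupOf N ⊓ cent (nrm (P.subgroupOf N)) :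
      Subgroup N) * ((cent P).relIndex (nrm P) + 1)) :
    blockRank 2 (irr (B0 O G)) = (cent P).relIndex (nrm P) ∧
      Nat.card (irr (B0 O G)) = Nat.card P := by
  have hd : ∀ n ∈ nrm P, ∃ c ∈ cent P, ∃ m ∈ N ⊓ nrm P, c * m = n := fun n h1 =>
    (mem_sup_of_NN' (inf_le_right.trans (nrm_le_nrm_cent P))).1 (hM h1)
  have hs : N ⊔ cent P = ⊤ := by
    rw [eq_top_iff, ← (hP.of_le hPN le_top).frattini_sup le_top (top_le_nrm N), top_inf_eq]
    exact sup_le le_sup_left (hM.trans (sup_le le_sup_right (inf_le_left.trans le_sup_left)))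
  have h1 : Nat.card (irr (B0 O G)) = Nat.card P := by
    have ht' : (t : G) ∈ P := ht
    refine card_of_sq hP hc ht' (congrArg Subtype.val h2) (fun n k => ?_) fun χ hχ => ?_
    · obtain ⟨c, k1, m, k2, rfl⟩ := hd n k.1
      exact mul_mem k1 ((free_sub hPN).1 hf ⟨k2, (mul_mem_cancel_left
        (Subgroup.mem_inf.1 (cent_le ht' k1)).2).1 (Subgroup.mem_inf.1 k).2⟩)
    · obtain ⟨θ, k1, k2⟩ := exists_res_B0 hP hPN hs hχ
      rw [k2, hv θ k1]
  have h3 : P.subgroupOf N ⊓ cent (nrm (P.subgroupOf N)) = (P ⊓ cent (nrm P)).subgroupOf N := by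
    refine Subgroup.ext fun u => ?_
    rw [mem_subgroupOf, Subgroup.mem_inf, Subgroup.mem_inf, mem_subgroupOf, nrm_sub hPN, mem_cent_sub,
      inf_eq_left.2 inf_le_left]
    refine and_congr_right fun hu => ?_
    exact ⟨fun k => le_CC_symm (K := zpowers (u : G)) (hM.trans (sup_le (cent_anti (zpowers_le.2 hu))
      (le_CC_symm (zpowers_le.2 k)))) (mem_zpowers _), fun k => cent_anti inf_le_right k⟩
  rw [h3, card_subgroupOf_of_le hPN, card_subgroupOf_of_le (inf_le_left.trans hPN)] at hk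
  have h4 := card_prime (O := O) hP hc he
  rw [h1, hk] at h4
  refine ⟨Nat.eq_of_mul_eq_mul_left (Nat.mul_pos (Nat.card_pos (α := (P ⊓ cent (nrm P) :
    Subgroup G))) he.pos) ?_, h1⟩
  linarith

omit [CharP (kk O) 2] in
theorem card_cent_le (h16 : Nat.card P = 16) (h2 : ∀ x ∈ P, x * x = 1)
    (he : (cent P).relIndex (nrm P) = 9) {n : G} (hn : n ∈ nrm P) (h : n ∉ cent P) :
    Nat.card (P ⊓ centralizer {n} : Subgroup G) ≤ 4 := by
  by_contra! h4
  have h1 := card_mul_relIndex (inf_le_left : P ⊓ centralizer {n} ≤ P)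
  rw [h16] at h1
  have h3 : (P ⊓ centralizer {n}).relIndex P ≤ 2 := by
    by_contra! k
    have : (P ⊓ centralizer {n}).relIndex P = 3 := le_antisymm (by nlinarith) k
    rw [this] at h1
    omega
  refine h (H19.mem_cent_of_coprime le_rfl hn (m := 2) (by rw [he]; norm_num)
    (mem_centralizer_iff.2 fun u hu => ?_))
  have h5 : n * u * n⁻¹ * u ∈ P ⊓ centralizer {n} := by
    rcases (show (P ⊓ centralizer {n}).relIndex P = 1 ∨ (P ⊓ centralizer {n}).relIndex P = 2 by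
      rcases Nat.eq_zero_or_pos ((P ⊓ centralizer {n}).relIndex P) with k | k
      · rw [k] at h1; omega
      · omega) with k | k
    · exact relIndex_eq_one.1 k (mul_mem (conj_mem_of_mem_NN hn hu) hu)
    · refine (mul_mem_iff_of_index_two k (a := ⟨_, conj_mem_of_mem_NN hn hu⟩) (b := ⟨u, hu⟩)).2 ?_
      simp only [mem_subgroupOf, Subgroup.mem_inf, mem_centralizer_singleton_iff, hu,
        conj_mem_of_mem_NN hn hu, true_and]
      rw [inv_mul_cancel_right, mul_assoc n u, mul_right_inj, ← mul_assoc, eq_mul_inv_iff_mul_eq]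
      exact (and_iff_right hu).symm
  have h6 := mem_centralizer_singleton_iff.1 h5.2
  have h7 := h2 u hu
  have h8 := h2 _ (conj_mem_of_mem_NN hn hu)
  have h9 := h2 _ h5.1
  calc u * n ^ 2 = (n * u * n⁻¹ * u) * (n * u * n⁻¹ * u) * u * n ^ 2 := by rw [h9, one_mul]
    _ = (n * u * n⁻¹ * u) * (n * u * n⁻¹) * (u * u) * n ^ 2 := by group
    _ = ((n * u * n⁻¹ * u) * n) * u * n := by rw [h7]; group
    _ = n * n * u * n⁻¹ * (u * u) * n := by rw [h6]; group
    _ = n ^ 2 * u := by rw [h7, sq]; group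

omit [CharP (kk O) 2] in
theorem sum_stab (P : Subgroup G) [Fintype P] [Fintype (nrm P)] :
    ∑ u : P, Nat.card (nrm P ⊓ centralizer {(u : G)} : Subgroup G) =
      ∑ n : nrm P, Nat.card (P ⊓ centralizer {(n : G)} : Subgroup G) ∧
    Nat.card (nrm P) ∣ ∑ n : nrm P, Nat.card (P ⊓ centralizer {(n : G)} : Subgroup G) := by
  classical
  have k : ∀ (A : Subgroup G) [Fintype A] (y : G), Nat.card (A ⊓ centralizer {y} : Subgroup G) =
      ∑ a : A, if (a : G) * y = y * a then 1 else 0 := fun A _ y => by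
    rw [← card_filter, ← Fintype.card_subtype, ← Nat.card_eq_fintype_card]
    exact Nat.card_congr ⟨fun u => ⟨⟨u, u.2.1⟩, mem_centralizer_singleton_iff.1 u.2.2⟩,
      fun u => ⟨u.1, u.1.2, mem_centralizer_singleton_iff.2 u.2⟩, fun _ => rfl, fun _ => rfl⟩
  refine ⟨by simp only [k]; rw [sum_comm]; simp only [eq_comm], ?_⟩
  letI := MulAction.compHom P P.normalizerMonoidHom
  have := MulAction.sum_card_fixedBy_eq_card_orbits_mul_card_group (nrm P) P
  rw [Nat.card_eq_fintype_card]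
  refine Dvd.intro_left _ (this.symm.trans (sum_congr rfl fun n _ => ?_))
  rw [← Nat.card_eq_fintype_card]
  refine Nat.card_congr ⟨fun u => ⟨u.1, u.1.2, mem_centralizer_singleton_iff.2 ?_⟩,
    fun u => ⟨⟨u, u.2.1⟩, Subtype.ext ?_⟩, fun _ => rfl, fun _ => rfl⟩
  · exact (mul_inv_eq_iff_eq_mul.1 (congrArg Subtype.val u.2)).symm
  · exact mul_inv_eq_iff_eq_mul.2 (mem_centralizer_singleton_iff.1 u.2.2).symm

theorem nine (hP : IsSylowIn 2 P ⊤) (hc : P ≤ cent P) (h16 : Nat.card P = 16)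
    (h2 : ∀ x ∈ P, x * x = 1) (he : (cent P).relIndex (nrm P) = 9)
    (h3 : ∀ u ∈ P, (cent P).relIndex (nrm P ⊓ centralizer {u}) = 3 →
      blockRank 2 (irr (B0 O (centralizer ({u} : Set G)))) = 3) :
    Nat.card (irr (B0 O G)) = blockRank 2 (irr (B0 O G)) + 7 ∧
      ∃ x ∈ P, nrm P ⊓ centralizer {x} ≤ cent P := by
  classical
  have := Fintype.ofFinite P
  have := Fintype.ofFinite (nrm P)
  obtain ⟨s, hs⟩ : ∃ s : P → ℕ, ∀ u, s u = (cent P).relIndex (nrm P ⊓ centralizer {(u : G)}) :=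
    ⟨_, fun _ => rfl⟩
  have e1 : ∀ u : P, Nat.card (nrm P ⊓ centralizer {(u : G)} : Subgroup G) =
      Nat.card (cent P) * s u := fun u => by rw [hs, card_mul_relIndex (cent_le u.2)]
  have e2 : Nat.card (nrm P) = Nat.card (cent P) * 9 := by
    rw [← he, card_mul_relIndex (cent_le_nrm P)]
  have e3 : ∀ u : P, (s u = 1 ∧ blockRank 2 (irr (B0 O (centralizer ({(u : G)} : Set G)))) = 1) ∨
      (s u = 3 ∧ blockRank 2 (irr (B0 O (centralizer ({(u : G)} : Set G)))) = 3) ∨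
      (s u = 9 ∧ blockRank 2 (irr (B0 O (centralizer ({(u : G)} : Set G)))) =
        blockRank 2 (irr (B0 O G))) := fun u => by
    have k := relIndex_mul_relIndex _ _ (nrm P) (cent_le u.2) inf_le_left
    rw [he, ← hs] at k
    have k1 : s u ≤ 9 := Nat.le_of_dvd (by norm_num) (Dvd.intro _ k)
    have k2 : s u = 1 ∨ s u = 3 ∨ s u = 9 := by
      generalize s u = a at k k1
      generalize (nrm P ⊓ centralizer {(u : G)}).relIndex (nrm P) = b at k
      interval_cases a <;> omega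
    refine k2.imp (fun k3 => ⟨k3, rank_of_free hP hc u.2 (relIndex_eq_one.1 (hs u ▸ k3))⟩)
      (Or.imp (fun k3 => ⟨k3, h3 u u.2 (hs u ▸ k3)⟩) fun k3 => ⟨k3, rank_of_fix hP hc u.2 ?_⟩)
    rw [k3] at k
    exact (relIndex_eq_one.1 (Nat.eq_of_mul_eq_mul_left (by norm_num)
      (k.trans (mul_one 9).symm))).trans inf_le_right
  have c1 := card_B0 (O := O) hP hc
  obtain ⟨c2, c3⟩ := sum_stab P
  have c4 : ∑ n : nrm P, Nat.card (P ⊓ centralizer {(n : G)} : Subgroup G) ≤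
      ∑ n : nrm P, (4 + if (n : G) ∈ cent P then 12 else 0) := sum_le_sum fun n _ => by
    split_ifs with k
    · exact (card_le_of_le inf_le_left).trans h16.le
    · exact card_cent_le h16 h2 he n.2 k
  have c5 : #{n : nrm P | (n : G) ∈ cent P} = Nat.card (cent P) := by
    rw [← Fintype.card_subtype, ← Nat.card_eq_fintype_card, ← card_subgroupOf_of_le (cent_le_nrm P)]
    rfl
  rw [sum_add_distrib, ← sum_filter, sum_const, sum_const, card_univ, ← Nat.card_eq_fintype_card, c5,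
    ← c2] at c4
  rw [← c2] at c3
  simp only [e1, e2, mul_assoc, ← mul_sum, smul_eq_mul] at c1 c3 c4
  have hpos : 0 < Nat.card (cent P) := Nat.card_pos
  have d1 := Nat.eq_of_mul_eq_mul_left hpos c1
  have d3 := Nat.dvd_of_mul_dvd_mul_left hpos c3
  have d4 : ∑ u, s u ≤ 48 := Nat.le_of_mul_le_mul_left (by linarith) hpos
  have f1 : ∑ u : P, s u = #{u | s u = 1} + 3 * #{u | s u = 3} + 9 * #{u | s u = 9} := by
    simp only [card_filter, mul_sum, ← sum_add_distrib]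
    exact sum_congr rfl fun u _ => by rcases e3 u with k | k | k <;> simp [k.1]
  have f2 : ∑ u : P, s u * blockRank 2 (irr (B0 O (centralizer ({(u : G)} : Set G)))) =
      #{u | s u = 1} + 9 * #{u | s u = 3} + 9 * blockRank 2 (irr (B0 O G)) * #{u | s u = 9} := by
    simp only [card_filter, mul_sum, ← sum_add_distrib]
    exact sum_congr rfl fun u _ => by rcases e3 u with k | k | k <;> simp [k.1, k.2]
  have f3 : 16 = #{u | s u = 1} + #{u | s u = 3} + #{u | s u = 9} := by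
    rw [← h16, Nat.card_eq_fintype_card, ← card_univ, card_eq_sum_ones]
    simp only [card_filter, ← sum_add_distrib]
    exact sum_congr rfl fun u _ => by rcases e3 u with k | k | k <;> simp [k.1]
  have f4 : 0 < #{u | s u = 9} := card_pos.2 ⟨1, by
    simp [hs, he, show centralizer ({1} : Set G) = ⊤ by simp]⟩
  rw [f2, mul_assoc] at d1
  rw [f1] at d3 d4
  have f5 : #{u | s u = 9} = 1 := by omega
  rw [f5] at d1 d3 d4 f3
  obtain ⟨u, hu⟩ := card_pos.1 (show 0 < #{u | s u = 1} by omega)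
  exact ⟨by omega, u, u.2, relIndex_eq_one.1 (hs u ▸ (mem_filter.1 hu).2)⟩

end H20.AS
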