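import Cfsg.Agent.H20.Stn
import Cfsg.Agent.H7.TA1
import Cfsg.Agent.H4.SL2Half

/-! Blocks of `SL_n(q)` in defining characteristic. -/

set_option autoImplicit false
set_option linter.unusedSectionVars false

open MonoidAlgebra Subgroup H10 Cfsg H17 Finset Matrix
open H19 (kk Blk irr)

namespace H20

theorem IsDef.le_of_nrm {k : Type*} [Field k] {G : Type*} [Group G] [Finite G] {p : ℕ}
    [Fact p.Prime] [CharP k p] {b : k[G]} {D A : Subgroup G} (hD : IsDef p ⊤ b D)
    (hb : IsBlk ⊤ b) (hA : IsPGroup p A) (h : nrm D ≤ nrm A) : A ≤ D := by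
  have h1 : A ⊓ nrm D ≤ D := by
    have h2 : IsPGroup p (A ⊓ nrm D : Subgroup G) := hA.to_inf_left
    have h3 := br_ne_zero_of_normal h2 (br_mem_fixed inf_le_right (fixed_anti le_top hb.fixed))
      (supp_mono (fun g hg => mem_nrm.2 (by
        rw [sc_inf, sc_eq_of_nrm (h (cent_le_nrm _ hg)), sc_eq_of_mem (cent_le_nrm _ hg)]))
        (br_mem_supp D b)) (br_idem hD.pg (fixed_anti le_top hb.fixed) hb.idem) hD.ne
    rw [br_br] at h3
    exact le_sup_left.trans (hD.max _ (isPGroup_sup_of_NN h2 hD.pg inf_le_right) le_top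
      le_sup_right h3).le
  by_contra h2
  have h3 := lt_inf_nrm (isPGroup_sup_of_NN' hA hD.pg ((le_nrm_self D).trans h))
    (right_lt_sup.2 h2)
  refine h3.not_ge fun g ⟨hg, hg'⟩ => ?_
  obtain ⟨a, ha, d, hd, rfl⟩ := (H24.mem_sup_of_le_normalizer ((le_nrm_self D).trans h)).1 hg
  exact mul_mem (h1 ⟨ha, (mul_mem_cancel_right (le_nrm_self D hd)).1 hg'⟩) hd

theorem mem_nrm_of_le' {G : Type*} [Group G] {K X : Subgroup G}
    (h : ∀ g ∈ K, ∀ a ∈ X, g * a * g⁻¹ ∈ X) : K ≤ nrm X := fun g hg =>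
  H24.mem_normalizer_of_conj (h g hg) (by simpa using h _ (inv_mem hg))

section SL
variable {ι : Type*} [Fintype ι] [DecidableEq ι] {F : Type*} [Field F] {p : ℕ} [hp : Fact p.Prime]
  [CharP F p]

/-- the unipotent radical of the stabiliser of a subspace -/
def uR (W : Submodule F (ι → F)) : Subgroup (SpecialLinearGroup ι F) where
  carrier := {g | (∀ v, g • v - v ∈ W) ∧ ∀ w ∈ W, g • w = w}
  mul_mem' {a b} ha hb := ⟨fun v => by
    simpa [mul_smul] using W.add_mem (ha.1 (b • v)) (hb.1 v), fun w hw => by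
      rw [mul_smul, hb.2 w hw, ha.2 w hw]⟩
  one_mem' := ⟨by simp, by simp⟩
  inv_mem' {a} ha := ⟨fun v => by simpa using W.neg_mem (ha.1 (a⁻¹ • v)), fun w hw => by
    rw [inv_smul_eq_iff, ha.2 w hw]⟩

theorem pow_smul_of_sq {g : SpecialLinearGroup ι F} {c : F}
    (h : ∀ v : ι → F, g • (g • v - c • v) = c • (g • v - c • v)) (v : ι → F) :
    g ^ p • v = c ^ p • v := by
  have h1 : ∀ n : ℕ, g ^ (n + 1) • v = c ^ (n + 1) • v + ((n + 1 : ℕ) * c ^ n) • (g • v - c • v) := by
    intro n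
    induction n with
    | zero => simp
    | succ n ih =>
      rw [pow_succ', mul_smul, ih, smul_add, smul_comm g, smul_comm g, h]
      generalize g • v = u
      push_cast
      module
  obtain ⟨n, hn⟩ := Nat.exists_eq_succ_of_ne_zero hp.out.ne_zero
  have := h1 n
  rwa [← Nat.succ_eq_add_one, ← hn, CharP.cast_eq_zero, zero_mul, zero_smul, add_zero] at this

theorem sl_ext {g h : SpecialLinearGroup ι F} (H : ∀ v : ι → F, g • v = h • v) : g = h :=
  Subtype.ext (Matrix.ext_of_mulVec_single fun i => H _)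

theorem isPGroup_uR (W : Submodule F (ι → F)) : IsPGroup p (uR W) := fun g =>
  ⟨1, Subtype.ext (sl_ext fun v => by
    simpa using pow_smul_of_sq (p := p) (g := g) (c := 1) (fun v => by
      simpa using g.2.2 _ (g.2.1 v)) v)⟩

theorem exists_uR {W : Submodule F (ι → F)} {f : Module.Dual F (ι → F)} (hf : W.map f = ⊥)
    {w : ι → F} (hw : w ∈ W) : ∃ g ∈ uR W, ∀ v, g • v = v + f v • w := by
  have h0 : ∀ w ∈ W, f w = 0 := fun w hw => (Submodule.mem_bot F).1 (hf ▸ Submodule.mem_map_of_mem hw)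
  obtain ⟨u, rfl⟩ := (dotProductEquiv F ι).surjective f
  have h1 : ∀ v, (1 + vecMulVec w u) *ᵥ v = v + dotProductEquiv F ι u v • w := fun v => by
    rw [add_mulVec, one_mulVec, vecMulVec_mulVec]; simp
  refine ⟨⟨1 + vecMulVec w u, ?_⟩, ⟨fun v => ?_, fun v hv => ?_⟩, h1⟩
  · rw [vecMulVec_eq Unit, det_one_add_replicateCol_mul_replicateRow]
    simpa using h0 w hw
  · exact (congrArg (· - v) (h1 v)).symm ▸ by simpa using W.smul_mem _ hw
  · exact (h1 v).trans (by rw [h0 v hv, zero_smul, add_zero])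

theorem central_of_cent_uR {W : Submodule F (ι → F)} (h0 : W ≠ ⊥) (h1 : W ≠ ⊤)
    {y : SpecialLinearGroup ι F} [Finite F] (hy : ¬ p ∣ orderOf y) (h : y ∈ cent (uR W)) :
    centralizer {y} = ⊤ := by
  have h2 : ∀ f : Module.Dual F (ι → F), W.map f = ⊥ → ∀ w ∈ W, ∀ v,
      f v • y • w = f (y • v) • w := fun f hf w hw v => by
    obtain ⟨g, hg, h3⟩ := exists_uR hf hw
    have h4 := congrArg (· • v) (mem_centralizer_iff.1 h g hg)
    simp only [mul_smul, h3, smul_add, add_right_inj] at h4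
    rw [h4, smul_comm y]
  obtain ⟨v0, hv0⟩ : ∃ v, v ∉ W := by
    by_contra! h; exact h1 (eq_top_iff.2 fun v _ => h v)
  obtain ⟨f, hf, hfW⟩ := W.exists_dual_map_eq_bot_of_notMem hv0 inferInstance
  have h3 : ∀ w ∈ W, y • w = (f (y • v0) / f v0) • w := fun w hw => by
    rw [div_eq_inv_mul, mul_smul, ← h2 f hfW w hw, inv_smul_smul₀ hf]
  generalize f (y • v0) / f v0 = c at h3
  obtain ⟨w, hw, hw0⟩ := W.exists_mem_ne_zero_of_ne_bot h0
  have h4 : ∀ v, y • v - c • v ∈ W := fun v => by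
    by_contra h5
    obtain ⟨f', hf', hW'⟩ := W.exists_dual_map_eq_bot_of_notMem h5 inferInstance
    have := h2 f' hW' w hw v
    rw [h3 w hw, smul_smul, (smul_left_injective F hw0).eq_iff] at this
    exact hf' (by rw [map_sub, ← this, map_smul, smul_eq_mul, mul_comm, sub_self])
  have h5 := pow_smul_of_sq (p := p) fun v => h3 _ (h4 v)
  obtain ⟨m, hm⟩ := exists_pow_eq_self_of_coprime ((Nat.Prime.coprime_iff_not_dvd hp.out).2 hy)
  refine eq_top_iff.2 fun g _ => mem_centralizer_singleton_iff.2 ?_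
  rw [← hm]
  refine (Commute.pow_right (sl_ext fun v => ?_) m).eq
  rw [mul_smul, mul_smul, h5, h5, smul_comm]

theorem sl_defect [Finite F] {O : ValuationSubring ℂ} [CharP (kk O) p]
    (β : Blk O (SpecialLinearGroup ι F)) : blockDefect p (irr β) = 0 ∨
      blockDefect p (irr β) = (Nat.card (SpecialLinearGroup ι F)).factorization p := by
  obtain ⟨y, hy⟩ := exists_isDefCl β
  obtain ⟨D, hD⟩ := exists_isSylowIn p (centralizer {y})
  have h1 := isDef_of_isDefCl hy hD
  by_cases h0 : D = ⊥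
  · exact .inl (by rw [← h1.fact_card, h0, card_bot, Nat.factorization_one]; rfl)
  let W : Submodule F (ι → F) :=
    { carrier := {v | ∀ d ∈ D, d • v = v}
      add_mem' := fun ha hb d hd => by rw [smul_add, ha d hd, hb d hd]
      zero_mem' := fun _ _ => smul_zero _
      smul_mem' := fun c v hv d hd => by rw [smul_comm, hv d hd] }
  have h2 : W ≠ ⊤ := fun h => h0 (eq_bot_iff.2 fun d hd => sl_ext fun v => by
    rw [one_smul]; exact (h ▸ Submodule.mem_top : v ∈ W) d hd)
  have h3 : W ≠ ⊥ := fun h => by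
    obtain ⟨v, hv⟩ : ∃ v, v ∉ W := by
      by_contra! h; exact h2 (eq_top_iff.2 fun v _ => h v)
    obtain ⟨w, -, hw0, hw⟩ := H25.exists_fixed_vector (V := ι → F) hD.isPGroup
      (fun v => by rw [← Nat.cast_smul_eq_nsmul F, CharP.cast_eq_zero, zero_smul]) ⊤
      (fun _ _ _ => trivial) (w := v) trivial fun h => hv (h ▸ W.zero_mem)
    exact hw0 ((Submodule.mem_bot F).1 (h ▸ fun d hd => hw ⟨d, hd⟩))
  have h4 : ∀ g ∈ nrm D, ∀ w ∈ W, g • w ∈ W := fun g hg w hw d hd => by
    have := hw _ ((mem_normalizer_iff''.1 hg d).1 hd)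
    rwa [mul_smul, mul_smul, inv_smul_eq_iff] at this
  have h5 : uR W ≤ D := h1.le_of_nrm (isBlk_eG β) (isPGroup_uR W) <| mem_nrm_of_le' fun g hg a ha =>
    ⟨fun v => by simpa [mul_smul, smul_sub] using h4 g hg _ (ha.1 (g⁻¹ • v)), fun w hw => by
      rw [mul_smul, mul_smul, ha.2 _ (h4 _ (inv_mem hg) w hw), smul_inv_smul]⟩
  rw [central_of_cent_uR h3 h2 hy.preg (le_cent_comm.1 ((h5.trans hD.le).trans
    (cent_zpowers y).ge) (mem_zpowers y))] at hD
  right
  rw [← h1.fact_card, hD.card_eq_pow, card_top, hp.out.factorization_pow, Finsupp.single_eq_same]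

theorem sl_vd {n : ℕ} (hn : 2 ≤ n) [Fintype F] : ∃! χ : IrrCharacter (SpecialLinearGroup (Fin n) F),
    vd p χ = (Nat.card (SpecialLinearGroup (Fin n) F)).factorization p := by
  have := Fintype.ofFinite (SpecialLinearGroup (Fin n) F)
  obtain ⟨n, rfl⟩ := Nat.exists_eq_add_of_le' hn
  rcases n with _ | n
  · obtain ⟨m, -, hm⟩ := FiniteField.card F p
    have h1 : p ∣ Fintype.card F := hm ▸ dvd_pow_self p m.ne_zero
    have h2 : ¬ p ∣ 1 := hp.out.not_dvd_one
    have h3 : (Nat.card (SpecialLinearGroup (Fin (0 + 2)) F)).factorization p = m := by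
      have h4 : ¬ p ∣ Fintype.card F ^ 2 - 1 := fun h => h2 ((Nat.dvd_sub_iff_right
        (Nat.one_le_pow _ _ Fintype.card_pos) (dvd_pow h1 two_ne_zero)).1 h)
      rw [H22.card_SL_two, Nat.factorization_mul Fintype.card_ne_zero fun h => h4 (by rw [h]; exact dvd_zero p),
        Finsupp.add_apply, Nat.factorization_eq_zero_of_not_dvd h4, hm, hp.out.factorization_pow,
        add_zero, Finsupp.single_eq_same]
    refine ⟨⟨_, H4.sSt_irr⟩, ?_, fun χ hχ => ?_⟩
    · change (charDegree (H4.sSt F)).factorization p = _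
      rw [h3, H19.charDegree_natCast H4.sSt_one, hm, hp.out.factorization_pow,
        Finsupp.single_eq_same]
    have h4 : p ∣ charDegree χ.1 :=
      Nat.dvd_of_factorization_pos ((hχ.trans h3).trans_ne m.ne_zero)
    obtain ⟨e, he⟩ := H4.exists_ell_sl (F := F)
    rcases H4.sl_irr_deg he χ.2 (H19.cast_deg χ).symm with h | h | h | h | h | h
    · exact absurd (h.1 ▸ h4) h2
    · exact Subtype.ext h.2
    · exact absurd ((Nat.dvd_add_right h1).1 (h.1 ▸ h4)) h2
    · exact absurd ((Nat.dvd_add_right h4).1 (h.1 ▸ h1)) h2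
    · exact absurd ((Nat.dvd_add_right h1).1 (h.1 ▸ h4.mul_left 2)) h2
    · exact absurd ((Nat.dvd_add_right (h4.mul_left 2)).1 (h.1 ▸ h1)) h2
  · have h := vd_stCh (p := p) (H7.slA n F) H7.slA_Gr H7.slA_sc.1
    exact ⟨_, h, fun χ hχ => st_unique (H7.slA n F) H7.slA_Gr H7.slA_sc.1 h hχ⟩

end SL

end H20
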