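import Cfsg.Agent.H20.AS2
import Cfsg.Agent.H20.Stn2
import Cfsg.Agent.H26.JRx
import Cfsg.Agent.H10.GD3
import Cfsg.Agent.H5.JR
import Cfsg.Agent.H5.Std
import Cfsg.Agent.H4.M2c

/-! Principal `2`-blocks with an abelian Sylow subgroup: the use of Walter's theorem. -/

set_option autoImplicit false
set_option linter.unusedSectionVars false

namespace H20.AS

open Subgroup H10 Cfsg H17 Finset
open H19 (kk Blk irr B0 Kr IsPElt lam infl inflE)
open scoped MatrixGroups

universe u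

variable {O : ValuationSubring ℂ} [CharP (kk O) 2] {G : Type u} [Group G] [Finite G]
  {P L : Subgroup G} {χ : IrrCharacter G} {x : G}

theorem sol_of_npc {X : Type*} [Group X] [Finite X] (h : HasNormalPComplement 2 X) :
    Group.IsSolvable X := by
  obtain ⟨N, _, h1, h2⟩ := H19.exists_compl h
  exact H1.isSolvable_of_normal_quotient N
    (H16.GD.sol_odd (Nat.odd_iff.2 (Nat.two_dvd_ne_zero.1 h1)))
    (haveI := h2.isNilpotent; inferInstance)

theorem not_sol {X : Type*} [Group X] (hs : IsSimpleGroup X) (hn : ¬ IsMulCommutative X) :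
    ¬ Group.IsSolvable X := fun h => hn ⟨⟨IsSimpleGroup.comm_iff_isSolvable.2 h⟩⟩

theorem psl_equiv {F : Type*} [Field F] [CharP F 2] : Nonempty (PSL(2, F) ≃* SL(2, F)) := by
  refine ⟨(QuotientGroup.quotientMulEquivOfEq (eq_bot_iff.2 fun g hg => ?_)).trans
    QuotientGroup.quotientBot⟩
  obtain ⟨r, h1, hr⟩ := Matrix.SpecialLinearGroup.mem_center_iff.1 hg
  have : r = 1 := by
    rw [Fintype.card_fin, ← one_pow 2] at h1
    exact (frobenius_inj F 2) h1
  exact Subtype.ext (by rw [← hr, this, map_one]; rfl)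

/-- the Steinberg character of `L₂(2 ^ n)` -/
theorem l2e_facts (h : H26.J.L2E G) : (∃! χ : IrrCharacter G,
    vd 2 χ = (Nat.card G).factorization 2) ∧
      Nat.card (IrrCharacter G) = 2 ^ (Nat.card G).factorization 2 + 1 := by
  obtain ⟨F, _, _, n, h1, h2, ⟨e⟩⟩ := h
  haveI : CharP F 2 := H26.charTwo_of_card h2
  obtain ⟨e'⟩ := psl_equiv (F := F)
  have φ := e.trans e'
  rw [Nat.card_congr φ.toEquiv, ← Nat.card_congr (inflE φ), card_irr,
    H4.card_conjClasses_sl_two (CharTwo.two_eq_zero (R := F))]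
  refine ⟨((inflE φ).existsUnique_congr fun χ => ?_).1 (sl_vd (p := 2) (F := F) le_rfl), ?_⟩
  · exact (congrArg (·.factorization 2 = _) (H19.charDegree_infl (φ : G →* _) φ.surjective χ)).symm.to_iff
  · have h4 : ¬ 2 ∣ (2 ^ n) ^ 2 - 1 := fun k => Nat.prime_two.not_dvd_one
      ((Nat.dvd_sub_iff_right (Nat.one_le_pow _ _ (Nat.two_pow_pos n))
        (dvd_pow (dvd_pow_self 2 (by omega)) two_ne_zero)).1 k)
    rw [H22.card_SL_two, h2, Nat.factorization_mul (by positivity) fun k => h4 (by rw [k]; exact dvd_zero 2),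
      Finsupp.add_apply, Nat.factorization_eq_zero_of_not_dvd h4, Nat.prime_two.factorization_pow,
      add_zero, Finsupp.single_eq_same]

theorem card_l2e (h : H26.J.L2E G) (hP : IsSylowIn 2 P ⊤) (h0 : P ≠ ⊥) :
    Nat.card (irr (B0 O G)) = Nat.card P := by
  obtain ⟨⟨S, h1, h2⟩, h3⟩ := l2e_facts h
  have h4 : (Nat.card G).factorization 2 ≠ 0 := fun k => h0 (by
    rw [← Subgroup.card_eq_one, hP.card_eq_pow, card_top, k, pow_zero])
  have h5 : irr (B0 O G) = {S}ᶜ := by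
    refine Set.ext fun ψ => ⟨fun k (e : ψ = S) => h4 ?_, fun k => ?_⟩
    · rw [← defect_B0 (O := O), ← H19.mem_irr.1 k, defect_eq_zero_of_vd (e ▸ h1)]
    refine blk_eq_of_defect (p := 2) (defect_B0 (O := O) (G := G) ▸ defect_le 2 _) fun g hg e => ?_
    by_cases g1 : g = 1
    · rw [g1, H19.cls_one, map_one, map_one]
    refine (k (h2 ψ (le_antisymm (vd_le 2 ψ) ((Nat.sub_eq_zero_iff_le.1 ?_).trans
      (emin_le (H19.mem_irr_lam (O := O) ψ)))))).elim
    rw [← blockDefect_eq, ← e]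
    refine Nat.factorization_eq_zero_of_not_dvd fun k1 => g1 ?_
    obtain ⟨t, k2, k3⟩ := exists_orderOf_eq_of_dvd k1
    exact (H19.isPElt_of_mem (h.pg k3) (mem_centralizer_singleton_iff.2
      (mem_centralizer_singleton_iff.1 k2).symm)).eq_one hg
  have h6 := Set.ncard_add_ncard_compl ({S} : Set (IrrCharacter G))
  rw [Set.ncard_singleton, h3, ← h5] at h6
  rw [hP.card_eq_pow, card_top, Nat.card_coe_set_eq]
  omega

theorem sa (hP : IsSylowIn 2 P ⊤) (hc : P ≤ cent P) : SA P P := ⟨hP, le_rfl, hc, fun _ _ _ h => h⟩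

theorem simple_loc (hs : IsSimpleGroup G) (hn : ¬ IsMulCommutative G) (hP : IsSylowIn 2 P ⊤)
    (hc : P ≤ cent P) : (∀ x ∈ P, x * x = 1) ∧
      ∀ a ∈ P, a ≠ 1 → ∀ b ∈ P, b ≠ 1 → ∃ n ∈ nrm P, n * a * n⁻¹ = b := by
  have := (sa hP hc).loc (L := ⊤) (topEquiv.isSimpleGroup) (fun k => hn ⟨⟨fun a b =>
    congrArg Subtype.val (k.is_comm.comm ⟨a, trivial⟩ ⟨b, trivial⟩)⟩⟩)
    (by rw [inf_top_eq]; exact H26.J.syl_ne_bot hs hn hP)
  exact ⟨fun x hx => (this.inv x ⟨hx, trivial⟩).2 hx, fun a ha a1 b hb b1 => by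
    simpa using this.tr a ⟨ha, trivial⟩ a1 b ⟨hb, trivial⟩ b1⟩

theorem gs_of_simple (hs : IsSimpleGroup G) (hn : ¬ IsMulCommutative G) (hP : IsSylowIn 2 P ⊤)
    (hc : P ≤ cent P) (hx : x ∈ P) (h : nrm P ⊓ centralizer {x} ≤ cent P) : GS O P := by
  obtain ⟨h1, h2⟩ := simple_loc hs hn hP hc
  have h3 : ¬ nrm P ≤ cent P := fun k => not_sol hs hn (H1.isSolvable_of_mulEquiv
    (sol_of_npc (H19.npc_of_nrm_le hP (inf_le_right.trans k))) topEquiv)
  have x1 : x ≠ 1 := by
    rintro rfl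
    exact h3 fun n k => h ⟨k, by simp [mem_centralizer_singleton_iff]⟩
  refine ⟨h3, h1, fun y hy y1 n k => ?_, h2, ?_⟩
  · obtain ⟨m, k1, rfl⟩ := h2 x hx x1 y hy y1
    have : m⁻¹ * n * m ∈ cent P := h ⟨mul_mem (mul_mem ((nrm P).inv_mem k1) k.1) k1,
      mem_centralizer_singleton_iff.2 (by
        calc _ = m⁻¹ * (n * (m * x * m⁻¹)) * m := by group
          _ = _ := by rw [mem_centralizer_singleton_iff.1 k.2]; group)⟩
    simpa [mul_assoc] using conj_mem_of_mem_NN (nrm_le_nrm_cent P k1) this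
  rcases H26.J.walter hs hn hP hc with k | k | ⟨p, n, ρ, τ, f, k⟩
  · exact card_l2e k.2 hP (H26.J.syl_ne_bot hs hn hP)
  · have d := (H16.GD.df_of_td (H16.GD.td_of_l2d (k.of_equiv topEquiv)) hP).klein
    rw [(H19.klein_four (max_B0 hP) d).2.1, d.card_four]
  · exact ((k.df hx x1).not_sol (H1.isSolvable_of_le (sol_of_npc (npc_of_free hP hc hx h))
      (commutator_le.2 fun a ha b hb => mul_mem (mul_mem (mul_mem ha hb) (inv_mem ha))
        (inv_mem hb)))).elim

theorem exists_factor (hP : IsSylowIn 2 P ⊤) (hc : P ≤ cent P) (hO : pPrimeCore 2 G = ⊥)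
    (hA : normalClosure (P : Set G) = ⊤) : P = ⊤ ∨ ∃ L : Subgroup G, L.Normal ∧ IsSimpleGroup L ∧
      ¬ IsMulCommutative L ∧ L ⊔ cent L = ⊤ ∧ L ⊓ cent L = ⊥ := by
  have h := sa hP hc
  have h1 := h.layer_sup hA hO
  refine or_iff_not_imp_left.2 fun h2 => ?_
  obtain ⟨L, hL⟩ : ∃ L : Subgroup G, H5.CompOf L ⊤ := by
    by_contra! k
    rw [← H5.layerOf_top, H5.layerOf_eq_bot_iff.2 k, bot_sup_eq] at h1
    exact h2 (top_le_iff.1 (h1.ge.trans h.core_le))
  have h3 : L ⊔ cent L = ⊤ := top_le_iff.1 (h1.ge.trans (sup_le (H5.layerOf_top.ge.trans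
    (H5.layerOf_le_iff.2 fun M hM => by
      by_cases e : M = L
      exacts [e.le.trans le_sup_left, (comp_comm hM hL e).trans le_sup_right]))
    ((h.core_cent hA hO).trans ((center_le_centralizer _).trans le_sup_right))))
  have h4 : L ⊓ cent L = ⊥ := eq_bot_iff.2 fun s hs => by
    haveI : IsMulCommutative (hP.toSylowTop : Subgroup G) := isMulCommutative_iff_le_CC.2 hc
    refine H5.fix_eq_one_of_abelian_sylow hP.toSylowTop (h.center_comp hA hO hL hs)
      (commutator_mono le_top le_top (hL.perfect.ge hs.1)) fun g _ => ?_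
    exact mem_centralizer_singleton_iff.1 (h3.ge.trans (sup_le (fun l hl =>
      mem_centralizer_singleton_iff.2 (mem_CC.1 hs.2 l hl)) fun l hl =>
        mem_centralizer_singleton_iff.2 (mem_CC.1 hl s hs.1).symm) (mem_top g))
  obtain ⟨h5, h6⟩ := H5.isSimpleGroup_of_qs hL.qs h4
  exact ⟨L, normal_of_top_le_NN (h3.ge.trans (sup_le le_normalizer (cent_le_nrm L))), h5, h6, h3, h4⟩

/-- all characters of the principal block have odd degree -/
theorem odd_deg (n : ℕ) : ∀ (G : Type u) [Group G] [Finite G] (P : Subgroup G) (x : G),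
    Nat.card G = n → IsSylowIn 2 P ⊤ → P ≤ cent P → x ∈ P → nrm P ⊓ centralizer {x} ≤ cent P →
      ∀ χ ∈ irr (B0 O G), Odd (charDegree (χ : G → ℂ)) := by
  induction n using Nat.strong_induction_on with | _ n ih => ?_
  intro G _ _ P x hn hP hc hx h χ hχ
  by_cases hO : pPrimeCore 2 G = ⊥
  swap
  · have hf := QuotientGroup.mk'_surjective (pPrimeCore 2 G)
    have hk : ¬ 2 ∣ Nat.card (QuotientGroup.mk' (pPrimeCore 2 G)).ker := by
      rw [QuotientGroup.ker_mk']; exact H1.not_dvd_card_pPrimeCore Nat.prime_two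
    rw [H19.irr_B0_of_coprime _ hf hk] at hχ
    obtain ⟨ψ, hψ, rfl⟩ := hχ
    rw [H19.charDegree_infl]
    refine ih _ ?_ _ (P.map _) _ rfl (hP.map_top hf) ((map_mono hc).trans
      (H5.map_centralizer_le _ P)) (mem_map_of_mem _ hx) (free_map hP.isPGroup hf hk hx h) ψ hψ
    rw [← hn, ← index_eq_card, ← (pPrimeCore 2 G).index_mul_card]
    exact lt_mul_of_one_lt_right (Nat.pos_of_ne_zero index_ne_zero_of_finite)
      ((one_lt_card_iff_ne_bot _).2 hO)
  have lt : ∀ N : Subgroup G, N ≠ ⊤ → Nat.card N < n := fun N k => by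
    rw [← hn, ← card_top (G := G)]; exact card_lt_of_lt (lt_top_iff_ne_top.2 k)
  by_cases hA : normalClosure (P : Set G) = ⊤
  swap
  · have hl : P ≤ normalClosure (P : Set G) := le_normalClosure
    obtain ⟨θ, hθ, m, h1, h2⟩ := exists_under (p := 2) (normalClosure (P : Set G)) hχ
    rw [h2]
    refine (Nat.odd_iff.2 (Nat.two_dvd_ne_zero.1 fun k => hP.not_dvd_relIndex ?_)).mul
      (ih _ (lt _ hA) _ (P.subgroupOf _) ⟨x, hl hx⟩ rfl (syl_sub hP) (ab_sub hc _) hx
        ((free_sub hl).2 ((inf_le_inf_right _ inf_le_right).trans h)) θ hθ)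
    rw [relIndex_top_right]
    exact (k.trans h1).trans (index_dvd_of_le hl)
  rcases exists_factor hP hc hO hA with h1 | ⟨L, _, h1, h2, h3, h4⟩
  · rw [H19.charDegree_natCast (n := 1) (by
      rw [χ.2.one_eq_one_of_comm fun a b => mem_CC.1 (hc (h1.ge (mem_top b))) a (h1.ge (mem_top a)),
        Nat.cast_one])]
    exact odd_one
  obtain ⟨α, hα, β, hβ, e⟩ := exists_prod (p := 2) le_rfl h3 hχ
  obtain ⟨l, hl, k, hk, rfl⟩ := dec hP le_rfl h3 hx
  have e1 := e 1 1
  rw [OneMemClass.coe_one, OneMemClass.coe_one, mul_one, ← H19.cast_deg, ← H19.cast_deg,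
    ← H19.cast_deg, ← Nat.cast_mul, Nat.cast_inj] at e1
  rw [e1]
  refine ((gs_of_simple h1 h2 (syl_sub hP) (ab_sub hc L) (x := ⟨l, hl.2⟩) hl.1
    (free_fac hP le_rfl h3 hl.2 hk.2 h)).odd (syl_sub hP) (ab_sub hc L) hα).mul
    (ih _ (lt _ fun k1 => h2 (isMulCommutative_iff_le_CC.2 (le_top.trans k1.ge))) _
      (P.subgroupOf _) ⟨k, hk.2⟩ rfl (syl_sub hP) (ab_sub hc _) hk.1 (free_fac hP (le_CC_symm le_rfl)
        (sup_comm L _ ▸ h3) hk.2 hl.2 (by rwa [← mem_CC.1 hk.2 l hl.2])) β hβ)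

theorem prime_core (hP : IsSylowIn 2 P ⊤) (hc : P ≤ cent P) (hO : pPrimeCore 2 G = ⊥)
    (he : ((cent P).relIndex (nrm P)).Prime) :
    blockRank 2 (irr (B0 O G)) = (cent P).relIndex (nrm P) ∧
      (¬ Group.IsSolvable G → Nat.card (irr (B0 O G)) = Nat.card P) := by
  have hl : P ≤ normalClosure (P : Set G) := le_normalClosure
  rcases exists_factor (syl_sub hP) (ab_sub hc _) (core_sub _ hO) (sa hP hc).ncl_sub with
    h1 | ⟨L, _, h1, h2, h3, h4⟩
  · haveI : P.Normal := (le_antisymm hl (subgroupOf_eq_top.1 h1)).symm ▸ normalClosure_normal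
    have h2 : cent P ≤ P := hP.le_of_NN (pg_of_npc hO (H19.npc_of_nrm_le (hP.of_le hc le_top)
      inf_le_left)) le_top (le_NN_of_normal _ _)
    rw [le_antisymm h2 hc, top_le_iff.1 (top_le_nrm P), relIndex_top_right] at he ⊢
    refine ⟨rank_of_normal hP.isPGroup h2 he (relIndex_top_right P ▸ hP.not_dvd_relIndex),
      fun k => (k (H1.isSolvable_of_normal_quotient P (haveI := hP.isPGroup.isNilpotent; inferInstance)
        ?_)).elim⟩
    haveI := Fact.mk he
    haveI := isCyclic_of_prime_card (α := G ⧸ P) (p := P.index) rfl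
    exact H1.isSolvable_of_comm' inferInstance
  have hM : nrm P ≤ cent P ⊔ normalClosure (P : Set G) ⊓ nrm P :=
    (eq_or_eq he le_sup_left (sup_le (cent_le_nrm P) inf_le_right)).resolve_left fun k =>
      not_sol h1 h2 (sol_of_npc (H3.hasNormalPComplement_subgroup L
        (H19.npc_of_nrm_le (hP.of_le hl le_top) (le_sup_right.trans k))))
  have h5 : (cent (P.subgroupOf (normalClosure (P : Set G)))).relIndex
      (nrm (P.subgroupOf (normalClosure (P : Set G)))) = (cent P).relIndex (nrm P) := by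
    rw [relIndex_sub hl, ← relIndex_sup_of_NN (inf_le_right.trans (nrm_le_nrm_cent P)), sup_comm,
      le_antisymm (sup_le (cent_le_nrm P) inf_le_right) hM]
  obtain ⟨x, hx, h6⟩ := exists_free (h5 ▸ he)
  obtain ⟨l, hl', k, hk, rfl⟩ := dec (syl_sub hP) le_rfl h3 hx
  obtain ⟨t, k1, k2, k3, k4, k5⟩ := GS.factor (O := O) (syl_sub hP) (ab_sub hc _) (core_sub _ hO) h3 h4
    (h5 ▸ he) (gs_of_simple h1 h2 (syl_sub (syl_sub hP)) (ab_sub (ab_sub hc _) L) (x := ⟨l, hl'.2⟩)
      hl'.1 (free_fac (syl_sub hP) le_rfl h3 hl'.2 hk.2 h6))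
  have := prime_of_normal hP hc hl he hM k1 k2 k3 k4 (h5 ▸ k5)
  exact ⟨this.1, fun _ => this.2⟩

theorem prime_main (hP : IsSylowIn 2 P ⊤) (hc : P ≤ cent P)
    (he : ((cent P).relIndex (nrm P)).Prime) :
    blockRank 2 (irr (B0 O G)) = (cent P).relIndex (nrm P) ∧
      (¬ Group.IsSolvable G → Nat.card (irr (B0 O G)) = Nat.card P) := by
  have hf := QuotientGroup.mk'_surjective (pPrimeCore 2 G)
  have h1 := H1.not_dvd_card_pPrimeCore (G := G) Nat.prime_two
  have hk : ¬ 2 ∣ Nat.card (QuotientGroup.mk' (pPrimeCore 2 G)).ker := by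
    rwa [QuotientGroup.ker_mk']
  have h2 := relIndex_map hP.isPGroup hf hk
  have := prime_core (O := O) (hP.map_top hf) ((map_mono hc).trans (H5.map_centralizer_le _ P))
    (H1.pPrimeCore_quotient_pPrimeCore 2) (h2 ▸ he)
  rw [h2, ← rank_quot hf hk, ← card_quot hf hk, card_map hP.isPGroup hk] at this
  exact ⟨this.1, fun k => this.2 fun k1 => k (H1.isSolvable_of_normal_quotient _
    (H16.GD.sol_odd (Nat.odd_iff.2 (Nat.two_dvd_ne_zero.1 h1))) k1)⟩

end H20.AS
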