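import Cfsg.Agent.H20.Wed2
import Cfsg.Agent.H19.BrChar
import Cfsg.Agent.H25.Prim

/-! Generalities on modular representations: fixed vectors, simple modules, their number. -/

set_option autoImplicit false
set_option linter.unusedSectionVars false

namespace H20.CR

open MonoidAlgebra Subgroup Cfsg Finset H17
open H19 (kk)

section Gen
variable {k M G : Type*} [Field k] [AddCommGroup M] [Module k M] [Group G]

theorem rmul (ρ : Representation k G M) (a b : G) (m : M) : ρ (a * b) m = ρ a (ρ b m) := by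
  rw [map_mul]; rfl

theorem exists_fix (p : ℕ) [Fact p.Prime] [CharP k p] (ρ : Representation k G M) {U : Subgroup G}
    [Finite U] (hU : IsPGroup p U) {w : M} (hw : w ≠ 0) : ∃ v, v ≠ 0 ∧ ∀ u ∈ U, ρ u v = v := by
  letI : DistribMulAction U M :=
    { smul := fun u m => ρ u m
      one_smul := fun m => show ρ ((1 : U) : G) m = m by simp
      mul_smul := fun a b m => rmul ρ a b m
      smul_zero := fun a => map_zero _
      smul_add := fun a x y => map_add _ _ _ }
  obtain ⟨v, -, h0, hv⟩ := H25.exists_fixed_vector (V := M) hU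
    (fun v => by rw [← Nat.cast_smul_eq_nsmul k, CharP.cast_eq_zero, zero_smul]) ⊤
    (fun _ _ _ => trivial) (w := w) trivial hw
  exact ⟨v, h0, fun u hu => hv ⟨u, hu⟩⟩

theorem exists_eig [IsAlgClosed k] [FiniteDimensional k M] {A : Type*} [CommGroup A]
    (τ : Representation k A M) {K : Submodule k M} (hK : ∀ a, ∀ m ∈ K, τ a m ∈ K) (h0 : K ≠ ⊥) :
    ∃ m ∈ K, m ≠ 0 ∧ ∃ χ : A →* kˣ, ∀ a, τ a m = (χ a : k) • m := by
  induction h : Module.finrank k K using Nat.strong_induction_on generalizing K with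
  | _ n ih =>
  by_cases h1 : ∀ a, ∃ c : k, ∀ m ∈ K, τ a m = c • m
  · choose c hc using h1
    obtain ⟨m, hm, hm0⟩ := K.ne_bot_iff.1 h0
    have h2 : ∀ a b, c (a * b) = c a * c b := fun a b => by
      have := hc (a * b) m hm
      rw [rmul, hc b m hm, map_smul, hc a m hm, smul_smul] at this
      rw [← smul_left_injective k hm0 this, mul_comm]
    have h3 : c 1 = 1 := by
      have := hc 1 m hm
      rw [map_one, Module.End.one_apply] at this
      exact smul_left_injective k hm0 (this.symm.trans (one_smul k m).symm)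
    exact ⟨m, hm, hm0, MonoidHom.toHomUnits ⟨⟨c, h3⟩, h2⟩, fun a => hc a m hm⟩
  push Not at h1
  obtain ⟨a, ha⟩ := h1
  have : Nontrivial K := Submodule.nontrivial_iff_ne_bot.2 h0
  obtain ⟨c, hc⟩ := Module.End.exists_eigenvalue ((τ a).restrict (hK a))
  obtain ⟨v, hv⟩ := hc.exists_hasEigenvector
  have h2 : τ a v = c • v := congrArg Subtype.val hv.apply_eq_smul
  obtain ⟨m, hm, h3⟩ := ha c
  obtain ⟨m, hm, h4⟩ := ih _ (h ▸ Submodule.finrank_lt_finrank_of_lt
    (s := K ⊓ Module.End.eigenspace (τ a) c) (t := K) (lt_of_le_of_ne inf_le_left fun h =>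
      h3 (Module.End.mem_eigenspace_iff.1 (h.ge hm).2))) (K := K ⊓ Module.End.eigenspace (τ a) c)
    (fun b x hx => ⟨hK b x hx.1, Module.End.mem_eigenspace_iff.2 (by
          rw [← rmul, mul_comm, rmul, Module.End.mem_eigenspace_iff.1 hx.2, map_smul])⟩)
    (Submodule.ne_bot_iff _ |>.2 ⟨v, ⟨v.2, Module.End.mem_eigenspace_iff.2 h2⟩,
      fun h => hv.2 (Subtype.ext h)⟩) rfl
  exact ⟨m, hm.1, h4⟩

variable (k) in
/-- functions on the cosets -/
def ry (U : Subgroup G) : Representation k G ((G ⧸ U) → k) where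
  toFun g := LinearMap.funLeft k k fun q => g⁻¹ • q
  map_one' := by ext; simp
  map_mul' a b := by ext; simp [mul_smul]

theorem ry_apply (U : Subgroup G) (g : G) (f : (G ⧸ U) → k) (q : G ⧸ U) :
    ry k U g f q = f (g⁻¹ • q) := rfl

theorem ry_mk (U : Subgroup G) (g : G) (f : (G ⧸ U) → k) (x : G) :
    ry k U g f (x : G ⧸ U) = f ((g⁻¹ * x : G) : G ⧸ U) := rfl

theorem exists_hom [Finite G] (ρ : Representation k G M) {U : Subgroup G} {m : M}
    (hm : ∀ u ∈ U, ρ u m = m) : ∃ φ : ((G ⧸ U) → k) →ₗ[k] M, (∀ g f, φ (ry k U g f) = ρ g (φ f)) ∧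
      ∀ f, f ((1 : G) : G ⧸ U) = 1 → (∀ x : G, x ∉ U → f x = 0) → φ f = m := by
  have := Fintype.ofFinite (G ⧸ U)
  have h1 : ∀ x : G, ρ (x : G ⧸ U).out m = ρ x m := fun x => by
    obtain ⟨u, hu⟩ := QuotientGroup.mk_out_eq_mul U x
    rw [hu, rmul, hm _ u.2]
  refine ⟨Fintype.linearCombination k fun q => ρ q.out m, fun g f => ?_, fun f h2 h3 => ?_⟩
  · simp only [Fintype.linearCombination_apply, ry_apply, map_sum, map_smul]
    refine (Fintype.sum_equiv (MulAction.toPerm g) _ _ fun q => ?_).symm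
    obtain ⟨x, rfl⟩ := QuotientGroup.mk_surjective q
    rw [MulAction.toPerm_apply, inv_smul_smul, MulAction.Quotient.smul_mk, h1, h1, smul_eq_mul, rmul]
  · rw [Fintype.linearCombination_apply, Fintype.sum_eq_single ((1 : G) : G ⧸ U), h2, h1]
    · simp
    · intro q hq
      obtain ⟨x, rfl⟩ := QuotientGroup.mk_surjective q
      rw [h3 x fun h => hq (QuotientGroup.eq.2 (by simpa using h)), zero_smul]

/-- the simple modules -/
noncomputable def rq (W : Wed k k[G]) (i : Fin W.n) : Representation k G (Fin (W.d i + 1) → k) :=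
  (Matrix.toLinAlgEquiv' (R := k)).toMonoidHom.comp ((Pi.evalMonoidHom _ i).comp
    (W.π.toMonoidHom.comp (MonoidAlgebra.of k G)))

variable (W : Wed k k[G])

theorem rq_alg (i : Fin W.n) (a : k[G]) (m : Fin (W.d i + 1) → k) :
    (rq W i).asAlgebraHom a m = (W.π a i).mulVec m := by
  induction a using MonoidAlgebra.induction_on with
  | of g => rw [Representation.asAlgebraHom_of]; rfl
  | add b c hb hc => simp [hb, hc, Matrix.add_mulVec]
  | smul r b hb => simp [hb, Matrix.smul_mulVec]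

theorem alg_mem (ρ : Representation k G M) {K : Submodule k M} {m : M} (h : ∀ g, ρ g m ∈ K)
    (a : k[G]) : ρ.asAlgebraHom a m ∈ K := by
  induction a using MonoidAlgebra.induction_on with
  | of g => rw [Representation.asAlgebraHom_of]; exact h g
  | add b c hb hc => rw [map_add]; exact K.add_mem hb hc
  | smul r b hb => rw [map_smul]; exact K.smul_mem r hb

theorem exists_mat {n : Type*} [Fintype n] {m : n → k} (hm : m ≠ 0) (y : n → k) :
    ∃ A : Matrix n n k, A.mulVec m = y := by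
  classical
  obtain ⟨j, hj⟩ := Function.ne_iff.1 hm
  refine ⟨Matrix.vecMulVec y (Pi.single j (m j)⁻¹), ?_⟩
  rw [Matrix.vecMulVec_mulVec, single_dotProduct, inv_mul_cancel₀ hj]; simp

/-- a nonzero vector of a module has a nonzero image in a simple module -/
theorem exists_simple (ρ : Representation k G M) {v : M} (hv : v ≠ 0) :
    ∃ i m, m ≠ 0 ∧ ∀ a, ρ.asAlgebraHom a v = 0 → (rq W i).asAlgebraHom a m = 0 := by
  let I : Ideal k[G] :=
    { carrier := {a | ρ.asAlgebraHom a v = 0}
      add_mem' := fun ha hb => by simp_all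
      zero_mem' := by simp
      smul_mem' := fun c a ha => by
        change ρ.asAlgebraHom (c * a) v = 0
        rw [map_mul, Module.End.mul_apply, ha, map_zero] }
  obtain ⟨e, he, h1⟩ := IsSemisimpleRing.ideal_eq_span_idempotent (I.map W.π)
  have h2 : 1 - e ≠ 0 := fun h => by
    obtain ⟨a, ha, h3⟩ := (Ideal.mem_map_iff_of_surjective W.π W.surj).1
      (h1.ge (Ideal.mem_span_singleton_self e))
    obtain ⟨u, rfl⟩ := W.isUnit_of (h3.trans (sub_eq_zero.1 h).symm)
    have h4 := I.smul_mem (↑u⁻¹) ha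
    rw [smul_eq_mul, Units.inv_mul] at h4
    exact hv (by simpa [I] using h4)
  obtain ⟨i, hi⟩ := Function.ne_iff.1 h2
  obtain ⟨y, hy⟩ : ∃ y, ((1 - e) i).mulVec y ≠ 0 := by
    by_contra! h
    exact hi (Matrix.toLin'.injective (LinearMap.ext fun y => by
      rw [Matrix.toLin'_apply, h]; simp))
  refine ⟨i, _, hy, fun a ha => ?_⟩
  obtain ⟨b, hb⟩ := Ideal.mem_span_singleton'.1 (h1.le (Ideal.mem_map_of_mem W.π (show a ∈ I from ha)))
  rw [rq_alg, Matrix.mulVec_mulVec, ← Pi.mul_apply, ← hb, mul_assoc, he.mul_one_sub_self, mul_zero]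
  simp

end Gen

/-- The number of simple modules is the number of `p`-regular classes. -/
theorem card_reg {G : Type*} [Group G] [Finite G] {p : ℕ} [Fact p.Prime] {O : ValuationSubring ℂ}
    [CharP (kk O) p] (W : Wed (kk O) (kk O)[G]) :
    Nat.card {c : ConjClasses G // ∃ g, ConjClasses.mk g = c ∧ ¬ p ∣ orderOf g} = W.n := by
  classical
  have := Fintype.ofFinite G
  have := Fintype.ofFinite {c : ConjClasses G // ∃ g, ConjClasses.mk g = c ∧ ¬ p ∣ orderOf g}
  choose r hr hr' using fun c : {c : ConjClasses G // ∃ g, ConjClasses.mk g = c ∧ ¬ p ∣ orderOf g} =>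
    c.2
  have h1 : ∀ θ : G → ℂ, IsClassFunction G θ → ∀ y (hy : ¬ p ∣ orderOf y),
      θ (r ⟨_, y, rfl, hy⟩) = θ y := fun θ hθ y hy => by
    obtain ⟨c, hc⟩ := isConj_iff.1 (ConjClasses.mk_eq_mk_iff_isConj.1 (hr ⟨_, y, rfl, hy⟩))
    conv_rhs => rw [← hc, hθ]
  have h2 : LinearIndependent ℂ fun i c => W.bc p i (r c) := by
    refine Fintype.linearIndependent_iff.2 fun x hx => W.bc_indep fun y hy => ?_
    simpa [h1 _ (W.bc_class _) y hy] using congrFun hx ⟨_, y, rfl, hy⟩
  have h3 : ⊤ ≤ Submodule.span ℂ (Set.range fun i c => W.bc p i (r c)) := by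
    intro f _
    have h4 : IsClassFunction G fun g => if h : ∃ y, ConjClasses.mk y = ConjClasses.mk g ∧
        ¬ p ∣ orderOf y then f ⟨_, h⟩ else 0 := fun g h => by
      have : ConjClasses.mk (h * g * h⁻¹) = ConjClasses.mk g :=
        ConjClasses.mk_eq_mk_iff_isConj.2 (isConj_iff.2 ⟨h, rfl⟩).symm
      simp only [this]
    refine (Submodule.mem_span_range_iff_exists_fun ℂ).2 ⟨fun i => ∑ χ : IrrCharacter G,
      classInner (fun g => if h : ∃ y, ConjClasses.mk y = ConjClasses.mk g ∧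
        ¬ p ∣ orderOf y then f ⟨_, h⟩ else 0) (χ : G → ℂ) * W.dn p (χ : G → ℂ) i, funext fun c => ?_⟩
    have h5 := h4.apply_eq_sum (r c)
    rw [dif_pos ⟨_, rfl, hr' c⟩] at h5
    simp only [hr] at h5
    rw [h5, Finset.sum_apply]
    simp only [Pi.smul_apply, smul_eq_mul, sum_mul]
    rw [sum_comm]
    refine sum_congr rfl fun χ _ => ?_
    rw [W.dec_reg χ.2.isCharacter (hr' c), mul_sum]
    exact sum_congr rfl fun i _ => by ring
  have h6 := Module.finrank_eq_card_basis (Module.Basis.mk h2 h3)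
  rw [Module.finrank_fintype_fun_eq_card, Fintype.card_fin] at h6
  rw [Nat.card_eq_fintype_card, h6]

end H20.CR
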