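import Cfsg.Agent.H20.CR1
import Cfsg.Agent.H24.Misc

/-! Weight vectors in modules for Chevalley groups in the defining characteristic. -/

set_option autoImplicit false
set_option linter.unusedSectionVars false

namespace H20.CR

open Subgroup Finset H24 H24.St0

variable {ι Φ : Type} [Fintype ι] [DecidableEq ι] [Fintype Φ] [DecidableEq Φ] {R : CD ι Φ}
  {F : Type*} [Field F] [Fintype F] {G : Type*} [Group G] (S : St R F G)
  {k M : Type*} [Field k] [AddCommGroup M] [Module k M] {n : G} {w : Equiv.Perm Φ} {i : ι}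

theorem conj_U (h : S.Rep n w) (hp : R.Pos (w⁻¹ (R.sim i))) (a : F) :
    n⁻¹ * S.x (R.sim i) a * n ∈ S.U := by
  obtain ⟨c, -, hc⟩ := h.inv.exists_conj (R.sim i)
  have := hc a
  rw [inv_inv] at this
  exact this ▸ S.x_mem_U hp _

theorem exists_split (i : ι) {u : G} (hu : u ∈ S.U) : ∃ c, ∀ a, ∃ v ∈ S.U,
    u * (S.x (R.sim i) a * S.n (R.sim i) 1) = S.x (R.sim i) (c + a) * S.n (R.sim i) 1 * v := by
  obtain ⟨a, ha, b, hb, rfl⟩ := S.exists_mul_of_part (f := RS.htv) R.closed_pos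
    (fun r hr => R.ht_pos hr) (· = R.sim i) hu
  obtain ⟨c, rfl⟩ := S.mem_XS_singleton.1 (S.XS_mono (fun r hr => hr.2) ha)
  have h5 : b ∈ S.UJ {i} := by rwa [UJ, RS.pos_not_InJ_singleton]
  refine ⟨c, fun a => ⟨_, S.UJ_le_U {i} ((mem_normalizer_iff''.1 (S.PJ_le_normalizer {i}
    (mul_mem (S.B_le_PJ _ (S.x_mem_B (R.pos_sim i) a)) (S.n_mem_PJ rfl))) b).1 h5), ?_⟩⟩
  rw [S.x_add]; group

theorem exists_bruhat (hG : S.Gr = ⊤) (g : G) : ∃ u ∈ S.U, ∃ n ∈ S.N, ∃ v ∈ S.U, g = u * n * v := by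
  obtain ⟨w, -, b, hb, n, hn, -, b', hb', rfl⟩ := S.mem_Gr_iff.1 (hG.ge (mem_top g))
  rw [S.BK_univ] at hb hb'
  obtain ⟨u, hu, h, hh, rfl⟩ := S.mem_B_iff.1 hb
  obtain ⟨h', hh', v, hv, rfl⟩ := S.mem_B_iff'.1 hb'
  exact ⟨u, hu, h * n * h', mul_mem (mul_mem (S.H_le_N hh) hn) (S.H_le_N hh'), v, hv, by group⟩

theorem bruhat_unique {n' u v : G} (hn : n ∈ S.N) (hn' : n' ∈ S.N) (hu : u ∈ S.U) (hv : v ∈ S.U)
    (e : n' = u * n * v) : n' = n := by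
  obtain ⟨w, -, hw⟩ := S.exists_rep hn
  obtain ⟨w', -, hw'⟩ := S.exists_rep hn'
  obtain rfl : w' = w := S.cell_unique (mem_cell_of_rep _ hn' hw')
    (e ▸ S.canon_mem_cell hn hw (S.U_le_B hu) (S.U_le_B hv))
  obtain ⟨a, ha, b, hb, rfl⟩ := S.exists_mul_of_part (f := RS.htv) R.closed_pos
    (fun r hr => R.ht_pos hr) (fun r => R.Pos (w' r)) hv
  have h1 : n * a * n⁻¹ ∈ S.U := hw.conj_mem (T' := {r | R.Pos r}) (fun r hr => hr.2) a ha
  have h2 : n' * n⁻¹ ∈ S.H := by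
    simpa using S.mem_H_of_rep (inv_mem hn') (inv_mem hn) hw'.inv hw.inv
  have h3 := (S.canon_unique hw (S.H_le_B h2) (S.U_le_B (mul_mem hu h1)) (one_mem _) hb
    (by rw [e]; group)).1
  exact mul_inv_eq_one.1 (S.eq_one_of_mem_U_H (h3 ▸ mul_mem hu h1) h2)

theorem n_inv_conj (r : Φ) (a : F) : (S.n r 1)⁻¹ * S.x r a * S.n r 1 =
    S.x r (-a⁻¹) * S.h r a⁻¹ * S.n r 1 * S.x r (-a⁻¹) := by
  have := S.n_conj_neg r one_ne_zero (-a)
  rw [one_pow, neg_mul_neg, one_mul, S.x_neg_eq, inv_neg, neg_neg, S.n_eq r a⁻¹] at this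
  conv_lhs => rw [← this]
  group

theorem h_zero (r : Φ) : S.h r 0 = (S.n r 1)⁻¹ := by
  rw [S.h_eq, St0.n]; simp [S.x_zero]

theorem sum_units {A : Type*} [AddCommMonoid A] [Fintype Fˣ] (g : F → A) :
    ∑ t, g t = g 0 + ∑ t : Fˣ, g t := by
  classical
  rw [Fintype.sum_eq_add_sum_subtype_ne g 0]
  exact congrArg _ (Fintype.sum_equiv unitsEquivNeZero _ _ fun _ => rfl).symm

/-- the operator attached to a simple root -/
noncomputable def Ti (ρ : Representation k G M) (i : ι) : Module.End k M :=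
  ∑ a : F, ρ (S.x (R.sim i) a * S.n (R.sim i) 1)

theorem Ti_apply (ρ : Representation k G M) (i : ι) (m : M) :
    Ti S ρ i m = ∑ a : F, ρ (S.x (R.sim i) a * S.n (R.sim i) 1) m := LinearMap.sum_apply _ _ _

theorem Ti_fix {ρ : Representation k G M} {m : M} (hm : ∀ u ∈ S.U, ρ u m = m) (i : ι) :
    ∀ u ∈ S.U, ρ u (Ti S ρ i m) = Ti S ρ i m := fun u hu => by
  obtain ⟨c, hc⟩ := exists_split S i hu
  rw [Ti_apply, map_sum]
  refine Fintype.sum_equiv (Equiv.addLeft c) _ _ fun a => ?_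
  obtain ⟨v, hv, e⟩ := hc a
  rw [← rmul, e, rmul, hm v hv]; rfl

theorem conj_fix {ρ : Representation k G M} {m : M} (hm : ∀ u ∈ S.U, ρ u m = m) {h : G}
    (hh : h ∈ S.H) : ∀ u ∈ S.U, ρ u (ρ h m) = ρ h m := fun u hu => by
  rw [← rmul, show u * h = h * (h⁻¹ * u * h) by group, rmul,
    hm _ ((mem_normalizer_iff''.1 (S.H_le_normalizer _ hh) u).1 hu)]

section Y
variable {f f' : (G ⧸ S.U) → k}

theorem mk_mul {v : G} (hv : v ∈ S.U) (g : G) : ((g * v : G) : G ⧸ S.U) = g :=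
  QuotientGroup.mk_mul_of_mem g hv

theorem fix_mul (hf : ∀ u ∈ S.U, ry k S.U u f = f) {u : G} (hu : u ∈ S.U) (g : G) :
    f (u * g : G) = f g := by
  conv_rhs => rw [← hf _ (inv_mem hu), ry_mk, inv_inv]

theorem ext_N (hG : S.Gr = ⊤) (hf : ∀ u ∈ S.U, ry k S.U u f = f)
    (hf' : ∀ u ∈ S.U, ry k S.U u f' = f') (h : ∀ n ∈ S.N, f n = f' n) : f = f' := by
  funext q
  obtain ⟨g, rfl⟩ := QuotientGroup.mk_surjective q
  obtain ⟨u, hu, n, hn, v, hv, rfl⟩ := exists_bruhat S hG g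
  rw [mk_mul S hv, fix_mul S hf hu, fix_mul S hf' hu, h n hn]

theorem Ti_pos (p : ℕ) [Fact p.Prime] [CharP F p] [CharP k p] (h : S.Rep n w)
    (hp : R.Pos (w⁻¹ (R.sim i))) : Ti S (ry k S.U) i f n = 0 := by
  rw [Ti_apply, Finset.sum_apply, sum_congr rfl (g := fun _ => f ((S.n (R.sim i) 1)⁻¹ * n : G))]
  · obtain ⟨e, -, he⟩ := FiniteField.card F p
    rw [sum_const, card_univ, he, nsmul_eq_mul, Nat.cast_pow, CharP.cast_eq_zero,
      zero_pow e.ne_zero, zero_mul]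
  · intro a _
    rw [ry_mk, ← mk_mul S (conj_U S h hp a)]
    congr 2; group

theorem pos_s_mul (h : w ∈ R.Aut) : R.Pos ((R.s i * w)⁻¹ (R.sim i)) ↔ ¬ R.Pos (w⁻¹ (R.sim i)) := by
  rw [R.inv_s_mul_sim w h, R.pos_neg_iff]

theorem rep_inv_mul (h : S.Rep n w) (i : ι) : S.Rep ((S.n (R.sim i) 1)⁻¹ * n) (R.s i * w) :=
  (R.s_inv i ▸ (S.n_rep_s i one_ne_zero).inv).mul h

theorem rep_H_mul (h : S.Rep n w) {g : G} (hg : g ∈ S.H) : S.Rep (g * n) w := by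
  simpa using (S.rep_of_mem_H hg).mul h

theorem Ti_neg [Fintype Fˣ] (hf : ∀ u ∈ S.U, ry k S.U u f = f) (h : S.Rep n w)
    (hp : ¬ R.Pos (w⁻¹ (R.sim i))) : Ti S (ry k S.U) i f n =
      f ((S.n (R.sim i) 1)⁻¹ * n : G) + ∑ t : Fˣ, f (S.h (R.sim i) t * n : G) := by
  rw [Ti_apply, Finset.sum_apply, ← h_zero, ← sum_units fun t => f (S.h (R.sim i) t * n : G)]
  refine Fintype.sum_equiv ((Equiv.neg F).trans (Equiv.inv F)) _ _ fun a => ?_
  have h1 := conj_U S (rep_inv_mul S h i) ((pos_s_mul h.1).2 hp) (-(-a)⁻¹)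
  rw [ry_mk]
  refine (congrArg f (congrArg _ ?_)).trans ((congrArg f (mk_mul S h1 _)).trans
    (fix_mul S hf (S.x_mem_U (R.pos_sim i) (-(-a)⁻¹)) _))
  rw [mul_inv_rev, ← S.x_neg, eq_mul_inv_of_mul_eq (n_inv_conj S _ (-a))]
  simp only [Equiv.trans_apply, Equiv.neg_apply, Equiv.inv_apply]
  group

variable (k) in
/-- invariant functions supported on one cell -/
def Yw (w : Equiv.Perm Φ) : Submodule k ((G ⧸ S.U) → k) where
  carrier := {f | (∀ u ∈ S.U, ry k S.U u f = f) ∧ ∀ n ∈ S.N, ¬ S.Rep n w → f n = 0}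
  add_mem' ha hb := ⟨fun u hu => by rw [map_add, ha.1 u hu, hb.1 u hu],
    fun n hn h => by rw [Pi.add_apply, ha.2 n hn h, hb.2 n hn h, add_zero]⟩
  zero_mem' := ⟨fun u _ => map_zero _, fun _ _ _ => rfl⟩
  smul_mem' c a ha := ⟨fun u hu => by rw [map_smul, ha.1 u hu],
    fun n hn h => by rw [Pi.smul_apply, ha.2 n hn h, smul_zero]⟩

theorem Yw_val (hf : f ∈ Yw S k w) {w' : Equiv.Perm Φ} (hn : n ∈ S.N) (h : S.Rep n w')
    (hw : w' ≠ w) : f n = 0 := hf.2 n hn fun h' => hw (S.rep_unique h h')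

theorem H_mem_Yw (hf : f ∈ Yw S k w) {g : G} (hg : g ∈ S.H) : ry k S.U g f ∈ Yw S k w :=
  ⟨conj_fix S hf.1 hg, fun n hn h => hf.2 _ (mul_mem (inv_mem (S.H_le_N hg)) hn) fun h' =>
    h (by simpa using rep_H_mul S h' hg)⟩

theorem Ti_mem_Yw (p : ℕ) [Fact p.Prime] [CharP F p] [CharP k p] (hf : f ∈ Yw S k w)
    (hp : R.Pos (w⁻¹ (R.sim i))) : Ti S (ry k S.U) i f ∈ Yw S k (R.s i * w) := by
  classical
  refine ⟨Ti_fix S hf.1 i, fun n hn h => ?_⟩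
  obtain ⟨w', -, h'⟩ := S.exists_rep hn
  by_cases h1 : R.Pos (w'⁻¹ (R.sim i))
  · exact Ti_pos S p h' h1
  rw [Ti_neg S hf.1 h' h1, Yw_val S hf (mul_mem (inv_mem (S.n_mem one_ne_zero)) hn)
    (rep_inv_mul S h' i), sum_eq_zero, add_zero]
  · exact fun t _ => Yw_val S hf (mul_mem (S.H_le_N (S.h_mem t.ne_zero)) hn)
      (rep_H_mul S h' (S.h_mem t.ne_zero)) fun e => h1 (e ▸ hp)
  · rintro rfl
    exact h (by rwa [← mul_assoc, R.s_mul_s, one_mul])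

theorem Ti_eq_Yw (p : ℕ) [Fact p.Prime] [CharP F p] [CharP k p] [Fintype Fˣ] (hG : S.Gr = ⊤)
    (h3 : S.R3) (hf : f ∈ Yw S k w) (hp : ¬ R.Pos (w⁻¹ (R.sim i))) :
    Ti S (ry k S.U) i f = ∑ t : Fˣ, ry k S.U (S.h (R.sim i) t) f := by
  refine ext_N S hG (Ti_fix S hf.1 i) (sum_mem (S := Yw S k w) fun (t : Fˣ) _ =>
    H_mem_Yw S hf (S.h_mem t.ne_zero)).1 fun n hn => ?_
  obtain ⟨w', -, h'⟩ := S.exists_rep hn
  rw [Finset.sum_apply]
  by_cases h1 : R.Pos (w'⁻¹ (R.sim i))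
  · rw [Ti_pos S p h' h1, sum_eq_zero]
    exact fun t _ => Yw_val S (H_mem_Yw S hf (S.h_mem t.ne_zero)) hn h' fun e => hp (e ▸ h1)
  rw [Ti_neg S hf.1 h' h1, Yw_val S hf (mul_mem (inv_mem (S.n_mem one_ne_zero)) hn)
    (rep_inv_mul S h' i) fun e => hp (e ▸ (pos_s_mul h'.1).2 h1), zero_add]
  refine Fintype.sum_equiv (Equiv.inv _) _ _ fun t => ?_
  rw [ry_mk, S.h_inv h3 _ (Units.ne_zero _)]; simp

end Y

/-- weight vectors -/
structure WV (ρ : Representation k G M) (l : ι → Option (Fˣ →* kˣ)) (m : M) : Prop where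
  ne : m ≠ 0
  fix : ∀ u ∈ S.U, ρ u m = m
  tor : ∀ i (t : Fˣ), ρ (S.h (R.sim i) t) m = ((l i).getD 1 t : k) • m
  ti0 : ∀ i, l i = none → Ti S ρ i m = -m
  ti1 : ∀ i, l i ≠ none → Ti S ρ i m = 0

theorem sum_chr (p : ℕ) [Fact p.Prime] [CharP F p] [CharP k p] [Fintype Fˣ] (χ : Fˣ →* kˣ)
    [Decidable (χ = 1)] : ∑ t, (χ t : k) = if χ = 1 then -1 else 0 := by
  classical
  split_ifs with h
  · obtain ⟨e, -, he⟩ := FiniteField.card F p
    have : Fintype.card Fˣ + 1 = p ^ (e : ℕ) := by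
      rw [← he, ← Nat.card_eq_fintype_card, Nat.card_units, Nat.sub_add_cancel Nat.card_pos,
        Nat.card_eq_fintype_card]
    have h1 := congrArg (Nat.cast : ℕ → k) this
    rw [Nat.cast_pow, CharP.cast_eq_zero k p, zero_pow e.ne_zero, Nat.cast_succ] at h1
    simpa [h] using eq_neg_of_add_eq_zero_left h1
  · exact sum_hom_units_eq_zero ((Units.coeHom k).comp χ) fun h' => h (MonoidHom.ext fun t =>
      Units.ext (DFunLike.congr_fun h' t))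

theorem exists_wv (p : ℕ) [Fact p.Prime] [CharP F p] [CharP k p] [IsAlgClosed k] [Finite G]
    [FiniteDimensional k M] (hG : S.Gr = ⊤) (h3 : S.R3) (ρ : Representation k G M) {v : M}
    (hv : v ≠ 0) : ∃ l m, WV S ρ l m := by
  classical
  obtain ⟨m0, h0, hm0⟩ := exists_fix p ρ (S.isPGroup_U p) hv
  obtain ⟨φ, hφ, h1⟩ := exists_hom ρ hm0
  have hT : ∀ i f, φ (Ti S (ry k S.U) i f) = Ti S ρ i (φ f) := fun i f => by
    simp only [Ti_apply, map_sum, hφ]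
  obtain ⟨w, ⟨hw, h2⟩, h4⟩ := Set.exists_max_image {w | w ∈ R.W ∧ (Yw S k w).map φ ≠ ⊥} R.N
    (Set.toFinite _) ⟨1, one_mem _, (Submodule.ne_bot_iff _).2 ⟨_, Submodule.mem_map_of_mem
      (r := Pi.single ((1 : G) : G ⧸ S.U) 1) ⟨fun u hu => funext fun q => by
        simp only [ry_apply, Pi.single_apply, inv_smul_eq_iff, MulAction.Quotient.smul_mk,
          smul_eq_mul, mul_one]
        rw [← one_mul u, mk_mul S hu], fun n hn h => Pi.single_eq_of_ne (fun e => h (by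
          obtain rfl : n = 1 := (S.U_inf_N.le ⟨by simpa using QuotientGroup.eq.1 e, hn⟩ :)
          exact rep_one)) _⟩, by
      rwa [h1 _ (Pi.single_eq_same _ _) fun x hx => Pi.single_eq_of_ne (fun e => hx (by
        simpa using QuotientGroup.eq.1 e)) _]⟩⟩
  obtain ⟨_, ⟨f, hf, rfl⟩, h5, χ, hχ⟩ := exists_eig (ρ.comp (S.hh h3)) (K := (Yw S k w).map φ)
    (by rintro c _ ⟨f, hf, rfl⟩; exact ⟨_, H_mem_Yw S hf (S.hh_mem h3 c), hφ _ _⟩) h2
  have h6 : ∀ i (t : Fˣ), ρ (S.h (R.sim i) t) (φ f) =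
      ((χ.comp (MonoidHom.mulSingle (fun _ => Fˣ) i)) t : k) • φ f := fun i t => by
    rw [← S.hh_single h3]; exact hχ _
  refine ⟨fun i => if Ti S ρ i (φ f) = -φ f ∧ χ.comp (MonoidHom.mulSingle (fun _ => Fˣ) i) = 1
    then none else some (χ.comp (MonoidHom.mulSingle (fun _ => Fˣ) i)), φ f, h5,
    fun u hu => by rw [← hφ, hf.1 u hu], fun i t => ?_, fun i h => ?_, fun i h => ?_⟩
  · rw [h6]; split_ifs with h
    · rw [h.2]; rfl
    · rfl
  · split_ifs at h with h'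
    exact h'.1
  · split_ifs at h with h'
    · exact (h rfl).elim
    by_cases hp : R.Pos (w⁻¹ (R.sim i))
    · by_contra h7
      have := h4 (R.s i * w) ⟨mul_mem (R.s_mem_W i) hw, (Submodule.ne_bot_iff _).2
        ⟨_, Submodule.mem_map_of_mem (Ti_mem_Yw S p hf hp), by rwa [hT]⟩⟩
      rw [RS.N_s_mul (R.W_le_Aut hw) hp] at this
      omega
    have h7 : Ti S ρ i (φ f) = (∑ t, ((χ.comp (MonoidHom.mulSingle (fun _ => Fˣ) i)) t : k)) • φ f := by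
      simp only [← hT, Ti_eq_Yw S p hG h3 hf hp, map_sum, hφ, h6, sum_smul]
    rw [sum_chr p] at h7
    split_ifs at h7 with h8
    · exact (h' ⟨by rw [h7, neg_one_smul], h8⟩).elim
    · rw [h7, zero_smul]

variable {S} {ρ : Representation k G M} {l : ι → Option (Fˣ →* kˣ)} {m : M}

theorem WV.exists_smul (h : WV S ρ l m) (h3 : S.R3) {g : G} (hg : g ∈ S.H) :
    ∃ c : k, ρ g m = c • m := by
  obtain ⟨c, rfl⟩ := (S.range_hh h3).ge hg
  refine S.hh_induction h3 (fun c => ∃ a : k, ρ (S.hh h3 c) m = a • m)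
    (fun i t => ⟨_, by rw [S.hh_single, h.tor]⟩) ⟨1, by simp⟩ ?_ c
  rintro c d ⟨a, ha⟩ ⟨b, hb⟩
  exact ⟨b * a, by rw [map_mul, rmul, hb, map_smul, ha, smul_smul]⟩

theorem WV.mem_span (h : WV S ρ l m) (h3 : S.R3) (i : ι) : m ∈ Submodule.span k
    (Set.range fun a => ρ (S.x (R.sim i) a * S.n (R.sim i) 1) m) := by
  classical
  by_cases h1 : l i = none
  · rw [← neg_mem_iff, ← h.ti0 i h1, Ti_apply]
    exact sum_mem fun a _ => Submodule.subset_span ⟨a, rfl⟩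
  have h2 := congrArg (ρ (S.n (R.sim i) 1)⁻¹) (h.ti1 i h1)
  rw [Ti_apply, map_sum, map_zero, sum_units, S.x_zero, one_mul, ← rmul, inv_mul_cancel, map_one,
    Module.End.one_apply, add_eq_zero_iff_eq_neg] at h2
  refine (congrArg (· ∈ _) h2).mpr (neg_mem (sum_mem fun a _ => ?_))
  obtain ⟨c, hc⟩ := h.exists_smul h3 (S.conj_mem_H' (S.n_mem (r := R.sim i) one_ne_zero)
    (S.h_mem (r := R.sim i) (inv_ne_zero a.ne_zero)))
  rw [← rmul, ← mul_assoc, n_inv_conj, rmul, h.fix _ (S.x_mem_U (R.pos_sim i) _),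
    show ∀ x y z : G, x * y * z = x * z * (z⁻¹ * y * z) from fun _ _ _ => by group, rmul, hc, map_smul]
  exact Submodule.smul_mem _ _ (Submodule.subset_span ⟨_, rfl⟩)

theorem WV.exists_span (hG : S.Gr = ⊤) (h3 : S.R3) : ∃ n0 : G, ∀ {k M : Type*} [Field k]
    [AddCommGroup M] [Module k M] {ρ : Representation k G M} {l : ι → Option (Fˣ →* kˣ)} {m : M},
    WV S ρ l m → ∀ g, ρ g m ∈ Submodule.span k (Set.range fun u : S.U => ρ (u * n0) m) := by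
  obtain ⟨w0, hw, h0⟩ := R.exists_w0
  obtain ⟨n0, hn, hr⟩ := S.exists_N_rep hw
  refine ⟨n0, fun {k M _ _ _ ρ l m} h g => ?_⟩
  obtain ⟨K, hK⟩ : ∃ K, K = Submodule.span k (Set.range fun u : S.U => ρ (u * n0) m) := ⟨_, rfl⟩
  rw [← hK]
  have h1 : ∀ u ∈ S.U, ∀ x ∈ K, ρ u x ∈ K := fun u hu x hx => by
    rw [hK] at hx ⊢
    refine Submodule.mem_comap.1 (Submodule.span_le.2 ?_ hx)
    rintro _ ⟨v, rfl⟩
    exact Submodule.subset_span ⟨⟨u, hu⟩ * v, by simp only [Subgroup.coe_mul, mul_assoc, rmul]⟩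
  have h2 : ∀ v ∈ R.W, ∀ n ∈ S.N, S.Rep n (w0 * v) → ρ n m ∈ K := by
    refine RS.W_induction_right _ (fun n hn' h' => ?_) fun i v hv hp ih n hn' h' => ?_
    · obtain ⟨c, hc⟩ := h.exists_smul h3 (S.mem_H_of_rep hn hn' hr (by simpa using h'))
      rw [show n = n0 * (n0⁻¹ * n) by group, rmul, hc, map_smul, hK]
      exact Submodule.smul_mem _ _ (Submodule.subset_span ⟨1, by simp⟩)
    refine (Submodule.span_le (p := Submodule.comap (ρ n) K)).2 ?_ (h.mem_span h3 i)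
    rintro _ ⟨a, rfl⟩
    obtain ⟨c, -, hc⟩ := h'.exists_conj (R.sim i)
    have h4 := ih _ (mul_mem hn' (S.n_mem one_ne_zero)) (by
      simpa [mul_assoc, R.s_mul_s] using h'.mul (S.n_rep_s i one_ne_zero))
    have h5 := h1 _ (S.x_mem_U (r := (w0 * (v * R.s i)) (R.sim i)) ((h0 _).2 (by
      rw [Equiv.Perm.mul_apply, R.s_sim, RS.Aut.pos_neg (R.W_le_Aut hv)]; exact fun h => h hp))
      (c * a)) _ h4
    rw [← hc, ← rmul] at h5
    change ρ n _ ∈ K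
    convert h5 using 1
    rw [← rmul]; congr 2; group
  obtain ⟨u, hu, n, hn', v, hv, rfl⟩ := exists_bruhat S hG g
  obtain ⟨w, hw', h'⟩ := S.exists_rep hn'
  rw [rmul, h.fix v hv, rmul]
  exact h1 u hu _ (h2 (w0⁻¹ * w) (mul_mem (inv_mem hw) hw') n hn' (by simpa using h'))

end H20.CR
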