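import Cfsg.Agent.H7.Jh

/-! Counting the conjugates of the central involution. -/

set_option autoImplicit false
set_option linter.unusedSectionVars false
open Subgroup Equiv H7J

namespace H20.Cnt7

variable {G : Type*} [Group G] [Finite G] {ψ : P →* G}

theorem dih {x a : G} (hx : x * x = 1) (ha : a * a = 1) (h : ¬ IsConj x a) :
    ∃ c, c * c = 1 ∧ c ≠ 1 ∧ c * x = x * c ∧ c * a = a * c := by
  have inv : ∀ k : ℕ, (x * a) ^ k * x = x * ((x * a) ^ k)⁻¹ := fun k => by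
    have : x * (x * a)⁻¹ * x⁻¹ = x * a := by
      rw [mul_inv_rev, inv_eq_of_mul_eq_one_right hx, inv_eq_of_mul_eq_one_right ha, mul_assoc, mul_assoc,
        hx, mul_one]
    conv_lhs => rw [← this, conj_pow]
    rw [inv_mul_cancel_right, inv_pow]
  have e : a = x * (x * a) := by rw [← mul_assoc, hx, one_mul]
  obtain ⟨k, hk | hk⟩ := Nat.even_or_odd' (orderOf (x * a))
  · have h1 : (x * a) ^ k * (x * a) ^ k = 1 := by rw [← pow_add, ← two_mul, ← hk, pow_orderOf_eq_one]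
    have h2 : (x * a) ^ k * x = x * (x * a) ^ k := by rw [inv, inv_eq_of_mul_eq_one_right h1]
    refine ⟨_, h1, pow_ne_one_of_lt_orderOf ?_ ?_, h2, ?_⟩
    · have := orderOf_pos (x * a); omega
    · have := orderOf_pos (x * a); omega
    · conv_lhs => rw [e, ← e, e, ← mul_assoc, ← e, h2]
      conv_rhs => rw [e, ← e, e, mul_assoc, ← e, ← pow_succ', pow_succ, ← mul_assoc]
  · refine (h (isConj_iff.2 ⟨(x * a) ^ k, ?_⟩)).elim
    have h1 : (x * a) * ((x * a) ^ k * (x * a) ^ k) = 1 := by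
      rw [← pow_add, ← pow_succ', ← two_mul, ← hk, pow_orderOf_eq_one]
    rw [inv, mul_assoc, ← mul_inv_rev, ← eq_inv_of_mul_eq_one_left h1, ← e]

theorem eqk (h : Hy ψ) (x y : P) : ψ x = ψ y ↔ x = y ∨ x = k0 * y := by
  rw [← mul_inv_eq_one, ← map_inv, ← map_mul, h.ker, mul_inv_eq_one, mul_inv_eq_iff_eq_mul]

def m8 : Fin 8 → S := ![qw, qw * qi, qw * qj, qw * qk, qw * qw, qw * qw * qi, qw * qw * qj, qw * qw * qk]
def l13 : Fin 5 ⊕ Fin 8 → P := Sum.elim pt fun k => tq (m8 k)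
def l4 : Fin 4 → S := ![1, qi, qj, qk]
def l8 : Fin 8 → S := ![1, qi, qj, qk, -1, -qi, -qj, -qk]

theorem f0 : ∀ i : Fin 5, ∃ σ : Perm (Fin 5), σ 0 = i ∧ Perm.sign σ = 1 := by decide +kernel
theorem f1 : ∀ i j, pt i * pt j = pt j * pt i ∨ pt i * pt j = k0 * (pt j * pt i) := by decide +kernel
theorem f2 : ∀ i j, l13 i = l13 j ∨ l13 i = k0 * l13 j → i = j := by decide +kernel
theorem f3 : ∀ p : P, p * p = 1 ∨ p * p = k0 → (p = 1 ∨ p = k0) ∨ (p = z0 ∨ p = k0 * z0) ∨ p = tq p.a ∨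
    (⟨-p.a, 1, false⟩ : P) * (pt 1 * z0) * (⟨-p.a, 1, false⟩ : P)⁻¹ = p ∨
    (p.s = false ∧ p.a * p.a = -1 ∧ p.b * p.b = -1) := by decide +kernel
theorem f4 : ∀ x : S, x * x = -1 → (∃ g : S, g * a0.a * g⁻¹ = x) ∧ ∃ g : S, g * a0.b * g⁻¹ = x := by
  decide +kernel
theorem f5 : ∀ q : S, ∃ j, tq q = l13 j ∨ tq q = k0 * l13 j := by decide +kernel
theorem f6 : ∀ q : S, (⟨q, 1, false⟩ : P) * pt 1 * (⟨q, 1, false⟩ : P)⁻¹ = tq q := by decide +kernel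
theorem f7 : ∀ i j : Fin 4, ∀ k l : Fin 8, ∀ r : P, r = (⟨l4 i, l8 k, false⟩ : P)⁻¹ * ⟨l4 j, l8 l, false⟩ →
    (i = j ∧ k = l) ∨ (r = z0 ∨ r = k0 * z0) ∨ (r * r = z0 ∨ r * r = k0 * z0) ∨
    (r.s = false ∧ r.a * r.a = -1 ∧ r.b * r.b = -1) := by
  intro i j k l r hr
  subst hr
  revert i j k l
  decide +kernel
theorem f8 : (a0 * a0 = 1 ∨ a0 * a0 = k0) ∧ z0 * z0 = 1 ∧ a0.s = false ∧
    ((pt 1 * tq qw) ^ 3 = 1 ∨ (pt 1 * tq qw) ^ 3 = k0) ∧
    ¬ (pt 1 * tq qw = tq qw * pt 1 ∨ pt 1 * tq qw = k0 * (tq qw * pt 1)) ∧ ¬ (z0 = 1 ∨ z0 = k0) ∧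
    k0 ≠ 1 := by decide +kernel

theorem atype {r : P} (h : r.s = false ∧ r.a * r.a = -1 ∧ r.b * r.b = -1) : ∃ g : P, g * a0 * g⁻¹ = r := by
  obtain ⟨⟨g, hg⟩, -⟩ := f4 _ h.2.1
  obtain ⟨-, g', hg'⟩ := f4 _ h.2.2
  exact ⟨⟨g, g', false⟩, P.ext hg hg' h.1.symm⟩

theorem cc {n a b : G} : n * a * n⁻¹ * (n * b * n⁻¹) = n * b * n⁻¹ * (n * a * n⁻¹) ↔ a * b = b * a := by
  rw [conj_mul, conj_mul, mul_left_inj, mul_right_inj]

theorem card_cl (z : G) : Nat.card {x | IsConj z x} * Nat.card (centralizer ({z} : Set G)) = Nat.card G := by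
  have e : {x | IsConj z x} = MulAction.orbit (ConjAct G) z := by
    ext x; rw [ConjAct.mem_orbit_conjAct, Set.mem_setOf_eq, isConj_comm]
  rw [e, nat_card_centralizer_nat_card_stabilizer, ← Nat.card_prod,
    Nat.card_congr (MulAction.orbitProdStabilizerEquivGroup (ConjAct G) z)]
  rfl

theorem cnt (h : H2 ψ) (k : KA ψ)
    (iv : ∀ x : G, x * x = 1 → x ≠ 1 → IsConj x (ψ z0) ∨ IsConj x (ψ a0)) :
    Nat.card G = 25920 ∧ (∀ x, IsConj (ψ z0) x → ∃ i, x * ψ (pt i) = ψ (pt i) * x) ∧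
      ∀ x y, IsConj (ψ z0) x → IsConj (ψ z0) y → x * y = y * x ∨ (x * y) ^ 3 = 1 := by
  classical
  have hy := h.toHy
  choose σ hσ hs using f0
  choose n hn using fun i => h.nv (σ i) (hs i)
  have n0 : ∀ i, n i * ψ z0 * (n i)⁻¹ = ψ (pt i) := fun i => (hn i 0).trans (by rw [hσ])
  have cj : ∀ {x : G} (g : G), IsConj (ψ z0) x → IsConj (ψ z0) (g * x * g⁻¹) := fun g hx =>
    hx.trans (isConj_iff.2 ⟨g, rfl⟩)
  have pD : ∀ i, IsConj (ψ z0) (ψ (pt i)) := fun i => isConj_iff.2 ⟨_, n0 i⟩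
  have tD : ∀ q, IsConj (ψ z0) (ψ (tq q)) := fun q => by
    rw [← f6, map_mul, map_mul, map_inv]; exact cj _ (pD 1)
  have pp : ∀ i j, ψ (pt i) * ψ (pt j) = ψ (pt j) * ψ (pt i) := fun i j => by
    rw [← map_mul, ← map_mul]; exact (eqk hy _ _).2 (f1 i j)
  have pa : ∀ i, ψ (pt i) * ψ a0 = ψ a0 * ψ (pt i) := fun i => by
    rw [a0, map_mul, ← mul_assoc, pp, mul_assoc, pp i, mul_assoc]
  have linj : Function.Injective fun i => ψ (l13 i) := fun i j e => f2 i j ((eqk hy _ _).1 e)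
  have sq : ∀ x, IsConj (ψ z0) x → x * x = 1 ∧ x ≠ 1 := fun x hx => by
    obtain ⟨g, rfl⟩ := isConj_iff.1 hx
    exact ⟨by rw [conj_mul, ← map_mul, f8.2.1, map_one]; group,
      fun e => f8.2.2.2.2.2.1 ((hy.ker _).1 (conj_eq_one_iff.1 e))⟩
  have two : ∀ x, IsConj (ψ z0) x → ∃ i, x * ψ (pt i) = ψ (pt i) * x := fun x hx => by
    obtain ⟨c, c2, c1, cx, ca⟩ := dih (sq x hx).1 (by rw [← map_mul]; exact (hy.ker _).2 f8.1)
      fun e => h.na (hx.trans e)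
    rcases iv c c2 c1 with e | e
    · obtain ⟨i, rfl⟩ := k c e.symm ca
      exact ⟨i, cx.symm⟩
    obtain ⟨g, hg⟩ := isConj_iff.1 e
    have ci : c⁻¹ = c := inv_eq_of_mul_eq_one_right c2
    choose f hf using fun i => k _ (cj c (pD i)) (by
      rw [show ψ a0 = c * ψ a0 * c⁻¹ by rw [ca, mul_inv_cancel_right], cc]; exact pa i)
    have inv : Function.Involutive f := fun i => Sum.inl_injective (linj (a₁ := .inl _) (a₂ := .inl _) (by
      show ψ (pt (f (f i))) = ψ (pt i)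
      rw [← hf, ← hf, ci, ← mul_assoc, ← mul_assoc, c2, one_mul, mul_assoc, c2, mul_one]))
    obtain ⟨i, hi⟩ := Perm.exists_fixed_point_of_prime (p := 2) (n := 1) (by decide)
      (σ := inv.toPerm) (by ext j; simp [sq, inv j, pow_two])
    have hi' : c * ψ (pt i) * c⁻¹ = ψ (pt i) := (hf i).trans (congrArg (fun j => ψ (pt j)) hi)
    obtain ⟨j, hj⟩ := k _ (cj g hx) (by rw [← hg, cc, cx])
    obtain ⟨l, hl⟩ := k _ (cj g (pD i)) (by rw [← hg, cc, ← mul_inv_eq_iff_eq_mul.1 hi'])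
    exact ⟨i, by rw [← cc (n := g), hj, hl, pp]⟩
  have A13 : ∀ x, IsConj (ψ z0) x → x * ψ z0 = ψ z0 * x → ∃ j, ψ (l13 j) = x := fun x hx c => by
    obtain ⟨p, rfl⟩ := (hy.cz x).1 c
    rcases f3 p ((hy.ker _).1 (by rw [map_mul]; exact (sq _ hx).1)) with e | e | e | e | e
    · exact ((sq _ hx).2 ((hy.ker _).2 e)).elim
    · exact ⟨.inl 0, ((eqk hy _ _).2 e).symm⟩
    · obtain ⟨j, hj⟩ := f5 p.a
      exact ⟨j, ((eqk hy _ _).2 (e ▸ hj)).symm⟩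
    · refine (h.nb (hx.trans (isConj_iff.2 ⟨ψ ⟨-p.a, 1, false⟩, ?_⟩).symm)).elim
      rw [← map_inv, ← map_mul, ← map_mul, e]
    · obtain ⟨g, rfl⟩ := atype e
      exact (h.na (hx.trans (isConj_iff.2 ⟨ψ g, by simp⟩).symm)).elim
  obtain ⟨x0, d0, c0, t0⟩ : ∃ x0, IsConj (ψ z0) x0 ∧ x0 * ψ z0 ≠ ψ z0 * x0 ∧ (ψ z0 * x0) ^ 3 = 1 := by
    have e : ψ z0 = (n 1)⁻¹ * ψ (pt 1) * (n 1)⁻¹⁻¹ := by rw [← n0 1]; group
    refine ⟨_, cj (n 1)⁻¹ (tD qw), fun c => f8.2.2.2.2.1 ((eqk hy _ _).1 ?_), ?_⟩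
    · rw [e, cc] at c
      rw [map_mul, map_mul, c]
    · rw [e, conj_mul, conj_pow, ← map_mul, ← map_pow, (hy.ker _).2 f8.2.2.2.1]
      group
  have hz : ∀ p : P, ψ p * ψ z0 * (ψ p)⁻¹ = ψ z0 := fun p => by
    rw [(hy.cz _).2 ⟨p, rfl⟩, mul_inv_cancel_right]
  let q : Fin 4 × Fin 8 → G := fun i => ψ ⟨l4 i.1, l8 i.2, false⟩
  let φ : Fin 4 × Fin 8 → G := fun i => q i * x0 * (q i)⁻¹
  let γ : Fin 4 × Fin 8 → G := fun i => n i.1.succ * ψ (tq (m8 i.2)) * (n i.1.succ)⁻¹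
  have φc : ∀ i, φ i * ψ z0 ≠ ψ z0 * φ i := fun i e => c0 (by rwa [← hz, cc] at e)
  have φi : Function.Injective φ := fun i j e => by
    have c : ψ ((⟨l4 i.1, l8 i.2, false⟩ : P)⁻¹ * ⟨l4 j.1, l8 j.2, false⟩) * x0 =
        x0 * ψ ((⟨l4 i.1, l8 i.2, false⟩ : P)⁻¹ * ⟨l4 j.1, l8 j.2, false⟩) := by
      rw [map_mul, map_inv]
      change (q i)⁻¹ * q j * x0 = x0 * ((q i)⁻¹ * q j)
      have : q j * x0 = q i * x0 * (q i)⁻¹ * q j := (mul_inv_eq_iff_eq_mul.1 e.symm)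
      rw [mul_assoc, this]; group
    rcases f7 i.1 j.1 i.2 j.2 _ rfl with r | r | r | r
    · exact Prod.ext r.1 r.2
    · exact (c0 (by rw [← (eqk hy _ _).2 r, c])).elim
    · exact (c0 (by rw [← (eqk hy _ _).2 r, map_mul, ← mul_assoc, ← c, mul_assoc, ← c, mul_assoc])).elim
    · obtain ⟨g, hg⟩ := atype r
      rw [← hg, map_mul, map_mul, map_inv, show x0 = ψ g * ((ψ g)⁻¹ * x0 * (ψ g)⁻¹⁻¹) * (ψ g)⁻¹ by group,
        cc] at c
      obtain ⟨l, hl⟩ := k _ (cj _ d0) c.symm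
      refine (c0 ?_).elim
      rw [← cc (n := ψ g⁻¹), hz, map_inv, hl]
      exact pp l 0
  have Bγ : ∀ x, IsConj (ψ z0) x → x * ψ z0 ≠ ψ z0 * x → x ∈ Finset.univ.image γ := fun x hx c => by
    obtain ⟨i, hi⟩ := two x hx
    obtain rfl | ⟨i, rfl⟩ := i.eq_zero_or_eq_succ
    · exact (c hi).elim
    obtain ⟨j | j, hj⟩ := A13 _ (cj (n i.succ)⁻¹ hx) (by
      rw [← cc (n := n i.succ), n0]; simpa [mul_assoc] using hi)
    · refine (c ?_).elim
      have : x = ψ (pt (σ i.succ j)) := by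
        rw [← hn]; change x = _ * ψ (l13 (.inl j)) * _; rw [hj]; group
      rw [this]; exact pp _ 0
    · refine Finset.mem_image.2 ⟨(i, j), Finset.mem_univ _, ?_⟩
      change _ * ψ (l13 (.inr j)) * _ = x
      rw [hj]; group
  have eqi : Finset.univ.image φ = Finset.univ.image γ := Finset.eq_of_subset_of_card_le
    (fun x hx => by
      obtain ⟨i, -, rfl⟩ := Finset.mem_image.1 hx
      exact Bγ _ (cj _ d0) (φc i))
    (by rw [Finset.card_image_of_injective _ φi]; exact Finset.card_image_le)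
  have Bφ : ∀ x, IsConj (ψ z0) x → x * ψ z0 ≠ ψ z0 * x → ∃ i, φ i = x := fun x hx c => by
    have := Bγ x hx c
    rw [← eqi] at this
    obtain ⟨i, -, e⟩ := Finset.mem_image.1 this
    exact ⟨i, e⟩
  refine ⟨?_, two, fun x y hx hy' => ?_⟩
  · have lc : ∀ j, ψ (l13 j) * ψ z0 = ψ z0 * ψ (l13 j) := fun j => (hy.cz _).2 ⟨_, rfl⟩
    have e : {x | IsConj (ψ z0) x} = Set.range (Sum.elim (fun i => ψ (l13 i)) φ) := by
      ext x
      constructor
      · intro hx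
        by_cases c : x * ψ z0 = ψ z0 * x
        · obtain ⟨j, hj⟩ := A13 x hx c
          exact ⟨.inl j, hj⟩
        · obtain ⟨j, hj⟩ := Bφ x hx c
          exact ⟨.inr j, hj⟩
      · rintro ⟨(j | j) | j, rfl⟩
        · exact pD j
        · exact tD _
        · exact cj _ d0
    have inj : Function.Injective (Sum.elim (fun i => ψ (l13 i)) φ) :=
      linj.sumElim φi fun i j e => φc j (e ▸ lc i)
    have c1 : centralizer ({ψ z0} : Set G) = ψ.range := by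
      ext g; rw [mem_centralizer_singleton_iff, hy.cz]
    have c2 : Nat.card ψ.ker = 2 := by
      rw [show (Nat.card ψ.ker) = Nat.card ({1, k0} : Set P) from
        congrArg (fun s : Set P => Nat.card s) (Set.ext fun p => hy.ker p)]
      exact Set.ncard_pair f8.2.2.2.2.2.2.symm
    have c3 := ψ.ker.index_mul_card
    rw [c2, card_P, index_ker] at c3
    rw [← card_cl (ψ z0), e, Nat.card_range_of_injective inj, c1, show Nat.card ψ.range = 576 by omega]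
    simp
  · obtain ⟨g, rfl⟩ := isConj_iff.1 hx
    by_cases c : (g⁻¹ * y * g⁻¹⁻¹) * ψ z0 = ψ z0 * (g⁻¹ * y * g⁻¹⁻¹)
    · left
      rw [← cc (n := g)] at c
      simpa [mul_assoc] using c.symm
    · right
      obtain ⟨i, hi⟩ := Bφ _ (cj g⁻¹ hy') c
      have : y = g * φ i * g⁻¹ := by rw [hi]; group
      rw [this, conj_mul, conj_pow, ← hz ⟨l4 i.1, l8 i.2, false⟩]
      change g * (q i * _ * _ * (q i * _ * _)) ^ 3 * _ = 1
      rw [conj_mul, conj_pow, t0]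
      group

end H20.Cnt7
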