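import Cfsg.Agent.H3.S8h

/-! The Sylow `2`-subgroup in the `A₅ × A₅` configuration. -/

set_option autoImplicit false
set_option linter.unusedSectionVars false
open Subgroup Equiv H3S

namespace H20.D2s

variable {G : Type*} [Group G] [Finite G] {σ t : G} {θ : A5 × A5 →* G}

theorem syl {H T : Subgroup G} (hT : T ≤ H) (k : ℕ) (hc : Nat.card T = 2 ^ k)
    (hn : ∀ n ∈ H, (∀ x ∈ T, n * x * n⁻¹ ∈ T) → (∀ x ∈ T, n⁻¹ * x * n ∈ T) → n ∈ T) :
    ¬ 2 ^ (k + 1) ∣ Nat.card H := fun hd => by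
  have e : Nat.card (T.subgroupOf H) = 2 ^ k :=
    (Nat.card_congr (subgroupOfEquivOfLe hT).toEquiv).trans hc
  have h1 := Sylow.prime_pow_dvd_card_normalizer hd e
  have h2 : normalizer (T.subgroupOf H : Set H) ≤ T.subgroupOf H := fun n h => by
    refine hn n n.2 (fun x hx => (mem_normalizer_iff.1 h ⟨x, hT hx⟩).1 hx) fun x hx => ?_
    simpa [mem_subgroupOf] using (mem_normalizer_iff.1 (inv_mem h) ⟨x, hT hx⟩).1 hx
  have h3 := h1.trans (card_dvd_of_le h2)
  rw [e, Nat.pow_dvd_pow_iff_le_right (by norm_num)] at h3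
  omega

def K (θ : A5 × A5 →* G) (t σ : G) (m : A5 × A5) (i j : Bool) : G :=
  θ m * (cond i t 1 * cond j σ 1)

def ac (i j : Bool) (m : A5 × A5) : A5 × A5 :=
  cond i (cond j (τ m.2, τ m.1) (τ m.1, τ m.2)) (cond j (m.2, m.1) m)

theorem K_mul (h : H2 θ t σ) (m m' : A5 × A5) (i j i' j' : Bool) :
    K θ t σ m i j * K θ t σ m' i' j' = K θ t σ (m * ac i j m') (xor i i') (xor j j') := by
  have h4 : ∀ g, t * (t * g) = g := fun g => by rw [← mul_assoc, h.tt, one_mul]
  have h5 : ∀ g, σ * (σ * g) = g := fun g => by rw [← mul_assoc, h.ss, one_mul]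
  have h1 : ∀ (m : A5 × A5) g, t * (θ m * g) = θ (τ m.1, τ m.2) * (t * g) := fun m g => by
    rw [← h.ta, mul_assoc, mul_assoc, h4]
  have h2 : ∀ (m : A5 × A5) g, σ * (θ m * g) = θ (m.2, m.1) * (σ * g) := fun m g => by
    rw [← h.sa, mul_assoc, mul_assoc, h5]
  have h3 : ∀ g, σ * (t * g) = t * (σ * g) := fun g => by rw [← mul_assoc, ← h.ts, mul_assoc]
  rw [← mul_one (K θ t σ m' i' j'), ← mul_one (K θ t σ (m * _) _ _)]
  generalize hg : (1 : G) = g
  cases i <;> cases j <;> cases i' <;> cases j' <;>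
    simp only [K, ac, cond_true, cond_false, Bool.xor_false, Bool.xor_true, Bool.not_true, Bool.not_false,
      one_mul, mul_one, mul_assoc, map_mul, h1, h2, h3, h4, h5]

theorem K0 (m : A5 × A5) : K θ t σ m false false = θ m := by simp [K]

theorem e_ne : e5 ≠ 1 := by decide

theorem p1 : ∀ p : Perm (Fin 5), p * c5.1 = c5.1 * p → p * e5.1 = e5.1 * p → Perm.sign p = 1 → p = 1 := by
  decide +kernel

theorem p2 : ∀ p : Perm (Fin 5), swap 3 4 * p * (swap 3 4)⁻¹ = p → p * e5.1 = e5.1 * p →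
    Perm.sign p = 1 → p = 1 ∨ p = e5.1 := by
  decide +kernel

def E (a b : Bool) : A5 := cond a e5 1 * cond b f5 1

theorem p3 : ∀ p : Perm (Fin 5), swap 3 4 * p * (swap 3 4)⁻¹ = p → ∀ a b, p * f5.1 = (E a b).1 * p →
    Perm.sign p = 1 → p = 1 ∨ p = e5.1 := by
  decide +kernel

theorem τc : τ c5 = c5 ∧ τ e5 = e5 ∧ τ f5 ≠ f5 := by decide

theorem outer (c : A5) (h : ∀ a, c * τ a = a * c) : False := by
  have h1 := p1 c (congrArg Subtype.val (τc.1 ▸ h c5)) (congrArg Subtype.val (τc.2.1 ▸ h e5))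
    (Perm.mem_alternatingGroup.1 c.2)
  obtain rfl : c = 1 := Subtype.ext h1
  exact τc.2.2 (by simpa using h f5)

theorem K_one (h : H2 θ t σ) {m : A5 × A5} {i j : Bool} (e : K θ t σ m i j = 1) :
    m = 1 ∧ i = false ∧ j = false := by
  have k : ∀ x, m * ac i j x = x * m := fun x => by
    have a := K_mul h m x i j false false
    have b := K_mul h x m false false i j
    rw [e, one_mul] at a
    rw [e, mul_one, a] at b
    simp only [K, ac, Bool.xor_false, Bool.false_xor, cond_false, mul_left_inj] at b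
    exact h.inj b
  cases j
  · cases i
    · exact ⟨h.inj (by rw [← K0 (t := t) (σ := σ), e, map_one]), rfl, rfl⟩
    · exact (outer m.1 fun a => congrArg Prod.fst (k (a, 1))).elim
  · have := congrArg Prod.fst (k (e5, 1))
    cases i <;> exact (e_ne (by simpa [ac] using this)).elim

theorem K_inj (h : H2 θ t σ) {m m' : A5 × A5} {i j i' j' : Bool}
    (e : K θ t σ m i j = K θ t σ m' i' j') : m = m' ∧ i = i' ∧ j = j' := by
  obtain ⟨x, hx⟩ : ∃ x, m * ac i j x = 1 := by
    cases i <;> cases j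
    · exact ⟨m⁻¹, by simp [ac]⟩
    · exact ⟨(m.2⁻¹, m.1⁻¹), by ext1 <;> simp [ac]⟩
    · exact ⟨(τ.symm m.1⁻¹, τ.symm m.2⁻¹), by ext1 <;> simp [ac]⟩
    · exact ⟨(τ.symm m.2⁻¹, τ.symm m.1⁻¹), by ext1 <;> simp [ac]⟩
  have a := K_mul h m x i j i j
  rw [hx, Bool.xor_self, Bool.xor_self, K0, map_one, e, K_mul h] at a
  obtain ⟨h1, h2, h3⟩ := K_one h a
  obtain rfl : i = i' := by revert h2; cases i <;> cases i' <;> simp
  obtain rfl : j = j' := by revert h3; cases j <;> cases j' <;> simp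
  exact ⟨mul_right_cancel (hx.trans h1.symm), rfl, rfl⟩

structure W where
  (a b c d i j : Bool)
  deriving DecidableEq, Fintype

def W.mul (x y : W) : W :=
  ⟨xor x.a (cond x.j (xor y.c (x.i && y.d)) (xor y.a (x.i && y.b))), xor x.b (cond x.j y.d y.b),
    xor x.c (cond x.j (xor y.a (x.i && y.b)) (xor y.c (x.i && y.d))), xor x.d (cond x.j y.b y.d),
    xor x.i y.i, xor x.j y.j⟩

instance : Mul W := ⟨W.mul⟩
instance : One W := ⟨⟨false, false, false, false, false, false⟩⟩

def F (θ : A5 × A5 →* G) (t σ : G) (w : W) : G := K θ t σ (E w.a w.b, E w.c w.d) w.i w.j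

theorem E_mul : ∀ a b c d, E a b * E c d = E (xor a c) (xor b d) := by decide
theorem E_τ : ∀ a b, τ (E a b) = E (xor a b) b := by decide
theorem E_inj : ∀ a b c d, E a b = E c d → a = c ∧ b = d := by decide

theorem F_mul (h : H2 θ t σ) (x y : W) : F θ t σ (x * y) = F θ t σ x * F θ t σ y := by
  have : ((E x.a x.b, E x.c x.d) : A5 × A5) * ac x.i x.j (E y.a y.b, E y.c y.d) =
      (E (W.mul x y).a (W.mul x y).b, E (W.mul x y).c (W.mul x y).d) := by
    obtain ⟨a, b, c, d, i, j⟩ := x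
    cases i <;> cases j <;> simp [ac, E_mul, E_τ, W.mul]
  rw [F, F, F, K_mul h, this]
  rfl

theorem F_one : F θ t σ 1 = 1 := by
  show K θ t σ (E false false, E false false) false false = 1
  rw [K0, show E false false = 1 from by decide]
  exact map_one θ

theorem F_inj (h : H2 θ t σ) : Function.Injective (F θ t σ) := by
  rintro ⟨a, b, c, d, i, j⟩ ⟨a', b', c', d', i', j'⟩ e
  obtain ⟨h1, h2, h3⟩ := K_inj h e
  obtain ⟨h4, h5⟩ := E_inj _ _ _ _ (congrArg Prod.fst h1)
  obtain ⟨h6, h7⟩ := E_inj _ _ _ _ (congrArg Prod.snd h1)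
  simp_all

theorem w_inv : ∀ x : W, ∃ y : W, y.j = x.j ∧ y * x = 1 := by decide +kernel

/-- the subgroups of order 64 (`s = true`) and 32 (`s = false`) -/
def S (h : H2 θ t σ) (s : Bool) : Subgroup G where
  carrier := F θ t σ '' {w | w.j = false ∨ s = true}
  one_mem' := ⟨1, Or.inl rfl, F_one⟩
  mul_mem' := by
    rintro _ _ ⟨x, hx, rfl⟩ ⟨y, hy, rfl⟩
    refine ⟨x * y, ?_, F_mul h x y⟩
    cases s
    · left
      show xor x.j y.j = false
      simp_all
    · exact Or.inr rfl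
  inv_mem' := by
    rintro _ ⟨x, hx, rfl⟩
    obtain ⟨y, h1, h2⟩ := w_inv x
    exact ⟨y, by simpa [h1] using hx, eq_inv_of_mul_eq_one_left (by rw [← F_mul h, h2, F_one])⟩

theorem card_S (h : H2 θ t σ) (s : Bool) : Nat.card (S h s) = 2 ^ cond s 6 5 := by
  have : Nat.card (S h s) = Nat.card {w : W | w.j = false ∨ s = true} :=
    Nat.card_image_of_injective (F_inj h) _
  rw [this, Nat.card_eq_fintype_card]
  cases s <;> decide +kernel

def wt : W := ⟨false, false, false, false, true, false⟩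
def ws : W := ⟨false, false, false, false, false, true⟩
def wr : W := ⟨false, false, true, false, false, false⟩
def we : W := ⟨true, false, false, false, false, false⟩
def wd : W := ⟨true, false, true, false, false, false⟩
def wf : W := ⟨false, true, false, false, false, false⟩
def wg : W := ⟨false, false, false, true, false, false⟩

theorem E0 : E false false = 1 ∧ E true false = e5 ∧ E false true = f5 := by decide
theorem Ft : F θ t σ wt = t := by simp [F, wt, K, E0, show ((1, 1) : A5 × A5) = 1 from rfl]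
theorem Fr : F θ t σ wr = θ (1, e5) := by simp [F, wr, K, E0]
theorem Fd : F θ t σ wd = θ (e5, e5) := by simp [F, wd, K, E0]
theorem Ff : F θ t σ wf = θ (f5, 1) := by simp [F, wf, K, E0]

theorem k1 : ∀ w : W, w.j = false → w * w = 1 → (∃ u : W, u.j = false ∧ u * w = wt * u) ∨
    ∀ x y : W, x.j = false → y.j = false → x * w = w * x ∨ y * w = w * y ∨ x * y * w = w * (x * y) := by
  decide +kernel

theorem k2 : ∀ x y : W, x * wr = wr * x ∨ y * wr = wr * y ∨ x * y * wr = wr * (x * y) := by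
  decide +kernel

theorem k3 : ∀ w : W, w * w = 1 → (w = 1 ∨ w = wr ∨ w = we ∨
    w.i = false ∧ w.j = false ∧ (w.a || w.b) = true ∧ (w.c || w.d) = true) ∨
    ∃ x y : W, x * w ≠ w * x ∧ y * w ≠ w * y ∧ x * y * w ≠ w * (x * y) := by
  decide +kernel

theorem k4 : ∀ x : W, (x.j = false → x * wr = wr * x) ∧ x * wd = wd * x := by decide +kernel

theorem conj_comm {n a b : G} : n * a * n⁻¹ * (n * b * n⁻¹) = n * b * n⁻¹ * (n * a * n⁻¹) ↔
    a * b = b * a := by
  rw [conj_mul, conj_mul, mul_left_inj, mul_right_inj]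

theorem aux (h : H2 θ t σ) (m : A5 × A5) (h1 : θ m * θ (1, e5) = θ (1, e5) * θ m) (h2 : θ m * t = t * θ m)
    (h3 : θ m * θ (f5, 1) * (θ m)⁻¹ ∈ S h false) : θ m ∈ S h false := by
  have a : θ (τ m.1, τ m.2) = θ m := by rw [← h.ta, ← h2, mul_assoc, h.tt, mul_one]
  have a1 : τ m.1 = m.1 := congrArg Prod.fst (h.inj a)
  have a2 : τ m.2 = m.2 := congrArg Prod.snd (h.inj a)
  rw [← map_mul, ← map_mul] at h1
  have b : m.2 * e5 = e5 * m.2 := congrArg Prod.snd (h.inj h1)
  obtain ⟨w, -, hw⟩ := h3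
  rw [← map_inv, ← map_mul, ← map_mul, ← K0 (t := t) (σ := σ)] at hw
  have c : E w.a w.b = m.1 * f5 * m.1⁻¹ := congrArg Prod.fst (K_inj h hw).1
  have c' : m.1 * f5 = E w.a w.b * m.1 := by rw [c, inv_mul_cancel_right]
  have d1 := p3 m.1 (congrArg Subtype.val a1) w.a w.b (congrArg Subtype.val c')
    (Perm.mem_alternatingGroup.1 m.1.2)
  have d2 := p2 m.2 (congrArg Subtype.val a2) (congrArg Subtype.val b) (Perm.mem_alternatingGroup.1 m.2.2)
  have f : ∀ p : A5, p.1 = 1 ∨ p.1 = e5.1 → ∃ x, p = E x false := fun p hp =>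
    hp.elim (fun k => ⟨false, (Subtype.ext k).trans E0.1.symm⟩)
      fun k => ⟨true, (Subtype.ext k).trans E0.2.1.symm⟩
  obtain ⟨x, hx⟩ := f _ d1
  obtain ⟨y, hy⟩ := f _ d2
  refine ⟨⟨x, false, y, false, false, false⟩, Or.inl rfl, ?_⟩
  rw [F, K0, ← hx, ← hy]

theorem selfT (h : H2 θ t σ) {n : G} (h1 : n * θ (1, e5) = θ (1, e5) * n)
    (hn : ∀ x ∈ S h false, n * x * n⁻¹ ∈ S h false) : n ∈ S h false := by
  have mem : ∀ w : W, w.j = false → F θ t σ w ∈ S h false := fun w hw => ⟨w, Or.inl hw, rfl⟩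
  have cr : ∀ x ∈ S h false, x * θ (1, e5) = θ (1, e5) * x := by
    rintro _ ⟨x, hx, rfl⟩
    rw [← Fr (t := t) (σ := σ), ← F_mul h, ← F_mul h, (k4 x).1 (by simpa using hx)]
  obtain ⟨w, hw, e⟩ := hn _ (mem wt rfl)
  obtain ⟨x, hx, ex⟩ := hn _ (mem wf rfl)
  obtain ⟨y, hy, ey⟩ := hn _ (mem wg rfl)
  have ww : w * w = 1 := F_inj h (by rw [F_mul h, e, conj_mul, Ft, h.tt, F_one]; group)
  obtain ⟨u, hu, eu⟩ | k := k1 w (by simpa using hw) ww
  swap
  · exfalso
    have tr : ∀ a b : W, F θ t σ a = n * F θ t σ b * n⁻¹ → a * w = w * a → b * wt = wt * b := fun a b k k' => by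
      have := congrArg (F θ t σ) k'
      rw [F_mul h, F_mul h, k, e, conj_comm, ← F_mul h, ← F_mul h] at this
      exact F_inj h this
    rcases k x y (by simpa using hx) (by simpa using hy) with k | k | k
    · exact absurd (tr _ _ ex k) (by decide)
    · exact absurd (tr _ _ ey k) (by decide)
    · exact absurd (tr _ (wf * wg) (by rw [F_mul h, F_mul h, ex, ey, conj_mul]) k) (by decide)
  have hU := mem u hu
  have tT : t ∈ S h false := ⟨wt, Or.inl rfl, Ft⟩
  have c1 : F θ t σ u * n * t = t * (F θ t σ u * n) := by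
    have := congrArg (F θ t σ) eu
    rw [F_mul h, F_mul h, e, Ft] at this
    rw [← mul_assoc, ← this]
    group
  have c2 : F θ t σ u * n * θ (1, e5) = θ (1, e5) * (F θ t σ u * n) := by
    rw [mul_assoc, h1, ← mul_assoc, cr _ hU, mul_assoc]
  have c3 : ∀ x ∈ S h false, F θ t σ u * n * x * (F θ t σ u * n)⁻¹ ∈ S h false := fun x hx => by
    have := mul_mem (mul_mem hU (hn x hx)) (inv_mem hU)
    convert this using 1
    group
  suffices F θ t σ u * n ∈ S h false by simpa using mul_mem (inv_mem hU) this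
  have fT : θ (f5, 1) ∈ S h false := Ff (θ := θ) (t := t) (σ := σ) ▸ mem wf rfl
  have no : ∀ m i, F θ t σ u * n ≠ K θ t σ m i true := fun m i k => by
    rw [k, ← K0 (t := t) (σ := σ), K_mul h, K_mul h] at c2
    have := congrArg Prod.snd (K_inj h c2).1
    cases i <;> exact e_ne (by simpa [ac] using this)
  generalize F θ t σ u * n = g at c1 c2 c3 no
  obtain ⟨m, rfl | rfl | rfl | rfl⟩ := h.ct g c1
  · exact aux h m c2 c1 (c3 _ fT)
  · refine mul_mem (aux h m ?_ ?_ ?_) tT
    · rw [mul_assoc, cr t tT, ← mul_assoc, ← mul_assoc, mul_left_inj] at c2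
      exact c2
    · rw [← mul_assoc, mul_left_inj] at c1
      exact c1
    · have := c3 _ (mul_mem (mul_mem (inv_mem tT) fT) tT)
      convert this using 1
      group
  · exact (no m false (by simp [K])).elim
  · exact (no m true (by simp [K, mul_assoc])).elim

def g5 : A5 := ⟨swap 0 1 * swap 1 3, by rw [Perm.mem_alternatingGroup]; decide⟩

theorem cjE : ∀ a b, (a || b) = true → 1 * e5 * 1⁻¹ = E a b ∨ g5 * e5 * g5⁻¹ = E a b ∨
    g5 * g5 * e5 * (g5 * g5)⁻¹ = E a b := by decide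

theorem cjE' {a b : Bool} (h : (a || b) = true) : ∃ c, c * e5 * c⁻¹ = E a b := by
  rcases cjE a b h with k | k | k <;> exact ⟨_, k⟩

theorem d2 (h : H2 θ t σ) : ¬ IsConj (θ (1, e5)) (θ (e5, e5)) ∧ ¬ 128 ∣ Nat.card G := by
  have cr : S h false ≤ centralizer {θ (1, e5)} := by
    rintro _ ⟨x, hx, rfl⟩
    rw [mem_centralizer_singleton_iff, ← Fr (t := t) (σ := σ), ← F_mul h, ← F_mul h,
      (k4 x).1 (by simpa using hx)]
  have cd : S h true ≤ centralizer {θ (e5, e5)} := by
    rintro _ ⟨x, hx, rfl⟩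
    rw [mem_centralizer_singleton_iff, ← Fd (t := t) (σ := σ), ← F_mul h, ← F_mul h, (k4 x).2]
  have h1 : ¬ IsConj (θ (1, e5)) (θ (e5, e5)) := fun k => by
    refine syl cr 5 (card_S h false) (fun n hn a _ => selfT h (mem_centralizer_singleton_iff.1 hn) a) ?_
    obtain ⟨c, hc⟩ := isConj_iff.1 k
    have l : (S h true).map (MulAut.conj c⁻¹).toMonoidHom ≤ centralizer {θ (1, e5)} := by
      rintro _ ⟨x, hx, rfl⟩
      have := mem_centralizer_singleton_iff.1 (cd hx)
      rw [mem_centralizer_singleton_iff, show θ (1, e5) = c⁻¹ * θ (e5, e5) * c⁻¹⁻¹ by rw [← hc]; group]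
      exact conj_comm.2 this
    have := card_dvd_of_le l
    rwa [card_map_of_injective (MulAut.conj c⁻¹).injective, card_S] at this
  refine ⟨h1, fun k => syl (H := ⊤) le_top 6 (card_S h true) (fun n _ a b => ?_) (by simpa using k)⟩
  have mem : ∀ w : W, F θ t σ w ∈ S h true := fun w => ⟨w, Or.inr rfl, rfl⟩
  have fin : ∀ g, g * θ (1, e5) = θ (1, e5) * g → (∀ x ∈ S h true, g * x * g⁻¹ ∈ S h true) →
      g ∈ S h true := fun g c1 c2 => by
    have : g ∈ S h false := selfT h c1 fun x hx => by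
      obtain ⟨w, hw, rfl⟩ := hx
      obtain ⟨y, -, ey⟩ := c2 _ (mem w)
      refine ⟨y, Or.inl ?_, ey⟩
      have q : F θ t σ y * θ (1, e5) = θ (1, e5) * F θ t σ y := by
        rw [ey, show θ (1, e5) = g * θ (1, e5) * g⁻¹ by rw [c1, mul_inv_cancel_right], conj_comm]
        exact mem_centralizer_singleton_iff.1 (cr ⟨w, hw, rfl⟩)
      rw [← Fr (t := t) (σ := σ), ← F_mul h, ← F_mul h] at q
      have := F_inj h q
      revert this
      generalize y = y
      revert y
      decide +kernel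
    obtain ⟨w, -, rfl⟩ := this
    exact mem w
  obtain ⟨w, -, e⟩ := a _ (mem wr)
  have ww : w * w = 1 := F_inj h (by
    rw [F_mul h, e, conj_mul, ← F_mul h, show wr * wr = 1 from by decide, F_one]; group)
  rcases k3 w ww with (rfl | rfl | rfl | ⟨i0, j0, ha, hb⟩) | ⟨x, y, k1, k2', k3⟩
  · rw [F_one, eq_comm, conj_eq_one_iff, ← F_one (θ := θ) (t := t) (σ := σ)] at e
    exact absurd (F_inj h e) (by decide)
  · rw [Fr] at e
    exact fin n (by rw [← mul_inv_eq_iff_eq_mul, ← e]) a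
  · have s := mem ws
    have : F θ t σ ws * n ∈ S h true := fin _ (by
      have q : F θ t σ ws * F θ t σ we = F θ t σ wr * F θ t σ ws := by
        rw [← F_mul h, ← F_mul h]; rfl
      rw [e, Fr] at q
      rw [← mul_assoc, ← q]
      group) fun x hx => by
        have := mul_mem (mul_mem s (a x hx)) (inv_mem s)
        convert this using 1
        group
    simpa using mul_mem (inv_mem s) this
  · exfalso
    obtain ⟨c, hc⟩ := cjE' ha
    obtain ⟨c', hc'⟩ := cjE' hb
    rw [F, i0, j0, K0, Fr, ← hc, ← hc'] at e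
    refine h1 ((isConj_iff.2 ⟨n, e.symm⟩).trans (isConj_iff.2 ⟨θ (c, c'), ?_⟩).symm)
    rw [← map_inv, ← map_mul, ← map_mul]
    rfl
  · exfalso
    obtain ⟨x', -, ex⟩ := b _ (mem x)
    obtain ⟨y', -, ey⟩ := b _ (mem y)
    have tr : ∀ p q : W, F θ t σ q = n⁻¹ * F θ t σ p * n → q * wr = wr * q → p * w = w * p :=
      fun p q k k' => F_inj h (by
        have := congrArg (F θ t σ) k'
        rw [F_mul h, F_mul h, ← conj_comm (n := n), ← e, k] at this
        rw [F_mul h, F_mul h]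
        simpa [mul_assoc] using this)
    rcases k2 x' y' with k | k | k
    · exact k1 (tr _ _ ex k)
    · exact k2' (tr _ _ ey k)
    · exact k3 (tr _ _ (by rw [F_mul h, F_mul h, ex, ey]; group) k)

end H20.D2s
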