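import Mathlib

/-! Symmetric local algebras with small centre are commutative. -/

set_option autoImplicit false
set_option linter.unusedSectionVars false

namespace H20
open Submodule Module

variable {k R : Type*} [Field k] [Ring R] [Algebra k R] {J : Submodule k R} {a b : R}

theorem pow_eq_bot_of_list (h : ∃ N, ∀ l : List R, l.length = N → (∀ a ∈ l, a ∈ J) → l.prod = 0) :
    ∃ N, J ^ N = ⊥ := by
  obtain ⟨N, hN⟩ := h
  refine ⟨N, ?_⟩
  rw [pow_eq_span_pow_set, span_eq_bot]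
  intro x hx
  obtain ⟨f, rfl⟩ := Set.mem_pow.1 hx
  exact hN _ (by simp) fun a ha => by
    obtain ⟨i, rfl⟩ := (List.mem_ofFn' _ _).1 ha
    exact (f i).2

theorem eq_bot_of_le_mul {N : ℕ} (hN : J ^ N = ⊥) {M : Submodule k R} (h : M ≤ M * J) : M = ⊥ := by
  have : ∀ n, M ≤ M * J ^ n := fun n => by
    induction n with
    | zero => simp
    | succ n ih => exact h.trans (by rw [pow_succ, ← mul_assoc]; exact mul_le_mul_left ih J)
  simpa [hN] using this N

theorem comm_of_one_gen {N : ℕ} (hN : J ^ N = ⊥) (ha : a ∈ J) (hJ : J * J ≤ J)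
    (h : J ≤ span k {a} ⊔ J * J) {x y : R} (hx : x ∈ J) (hy : y ∈ J) : x * y = y * x := by
  have h0 : span k {a} ≤ J := (span_singleton_le_iff_mem _ _).2 ha
  have h1 : ∀ n, J ^ (n + 1) ≤ span k {a ^ (n + 1)} ⊔ J ^ (n + 2) := fun n => by
    induction n with
    | zero => simpa [sq] using h
    | succ n ih =>
      have h2 : span k {a ^ (n + 1)} ≤ J ^ (n + 1) :=
        (span_singleton_le_iff_mem _ _).2 (pow_mem_pow _ ha _)
      rw [pow_succ J (n + 1)]
      refine (mul_le_mul' ih h).trans ?_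
      rw [Submodule.sup_mul, Submodule.mul_sup, span_mul_span, Set.singleton_mul_singleton,
        ← pow_succ]
      refine sup_le (sup_le le_sup_left (le_sup_of_le_right ?_)) (le_sup_of_le_right ?_)
      · rw [pow_succ J (n + 2), pow_succ J (n + 1), mul_assoc]; exact mul_le_mul_left h2 _
      · rw [pow_succ J (n + 2)]; exact mul_le_mul_right (sup_le h0 hJ) _
  have h2 : ∀ n, J ≤ (Algebra.adjoin k {a}).toSubmodule ⊔ J ^ (n + 1) := fun n => by
    induction n with
    | zero => simp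
    | succ n ih =>
      exact ih.trans (sup_le le_sup_left ((h1 n).trans (sup_le_sup_right
        ((span_singleton_le_iff_mem _ _).2 (pow_mem (Algebra.self_mem_adjoin_singleton k a) _)) _)))
  have h3 := h2 N
  rw [pow_succ, hN, bot_mul, sup_bot_eq] at h3
  have := Algebra.isMulCommutative_adjoin_singleton k a
  exact congrArg Subtype.val (mul_comm' (⟨x, h3 hx⟩ : Algebra.adjoin k {a}) ⟨y, h3 hy⟩)

theorem exists_sub_mem {S : Submodule k R} {c x : R} (h : x ∈ span k {c} ⊔ S) :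
    ∃ t : k, x - t • c ∈ S := by
  obtain ⟨y, hy, z, hz, rfl⟩ := mem_sup.1 h
  obtain ⟨t, rfl⟩ := mem_span_singleton.1 hy
  exact ⟨t, by simpa using hz⟩

theorem cube_le (hJ : J * J ≤ J) (ha : a ∈ J) (hb : b ∈ J) (h : J ≤ span k {a, b} ⊔ J * J)
    (hc : J * J ≤ span k {a * b - b * a} ⊔ J * J * J) (h2 : a * a ∈ J * J * J) :
    J * J * J ≤ J * J * J * J := by
  set c := a * b - b * a with hc0
  have hcJ : span k {c} ≤ J * J :=
    (span_singleton_le_iff_mem _ _).2 (sub_mem (mul_mem_mul ha hb) (mul_mem_mul hb ha))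
  obtain ⟨l, hl⟩ := exists_sub_mem (hc (mul_mem_mul ha hb))
  obtain ⟨m, hm⟩ := exists_sub_mem (hc (mul_mem_mul hb ha))
  obtain ⟨n, hn⟩ := exists_sub_mem (hc (mul_mem_mul hb hb))
  have L : ∀ {x y}, x ∈ J → y ∈ J * J * J → x * y ∈ J * J * J * J := fun hx hy => by
    simpa only [mul_assoc] using mul_mem_mul hx hy
  have q : ∀ {x}, x ∈ J * J * J * J ↔ (J * J * J * J).mkQ x = 0 := by simp
  have e1 := q.1 (sub_mem (mul_mem_mul h2 hb) (L ha hl))
  have e2 := q.1 (sub_mem (L hb h2) (mul_mem_mul hm ha))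
  have e3 := q.1 (sub_mem (mul_mem_mul hl ha) (L ha hm))
  have e4 := q.1 (sub_mem (mul_mem_mul hn ha) (L hb hm))
  have e5 := q.1 (sub_mem (L ha hn) (mul_mem_mul hl hb))
  simp only [mul_sub, sub_mul, mul_assoc, sub_sub_cancel, sub_sub_sub_cancel_left, mul_smul_comm,
    smul_mul_assoc, map_sub, map_smul, smul_eq_zero, sub_eq_zero] at e1 e2 e3 e4 e5
  have k1 : a * c ∈ J * J * J * J → b * c ∈ J * J * J * J → J * J * J ≤ J * J * J * J :=
    fun h1 h2 => by
      conv_lhs => rw [mul_assoc]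
      refine (mul_le_mul' h hc).trans ?_
      rw [Submodule.sup_mul, Submodule.mul_sup, span_mul_span]
      refine sup_le (sup_le (span_le.2 ?_) ?_) ?_
      · rintro _ ⟨x, rfl | rfl, y, rfl, rfl⟩
        exacts [h1, h2]
      · simp only [mul_assoc]
        exact mul_le_mul_left (span_le.2 (by rintro _ (rfl | rfl); exacts [ha, hb])) _
      · rw [mul_assoc (J * J) J J]
        exact mul_le_mul_right (sup_le hcJ (mul_le_mul_left hJ _)) _
  have k2 : c * a ∈ J * J * J * J → c * b ∈ J * J * J * J → J * J * J ≤ J * J * J * J :=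
    fun h1 h2 => by
      refine (mul_le_mul' hc h).trans ?_
      rw [Submodule.mul_sup, Submodule.sup_mul, span_mul_span]
      refine sup_le (sup_le (span_le.2 ?_) ?_) ?_
      · rintro _ ⟨x, rfl, y, rfl | rfl, rfl⟩
        exacts [h1, h2]
      · exact mul_le_mul_right (span_le.2 (by rintro _ (rfl | rfl); exacts [ha, hb])) _
      · rw [mul_assoc (J * J) J J]
        exact mul_le_mul_left (sup_le hcJ (mul_le_mul_left hJ _)) _
  by_cases h0 : m = 0
  · by_cases h1 : l = 0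
    · have : c ∈ J * J * J := by simpa [h0, h1] using sub_mem hl hm
      exact mul_le_mul_left (hc.trans (sup_le ((span_singleton_le_iff_mem _ _).2 this) le_rfl)) _
    · have f1 := e1.resolve_left h1
      rw [f1, smul_zero, eq_comm, smul_eq_zero] at e3
      rw [f1, smul_zero, smul_eq_zero] at e5
      exact k2 (q.2 (e3.resolve_left h1)) (q.2 (e5.resolve_left h1))
  · have f1 := e2.resolve_left h0
    rw [f1, smul_zero, smul_eq_zero] at e3 e4
    exact k1 (q.2 (e3.resolve_left h0)) (q.2 (e4.resolve_left h0))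

variable (J) in
/-- the span of commutators -/
def cmm : Submodule k R := span k {x | ∃ a ∈ J, ∃ b ∈ J, a * b - b * a = x}

theorem cmm_le_sq : cmm J ≤ J * J := span_le.2 <| by
  rintro _ ⟨a, ha, b, hb, rfl⟩
  exact sub_mem (mul_mem_mul ha hb) (mul_mem_mul hb ha)

theorem cmm_le_of_gen (hJ : J * J ≤ J) (h : J ≤ span k {a, b} ⊔ J * J) :
    cmm J ≤ span k {a * b - b * a} ⊔ J * J * J := span_le.2 <| by
  rintro _ ⟨x, hx, y, hy, rfl⟩
  obtain ⟨x1, h1, x2, h2, rfl⟩ := mem_sup.1 (h hx)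
  obtain ⟨y1, h3, y2, h4, rfl⟩ := mem_sup.1 (h hy)
  have h5 : x1 ∈ J := by simpa using sub_mem hx (hJ h2)
  have L : ∀ {x y}, x ∈ J → y ∈ J * J → x * y ∈ J * J * J := fun hx hy => by
    simpa only [mul_assoc] using mul_mem_mul hx hy
  obtain ⟨s, t, rfl⟩ := mem_span_pair.1 h1
  obtain ⟨u, v, rfl⟩ := mem_span_pair.1 h3
  refine mem_sup.2 ⟨(s * v - t * u) • (a * b - b * a), smul_mem _ _ (mem_span_singleton_self _), _,
    add_mem (sub_mem (L h5 h4) (mul_mem_mul h4 h5)) (sub_mem (mul_mem_mul h2 hy) (L hy h2)), ?_⟩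
  simp only [mul_add, add_mul, smul_mul_assoc, mul_smul_comm, smul_add, smul_sub, sub_smul,
    smul_smul, mul_comm u, mul_comm v]
  abel

theorem comm_of_symm [IsAlgClosed k] [FiniteDimensional k R] {N : ℕ} (hN : J ^ N = ⊥)
    (hJ : J * J ≤ J) (s : R →ₗ[k] k) (hs : ∀ a b, s (a * b) = s (b * a))
    (hnd : ∀ x ∈ J, s x = 0 → (∀ y ∈ J, s (x * y) = 0) → x = 0)
    (hd : finrank k J ≤ finrank k (cmm J) + 3) {x y : R} (hx : x ∈ J) (hy : y ∈ J) :
    x * y = y * x := by
  by_contra hxy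
  have hz : ∀ M ≤ J, M * J ≤ M → M ≤ LinearMap.ker s → M = ⊥ := fun M h1 h2 h3 =>
    eq_bot_iff.2 fun z hz => hnd z (h1 hz) (h3 hz) fun w hw => h3 (h2 (mul_mem_mul hz hw))
  have hK : cmm J ≤ J * J ⊓ LinearMap.ker s := le_inf cmm_le_sq (span_le.2 <| by
    rintro _ ⟨a, -, b, -, rfl⟩
    simp [hs a b])
  have hK0 : cmm J ≠ ⊥ := fun h => hxy (sub_eq_zero.1 ((mem_bot k).1
    (h ▸ subset_span ⟨x, hx, y, hy, rfl⟩)))
  have h3 : J * J * J ≤ J * J := mul_le_mul_left hJ _
  have l1 := finrank_lt_finrank_of_lt (inf_lt_left.2 fun h =>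
    hK0 (eq_bot_iff.2 (cmm_le_sq.trans (hz _ hJ h3 h).le)))
  obtain ⟨a, ha, ha'⟩ : ∃ a ∈ J, a ∉ J * J := by
    by_contra! h
    exact hxy (comm_of_one_gen hN (zero_mem _) hJ (le_sup_of_le_right h) hx hy)
  obtain ⟨b, hb, hb'⟩ : ∃ b ∈ J, b ∉ span k {a} ⊔ J * J := by
    by_contra! h
    exact hxy (comm_of_one_gen hN ha hJ h hx hy)
  have lt : ∀ {M : Submodule k R} {z : R}, z ∉ M → finrank k M < finrank k ↥(span k {z} ⊔ M) :=
    fun h => finrank_lt_finrank_of_lt (right_lt_sup.2 (mt (span_singleton_le_iff_mem _ _).1 h))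
  have l2 := lt ha'
  have l3 := lt hb'
  rw [← sup_assoc, ← span_insert, Set.pair_comm] at l3
  have l4 : span k {a, b} ⊔ J * J ≤ J :=
    sup_le (span_le.2 (by rintro _ (rfl | rfl); exacts [ha, hb])) hJ
  have l5 := finrank_mono l4
  have l6 := finrank_mono hK
  have e1 := eq_of_le_of_finrank_le hK (by omega)
  have e2 := (eq_of_le_of_finrank_le l4 (by omega)).ge
  have h4 : J * J * J ≠ ⊥ := fun h => hK0 (hz _ (cmm_le_sq.trans hJ)
    ((mul_le_mul_left cmm_le_sq _).trans (h.le.trans bot_le)) (hK.trans inf_le_right))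
  have l7 := finrank_lt_finrank_of_lt (left_lt_sup.2 fun h : J * J * J ≤ cmm J => h4
    (hz _ (h3.trans hJ) (mul_le_mul_left h3 _) (h.trans (hK.trans inf_le_right))))
  have e3 := (eq_of_le_of_finrank_le (sup_le cmm_le_sq h3) (by omega)).ge
  have e4 := e3.trans (sup_le (cmm_le_of_gen hJ e2) le_sup_right)
  refine h4 (eq_bot_of_le_mul hN ?_)
  obtain ⟨α, h5⟩ := exists_sub_mem (e4 (mul_mem_mul ha ha))
  obtain ⟨l, h6⟩ := exists_sub_mem (e4 (mul_mem_mul ha hb))
  obtain ⟨m, h7⟩ := exists_sub_mem (e4 (mul_mem_mul hb ha))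
  obtain ⟨n, h8⟩ := exists_sub_mem (e4 (mul_mem_mul hb hb))
  by_cases hn : n = 0
  · refine cube_le hJ hb ha (by rwa [Set.pair_comm]) ?_ (by simpa [hn] using h8)
    rwa [← neg_sub, ← Set.neg_singleton, span_neg]
  obtain ⟨t, ht⟩ := IsAlgClosed.exists_root (Polynomial.C n * Polynomial.X ^ 2 +
    Polynomial.C (l + m) * Polynomial.X + Polynomial.C α) (by
      rw [Polynomial.degree_quadratic hn]; decide)
  simp only [Polynomial.IsRoot, Polynomial.eval_add, Polynomial.eval_mul, Polynomial.eval_C,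
    Polynomial.eval_pow, Polynomial.eval_X] at ht
  refine cube_le (a := a + t • b) hJ (add_mem ha (smul_mem _ _ hb)) hb ?_ ?_ ?_
  · refine e2.trans (sup_le_sup_right (span_le.2 ?_) _)
    rintro z (rfl | rfl)
    exacts [mem_span_pair.2 ⟨1, -t, by simp⟩, subset_span (by simp)]
  · simpa [add_mul, mul_add] using e4
  · have := add_mem (add_mem h5 (smul_mem _ t (add_mem h6 h7))) (smul_mem _ (t * t) h8)
    convert this using 1
    rw [show α = -(n * (t * t) + (l + m) * t) by linear_combination ht]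
    simp only [mul_add, add_mul, smul_mul_assoc, mul_smul_comm, smul_add, smul_sub, add_smul,
      neg_smul, smul_smul, neg_add, mul_comm t, mul_comm (t * t)]
    abel

end H20
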