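import Cfsg.Agent.H20.Wed2
import Cfsg.Agent.H20.Loc
import Cfsg.Agent.H19.Sub

/-! Blocks with one simple module and blocks whose characters have equal degrees. -/

set_option autoImplicit false
set_option linter.unusedSectionVars false

namespace H20
open MonoidAlgebra Subgroup H10 Cfsg H17 Finset
open H19 (kk Blk irr eB fB lam OG red ZZ om ev IsPElt ppart rpart il liftG GC ZB Kr SB Induces)
open scoped ComplexConjugate

variable {O : ValuationSubring ℂ} {G : Type*} [Group G] [Finite G] {p : ℕ} [hp : Fact p.Prime]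
  [CharP (kk O) p] {θ : G → ℂ} {F : ℂ[G]} {β : Blk O G} {χ : IrrCharacter G}

omit hp in
theorem ev_corner_mul (hF : IsIdempotentElem F) (h1 : ev (χ : G → ℂ) F = 1) (a b : ℂ[G]) :
    ev (χ : G → ℂ) (F * a * F * (F * b * F)) =
      ev (χ : G → ℂ) (F * a * F) * ev (χ : G → ℂ) (F * b * F) := by
  classical
  have hc := H19.ZZ_comm (H19.fB_mem_ZZ {χ})
  set E := fB {χ} * F with hE
  have hi : IsIdempotentElem E := IsIdempotentElem.mul_of_commute (hc _) (H19.fB_mul_self _) hF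
  have h2 : IsIdempotentElem (LinearMap.mulLeftRight ℂ (E, E)) := LinearMap.ext fun a => by
    simp only [Module.End.mul_apply, LinearMap.mulLeftRight_apply, mul_assoc, hi.eq]
    rw [← mul_assoc, hi.eq]
  have h3 := (LinearMap.IsIdempotentElem.isProj_range _ h2).trace
  have h4 : ev (χ : G → ℂ) E = 1 := by rw [hE, H19.ev_fB_mul_of_mem (Set.mem_singleton χ), h1]
  rw [trace_mulLeftRight, sum_eq_single χ (fun ψ _ h => by
    rw [hE, H19.ev_fB_mul_of_not_mem (by exact h), zero_mul]) (by simp), h4, one_mul, eq_comm,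
    Nat.cast_eq_one, finrank_eq_one_iff_of_nonzero' ⟨E, 1, by simp [hi.eq]⟩ (fun h => by
      rw [show E = 0 from congrArg Subtype.val h, map_zero] at h4; exact zero_ne_one h4)] at h3
  have key : ∀ a, fB {χ} * (F * a * F) = ev (χ : G → ℂ) (F * a * F) • E := fun a => by
    obtain ⟨c, h⟩ := h3 ⟨_, a, rfl⟩
    have h5 : c • E = fB {χ} * (F * a * F) := (show c • E = E * a * E from
      congrArg Subtype.val h).trans (by
      rw [hE, mul_assoc (fB _) F, mul_assoc, ← mul_assoc (F * a),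
        ← hc, ← mul_assoc, ← mul_assoc, H19.fB_mul_self, mul_assoc])
    rw [← H19.ev_fB_mul_of_mem (Set.mem_singleton χ), ← h5, map_smul, h4, smul_eq_mul, mul_one]
  rw [← H19.ev_fB_mul_of_mem (Set.mem_singleton χ), ← mul_assoc, key, smul_mul_assoc, hE,
    mul_assoc (fB _), ← mul_assoc F, ← mul_assoc F, hF.eq, map_smul,
    H19.ev_fB_mul_of_mem (Set.mem_singleton χ), smul_eq_mul]

omit hp in
theorem sum_deg_ev_blk [DecidablePred (· ∈ irr β)] (a : ℂ[G]) :
    ∑ χ with χ ∈ irr β, (χ : G → ℂ) 1 * ev (χ : G → ℂ) a = Nat.card G * (fB (irr β) * a).coeff 1 := by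
  rw [← H19.sum_deg_mul_ev, sum_filter]
  refine sum_congr rfl fun χ _ => ?_
  split_ifs with h
  · rw [H19.ev_fB_mul_of_mem h]
  · rw [H19.ev_fB_mul_of_not_mem h, mul_zero]

theorem card_eq_of_pr_eq (h : ∀ χ ∈ irr β, ∀ ψ ∈ irr β,
    pRegularPart p (χ : G → ℂ) = pRegularPart p (ψ : G → ℂ)) :
    Nat.card (irr β) = p ^ blockDefect p (irr β) := by
  classical
  obtain ⟨χ, hχ, h0⟩ := exists_height_zero p (H19.irr_nonempty β)
  obtain ⟨φ, d, R⟩ := exists_R1 (blockRank_eq_one_of (φ := pRegularPart p (χ : G → ℂ))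
    fun ψ hψ => ⟨1, by rw [one_smul, h ψ hψ χ hχ]⟩)
  have h1 : ∀ ψ ∈ irr β, d ψ = d χ := fun ψ hψ => by
    have := congrArg (fun θ => (p : ℂ) ^ blockDefect p (irr β) * bil θ φ) (h ψ hψ χ hχ)
    simp only [R.dec ψ hψ, R.dec χ hχ, map_smul, LinearMap.smul_apply, smul_eq_mul,
      mul_left_comm ((p : ℂ) ^ _), R.norm, mul_one] at this
    exact_mod_cast this
  have h2 := R.sum_sq
  rw [sum_congr rfl fun ψ hψ => by rw [h1 ψ (mem_filter.1 hψ).2], sum_const, smul_eq_mul,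
    ← card_eq_filter] at h2
  have h3 := (val_pow_mul_bil_iff (irr_mem_LB hχ) (irr_mem_LB hχ)).2
    ⟨(lamZ_irr_ne_zero_iff hχ).2 h0, (lamZ_irr_ne_zero_iff hχ).2 h0⟩
  rw [← bil_pr_pr, R.dec χ hχ] at h3
  simp only [map_smul, LinearMap.smul_apply, smul_eq_mul, mul_left_comm ((p : ℂ) ^ _), bil_pr_pr,
    R.norm, mul_one, map_mul] at h3
  obtain ⟨m, -, hm⟩ := (Nat.dvd_prime_pow hp.out).1
    ((dvd_pow_self (d χ) two_ne_zero).trans (Dvd.intro_left _ h2))
  rw [hm, Nat.cast_pow, map_pow, ← pow_add, ← pow_zero (O.valuation (p : ℂ)), val_p_pow_inj] at h3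
  rw [← h2, hm, show m = 0 by omega]; simp

theorem rank_one_of_Kr (P : Blk O G → Prop) (hβ : P β) (h : ∀ y z, ¬ p ∣ orderOf y →
    ¬ p ∣ orderOf z → Kr {ψ | P (lam O ψ)} y z / (p : ℂ) ^ blockDefect p (irr β) ∈ O) :
    blockRank p (irr β) = 1 := by
  classical
  obtain ⟨W⟩ := nonempty_wed (kk O) (kk O)[G]
  refine le_antisymm ?_ (blockRank_pos β)
  rw [← W.card_blk (p := p) β, card_le_one]
  set u : ℂ := Nat.card G / (p : ℂ) ^ emin p (irr β) / (p : ℂ) ^ blockDefect p (irr β)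
  have hu : O.valuation u = 1 := by
    rw [map_div₀, val_card_div, div_self]
    simpa using fun h => absurd h hp.out.ne_zero
  have key : ∀ z, ¬ p ∣ orderOf z → ∃ c, ∀ ψ ∈ LB O (irr β), H19.res O u * H19.res O (ψ z) =
      c * H19.res O (ψ 1 / (p : ℂ) ^ emin p (irr β)) := fun z hz => by
    set κ : G → ℂ := ((p : ℂ) ^ blockDefect p (irr β))⁻¹ •
      ∑ ξ with P (lam O ξ), (ξ : G → ℂ) z • (ξ : G → ℂ)
    have h1 : ∀ y, κ y = Kr {ψ | P (lam O ψ)} y z⁻¹ / (p : ℂ) ^ blockDefect p (irr β) := fun y => by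
      simp [κ, H19.Kr_eq, div_eq_inv_mul, mul_comm]
    refine ⟨lamZ β κ, fun ψ hψ => ?_⟩
    rw [← (res_bil_LB (fun g c => by simp only [h1, H19.Kr_isConj _ (isConj_iff.2 ⟨c, rfl⟩).symm
      (IsConj.refl _)]) (fun y => ?_) hψ).2, ← H19.res_mul (mem_of_val_eq_one hu)
      (apply_mem_of_GC (GC_of_LB hψ) z)]
    · congr 1
      have : bil κ ψ = ψ z / (p : ℂ) ^ blockDefect p (irr β) := by
        refine LB_induction (P := fun ψ => bil κ ψ = ψ z / _) hψ (fun ξ hξ => ?_) (by simp)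
          (fun a b ha hb => by rw [map_add, ha, hb, Pi.add_apply, add_div])
          fun c _ a ha => by rw [map_smul, ha, Pi.smul_apply, smul_eq_mul, smul_eq_mul, mul_div_assoc]
        simp only [κ, map_smul, map_sum, LinearMap.smul_apply, LinearMap.sum_apply, bil_irr]
        rw [sum_eq_single ξ (fun _ _ h => by simp [h]) fun h => absurd (mem_filter.2
          ⟨mem_univ _, by rwa [show lam O ξ = β from hξ]⟩) h]
        simp [div_eq_inv_mul]
      rw [this]; ring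
    · rw [h1]
      by_cases hy : p ∣ orderOf y
      · rw [Kr_lam, sum_eq_zero fun b _ => H19.Kr_weak' b hy (by rwa [orderOf_inv]), zero_div]
        exact zero_mem _
      · exact h _ _ hy (by rwa [orderOf_inv])
  choose! c hc using key
  have k2 : ∀ i, W.blk i = β → ∃ x, ∀ g, H19.res O u * W.t i (single g 1) = c (rpart p g) * x :=
    fun i hi => by
      obtain ⟨θ, h1, h2⟩ := W.exists_GC_t p i
      refine ⟨_, fun g => Eq.trans ?_ (hc _ (H19.rpart_reg g) _ (blockPart_mem_LB (irr β) h1))⟩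
      rw [← ev_single_one (blockPart _ _), H19.ev_blockPart _ (H19.GC_class h1),
        res_ev (apply_mem_of_GC h1) (W.t i) h2 (mul_mem (H19.fB_irr_mem_OG β)
          (H19.single_mem_OG _ (one_mem _))), H19.red_mul (H19.fB_irr_mem_OG β)
          (H19.single_mem_OG _ (one_mem _)), red_fB, H19.red_single, H19.res_one, W.t_apply i (_ * _),
        map_mul, Pi.mul_apply, ← hi, W.π_blk, one_mul, ← W.t_apply, W.t_rpart]
  intro i hi j hj
  obtain ⟨x, hx⟩ := k2 i (mem_filter.1 hi).2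
  obtain ⟨y, hy⟩ := k2 j (mem_filter.1 hj).2
  have := Fintype.ofFinite G
  have hu' := (res_ne_zero_iff (mem_of_val_eq_one hu)).2 hu
  have e : ∀ {i x}, (∀ g, H19.res O u * W.t i (single g 1) = c (rpart p g) * x) → ∀ a,
      H19.res O u * W.t i a = (∑ g, a.coeff g * c (rpart p g)) * x := fun h a => by
    rw [map_eq_sum_single, mul_sum, sum_mul]
    exact sum_congr rfl fun g _ => by rw [mul_left_comm, h, mul_assoc]
  by_contra hij
  have e1 := e hx (W.f i)
  have e2 := e hy (W.f i)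
  have e3 := e hy (W.f j)
  simp only [W.t_f, if_true, if_neg (Ne.symm hij), mul_one, mul_zero] at e1 e2 e3
  rcases mul_eq_zero.1 e2.symm with h0 | h0
  · exact hu' (by rw [e1, h0, zero_mul])
  · exact hu' (by rw [e3, h0, mul_zero])

theorem isNil_of_Kr {D : Subgroup G} (hD : IsDef p ⊤ (eG β) D) (hab : D ≤ cent D)
    (h : ∀ g z, Kr (irr β) g z / (p : ℂ) ^ blockDefect p (irr β) ∈ O)
    (hk : Nat.card (irr β) = Nat.card D) : IsNil p ⊤ (eG β) := by
  obtain ⟨e, he⟩ := exists_max (isBlk_eG β) hD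
  obtain ⟨b, S⟩ := H19.exists_SB he
  have := Fintype.ofFinite D
  have h1 := S.card_of_ab hab
  have h2 : ∀ u : D, blockRank p (irr (b u)) = 1 := fun u =>
    rank_one_of_Kr (fun γ => Induces _ γ β) (S.induces u.2) fun y z hy hz => by
      rw [← H19.Kr_shift (S.pelt u.2) β hy hz, S.defect_eq u.2 fun x hx =>
        mem_centralizer_singleton_iff.2 (mem_centralizer_iff.1 (hab u.2) x hx)]
      exact h _ _
  simp only [h2, mul_one] at h1
  rw [hk, Nat.card_eq_fintype_card (α := D), ← card_univ, mul_comm, ← smul_eq_mul, ← sum_const,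
    eq_comm, sum_eq_sum_iff_of_le fun u _ => card_le_of_le inf_le_left] at h1
  refine (he.isNil_iff_of_abelian hab).2 fun x hx => mem_centralizer_iff.2 fun u hu => ?_
  have := (eq_of_le_of_card_ge inf_le_left (h1 ⟨u, hu⟩ (mem_univ _)).ge).ge
    (show x ∈ TT D e from ⟨hx.1.2, hx.2⟩)
  exact (mem_centralizer_singleton_iff.1 this.2).symm

namespace Wed
variable {W : Wed (kk O) (kk O)[G]} {i : Fin W.n}

variable (W) in
/-- `i` is the only simple module of the block -/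
structure Sole (β : Blk O G) (i : Fin W.n) : Prop where
  blk : W.blk i = β
  uniq : ∀ j, W.blk j = β → j = i

variable (W) in
theorem exists_sole (h : blockRank p (irr β) = 1) : ∃ i, W.Sole β i := by
  classical
  obtain ⟨i, hi⟩ := card_eq_one.1 ((W.card_blk β).trans h)
  exact ⟨i, (mem_filter.1 (hi.ge (mem_singleton_self i))).2, fun j hj =>
    mem_singleton.1 (hi ▸ mem_filter.2 ⟨mem_univ _, hj⟩)⟩

theorem Sole.dec (h : W.Sole β i) (hχ : χ ∈ irr β) (c : Fin W.n → ℂ) :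
    ∑ j, c j * W.dn p (χ : G → ℂ) j = c i * W.dn p (χ : G → ℂ) i :=
  sum_eq_single i (fun j _ hj => by
    rw [W.dn_eq_zero fun e => hj (h.uniq j (e.symm.trans hχ))]; simp) (by simp)

theorem Sole.dn_ne_zero (h : W.Sole β i) (hχ : χ ∈ irr β) : W.dn p (χ : G → ℂ) i ≠ 0 := fun h0 =>
  H19.irr_one_ne_zero χ (by rw [W.deg_eq (p := p) χ.2.isCharacter, h.dec hχ, h0]; simp)

omit hp in
theorem Sole.exists_sum (h : W.Sole β i) :
    ∃ x y : Fin (W.d i + 1) → (kk O)[G], ∑ l, x l * W.f i * y l = eG β :=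
  W.exists_sum_eq (isBlk_eG β).idem (eG_comm β) (h.blk ▸ W.π_blk i) fun j hj =>
    W.π_of_ne fun e => hj (h.uniq j e)

theorem Sole.exists_ev (h : W.Sole β i) : ∃ x y : Fin (W.d i + 1) → ℂ[G], (∀ l, x l ∈ OG O G) ∧
    (∀ l, y l ∈ OG O G) ∧ ∀ χ ∈ irr β, ∀ a, ev (χ : G → ℂ) a =
      ∑ l, ev (χ : G → ℂ) (il p (W.f i) * (y l * a * x l) * il p (W.f i)) := by
  obtain ⟨x, y, hxy⟩ := h.exists_sum
  have h1 : ∀ l, liftG O (x l) * il p (W.f i) * liftG O (y l) ∈ OG O G := fun l =>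
    mul_mem (mul_mem (H19.liftG_mem_OG _) (H19.il_OG _)) (H19.liftG_mem_OG _)
  have h2 := sum_mem fun l (_ : l ∈ univ) => h1 l
  obtain ⟨v, v1, -, v2, -⟩ := H19.exists_inv_one_add ((H19.red_eq_zero_iff
    (sub_mem h2 (H19.fB_irr_mem_OG β))).1 (by
      rw [H19.red_sub h2 (H19.fB_irr_mem_OG β), H19.red_sum _ fun l _ => h1 l, red_fB, ← hxy,
        sub_eq_zero]
      exact sum_congr rfl fun l _ => by
        rw [H19.red_mul (mul_mem (H19.liftG_mem_OG _) (H19.il_OG _)) (H19.liftG_mem_OG _),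
          H19.red_mul (H19.liftG_mem_OG _) (H19.il_OG _), H19.red_liftG, H19.red_liftG,
          H19.red_il (W.idem i)]))
  refine ⟨fun l => liftG O (x l), fun l => liftG O (y l) * v, fun l => H19.liftG_mem_OG _,
    fun l => mul_mem (H19.liftG_mem_OG _) v1, fun χ hχ a => ?_⟩
  rw [← one_mul a, ← v2, ← H19.ev_fB_mul_of_mem hχ, ← mul_assoc, ← mul_assoc, mul_add, mul_sub,
    mul_one, H19.fB_mul_self, add_sub_cancel, mul_assoc, mul_assoc, H19.ev_fB_mul_of_mem hχ,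
    sum_mul, map_sum, v2, one_mul]
  refine sum_congr rfl fun l _ => ?_
  rw [H19.ev_mul_comm (H19.irr_class χ) _ (il p _), ← mul_assoc, ← mul_assoc (il p _),
    (H19.il_idem (W.idem i)).eq, mul_assoc (liftG O _), mul_assoc (liftG O _), mul_assoc (liftG O _),
    H19.ev_mul_comm (H19.irr_class χ)]
  simp only [mul_assoc]

theorem Sole.pr_eq (h : W.Sole β i) (h1 : ∀ χ ∈ irr β, W.dn p (χ : G → ℂ) i = 1)
    (hχ : χ ∈ irr β) : pRegularPart p (χ : G → ℂ) = pRegularPart p (W.bc p i) :=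
  H19.pr_eq_iff.2 fun g hg => by
    rw [W.dec_reg χ.2.isCharacter hg, h.dec hχ, h1 χ hχ, Nat.cast_one, mul_one]

theorem Sole.card_eq (h : W.Sole β i) (h1 : ∀ χ ∈ irr β, W.dn p (χ : G → ℂ) i = 1) :
    Nat.card (irr β) = p ^ blockDefect p (irr β) :=
  card_eq_of_pr_eq fun _ hχ _ hψ => (h.pr_eq h1 hχ).trans (h.pr_eq h1 hψ).symm

theorem Sole.Kr_mem (h : W.Sole β i) (h1 : ∀ χ ∈ irr β, W.dn p (χ : G → ℂ) i = 1) (g z : G) :
    Kr (irr β) g z / (p : ℂ) ^ blockDefect p (irr β) ∈ O := by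
  classical
  obtain ⟨x, y, hx, hy, hxy⟩ := h.exists_ev (p := p)
  obtain ⟨ψ, hψ, h0⟩ := exists_vd_eq p (H19.irr_nonempty β)
  have h2 : ∀ χ ∈ irr β, (χ : G → ℂ) 1 = (W.d i + 1 : ℕ) := fun χ hχ => by
    rw [W.deg_eq (p := p) χ.2.isCharacter, h.dec hχ, h1 χ hχ, Nat.cast_one, mul_one]
  have hO : ∀ l w, il p (W.f i) * (y l * single w 1 * x l) * il p (W.f i) ∈ OG O G := fun l w =>
    mul_mem (mul_mem (H19.il_OG _) (mul_mem (mul_mem (hy l) (H19.single_mem_OG _ (one_mem _)))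
      (hx l))) (H19.il_OG _)
  have h3 : (ψ : G → ℂ) 1 * Kr (irr β) g z / Nat.card G ∈ O := by
    rw [H19.Kr_eq, mul_sum, sum_congr rfl fun χ hχ => by
      have hχ := (mem_filter.1 hχ).2
      rw [h2 ψ hψ, ← h2 χ hχ, ← ev_single_one (χ : G → ℂ) g, ← ev_single_one (χ : G → ℂ) z⁻¹,
        hxy χ hχ (single g 1), hxy χ hχ (single z⁻¹ 1), sum_mul_sum, ← sum_product',
        sum_congr rfl fun l _ => (ev_corner_mul (H19.il_idem (W.idem i)) (by
          rw [← tv, ← W.cast_dn χ.2.isCharacter, h1 χ hχ, Nat.cast_one]) _ _).symm, ← map_sum],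
      sum_deg_ev_blk, mul_div_cancel_left₀ _ card_ne_zero_complex]
    exact mul_mem (H19.fB_irr_mem_OG β) (sum_mem fun l _ => mul_mem (hO _ _) (hO _ _)) 1
  rw [← O.valuation_le_one_iff] at h3 ⊢
  rwa [map_div₀, ← val_card_div, map_div₀, map_pow, ← h0, ← val_deg, div_div_eq_mul_div,
    mul_comm, ← map_mul, ← map_div₀]

variable (W) in
theorem exists_sole_of_deg {n : ℕ} (h : ∀ χ ∈ irr β, (χ : G → ℂ) 1 = n) :
    ∃ i, W.Sole β i ∧ ∀ χ ∈ irr β, W.dn p (χ : G → ℂ) i = 1 := by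
  classical
  obtain ⟨χ, hχ, h0⟩ := exists_height_zero p (H19.irr_nonempty β)
  have hn : (n : ℂ) ≠ 0 := h χ hχ ▸ H19.irr_one_ne_zero χ
  set Φ : G → ℂ := ∑ ξ with ξ ∈ irr β, (ξ : G → ℂ)
  have h1 : ∀ g, p ∣ orderOf g → Φ g = 0 := fun g hg => by
    have := H19.Kr_weak' β hg (h := 1) (by simpa using hp.out.ne_one)
    rw [H19.Kr_eq, sum_congr rfl fun ξ hξ => by rw [inv_one, h ξ (mem_filter.1 hξ).2],
      ← sum_mul] at this
    simpa [Φ, hn] using this
  have h2 : ∀ ξ : IrrCharacter G, bil Φ ξ = if ξ ∈ irr β then 1 else 0 := fun ξ => by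
    simp [Φ, bil_irr, -H19.mem_irr]
  have h3 := W.ext_dn (p := p) (x := fun j => n * bil Φ (W.bc p j))
    (y := fun j => if W.blk j = β then (W.d j + 1 : ℕ) else 0) fun ξ => by
      simp only [mul_assoc, ← mul_sum, ← W.bil_dec h1 ξ.2.isCharacter, h2]
      split_ifs with hξ
      · rw [mul_one, ← h ξ hξ, W.deg_eq (p := p) ξ.2.isCharacter]
        refine sum_congr rfl fun j _ => ?_
        split_ifs with hj
        · rfl
        · rw [W.dn_eq_zero fun e => hj (e.symm.trans hξ)]; simp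
      · rw [mul_zero, sum_eq_zero fun j _ => ?_]
        split_ifs with hj
        · rw [W.dn_eq_zero fun e => hξ (e.trans hj)]; simp
        · simp
  have h4 : ∀ j, W.blk j = β → n ≤ W.d j + 1 := fun j hj => by
    have h5 := h3 j
    simp only [if_pos hj] at h5
    refine Nat.le_of_dvd (Nat.succ_pos _) (nat_dvd_of_isIntegral_div (by exact_mod_cast hn) ?_)
    rw [← h5, mul_div_cancel_left₀ _ hn]
    exact bil_mem_of_GC (sum_mem fun ξ _ => H19.irr_mem_GC ξ) (W.bc_mem_GC j)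
  have h5 : ∀ ξ ∈ irr β, ∀ j, W.dn p (ξ : G → ℂ) j ≠ 0 → W.dn p (ξ : G → ℂ) j = 1 ∧
      ∀ l ≠ j, W.dn p (ξ : G → ℂ) l = 0 := fun ξ hξ j hj => by
    have h6 : n = ∑ j, (W.d j + 1) * W.dn p (ξ : G → ℂ) j := by
      exact_mod_cast (h ξ hξ).symm.trans (W.deg_eq (p := p) ξ.2.isCharacter)
    have h7 : n * ∑ j, W.dn p (ξ : G → ℂ) j ≤ n * 1 := by
      rw [mul_sum, mul_one]
      refine (sum_le_sum fun l _ => ?_).trans h6.ge
      by_cases e : W.blk l = β
      · exact Nat.mul_le_mul_right _ (h4 l e)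
      · simp [W.dn_eq_zero fun e' => e (e'.symm.trans hξ)]
    have h8 := Nat.le_of_mul_le_mul_left h7 (Nat.pos_of_ne_zero (by exact_mod_cast hn))
    rw [← add_sum_erase _ _ (mem_univ j)] at h8
    exact ⟨by omega, fun l hl => sum_eq_zero_iff.1 (by omega : ∑ l ∈ univ.erase j,
      W.dn p (ξ : G → ℂ) l = 0) l (mem_erase.2 ⟨hl, mem_univ _⟩)⟩
  obtain ⟨i, -, hi⟩ := exists_ne_zero_of_sum_ne_zero
    (W.deg_eq (p := p) χ.2.isCharacter ▸ H19.irr_one_ne_zero χ)
  have hi : W.dn p (χ : G → ℂ) i ≠ 0 := by exact_mod_cast right_ne_zero_of_mul hi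
  have h6 : ∀ ξ ∈ irr β, W.dn p (ξ : G → ℂ) i ≠ 0 →
      pRegularPart p (ξ : G → ℂ) = pRegularPart p (W.bc p i) := fun ξ hξ h6 =>
    H19.pr_eq_iff.2 fun g hg => by
      rw [W.dec_reg ξ.2.isCharacter hg, sum_eq_single i (fun l _ hl => by
        simp [(h5 ξ hξ i h6).2 l hl]) (by simp), (h5 ξ hξ i h6).1, Nat.cast_one, mul_one]
  have hb : W.blk i = β := by_contra fun e => hi (W.dn_eq_zero fun e' => e (e'.symm.trans hχ))
  have h7 : ∀ ξ ∈ irr β, W.dn p (ξ : G → ℂ) i ≠ 0 := fun ξ hξ e => by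
    obtain ⟨A, a1, -, -, a2, -⟩ := exists_ctr_matrix (p := p) (β := β)
    have h8 : ∑ ζ : IrrCharacter G, (W.dn p (ζ : G → ℂ) i : ℂ) • (ζ : G → ℂ) =
        (∑ ζ : IrrCharacter G, W.dn p (ζ : G → ℂ) i : ℕ) • pRegularPart p (χ : G → ℂ) := by
      funext g
      by_cases hg : p ∣ orderOf g
      · simpa [H19.pr_of_sing _ hg] using W.proj_sing i hg
      rw [Finset.sum_apply, Pi.smul_apply, sum_smul]
      refine sum_congr rfl fun ζ _ => ?_
      by_cases e : W.dn p (ζ : G → ℂ) i = 0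
      · simp [e]
      rw [h6 χ hχ hi, ← h6 ζ (by_contra fun e' => e (W.dn_eq_zero (hb ▸ e'))) e,
        H19.pr_of_reg _ hg, Pi.smul_apply, smul_eq_mul, nsmul_eq_mul]
    have h9 := congrArg (fun θ => (p : ℂ) ^ blockDefect p (irr β) * bil θ ξ) h8
    simp only [map_sum, map_smul, LinearMap.sum_apply, LinearMap.smul_apply, bil_irr, smul_eq_mul,
      mul_ite, mul_one, mul_zero, sum_ite_eq', mem_univ, if_true, e, Nat.cast_zero,
      map_nsmul] at h9
    rw [nsmul_eq_mul, mul_left_comm, a1 χ hχ] at h9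
    rcases mul_eq_zero.1 h9.symm with h9 | h9
    · exact hi (sum_eq_zero_iff.1 (by exact_mod_cast h9) χ (mem_univ _))
    · exact (a2 χ hχ ξ hξ h0).1 (by exact_mod_cast h9)
  refine ⟨i, ⟨hb, fun j hj => by_contra fun e => ?_⟩, fun ξ hξ => (h5 ξ hξ i (h7 ξ hξ)).1⟩
  obtain ⟨ξ, hξ, h8⟩ := W.exists_dn_ne_zero (p := p) j
  exact h8 ((h5 ξ (hj ▸ hξ) i (h7 ξ (hj ▸ hξ))).2 j e)

theorem Sole.dn_eq_one (h : W.Sole β i) (hk : Nat.card (irr β) ≤ 4) (hχ : χ ∈ irr β) :
    W.dn p (χ : G → ℂ) i = 1 := by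
  classical
  obtain ⟨x, y, hxy⟩ := h.exists_sum
  set f := W.f i with hf0
  have hf := W.idem i
  set A := LinearMap.range (LinearMap.mulLeftRight (kk O) (f, f))
  have hA : ∀ {a}, a ∈ A ↔ f * a = a ∧ a * f = a := Subsemigroup.mem_corner_iff hf
  set J := A ⊓ LinearMap.ker (W.t i)
  have hπ : ∀ a ∈ J, W.π a = 0 := fun a ha => by
    rw [W.π_corner (i := i) (by rw [(hA.1 ha.1).1, (hA.1 ha.1).2]), ha.2, zero_smul]
  have hAA : ∀ a ∈ A, ∀ b ∈ A, a * b ∈ A := fun a ha b hb =>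
    hA.2 ⟨by rw [← mul_assoc, (hA.1 ha).1], by rw [mul_assoc, (hA.1 hb).2]⟩
  have hfA : f ∈ A := hA.2 ⟨hf, hf⟩
  have hdec : ∀ a ∈ A, a - W.t i a • f ∈ J := fun a ha =>
    ⟨sub_mem ha (A.smul_mem _ hfA), by simp [hf0, W.t_f]⟩
  obtain ⟨N, hN⟩ := pow_eq_bot_of_list (J := J) (W.nilp.imp fun N hN l h1 h2 =>
    hN l h1 fun a ha => hπ a (h2 a ha))
  let s : (kk O)[G] →ₗ[kk O] kk O := ⟨⟨fun a => a.coeff 1, fun a b => by simp⟩, fun c a => by simp⟩
  have hs : ∀ a b, s (a * b) = s (b * a) := fun a b => coeff_one_comm a b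
  have hnd : ∀ a ∈ A, s a = 0 → (∀ b ∈ J, s (a * b) = 0) → a = 0 := fun a ha h1 h2 =>
    ext_coeff fun g => by
      have h3 := h2 _ (hdec _ ⟨single g⁻¹ 1, rfl⟩)
      rw [mul_sub, mul_smul_comm, (hA.1 ha).2, map_sub, map_smul, h1, smul_zero, sub_zero,
        LinearMap.mulLeftRight_apply, ← mul_assoc, hs, ← mul_assoc, ← mul_assoc,
        (hA.1 ha).1, (hA.1 ha).2] at h3
      simpa using show (a * single g⁻¹ (1 : kk O)).coeff 1 = 0 from h3
  set Z := A ⊓ (Subalgebra.centralizer (kk O) (A : Set (kk O)[G])).toSubmodule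
  have hZ : Module.finrank (kk O) Z ≤ Nat.card (irr β) := by
    let T : (kk O)[G] →ₗ[kk O] (kk O)[G] := ∑ l, LinearMap.mulLeftRight (kk O) (x l, y l)
    have hT : ∀ z, T z = ∑ l, x l * z * y l := fun z => by simp [T]
    have hfe : f * eG β = f := h.blk ▸ W.f_mul_blk i
    have h1 : ∀ z ∈ Z, ∀ a, f * a * z = z * a * f := fun z hz a => by
      have := hz.2 (f * a * f) ⟨a, rfl⟩
      rwa [mul_assoc, (hA.1 hz.1).1, ← mul_assoc, ← mul_assoc, (hA.1 hz.1).2] at this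
    have h2 : ∀ z ∈ Z, f * T z * f = z := fun z hz => by
      rw [hT, mul_sum, sum_mul, sum_congr rfl fun l _ => by
        rw [← mul_assoc, ← mul_assoc, h1 z hz, mul_assoc z, mul_assoc z], ← sum_mul, ← mul_sum,
        hxy, ← (hA.1 hz.1).2, mul_assoc z, hfe, mul_assoc, hf.eq]
    have e1 : ∀ z ∈ Z, eG β * T z = T z := fun z hz => by
      rw [hT, mul_sum]; exact sum_congr rfl fun l _ => by
        rw [← eG_comm, mul_assoc, eG_comm, ← mul_assoc, ← (hA.1 hz.1).2, ← mul_assoc,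
          mul_assoc _ f, hfe]
    have h3 : ∀ z ∈ Z, ∀ a, a * T z = T z * a := fun z hz a => by
      calc a * T z = eG β * a * T z := by rw [← eG_comm, mul_assoc, e1 z hz]
        _ = T z * a * eG β := by
          rw [← hxy, hT, sum_mul, sum_mul, sum_mul, sum_mul]
          refine sum_congr rfl fun l _ => ?_
          rw [mul_sum, mul_sum]
          refine sum_congr rfl fun m _ => ?_
          simpa only [mul_assoc] using congrArg (x l * · * y m) (h1 z hz (y l * a * x m))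
        _ = T z * a := by rw [eG_comm, ← mul_assoc, e1 z hz]
    rw [← LinearMap.finrank_range_of_inj (f := T.domRestrict Z) (fun a b e => Subtype.ext <| by
      rw [← h2 a a.2, ← h2 b b.2]; exact congrArg (f * · * f) e), card_eq_filter]
    refine (finrank_le_of_lift (S := Submodule.span ℂ (((univ.filter (· ∈ irr β)).image
      fun ξ => fB {ξ} : Finset ℂ[G]) : Set ℂ[G])) ?_).trans
      ((finrank_span_finset_le_card _).trans card_image_le)
    rintro _ ⟨z, rfl⟩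
    have h4 : T z ∈ ZZ (kk O) G := Subalgebra.mem_center_iff.2 (h3 z z.2)
    refine ⟨fB (irr β) * liftG O (T z), ?_, mul_mem (H19.fB_irr_mem_OG β) (H19.liftG_mem_OG _), ?_⟩
    · rw [H19.eq_sum_fB (mul_mem (H19.fB_mem_ZZ _) (H19.liftG_mem_ZZ h4))]
      refine sum_mem fun ξ _ => ?_
      by_cases hξ : ξ ∈ irr β
      · exact Submodule.smul_mem _ _ (Submodule.subset_span (by
          rw [coe_image]; exact ⟨ξ, by simpa using hξ, rfl⟩))
      · rw [H19.om_central_mul ξ.2 (H19.fB_mem_ZZ _), H19.om_fB_of_not_mem hξ]; simp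
    · rw [H19.red_mul (H19.fB_irr_mem_OG β) (H19.liftG_mem_OG _), red_fB, H19.red_liftG]
      exact e1 z z.2
  have hc : ∀ a ∈ A, (∀ b ∈ J, b * a = a * b) → a ∈ Z := fun a ha h1 => ⟨ha, fun b hb => by
    rw [← sub_add_cancel b (W.t i b • f), add_mul, mul_add, h1 _ (hdec b hb), smul_mul_assoc,
      mul_smul_comm, (hA.1 ha).1, (hA.1 ha).2]⟩
  have hJJ : J * J ≤ J := Submodule.mul_le.2 fun a ha b hb =>
    ⟨hAA a ha.1 b hb.1, by simp [W.t_apply, hπ a ha]⟩
  have h1 : Module.finrank (kk O) A ≤ Module.finrank (kk O) (cmm J) + Module.finrank (kk O) Z := by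
    let Ψ : A →ₗ[kk O] Module.Dual (kk O) (cmm J) :=
      ((LinearMap.mul (kk O) (kk O)[G]).compr₂ s).compl₁₂ A.subtype (cmm J).subtype
    rw [← Ψ.finrank_range_add_finrank_ker, ← Subspace.dual_finrank_eq (V := cmm J),
      ← Submodule.finrank_map_subtype_eq]
    refine add_le_add (Submodule.finrank_le _) (Submodule.finrank_mono ?_)
    rintro _ ⟨a, ha, rfl⟩
    refine hc _ a.2 fun b hb => sub_eq_zero.1 (hnd _ (sub_mem (hAA _ hb.1 _ a.2) (hAA _ a.2 _ hb.1))
      (by rw [map_sub, hs, sub_self]) fun c hc => ?_)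
    have := LinearMap.congr_fun ha ⟨c * b - b * c, Submodule.subset_span ⟨c, hc, b, hb, rfl⟩⟩
    rw [sub_mul, map_sub, mul_assoc, hs, ← map_sub, mul_assoc, mul_assoc, ← mul_sub]
    exact this
  have h2 : Module.finrank (kk O) J < Module.finrank (kk O) A :=
    Submodule.finrank_lt_finrank_of_lt (inf_lt_left.2 fun e => by simpa [hf0, W.t_f] using e hfA)
  have h3 := Submodule.finrank_mono (show A ≤ Z from fun a ha => hc a ha fun b hb => by
    rw [← sub_add_cancel a (W.t i a • f), add_mul, mul_add, comm_of_symm hN hJJ s hs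
      (fun a ha => hnd a ha.1) (by omega) hb (hdec a ha), smul_mul_assoc, mul_smul_comm,
      (hA.1 hb.1).1, (hA.1 hb.1).2])
  have h4 := (sum_le_sum_of_subset (filter_subset (· ∈ irr β) univ)).trans
    (((W.finrank_f (p := p) i i).ge.trans h3).trans hZ)
  rw [card_eq_filter, card_eq_sum_ones] at h4
  have h5 := fun ξ (hξ : ξ ∈ univ.filter (· ∈ irr β)) => Nat.pos_of_ne_zero
    (mul_self_ne_zero.2 (h.dn_ne_zero (p := p) (mem_filter.1 hξ).2))
  exact Nat.eq_one_of_mul_eq_one_left ((sum_eq_sum_iff_of_le h5).1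
    (le_antisymm (sum_le_sum h5) h4) χ (mem_filter.2 ⟨mem_univ _, hχ⟩)).symm

end Wed

theorem card_eq_of_le_four (hl : blockRank p (irr β) = 1) (hk : Nat.card (irr β) ≤ 4) :
    Nat.card (irr β) = p ^ blockDefect p (irr β) ∧
      ∀ g z, Kr (irr β) g z / (p : ℂ) ^ blockDefect p (irr β) ∈ O := by
  obtain ⟨W⟩ := nonempty_wed (kk O) (kk O)[G]
  obtain ⟨i, h⟩ := W.exists_sole hl
  exact ⟨h.card_eq fun _ => h.dn_eq_one hk, h.Kr_mem fun _ => h.dn_eq_one hk⟩

theorem isNil_of_deg {D : Subgroup G} (hD : IsDef p ⊤ (eG β) D) (hab : D ≤ cent D) {n : ℕ}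
    (h : ∀ χ ∈ irr β, (χ : G → ℂ) 1 = n) : IsNil p ⊤ (eG β) := by
  obtain ⟨W⟩ := nonempty_wed (kk O) (kk O)[G]
  obtain ⟨i, h1, h2⟩ := W.exists_sole_of_deg (p := p) h
  exact isNil_of_Kr hD hab (h1.Kr_mem h2) (by rw [h1.card_eq h2, hD.card_eq_pow])

end H20
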