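import Cfsg.Agent.H20.Nil
import Cfsg.Agent.H19.Ht4
import Cfsg.Agent.H5.PLocal
import Cfsg.Agent.H1.PSolv

/-! Fong's theorem on blocks above an invariant character of the `p'`-core. -/

set_option linter.unusedSectionVars false

namespace H20

open MonoidAlgebra Subgroup H10 Cfsg H17
open H19 (kk Blk irr lam)

variable {O : ValuationSubring ℂ} {G : Type*} [Group G] [Finite G] {p : ℕ} [hp : Fact p.Prime]
  [CharP (kk O) p] {A H K N R S T : Subgroup G} {c : (kk O)[G]}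

theorem IsDef.isSylowIn_of_coprime (hS : IsDef p T c S) (hK : ¬ p ∣ Nat.card K) (hc : IsBlk K c)
    (hT : T ≤ nrm K) (hKT : K ≤ T) (hf : c ∈ fixed (kk O) T) : IsSylowIn p S T := by
  refine isSylowIn_of_not_dvd hS.le hS.pg ?_
  rw [← relIndex_mul_relIndex S (S ⊔ K) T le_sup_left (sup_le hS.le hKT), hp.out.dvd_mul, not_or]
  refine ⟨fun h => hK (h.trans ?_), hS.not_dvd_relIndex hc hT hKT hf⟩
  have h1 := card_sup_mul_card_inf (hS.le.trans hT)
  rw [← H10.card_mul_relIndex (le_sup_left : S ≤ S ⊔ K), mul_assoc,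
    Nat.mul_right_inj Nat.card_pos.ne'] at h1
  exact ⟨_, h1.symm⟩

theorem isDef_of_coprime (hS : IsSylowIn p S T) (hK : ¬ p ∣ Nat.card K) (hc : IsBlk K c)
    (hT : T ≤ nrm K) (hKT : K ≤ T) (hf : c ∈ fixed (kk O) T) : IsDef p T c S := by
  obtain ⟨D, hD⟩ := exists_isDef p T hc.ne_zero
  obtain ⟨g, hg, rfl⟩ := (hD.isSylowIn_of_coprime hK hc hT hKT hf).exists_cj hS
  exact hD.cj_of_mem hf hg

/-- The Glauberman correspondent, as a block. -/
theorem isBlk_br_of_coprime (hK : ¬ p ∣ Nat.card K) (hc : IsBlk K c) (hR : IsPGroup p R)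
    (hn : R ≤ nrm K) (hf : c ∈ fixed (kk O) R) : IsBlk (K ⊓ cent R) (br R c) := by
  have hT : R ⊔ K ≤ nrm K := sup_le hn (le_nrm_self K)
  have hf' : c ∈ fixed (kk O) (R ⊔ K) := mem_fixed_sup.2 ⟨hf, hc.fixed⟩
  have h0 : R ⊓ K = ⊥ := eq_bot_of_isPGroup_of_not_dvd (hR.to_le inf_le_left) inf_le_right hK
  have h1 : IsSylowIn p R (R ⊔ K) := isSylowIn_of_not_dvd le_sup_left hR fun h => hK (h.trans (by
    have h1 := card_sup_mul_card_inf hn
    rw [← H10.card_mul_relIndex (le_sup_left : R ≤ R ⊔ K), mul_assoc,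
      Nat.mul_right_inj Nat.card_pos.ne'] at h1
    exact ⟨_, h1.symm⟩))
  refine ((isDef_of_coprime h1 hK hc hT le_sup_right hf').br_prim
    (hc.prim_of_fixed le_sup_right hf') hT).of_le (fun a ha => ⟨ha.1, ?_⟩)
    (br_mem_cen hc.supp (fixed_anti inf_le_left hc.fixed))
  refine fixed_anti (fun x hx => ?_) (mem_fixed_sup.2
    ⟨supp_cent_le_fixed R (supp_mono inf_le_right ha.1), ha.2⟩)
  obtain ⟨r, hr, y, hy, rfl⟩ := (H7.mem_sup_of_le_normalizer hn).1 hx.1
  have h2 : y ∈ nrm R := by simpa using mul_mem (inv_mem (le_nrm_self R hr)) hx.2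
  refine mul_mem (mem_sup_left hr) (mem_sup_right ⟨hy, mem_centralizer_iff.2 fun z hz => ?_⟩)
  have h3 : z * y * z⁻¹ * y⁻¹ ∈ R ⊓ K := ⟨by
    simpa [mul_assoc] using mul_mem hz (H7.conj_mem_of_mem_normalizer h2 (inv_mem hz)),
    K.mul_mem (H7.conj_mem_of_mem_normalizer (hn hz) hy) (K.inv_mem hy)⟩
  rw [h0, mem_bot, mul_inv_eq_one, mul_inv_eq_iff_eq_mul] at h3
  exact h3

theorem isBlk_of_reg_mem (hK : ¬ p ∣ Nat.card K) (hc : IsBlk K c) (hKN : K ≤ N) (hNH : N ≤ H)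
    (h1 : H ≤ nrm K) (h2 : H ≤ nrm N) (hi : PIdx p K N) (hf : c ∈ fixed (kk O) H)
    (hA : IsSylowIn p A N) (h : ∀ y ∈ H ⊓ cent A, ¬ p ∣ orderOf y → y ∈ K) : IsBlk H c := by
  have hAH := hA.le.trans hNH
  have h3 := isBlk_br_of_coprime hK hc hA.isPGroup (hAH.trans h1) (fixed_anti hAH hf)
  have h4 := hi.isBlk hKN (hc.prim_of_fixed hKN (fixed_anti hNH hf))
  have hcH : c ∈ cen (kk O) H := ⟨supp_mono (hKN.trans hNH) hc.supp, hf⟩
  have key : ∀ f ∈ cen (kk O) H, IsIdempotentElem f → c * f = f → f * c = f → f ≠ 0 →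
      br A f = br A c := fun f h5 h6 h7 h8 h9 => by
    have h10 := fixed_anti hAH h5.2
    refine (h3.prim _ ⟨mem_supp.2 fun x hx => ?_, br_mem_fixed (inf_le_right.trans (cent_le_nrm A))
      (fixed_anti (inf_le_left.trans (hKN.trans hNH)) h5.2)⟩ (br_idem hA.isPGroup h10 h6)
      (by rw [← br_mul hA.isPGroup (fixed_anti hAH hf) h10, h7])
      (by rw [← br_mul hA.isPGroup h10 (fixed_anti hAH hf), h8])).resolve_left
      (knorr' h2 hNH h4 h5 h6 (by rwa [h8]) hA.isPGroup hA.le h3.ne_zero)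
    rw [coeff_br]
    split_ifs with hxA
    · by_contra h0
      exact hx ⟨h x ⟨mem_of_coeff_ne_zero h5.1 h0, hxA⟩ (preg_of_idem h5 h6 h0), hxA⟩
    · rfl
  refine ⟨hcH, hc.idem, hc.ne_zero, fun f h5 h6 h7 h8 => ?_⟩
  by_contra hne
  rw [not_or] at hne
  have h9 := key (c - f) (sub_mem hcH h5) (by
    simp [IsIdempotentElem, mul_sub, sub_mul, hc.idem.eq, h6.eq, h7, h8])
    (by rw [mul_sub, hc.idem.eq, h7]) (by rw [sub_mul, hc.idem.eq, h8])
    (sub_ne_zero.2 (Ne.symm hne.2))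
  rw [map_sub, key f h5 h6 h7 h8 hne.1, sub_self] at h9
  exact h3.ne_zero h9.symm

/-- Fong: for a group of characteristic `p` modulo a normal `p'`-subgroup, an invariant block of
that subgroup is a block of the group, and so are all its Brauer images. -/
theorem fong {Q : Type*} [Group Q] [Finite Q] (f : G →* Q) (hf : Function.Surjective f)
    (hK : ¬ p ∣ Nat.card f.ker) {V : Subgroup Q} [V.Normal] (hV : IsPGroup p V) (hC : cent V ≤ V)
    (hc : IsBlk f.ker c) (hcf : c ∈ fixed (kk O) ⊤) (hR : IsPGroup p R) :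
    IsBlk (cent R) (br R c) := by
  obtain ⟨A, hA⟩ := exists_isSylowIn p (V.comap f ⊓ cent R)
  have h0 : f.ker ≤ V.comap f := fun x hx => by rw [mem_comap, hx]; exact one_mem V
  have hn : ∀ L : Subgroup G, L.Normal → cent R ≤ nrm (L ⊓ cent R) := fun L _ =>
    le_nrm_inf_cent (le_top.trans (top_le_nrm L)) (cent_le_nrm R)
  refine isBlk_of_reg_mem (N := V.comap f ⊓ cent R)
    (fun h => hK (h.trans (card_dvd_of_le inf_le_left)))
    (isBlk_br_of_coprime hK hc hR (le_top.trans (top_le_nrm _)) (fixed_anti le_top hcf))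
    (inf_le_inf_right _ h0) inf_le_right (hn _ inferInstance) (hn _ inferInstance)
    (PIdx.inf (fun x hx => (hV ⟨f x, hx⟩).imp fun n hn => by
      rw [MonoidHom.mem_ker, map_pow]; exact congrArg Subtype.val hn) _)
    (br_mem_fixed (cent_le_nrm R) (fixed_anti le_top hcf)) hA fun y hy hr => ⟨?_, hy.1⟩
  have h1 := H5.map_inf_centralizer_of_isPGroup f (K := V.comap f) hR
    (le_top.trans (top_le_nrm _)) (by
      rw [inf_eq_right.2 h0]; exact ((Nat.Prime.coprime_iff_not_dvd hp.out).2 hK).symm)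
  rw [map_comap_eq_self_of_surjective hf] at h1
  have h2 : V ⊓ cent (R.map f) = A.map f :=
    (h1 ▸ hA.map f).eq_of_le (hV.to_le inf_le_left) (h1 ▸ map_mono hA.le) le_rfl
  have h3 := H19.preg_of_dvd hr (orderOf_map_dvd f y)
  have h4 := hC (H11.mem_centralizer_of_AxB hV (hR.map f) (le_top.trans (top_le_nrm _))
    ((Nat.Prime.coprime_iff_not_dvd hp.out).2 h3).symm (top_le_nrm _ (mem_top _))
    (H5.map_centralizer_le f R (mem_map_of_mem f hy.1))
    (by rw [show V ⊓ centralizer _ = _ from h2]; exact H5.map_centralizer_le f A (mem_map_of_mem f hy.2)))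
  by_contra h5
  exact h3 ((H19.isPElt_of_mem hV h4).dvd_orderOf h5)

theorem exists_blk_of_inv [K.Normal] [Fintype K] (hK : ¬ p ∣ Nat.card K) {θ : IrrCharacter K}
    (hb : IsBlk ⊤ (eA K (lam O θ))) : ∃ β : Blk O G, eG β = eA K (lam O θ) ∧
      ∀ χ : IrrCharacter G, χ ∈ irr β ↔ classInner (fun n : K => (χ : G → ℂ) n) θ ≠ 0 := by
  have := Fintype.ofFinite G
  obtain ⟨β, h⟩ := hb.exists_eG
  refine ⟨β, h, fun χ => ⟨fun hχ => ?_, fun hχ => ?_⟩⟩
  · have h2 := exists_irr_under_of_cover (β := β) (γ := lam O θ)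
      (by rw [h, hb.idem.eq]; exact hb.ne_zero) hχ
    rwa [H19.singleton_of_not_dvd O hK, ← inner_ne_zero_iff] at h2
  · exact eG_injective ((isBlk_eG β).eq_of_mul_ne_zero' (isBlk_eG _) (h ▸ H19.cover_of_inner hχ))

theorem eA_mem_fixed_of_inv [hN : K.Normal] (hK : ¬ p ∣ Nat.card K) {θ : IrrCharacter K}
    (h : ∀ (g : G) (n : K), (θ : K → ℂ) ⟨g * n * g⁻¹, hN.conj_mem n n.2 g⟩ = (θ : K → ℂ) n) :
    eA K (lam O θ) ∈ fixed (kk O) ⊤ :=
  have := Fintype.ofFinite G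
  mem_fixed_iff_le_stab.2 fun g _ => inv_normal_iff.1 fun ψ hψ ψ' h1 => by
    rw [H19.singleton_of_not_dvd O hK] at hψ ⊢
    obtain rfl : ψ = θ := hψ
    exact Subtype.ext (funext fun n => (h1 n).trans (h g n))

end H20
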