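import Cfsg.Agent.H20.Eq
import Cfsg.Agent.H20.BP
import Cfsg.Agent.H20.Kb
import Cfsg.Agent.H25.Prim
import Cfsg.Agent.H1.Coprime

/-! Quotients by normal `p`-subgroups: nil kernels, lifting central idempotents. -/

set_option autoImplicit false
set_option linter.unusedSectionVars false

namespace H20
open MonoidAlgebra Subgroup H10 Cfsg H17 Finset
open H19 (kk Blk irr eB fB lam OG red ZZ om ev mapG dom infl SB)
open scoped commutatorElement

theorem central_of_sq {k R S : Type*} [Field k] [Ring R] [Algebra k R] [Ring S] (φ : R →+* S)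
    {J : Submodule k R} {N : ℕ} (hN : J ^ N = ⊥) (hl : ∀ a, ∀ x ∈ J, a * x ∈ J)
    (hr : ∀ a, ∀ x ∈ J, x * a ∈ J) (hk : ∀ a, φ a = 0 → a ∈ J * J) {e e' : R}
    (h1 : e + e' = 1) (he : e * e = e) (he' : e' * e' = e') (h : ∀ a, φ (e * a * e') = 0) (a : R) :
    e * a * e' = 0 := by
  set X := LinearMap.range (LinearMap.mulLeftRight k (e, e'))
  have h2 : X ≤ J * X ⊔ X * J := by
    rintro _ ⟨a, rfl⟩
    have : ∀ x ∈ J * J, e * x * e' ∈ J * X ⊔ X * J := fun x hx =>
      Submodule.mul_induction_on hx (fun y hy z hz => by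
        rw [show e * (y * z) * e' = e * y * (e * z * e') + e * y * e' * (z * e') by
          simp only [mul_assoc]; rw [← mul_add, ← mul_add, ← add_mul, h1, one_mul]]
        exact Submodule.add_mem_sup (Submodule.mul_mem_mul (hl _ _ hy) ⟨z, rfl⟩)
          (Submodule.mul_mem_mul ⟨y, rfl⟩ (hr _ _ hz)))
        fun y z hy hz => by rw [mul_add, add_mul]; exact add_mem hy hz
    have := this _ (hk _ (h a))
    rwa [← mul_assoc, ← mul_assoc, he, mul_assoc, he'] at this
  have h3 : ∀ m i j, i + j + m = 2 * N → J ^ i * X * J ^ j = ⊥ := fun m => by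
    induction m with
    | zero =>
      intro i j hij
      rcases le_total N i with h | h
      · rw [← Submodule.zero_eq_bot] at hN ⊢
        rw [pow_eq_zero_of_le h hN, zero_mul, zero_mul]
      · rw [← Submodule.zero_eq_bot] at hN ⊢
        rw [pow_eq_zero_of_le (by omega : N ≤ j) hN, mul_zero]
    | succ m ih =>
      intro i j hij
      refine eq_bot_iff.2 ((mul_le_mul_left (mul_le_mul_right h2 _) _).trans ?_)
      rw [Submodule.mul_sup, Submodule.sup_mul, ← mul_assoc, ← pow_succ, ih _ _ (by omega),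
        ← mul_assoc, mul_assoc _ J, ← pow_succ', ih _ _ (by omega), sup_idem]
  simpa using (h3 (2 * N) 0 0 (by simp)).le (show e * a * e' ∈ _ by simpa using ⟨a, rfl⟩)

section Alg
variable {k : Type*} [Field k] {G Q : Type*} [Group G] [Finite G] [Group Q] [Finite Q] {p : ℕ}
  [hp : Fact p.Prime] [CharP k p] {P : Subgroup G} {f : G →* Q} {a : k[G]}

omit hp [CharP k p] in
theorem mem_of_mapG_eq_zero (S : Submodule k k[G])
    (h : ∀ g, ∀ u ∈ f.ker, single (g * u) 1 - single g 1 ∈ S) (ha : mapG f a = 0) : a ∈ S := by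
  have : ∀ a : k[G], a - mapDomainLinearMap k k (Function.invFun f) (mapG f a) ∈ S := fun a => by
    induction a using MonoidAlgebra.induction_linear with
    | zero => simp
    | add a b ha hb => rw [map_add, map_add, add_sub_add_comm]; exact add_mem ha hb
    | single g r =>
      have := S.smul_mem r (h (Function.invFun f (f g)) ((Function.invFun f (f g))⁻¹ * g) (by
        simp [MonoidHom.mem_ker, Function.invFun_eq ⟨g, rfl⟩]))
      simpa [smul_sub] using this
  simpa [ha] using this a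

theorem Wed.π_single (W : Wed k k[G]) [P.Normal] (hP : IsPGroup p P) {u : G} (hu : u ∈ P) :
    W.π (single u 1) = 1 := by
  funext i
  have hm : ∀ g h : G, W.π (single (g * h) 1) i = W.π (single g 1) i * W.π (single h 1) i :=
    fun g h => by rw [← Pi.mul_apply, ← map_mul, single_mul_single, one_mul]
  letI : DistribMulAction P (Matrix (Fin (W.d i + 1)) (Fin (W.d i + 1)) k) :=
    { smul := fun u X => W.π (single u 1) i * X
      one_smul := fun X => by
        change W.π (single 1 1) i * X = X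
        rw [← one_def, map_one, Pi.one_apply, one_mul]
      mul_smul := fun u v X => (congrArg (· * X) (hm u v)).trans (mul_assoc _ _ _)
      smul_zero := fun u => mul_zero _
      smul_add := fun u X Y => mul_add _ _ _ }
  obtain ⟨X, -, h0, hX⟩ := H25.exists_fixed_vector hP (fun X => by
    rw [← Nat.cast_smul_eq_nsmul k, CharP.cast_eq_zero, zero_smul]) ⊤ (fun _ _ _ => trivial)
    (w := (1 : Matrix (Fin (W.d i + 1)) (Fin (W.d i + 1)) k)) trivial one_ne_zero
  have h1 : ∀ a, (W.π (single u 1) i - 1) * W.π a i * X = 0 := fun a => by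
    induction a using MonoidAlgebra.induction_linear with
    | zero => simp
    | add a b ha hb => rw [map_add, Pi.add_apply, mul_add, add_mul, ha, hb, add_zero]
    | single g r =>
      have : W.π (single (g⁻¹ * u * g) 1) i * X = X := hX ⟨_, Normal.conj_mem' ‹_› u hu g⟩
      rw [show single g r = r • single g (1 : k) by simp, map_smul, Pi.smul_apply, mul_smul_comm,
        sub_mul, ← hm, show u * g = g * (g⁻¹ * u * g) by group, hm, smul_mul_assoc, sub_mul,
        mul_assoc, this, one_mul, sub_self, smul_zero]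
  obtain ⟨j, l, hjl⟩ : ∃ j l, X j l ≠ 0 := by by_contra! h; exact h0 (Matrix.ext h)
  refine sub_eq_zero.1 (Matrix.ext fun r m => ?_)
  obtain ⟨a, ha⟩ := W.surj (Pi.single i (Matrix.single m j 1))
  have := congrFun (congrFun (h1 a) r) l
  rw [ha, Pi.single_eq_same, mul_assoc, Matrix.mul_apply, sum_eq_single m (fun n _ hn => by
    simp [hn]) (by simp)] at this
  simpa [hjl] using this

theorem Wed.π_of_mapG (W : Wed k k[G]) (hf : IsPGroup p f.ker) (ha : mapG f a = 0) : W.π a = 0 :=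
  mem_of_mapG_eq_zero (LinearMap.ker W.π.toLinearMap) (fun g u hu => by
    rw [LinearMap.mem_ker, AlgHom.toLinearMap_apply, ← mul_one (1 : k), ← single_mul_single,
      map_sub, map_mul, W.π_single hf hu, mul_one, mul_one, sub_self]) ha

theorem nil_of_mapG [IsAlgClosed k] (hf : IsPGroup p f.ker) (ha : mapG f a = 0) :
    IsNilpotent a := by
  obtain ⟨W⟩ := nonempty_wed k k[G]
  exact W.nil (W.π_of_mapG hf ha)

omit hp [CharP k p] in
theorem mapG_surj (hf : Function.Surjective f) : Function.Surjective (mapG (R := k) f) :=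
  fun a => by
    induction a using MonoidAlgebra.induction_linear with
    | zero => exact ⟨0, map_zero _⟩
    | add a b ha hb =>
      obtain ⟨a, rfl⟩ := ha; obtain ⟨b, rfl⟩ := hb; exact ⟨a + b, map_add _ _ _⟩
    | single g r => obtain ⟨g, rfl⟩ := hf g; exact ⟨single g r, H19.mapG_single _ _ _⟩

omit hp [CharP k p] in
theorem mapG_cj (f : G →* Q) (g : G) (a : k[G]) : mapG f (cj g a) = cj (f g) (mapG f a) := by
  simp [cj_eq]

theorem exists_central_lift [IsAlgClosed k] (hf : Function.Surjective f) [P.Normal]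
    (hP : IsPGroup p P) (hk : f.ker ≤ ⁅P, P⁆) {x : k[Q]} (hx : x ∈ ZZ k Q)
    (hi : IsIdempotentElem x) : ∃ y ∈ ZZ k G, IsIdempotentElem y ∧ mapG f y = x := by
  obtain ⟨W⟩ := nonempty_wed k k[G]
  obtain ⟨y, h1, rfl⟩ := exists_isIdempotentElem_eq_of_ker_isNilpotent (mapG (R := k) f : k[G] →+* k[Q])
    (fun a ha => nil_of_mapG (hP.to_le (hk.trans (commutator_le_left _ _))) ha) x
    (mapG_surj hf x) hi
  set J := LinearMap.ker W.π.toLinearMap
  obtain ⟨N, hN⟩ := pow_eq_bot_of_list (J := J) W.nilp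
  have hl : ∀ a, ∀ x ∈ J, a * x ∈ J := fun a x hx => by simp [J, show W.π x = 0 from hx]
  have hr : ∀ a, ∀ x ∈ J, x * a ∈ J := fun a x hx => by simp [J, show W.π x = 0 from hx]
  have hl2 : ∀ a, ∀ x ∈ J * J, a * x ∈ J * J := fun a x hx => Submodule.mul_induction_on hx
    (fun y hy z hz => mul_assoc a y z ▸ Submodule.mul_mem_mul (hl _ _ hy) hz)
    fun y z hy hz => mul_add a y z ▸ add_mem hy hz
  have hr2 : ∀ a, ∀ x ∈ J * J, x * a ∈ J * J := fun a x hx => Submodule.mul_induction_on hx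
    (fun y hy z hz => mul_assoc y z a ▸ Submodule.mul_mem_mul hy (hr _ _ hz))
    fun y z hy hz => add_mul y z a ▸ add_mem hy hz
  have hu : ∀ u ∈ P, single u 1 - 1 ∈ J := fun u hu => by simp [J, W.π_single hP hu]
  have h2 : ∀ u ∈ ⁅P, P⁆, ∀ g, single (g * u) 1 - single g 1 ∈ J * J := fun u hu' => by
    induction hu' using closure_induction with
    | mem x hx =>
      obtain ⟨a, ha, b, hb, rfl⟩ := hx
      intro g
      convert hr2 (single (a⁻¹ * b⁻¹) 1) _ (hl2 (single g 1) _ (sub_mem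
        (Submodule.mul_mem_mul (hu a ha) (hu b hb)) (Submodule.mul_mem_mul (hu b hb) (hu a ha))))
      simp only [mul_sub, sub_mul, single_mul_single, mul_one, one_mul, commutatorElement_def,
        mul_assoc, mul_inv_cancel_left, mul_inv_cancel]
      abel
    | one => simp
    | mul x y _ _ hx hy =>
      intro g
      simpa [mul_assoc] using add_mem (hy (g * x)) (hx g)
    | inv x _ hx =>
      intro g
      simpa using neg_mem (hx (g * x⁻¹))
  have key := fun {e e'} => central_of_sq (e := e) (e' := e') (mapG (R := k) f : k[G] →+* k[Q]) hN hl hr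
    fun a ha => mem_of_mapG_eq_zero _ (fun g u hu => h2 u (hk hu) g) ha
  have hc := H19.ZZ_comm hx
  refine ⟨y, Subalgebra.mem_center_iff.2 fun a => ?_, h1, rfl⟩
  have e1 := key (add_sub_cancel y 1) h1 h1.one_sub (fun a => by
    rw [map_mul, map_mul, hc, mul_assoc, ← map_mul, h1.mul_one_sub_self, map_zero, mul_zero]) a
  have e2 := key (sub_add_cancel 1 y) h1.one_sub h1 (fun a => by
    rw [map_mul, map_mul, mul_assoc, ← hc, ← mul_assoc, ← map_mul, h1.one_sub_mul_self, map_zero,
      zero_mul]) a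
  rw [mul_sub, mul_one, sub_eq_zero] at e1
  rw [sub_mul, sub_mul, one_mul, sub_eq_zero] at e2
  rw [e1, e2]

theorem exists_cen_lift [IsAlgClosed k] (hf : Function.Surjective f) [P.Normal] (hP : IsPGroup p P)
    (hk : f.ker ≤ ⁅P, P⁆) {L : Subgroup Q} (hL : P ≤ L.comap f) {x : k[Q]} (hx : x ∈ cen k L)
    (hi : IsIdempotentElem x) : ∃ y ∈ cen k (L.comap f), IsIdempotentElem y ∧ mapG f y = x := by
  obtain ⟨x, rfl⟩ := exists_emb_eq hx.1
  obtain ⟨y, h1, h2, rfl⟩ := exists_central_lift (f := f.subgroupComap L)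
    (f.subgroupComap_surjective_of_surjective L hf) (P := P.subgroupOf _)
    (hP.comap_of_injective _ (subtype_injective _)) (fun u hu => by
      rw [← coe_mem_up, up, map_commutator, map_subgroupOf_eq_of_le hL]
      exact hk (congrArg Subtype.val hu)) (emb_mem_cen_iff.1 hx) (emb_idem_iff.1 hi)
  exact ⟨emb k _ y, emb_mem_cen_iff.2 h1, emb_idem_iff.2 h2,
    (H19.mapG_mapG _ _ _).trans (H19.mapG_mapG (f.subgroupComap L) L.subtype y).symm⟩

omit [CharP k p] in
theorem mem_cent_of_map (hP : IsPGroup p P) (hk : f.ker ≤ ⁅P, P⁆) {y : G} (hy : ¬ p ∣ orderOf y)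
    (hn : y ∈ nrm P) (h : f y ∈ cent (P.map f)) : y ∈ cent P := by
  obtain ⟨n, hc⟩ := IsPGroup.iff_card.1 hP
  have h1 := H1.map_inf_centralizer_of_coprime f (zpowers_le.2 hn) (by
    rw [hc, Nat.card_zpowers]; exact ((hp.out.coprime_iff_not_dvd.2 hy).symm).pow_right n)
    (.inl inferInstance)
  rw [(inf_eq_left (a := P.map f)).2 (le_cent_comm.2 (by rwa [MonoidHom.map_zpowers, zpowers_le])),
    map_eq_map_iff] at h1
  have := H13.eq_of_sup_commutator hP inf_le_left
    (le_sup_left.trans (h1.ge.trans (sup_le_sup_left hk _)))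
  exact le_cent_comm.1 (inf_eq_left.1 this) (mem_zpowers y)

omit [CharP k p] in
theorem ppart_mem {H : Subgroup G} {g : G} (h : g ∈ H) : H19.ppart p g ∈ H :=
  H19.isPPart_mem (H19.isPPart_ppart g) h

omit [CharP k p] in
theorem rpart_mem {H : Subgroup G} {g : G} (h : g ∈ H) : H19.rpart p g ∈ H :=
  mul_mem (inv_mem (ppart_mem h)) h

theorem IsDef.isNil_of_normal {b : k[G]} [P.Normal] (h : IsDef p ⊤ b P) (hb : IsBlk ⊤ b)
    (hs : b ∈ H20.supp k (cent P))
    (hT : ∀ e, IsBlk (cent P) e → b * e ≠ 0 → ∀ y ∈ stab e, ¬ p ∣ orderOf y → y ∈ cent P) :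
    IsNil p ⊤ b := by
  refine ⟨hb, fun R ε hε x hx hx' => ?_⟩
  obtain ⟨g, -, h1⟩ := h.exists_conj_le hb hε.pair.pg le_top hε.br_ne_zero
  have hR := cent_anti ((sc_le_iff.1 h1).trans (sc_eq_of_nrm (top_le_nrm P trivial)).le)
  have h2 := hε.br
  rw [br_eq_self (supp_mono hR hs)] at h2
  obtain ⟨e, he, h3⟩ := exists_covered (cent P) hε.pair.blk.ne_zero
  have hn : ∀ L : Subgroup G, L ≤ nrm (cent P) := fun L => le_top.trans (top_le_nrm _)
  obtain ⟨c, hc, h4⟩ := H20.exists_conj_of_cover (hn _) hR hε.pair.blk_top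
    (he.cj_of_nrm (hn ⊤ (mem_top x))) he (by
      rw [← mem_stab.1 hx.2, ← map_mul]; exact mt (map_eq_zero_iff _ (AlgEquiv.injective _)).1 h3) h3
  rw [← cj_mul, ← mem_stab] at h4
  have h5 := hT e he (fun h0 => h3 (by
    rw [← h2, (hb.commute (mem_supp_top _)).eq, mul_assoc, h0, mul_zero])) _
    (rpart_mem (p := p) h4) (H19.rpart_reg _)
  have h6 : H19.ppart p (c * x) ∈ nrm R := ppart_mem (mul_mem (cent_le_nrm R hc) hx.1.2)
  refine mem_cent_of_pelt (H19.ppart_isPElt (c * x)).isPGroup_zpowers (mem_zpowers _) hx.1.2 ?_ hx'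
  have h7 : (H19.ppart p (c * x))⁻¹ * x = (H19.ppart p (c * x))⁻¹ * c⁻¹ * H19.ppart p (c * x) *
      H19.rpart p (c * x) := by rw [mul_assoc, H19.ppart_mul_rpart]; group
  rw [h7]
  exact mul_mem (mem_sc.1 ((mem_nrm.1 (nrm_le_nrm_cent R h6)).ge (inv_mem hc))) (hR h5)

end Alg

variable {O : ValuationSubring ℂ} {G Q : Type*} [Group G] [Finite G] [Group Q] [Finite Q] {p : ℕ}
  [hp : Fact p.Prime] [CharP (kk O) p] {P : Subgroup G} {f : G →* Q}

theorem dom_injective_of_comm (hf : Function.Surjective f) [P.Normal] (hP : IsPGroup p P)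
    (hk : f.ker ≤ ⁅P, P⁆) : Function.Injective (dom (O := O) f hf) := fun b c h => by
  obtain ⟨y, h1, -, h2⟩ := exists_central_lift hf hP hk (eB b).2 (eG_idem b)
  have h3 : H19.mapZ f hf ⟨y, h1⟩ = eB b := Subtype.ext h2
  have := DFunLike.congr_fun h ⟨y, h1⟩
  rw [H19.dom_apply, H19.dom_apply, h3, H19.blk_eB_self] at this
  by_contra e
  rw [H19.blk_eB_of_ne (Ne.symm e)] at this
  exact one_ne_zero this

omit hp in
theorem mapG_eG_dom {hf : Function.Surjective f} (h : Function.Injective (dom (O := O) f hf))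
    (c : Blk O Q) : mapG f (eG (dom f hf c)) = eG c := by
  classical
  have := congrArg Subtype.val (H19.mapZ_eB_eq_sum f hf (dom f hf c))
  rwa [sum_eq_single_of_mem c (by simp) fun b hb e => absurd (h (mem_filter.1 hb).2) e] at this

theorem vd_infl (hf : Function.Surjective f) (χ : IrrCharacter Q) : vd p (infl f hf χ) = vd p χ :=
  congrArg (fun n => n.factorization p) (H19.charDegree_infl f hf χ)

theorem IsDef.map_normal {hf : Function.Surjective f} {c : Blk O Q} [P.Normal]
    (h : IsDef p ⊤ (eG (dom f hf c)) P) (hk : f.ker ≤ P) : IsDef p ⊤ (eG c) (P.map f) ∧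
      emin p (irr c) = emin p (irr (dom f hf c)) := by
  have := Normal.map ‹P.Normal› f hf
  have h1 := h.pg.map f
  have h2 := card_le_pow_of_br h1 (H19.br_eB_ne_zero h1 c)
  obtain ⟨χ, hχ, h3⟩ := exists_vd_eq p (H19.irr_nonempty c)
  have h4 := emin_le (p := p) (show infl f hf χ ∈ irr (dom f hf c) from by
    rw [H19.mem_irr, H19.lam_infl, show lam O χ = c from hχ])
  have h5 := defect_add_emin p (H19.irr_nonempty c)
  have h6 := defect_add_emin p (H19.irr_nonempty (dom f hf c))
  obtain ⟨n, hn⟩ := IsPGroup.iff_card.1 h1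
  obtain ⟨m, hm⟩ := IsPGroup.iff_card.1 (h.pg.to_le hk)
  have h7 := H1.card_map_mul_card_inf_ker P f
  rw [inf_eq_right.2 hk, hn, hm, h.card_eq_pow, ← pow_add, Nat.pow_right_inj hp.out.one_lt] at h7
  rw [card_eq_ker_mul hf, hm, Nat.factorization_mul (pow_ne_zero _ hp.out.ne_zero)
    Nat.card_pos.ne', Finsupp.add_apply, hp.out.factorization_pow, Finsupp.single_eq_same] at h6
  rw [hn, Nat.pow_le_pow_iff_right hp.out.one_lt] at h2
  rw [vd_infl] at h4
  exact ⟨isDef_of_card h1 (H19.br_eB_ne_zero h1 c)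
    (hn ▸ Nat.pow_le_pow_right hp.out.pos (by omega)), by omega⟩

theorem isNil_of_deg_normal {β : Blk O G} [P.Normal] (hP : IsDef p ⊤ (eG β) P) {n : ℕ}
    (h : ∀ χ ∈ irr β, blockHeight p (irr β) χ = 0 → (χ : G → ℂ) 1 = n) : IsNil p ⊤ (eG β) := by
  set f := QuotientGroup.mk' ⁅P, P⁆
  have hf : Function.Surjective f := QuotientGroup.mk'_surjective _
  have hk : f.ker ≤ ⁅P, P⁆ := (QuotientGroup.ker_mk' _).le
  have hk' := hk.trans (commutator_le_left P P)
  obtain ⟨c, rfl⟩ := H19.exists_dom f hf (hP.pg.to_le hk') β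
  obtain ⟨h1, h2⟩ := hP.map_normal hk'
  have := Normal.map ‹P.Normal› f hf
  have hab : P.map f ≤ cent (P.map f) := by
    rw [← commutator_eq_bot_iff_le_centralizer, ← map_commutator, Subgroup.map_eq_bot_iff,
      QuotientGroup.ker_mk']
  have h3 := (((isDef_iff c _).2 h1).comm_iff_height).1 fun a ha b hb =>
    (mem_centralizer_iff.1 (hab hb) a ha)
  have h4 := isNil_of_deg h1 hab (n := n) fun χ hχ => by
    have h5 : infl f hf χ ∈ irr (dom f hf c) := by
      rw [H19.mem_irr, H19.lam_infl, show lam O χ = c from hχ]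
    simpa using h _ h5 ((height_eq_zero_iff h5).2 (by
      rw [vd_infl, (height_eq_zero_iff hχ).1 (h3 χ hχ), h2]))
  refine hP.isNil_of_normal (isBlk_eG _) (H19.eB_mem_supp_cent hP.pg _) fun e he h0 y hy hy' => ?_
  have h5 : mapG f e ≠ 0 := fun h => he.not_nilpotent (nil_of_mapG (hP.pg.to_le hk') h)
  obtain ⟨ε, hε, h6⟩ := exists_blk_mul_ne_zero (cent (P.map f)) h5
  have hL : P ≤ (cent (P.map f)).comap f := map_le_iff_le_comap.1 hab
  obtain ⟨z, z1, z2, rfl⟩ := exists_cen_lift hf hP.pg hk hL hε.mem hε.idem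
  have hC : cent P ≤ (cent (P.map f)).comap f := fun x hx => mem_centralizer_iff.2 (by
    rintro _ ⟨u, hu, rfl⟩; rw [← map_mul, ← map_mul, mem_centralizer_iff.1 hx u hu])
  have z3 : z ∈ H20.supp (kk O) (cent P) := br_eq_self_of_normal hP.pg
    (le_top.trans (top_le_nrm P)) z1 (fixed_anti hL z1.2) z2 ▸ br_mem_supp P z
  have h7 : z * e = e := he.mul_eq_self' ⟨z3, fixed_anti hC z1.2⟩ z2 fun h0 => h6 (by
    rw [← map_mul, (commute_of_fixed_of_supp (fixed_anti hC z1.2) he.supp).symm.eq, h0, map_zero])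
  have h8 : eG (dom f hf c) * e = e := he.mul_eq_self' ⟨H19.eB_mem_supp_cent hP.pg _,
    fixed_anti le_top (isBlk_eG _).fixed⟩ (eG_idem _) h0
  refine mem_cent_of_map hP.pg hk hy' (top_le_nrm P trivial) (h4.nil _ _ ⟨isPair_top.2 ⟨h1.pg, hε⟩,
    le_top, ?_⟩ _ ⟨⟨trivial, top_le_nrm _ trivial⟩, ?_⟩ fun h => hy' (h.trans (orderOf_map_dvd f y)))
  · rw [H19.br_eB_self h1.pg]
    refine hε.mul_eq_self' ⟨H19.eB_mem_supp_cent h1.pg _, fixed_anti le_top (isBlk_eG _).fixed⟩
      (eG_idem c) fun h0 => h6 ?_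
    rw [← h8, map_mul, mapG_eG_dom (dom_injective_of_comm hf hP.pg hk), ← Wed.eG_comm, mul_assoc, h0,
      mul_zero]
  · refine hε.eq_of_mul_ne_zero' (hε.cj_of_nrm (top_le_nrm _ trivial)) fun h0 => h5 ?_
    have h9 : cj (f y) (mapG f z) * mapG f e = mapG f e := by
      rw [← mapG_cj, ← map_mul, ← mem_stab.1 hy, ← map_mul (cj y), h7]
    rw [← h9, ← h7, map_mul, ← mul_assoc, h0, zero_mul]

end H20
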