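import Cfsg.Agent.H19.Star3
import Cfsg.Agent.H19.Npc
import Cfsg.Agent.H19.Cm
import Cfsg.Agent.H5.JR
import Cfsg.Agent.H2.D2

/-! Groups with a Sylow subgroup of order nine: fusion and counting. -/

set_option autoImplicit false
set_option linter.unusedSectionVars false
open Cfsg H17 H19 Subgroup
open H10 (IsSylowIn)

namespace H20.K9
variable {G : Type*} [Group G] [Finite G]

section gen
variable {p : ℕ} [hp : Fact p.Prime]

theorem lift (O : ValuationSubring ℂ) [CharP (kk O) p] {l : G → ℂ} (hl : IsClassFunction G l)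
    (h : ∀ Q : Subgroup G, IsPGroup p Q → IsGeneralizedCharacter Q fun u : Q => l u) :
    IsGeneralizedCharacter G (fun g => l (ppart p g)) ∧
      ∀ χ ∉ irr (B0 O G), bil (fun g => l (ppart p g)) χ = 0 := by
  have hs : SF (O := O) p (fun (x : G) _ => l x) := ⟨fun g u _ => hl u g, fun Q _ he => h Q he.1⟩
  have ht := (triv G).2.isClassFunction
  have e : star (O := O) p (fun (x : G) _ => l x) (triv G) = fun g => l (ppart p g) := funext fun g => by
    have h2 := pr_sh_star (O := O) (Λ := fun (x : G) _ => l x) ht rfl (ppart_isPElt (p := p) g)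
    rw [← Finset.smul_sum, ← pr_sum, sum_blockPart _ (sh_class le_rfl ht)] at h2
    have h3 := congrFun h2 ⟨rpart p g, mem_centralizer_singleton_iff.2 (commute_ppart_rpart g).symm⟩
    rw [Pi.smul_apply, pr_of_reg _ (by rw [← orderOf_coe]; exact rpart_reg g),
      pr_of_reg _ (by rw [← orderOf_coe]; exact rpart_reg g)] at h3
    simpa only [sh, ppart_mul_rpart, triv_apply, smul_eq_mul, mul_one] using h3
  rw [← e]
  exact ⟨hs.star_isGen (triv G).2.isGen, (mem_LB_iff.1 (hs.star_mem_LB (irr_mem_LB triv_mem_B0))).2⟩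

theorem exists_conj_mem (R : Sylow p G) {Q : Subgroup G} (hQ : IsPGroup p Q) :
    ∃ c : G, ∀ u ∈ Q, c * u * c⁻¹ ∈ (R : Subgroup G) := by
  obtain ⟨T, hT⟩ := hQ.exists_le_sylow
  obtain ⟨c, rfl⟩ := MulAction.exists_smul_eq G T R
  exact ⟨c, fun u hu => smul_mem_pointwise_smul u (MulAut.conj c) _ (hT hu)⟩

theorem exists_reps (R : Sylow p G) : ∃ X : Finset G, PReps p X ∧ ∀ x ∈ X, x ∈ (R : Subgroup G) := by
  classical
  obtain ⟨X, hX⟩ := exists_pReps p G
  have h1 : ∀ x : G, ∃ y, x ∈ X → y ∈ (R : Subgroup G) ∧ IsConj x y := fun x => by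
    by_cases hx : x ∈ X
    · obtain ⟨c, hc⟩ := exists_conj_mem R (hX.pelt x hx).isPGroup_zpowers
      exact ⟨_, fun _ => ⟨hc x (mem_zpowers x), isConj_iff.2 ⟨c, rfl⟩⟩⟩
    · exact ⟨1, fun h => absurd h hx⟩
  choose f hf using h1
  have h2 : ∀ y ∈ X.image f, y ∈ (R : Subgroup G) := fun y hy => by
    obtain ⟨x, hx, rfl⟩ := Finset.mem_image.1 hy
    exact (hf x hx).1
  refine ⟨X.image f, ⟨fun y hy => isPElt_of_mem R.isPGroup' (h2 y hy), fun g hg => ?_⟩, h2⟩
  obtain ⟨x, ⟨h3, h4⟩, h5⟩ := hX.rep g hg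
  refine ⟨f x, ⟨Finset.mem_image_of_mem f h3, h4.trans (hf x h3).2⟩, fun y ⟨h6, h7⟩ => ?_⟩
  obtain ⟨x', hx', rfl⟩ := Finset.mem_image.1 h6
  rw [h5 x' ⟨hx', h7.trans (hf x' hx').2.symm⟩]

variable (p) in
/-- the size of the set of elements with a given `p`-part -/
noncomputable def ns (x : G) : ℕ := {g | ppart p g = x}.ncard

theorem ppart_inv (g : G) : ppart p g⁻¹ = (ppart p g)⁻¹ := ppart_eq (isPPart_inv (isPPart_ppart g))

theorem mem_cent_of_ppart {g x : G} (h : ppart p g = x) : g ∈ centralizer ({x} : Set G) :=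
  mem_centralizer_singleton_iff.2 (h ▸ isPPart_commute (isPPart_ppart g)).symm.eq

theorem ns_le {x : G} {T : Set G} (h : ∀ y ∈ centralizer ({x} : Set G), ¬ p ∣ orderOf y → y ∈ T) :
    ns p x ≤ T.ncard :=
  Set.ncard_le_ncard_of_injOn (fun g => x⁻¹ * g) (fun g hg => h _
    (mul_mem (inv_mem (mem_centralizer_singleton_iff.2 rfl)) (mem_cent_of_ppart hg))
    (by rw [← show ppart p g = x from hg]; exact rpart_reg g)) fun a _ b _ e => mul_left_cancel e

theorem ns_mul_le {P : Subgroup G} {x : G} (h : IsSylowIn p P (centralizer {x}))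
    (hn : centralizer {x} ⊓ nrm P ≤ cent P) :
    ns p x * Nat.card P ≤ Nat.card (centralizer ({x} : Set G)) := by
  obtain ⟨φ, h1, -, -, -, h2, -⟩ := exists_proj h (npc_of_nrm_le h hn)
  rw [← h2, ← card_map_of_injective (K := φ.ker) (centralizer {x}).subtype_injective]
  refine Nat.mul_le_mul_right _ (ns_le fun y hy h3 => ⟨⟨y, hy⟩, ?_, rfl⟩)
  exact (isPElt_of_mem h.isPGroup (h1 ⟨y, hy⟩)).eq_one
    (fun c => h3 (c.trans ((orderOf_map_dvd φ _).trans (orderOf_coe _).symm.dvd)))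

theorem three_ns_lt {x b : G} (h1 : x ≠ 1) (h2 : x ≠ x⁻¹) (hb : IsPElt p b)
    (hc : b ∈ centralizer ({x} : Set G)) (b1 : b ≠ 1) (b2 : b ≠ x) (b3 : b ≠ x⁻¹) :
    3 * ns p x < Nat.card (centralizer ({x} : Set G)) := by
  have e1 : ns p x ≤ {g | g ∈ centralizer ({x} : Set G) ∧ ppart p g = 1}.ncard :=
    ns_le fun y hy h => ⟨hy, ppart_eq (isPPart_one h)⟩
  have e2 : ns p x ≤ ns p x⁻¹ := Set.ncard_le_ncard_of_injOn (fun g => g⁻¹)
    (fun g hg => by rw [Set.mem_setOf_eq, ppart_inv, show ppart p g = x from hg])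
    fun a _ b _ e => inv_injective e
  have e3 := Set.ncard_union_eq (s := {g | ppart p g = x}) (t := {g | ppart p g = x⁻¹})
    (Set.disjoint_left.2 fun g h h' => h2 (h.symm.trans h'))
  have e4 := Set.ncard_union_eq (s := {g | g ∈ centralizer ({x} : Set G) ∧ ppart p g = 1})
    (t := {g | ppart p g = x} ∪ {g | ppart p g = x⁻¹}) (Set.disjoint_left.2 fun g h h' =>
      h'.elim (fun k => h1 (k.symm.trans h.2)) fun k => h1 (inv_eq_one.1 (k.symm.trans h.2)))
  have e5 := Set.ncard_lt_ncard (s := {g | g ∈ centralizer ({x} : Set G) ∧ ppart p g = 1} ∪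
    ({g | ppart p g = x} ∪ {g | ppart p g = x⁻¹})) (t := centralizer ({x} : Set G)) ⟨by
      rintro g (h | h | h)
      exacts [h.1, mem_cent_of_ppart h, centralizer_inv x ▸ mem_cent_of_ppart h], fun c => by
      have k := ppart_eq (isPPart_self hb)
      rcases c hc with h | h | h
      exacts [b1 (k.symm.trans h.2), b2 (k.symm.trans h), b3 (k.symm.trans h)]⟩
  rw [e4, e3] at e5
  change _ < (centralizer ({x} : Set G) : Set G).ncard
  unfold ns at *
  omega

theorem sum_lift {X : Finset G} (hX : PReps p X) [Fintype G] {l : G → ℂ}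
    (hl : IsClassFunction G l) : ∑ g, l (ppart p g) =
      ∑ x ∈ X, l x * ((centralizer ({x} : Set G)).index * ns p x : ℕ) := by
  classical
  rw [hX.sum_eq (F := fun g => l (ppart p g)) fun g c => by simp only [ppart_conj, hl _ c]]
  refine Finset.sum_congr rfl fun x _ => ?_
  rw [Finset.sum_congr rfl (g := fun _ => l x) fun g hg => by rw [(Finset.mem_filter.1 hg).2],
    Finset.sum_const, ns, Set.ncard_eq_toFinset_card', Set.toFinset_setOf]
  push_cast
  rw [nsmul_eq_mul]; ring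

end gen

instance f3 : Fact (Nat.Prime 3) := ⟨Nat.prime_three⟩

/-- the basic data -/
structure Nine (R : Sylow 3 G) : Prop where
  card : Nat.card (R : Subgroup G) = 9
  perf : commutator G = ⊤

namespace Nine
variable {R : Sylow 3 G} (h : Nine R)
include h

theorem ab : IsMulCommutative (R : Subgroup G) :=
  IsPGroup.isMulCommutative_of_card_eq_prime_sq (p := 3) h.card

theorem le_cent : (R : Subgroup G) ≤ cent R := le_centralizer_iff_isMulCommutative.2 h.ab

theorem comm {x y : G} (hx : x ∈ (R : Subgroup G)) (hy : y ∈ (R : Subgroup G)) : x * y = y * x :=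
  mem_centralizer_iff.1 (h.le_cent hy) x hx

theorem fix {s : G} (hs : s ∈ (R : Subgroup G)) (hf : ∀ g ∈ nrm (R : Subgroup G), g * s * g⁻¹ = s) :
    s = 1 :=
  haveI := h.ab
  H5.fix_eq_one_of_abelian_sylow R hs (h.perf ▸ mem_top s) fun g hg =>
    mul_inv_eq_iff_eq_mul.1 (hf g hg)

theorem pow9 {x : G} (hx : x ∈ (R : Subgroup G)) : x ^ 9 = 1 := by
  rw [← h.card]; exact congrArg Subtype.val (pow_card_eq_one' (x := (⟨x, hx⟩ : (R : Subgroup G))))

theorem ne_inv {x : G} (hx : x ∈ (R : Subgroup G)) (h1 : x ≠ 1) : x ≠ x⁻¹ := fun e => h1 (by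
  have : x ^ 2 = 1 := by rw [pow_two]; nth_rw 2 [e]; exact mul_inv_cancel x
  rw [← h.pow9 hx, show 9 = 2 * 4 + 1 from rfl, pow_succ, pow_mul, this, one_pow, one_mul])

omit h in
theorem cj {n x : G} (hn : n ∈ nrm (R : Subgroup G)) (hx : x ∈ (R : Subgroup G)) :
    n * x * n⁻¹ ∈ (R : Subgroup G) := (mem_normalizer_iff.1 hn x).1 hx

open Classical in
/-- the conjugates of an element inside the Sylow subgroup -/
noncomputable def orb (R : Sylow 3 G) (x : G) : Finset G :=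
  (Set.toFinite ((R : Subgroup G) : Set G)).toFinset.filter (IsConj x)

omit h in
theorem mem_orb {x y : G} : y ∈ orb R x ↔ y ∈ (R : Subgroup G) ∧ IsConj x y := by simp [orb]

theorem two_le {x : G} (hx : x ∈ (R : Subgroup G)) (h1 : x ≠ 1) : 2 ≤ (orb R x).card := by
  by_contra c
  refine h1 (h.fix hx fun g hg => Finset.card_le_one.1 (by omega : (orb R x).card ≤ 1) _
    (mem_orb.2 ⟨cj hg hx, isConj_iff.2 ⟨g, rfl⟩⟩) _ (mem_orb.2 ⟨hx, IsConj.refl x⟩))

theorem of_two {x y : G} (hx : x ∈ (R : Subgroup G)) (h2 : (orb R x).card ≤ 2)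
    (hy : y ∈ (R : Subgroup G)) (hc : IsConj x y) : y = x ∨ y = x⁻¹ := by
  classical
  by_contra! c
  have e : ({x, y} : Finset G) = orb R x := Finset.eq_of_subset_of_card_le (by
    simp only [Finset.insert_subset_iff, Finset.singleton_subset_iff, mem_orb]
    exact ⟨⟨hx, IsConj.refl x⟩, hy, hc⟩) (by rw [Finset.card_pair c.1.symm]; exact h2)
  refine c.2 (eq_inv_of_mul_eq_one_right (h.fix (mul_mem hx hy) fun g hg => ?_))
  have h3 : g * x * g⁻¹ ∈ ({x, y} : Finset G) := e ▸ mem_orb.2 ⟨cj hg hx, isConj_iff.2 ⟨g, rfl⟩⟩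
  have h4 : g * y * g⁻¹ ∈ ({x, y} : Finset G) :=
    e ▸ mem_orb.2 ⟨cj hg hy, hc.trans (isConj_iff.2 ⟨g, rfl⟩)⟩
  have h5 : g * x * g⁻¹ ≠ g * y * g⁻¹ := by simpa using c.1.symm
  rw [← conj_mul]
  simp only [Finset.mem_insert, Finset.mem_singleton] at h3 h4
  rcases h3 with h3 | h3 <;> rcases h4 with h4 | h4 <;> rw [h3, h4] at h5 ⊢
  exacts [absurd rfl h5, h.comm hy hx, absurd rfl h5]

theorem sum_orb {X : Finset G} (hX : PReps 3 X) : ∑ x ∈ X, (orb R x).card = 9 := by
  classical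
  rw [← h.card, ← Finset.card_biUnion fun x hx y hy hne => Finset.disjoint_left.2 fun z h1 h2 =>
    hne ((hX.rep z (isPElt_of_mem R.isPGroup' (mem_orb.1 h1).1)).unique ⟨hx, (mem_orb.1 h1).2.symm⟩
      ⟨hy, (mem_orb.1 h2).2.symm⟩)]
  change _ = ((R : Subgroup G) : Set G).ncard
  rw [← Set.ncard_coe_finset]
  congr 1
  ext z
  simp only [Finset.coe_biUnion, Set.mem_iUnion, Finset.mem_coe, mem_orb, SetLike.mem_coe]
  refine ⟨fun ⟨_, _, k, _⟩ => k, fun k => ?_⟩
  obtain ⟨x, ⟨h1, h2⟩, -⟩ := hX.rep z (isPElt_of_mem R.isPGroup' k)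
  exact ⟨x, h1, k, h2.symm⟩

theorem three_lt {x : G} (hx : x ∈ (R : Subgroup G)) (h1 : x ≠ 1) :
    3 * ns 3 x < Nat.card (centralizer ({x} : Set G)) := by
  classical
  obtain ⟨b, hb, h2⟩ := Finset.exists_mem_notMem_of_card_lt_card (s := {1, x, x⁻¹})
    (t := (Set.toFinite ((R : Subgroup G) : Set G)).toFinset) (Finset.card_le_three.trans_lt (by
      rw [← Set.ncard_eq_toFinset_card]; exact (by norm_num : 3 < 9).trans_eq h.card.symm))
  simp only [Finset.mem_insert, Finset.mem_singleton, not_or, Set.Finite.mem_toFinset] at hb h2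
  exact three_ns_lt h1 (h.ne_inv hx h1) (isPElt_of_mem R.isPGroup' hb)
    (mem_centralizer_singleton_iff.2 (h.comm hb hx)) h2.1 h2.2.1 h2.2.2

theorem nine_le (ha : ∀ x ∈ (R : Subgroup G), (orb R x).card ≤ 2) {u : G} (hu : u ∈ (R : Subgroup G))
    (h1 : u ≠ 1) : ns 3 u * 9 ≤ Nat.card (centralizer ({u} : Set G)) := by
  rw [← h.card]
  refine ns_mul_le ((H10.isSylowIn_top R).of_le (fun x hx => mem_centralizer_singleton_iff.2
    (h.comm hx hu)) le_top) fun n ⟨h2, h3⟩ => mem_centralizer_iff.2 fun x hx => ?_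
  have h4 : n * u * n⁻¹ = u := mul_inv_eq_iff_eq_mul.2 (mem_centralizer_singleton_iff.1 h2)
  refine (mul_inv_eq_iff_eq_mul.1 ?_).symm
  refine (h.of_two hx (ha x hx) (cj h3 hx) (isConj_iff.2 ⟨n, rfl⟩)).elim id fun h5 => ?_
  rcases h.of_two (mul_mem hu hx) (ha _ (mul_mem hu hx)) (cj h3 (mul_mem hu hx))
    (isConj_iff.2 ⟨n, rfl⟩) with h6 | h6 <;> rw [← conj_mul, h4, h5] at h6
  · rw [h5, mul_left_cancel h6]
  · rw [h.comm hu hx, mul_inv_rev] at h6
    exact absurd (mul_right_cancel h6) (h.ne_inv hu h1)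

end Nine

end H20.K9
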