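import Cfsg.Agent.H20.K9a

/-! Groups with a Sylow subgroup of order nine: a generalized character of norm three. -/

set_option autoImplicit false
set_option linter.unusedSectionVars false
open Cfsg H17 H19 H2 Subgroup

namespace H20.K9
variable {G : Type*} [Group G] [Finite G]

theorem one_mem_reps {X : Finset G} (hX : PReps 3 X) : (1 : G) ∈ X := by
  obtain ⟨x, ⟨h1, h2⟩, -⟩ := hX.rep 1 isPElt_one
  rwa [isConj_one_right.1 h2] at h1

theorem four_le {X : Finset G} (hX : PReps 3 X) [DecidableEq G]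
    (h3 : 3 ≤ Nat.card {C : ConjClasses G // ∃ g ∈ C.carrier, g ≠ 1 ∧ orderOf g ∣ 9}) :
    3 ≤ (X.erase 1).card := by
  have h1 : ∀ C : {C : ConjClasses G // ∃ g ∈ C.carrier, g ≠ 1 ∧ orderOf g ∣ 9},
      ∃ x : X.erase 1, ConjClasses.mk (x : G) = C.1 := fun ⟨C, g, h1, h2, h4⟩ => by
    obtain ⟨x, ⟨h5, h6⟩, -⟩ := hX.rep g (isPElt_iff.2 ⟨2, orderOf_dvd_iff_pow_eq_one.1 h4⟩)
    exact ⟨⟨x, Finset.mem_erase.2 ⟨fun c => h2 (isConj_one_left.1 (c ▸ h6)), h5⟩⟩,
      (ConjClasses.mk_eq_mk_iff_isConj.2 h6).symm.trans (ConjClasses.mem_carrier_iff_mk_eq.1 h1)⟩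
  choose f hf using h1
  refine h3.trans ((Nat.card_le_card_of_injective f fun a b e => Subtype.ext ?_).trans_eq
    (Nat.card_eq_finsetCard _))
  rw [← hf, e, hf]

open Classical in
/-- three times the indicator of the complement of the classes of `1`, `a`, `a⁻¹` -/
noncomputable def ll (a g : G) : ℂ := if g = 1 ∨ IsConj a g ∨ IsConj a g⁻¹ then 0 else 3

theorem ll_class (a : G) : IsClassFunction G (ll a) := fun g c => by
  have : ∀ y, IsConj a (c * y * c⁻¹) ↔ IsConj a y := fun y =>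
    ⟨fun h => h.trans (isConj_iff.2 ⟨c, rfl⟩).symm, fun h => h.trans (isConj_iff.2 ⟨c, rfl⟩)⟩
  unfold ll
  congr 1
  rw [conj_eq_one_iff, conj_inv, this, this]

theorem ll_inv (a g : G) : ll a g⁻¹ = ll a g := by
  unfold ll
  congr 1
  rw [inv_eq_one, inv_inv, or_comm (a := IsConj a g)]

theorem ll_val (a g : G) : ll a g = 0 ∨ ll a g = 3 := by
  unfold ll; split_ifs <;> simp

theorem mem_zp {a x : G} (ha : orderOf a = 3) : x ∈ zpowers a ↔ x = 1 ∨ x = a ∨ x = a⁻¹ := by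
  classical
  have h1 : a ^ 2 = a⁻¹ := eq_inv_of_mul_eq_one_left (by rw [← pow_succ]; exact orderOf_dvd_iff_pow_eq_one.1 ha.dvd)
  rw [mem_zpowers_iff_mem_range_orderOf, ha]
  simp [Finset.range_add_one, h1, eq_comm]
  tauto

namespace Nine
variable {R : Sylow 3 G} (h : Nine R)
include h

theorem sum_erase {X : Finset G} (hX : PReps 3 X) [DecidableEq G] :
    ∑ x ∈ X.erase 1, (orb R x).card ≤ 8 := by
  have h1 := Finset.add_sum_erase X (fun x => (orb R x).card) (one_mem_reps hX)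
  have h2 : 0 < (orb R 1).card := Finset.card_pos.2 ⟨1, mem_orb.2 ⟨one_mem _, IsConj.refl _⟩⟩
  rw [h.sum_orb hX] at h1
  omega

theorem exists_a {X : Finset G} (hX : PReps 3 X) (hR : ∀ x ∈ X, x ∈ (R : Subgroup G)) [DecidableEq G]
    (h3 : 3 ≤ (X.erase 1).card) : ∃ a ∈ (R : Subgroup G), orderOf a = 3 ∧
      ∀ y ∈ (R : Subgroup G), IsConj a y → y = a ∨ y = a⁻¹ := by
  obtain ⟨x, hx, h1⟩ : ∃ x ∈ X.erase 1, (orb R x).card ≤ 2 := by
    by_contra! c
    have := (Finset.card_nsmul_le_sum _ _ 3 c).trans (h.sum_erase hX)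
    rw [smul_eq_mul] at this
    omega
  obtain ⟨h2, hx⟩ := Finset.mem_erase.1 hx
  have h4 := fun y => h.of_two (y := y) (hR x hx) h1
  by_cases c : x ^ 3 = 1
  · exact ⟨x, hR x hx, orderOf_eq_prime c h2, h4⟩
  refine ⟨x ^ 3, pow_mem (hR x hx) 3, orderOf_eq_prime (by rw [← pow_mul, h.pow9 (hR x hx)]) c,
    fun y hy hc => ?_⟩
  obtain ⟨n, hn, rfl⟩ := fusion_of_comm (H10.isSylowIn_top R) h.le_cent (pow_mem (hR x hx) 3) hy hc
  rw [← conj_pow]
  rcases h4 _ (cj hn (hR x hx)) (isConj_iff.2 ⟨n, rfl⟩) with e | e <;> simp [e]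

theorem count {X : Finset G} (hX : PReps 3 X) (hR : ∀ x ∈ X, x ∈ (R : Subgroup G)) {a : G}
    (ha : orderOf a = 3) [Fintype G] :
    ∃ N : ℕ, 3 * N < 2 * Nat.card G ∧ ∑ g, ll a (ppart 3 g) = 3 * N := by
  classical
  set T := X.filter fun g => ¬ (g = 1 ∨ IsConj a g ∨ IsConj a g⁻¹) with hT
  refine ⟨∑ x ∈ T, (centralizer ({x} : Set G)).index * ns 3 x, ?_, ?_⟩
  swap
  · rw [sum_lift hX (ll_class a), hT, Finset.sum_filter, Nat.cast_sum, Finset.mul_sum]
    refine Finset.sum_congr rfl fun x _ => ?_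
    unfold ll; split_ifs <;> simp
  have h1 : ∀ x ∈ T, x ∈ X ∧ x ≠ 1 ∧ ¬ IsConj a x := fun x hx => by
    have := Finset.mem_filter.1 hx
    tauto
  have h2 : ∀ x ∈ X.erase 1, 2 ≤ (orb R x).card := fun x hx =>
    h.two_le (hR x (Finset.mem_erase.1 hx).2) (Finset.mem_erase.1 hx).1
  have h3 := h.sum_erase hX
  have h0 : 0 < Nat.card G := Nat.card_pos
  by_cases c : ∀ x ∈ (R : Subgroup G), (orb R x).card ≤ 2
  · have h4 := Finset.card_nsmul_le_sum _ _ 2 h2
    have h5 : T.card ≤ (X.erase 1).card :=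
      Finset.card_le_card fun x hx => Finset.mem_erase.2 ⟨(h1 x hx).2.1, (h1 x hx).1⟩
    have h6 := Finset.sum_le_card_nsmul T (fun x => 9 * ((centralizer ({x} : Set G)).index * ns 3 x))
      (Nat.card G) fun x hx => by
        rw [← (centralizer ({x} : Set G)).card_mul_index]
        have := h.nine_le c (hR x (h1 x hx).1) (h1 x hx).2.1
        nlinarith
    rw [← Finset.mul_sum, smul_eq_mul] at h6
    rw [smul_eq_mul] at h4
    have := Nat.mul_le_mul_right (Nat.card G) (show T.card ≤ 4 by omega)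
    omega
  push Not at c
  obtain ⟨y, hy, h4⟩ := c
  obtain ⟨x, ⟨h5, h6⟩, -⟩ := hX.rep y (isPElt_of_mem R.isPGroup' hy)
  have h7 : 2 < (orb R x).card := h4.trans_le (Finset.card_le_card fun z hz =>
    mem_orb.2 ⟨(mem_orb.1 hz).1, h6.symm.trans (mem_orb.1 hz).2⟩)
  have h8 := Finset.sum_lt_sum h2 ⟨x, Finset.mem_erase.2 ⟨fun e => by
    have := Finset.card_le_one.2 fun u (hu : u ∈ orb R x) v (hv : v ∈ orb R x) =>
      (isConj_one_right.1 (e ▸ (mem_orb.1 hu).2)).trans (isConj_one_right.1 (e ▸ (mem_orb.1 hv).2)).symm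
    omega, h5⟩, h7⟩
  rw [Finset.sum_const, smul_eq_mul] at h8
  obtain ⟨b, ⟨h9, h10⟩, -⟩ := hX.rep a ⟨1, by rw [ha, pow_one]⟩
  have h11 : T.card ≤ ((X.erase 1).erase b).card := Finset.card_le_card fun x hx =>
    Finset.mem_erase.2 ⟨fun e => (h1 x hx).2.2 (e ▸ h10), Finset.mem_erase.2 ⟨(h1 x hx).2.1, (h1 x hx).1⟩⟩
  rw [Finset.card_erase_of_mem (Finset.mem_erase.2 ⟨fun e => by
    rw [e, isConj_one_left] at h10; simp [h10] at ha, h9⟩)] at h11
  have h12 := Finset.sum_le_card_nsmul T (fun x => 3 * ((centralizer ({x} : Set G)).index * ns 3 x))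
    (Nat.card G - 1) fun x hx => by
      rw [← (centralizer ({x} : Set G)).card_mul_index]
      have := h.three_lt (hR x (h1 x hx).1) (h1 x hx).2.1
      have h13 := Nat.pos_of_ne_zero (index_ne_zero_of_finite (H := centralizer ({x} : Set G)))
      exact Nat.le_sub_one_of_lt (by nlinarith)
  rw [← Finset.mul_sum, smul_eq_mul] at h12
  have := Nat.mul_le_mul_right (Nat.card G - 1) (show T.card ≤ 2 by omega)
  omega

variable {a : G} (h1 : a ∈ (R : Subgroup G)) (h2 : orderOf a = 3)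
  (h3 : ∀ y ∈ (R : Subgroup G), IsConj a y → y = a ∨ y = a⁻¹)
include h1 h2 h3

theorem ll_R : ∃ (A : Type) (_ : Group A) (_ : Fintype A) (π : (R : Subgroup G) →* A),
    Function.Surjective π ∧ Nat.card π.ker = 3 ∧ Nat.card A = 3 ∧
      ∀ r : (R : Subgroup G), ll a r = 3 - regChar A (π r) := by
  haveI := h.ab
  set K := (zpowers a).subgroupOf (R : Subgroup G) with hK
  have e1 : Nat.card K = 3 := by
    rw [Nat.card_congr (subgroupOfEquivOfLe (zpowers_le.2 h1)).toEquiv, Nat.card_zpowers, h2]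
  have e2 : Nat.card ((R : Subgroup G) ⧸ K) = 3 := by
    have := K.card_mul_index
    rw [e1, h.card] at this
    change K.index = 3
    omega
  have e3 : Nat.card (Multiplicative (ZMod 3)) = 3 := by simp
  let φ := mulEquivOfPrimeCardEq e2 e3
  refine ⟨_, inferInstance, inferInstance, φ.toMonoidHom.comp (QuotientGroup.mk' K),
    φ.surjective.comp (QuotientGroup.mk'_surjective K), ?_, e3, fun r => ?_⟩
  · rw [← MonoidHom.comap_ker, (MonoidHom.ker_eq_bot_iff _).2 φ.injective, MonoidHom.comap_bot,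
      QuotientGroup.ker_mk', e1]
  have e4 : (φ.toMonoidHom.comp (QuotientGroup.mk' K)) r = 1 ↔ (r : G) ∈ zpowers a := by
    simp [hK, mem_subgroupOf]
  by_cases c : (r : G) ∈ zpowers a
  · rw [e4.2 c, regChar_one, e3, ll, if_pos]
    · simp
    rcases (mem_zp h2).1 c with e | e | e <;> rw [e]
    exacts [Or.inl rfl, Or.inr (Or.inl (IsConj.refl _)), Or.inr (Or.inr (by rw [inv_inv]))]
  · rw [regChar_of_ne (e4.not.2 c), ll, if_neg, sub_zero]
    rw [mem_zp h2] at c
    rintro (e | e | e)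
    · exact c (Or.inl e)
    · exact c (Or.inr (h3 _ r.2 e))
    · exact c (Or.inr ((h3 _ (inv_mem r.2) e).symm.imp (fun k => inv_injective k) inv_eq_iff_eq_inv.1))

theorem ll_gen (Q : Subgroup G) (hQ : IsPGroup 3 Q) : IsGeneralizedCharacter Q fun u : Q => ll a u := by
  obtain ⟨A, _, _, π, -, -, -, e⟩ := h.ll_R h1 h2 h3
  obtain ⟨c, hc⟩ := exists_conj_mem R hQ
  convert (((isGen_one' (G := A)).nsmul 3).sub isCharacter_regChar.isGen).comp (π.comp
    (((MulAut.conj c).toMonoidHom.comp Q.subtype).codRestrict (R : Subgroup G) fun u => hc u u.2))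
    using 2 with u
  rw [← ll_class a u c]
  simpa using e ⟨_, hc u u.2⟩

theorem ll_sum [Fintype (R : Subgroup G)] : ∑ r : (R : Subgroup G), ll a r = 18 := by
  obtain ⟨A, _, _, π, e1, e2, e3, e⟩ := h.ll_R h1 h2 h3
  simp only [e]
  rw [Finset.sum_sub_distrib, sum_comp_hom e1, e2, Finset.sum_eq_single 1
    (fun b _ hb => regChar_of_ne hb) (by simp), regChar_one, e3, Finset.sum_const, Finset.card_univ,
    ← Nat.card_eq_fintype_card, h.card]
  norm_num

omit h1 h2 h3 in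
theorem main [Fintype (R : Subgroup G)]
    (hc : 3 ≤ Nat.card {C : ConjClasses G // ∃ g ∈ C.carrier, g ≠ 1 ∧ orderOf g ∣ 9}) :
    ∃ (X Y : IrrCharacter G) (ρ : G → ℂ), X ≠ triv G ∧ Y ≠ triv G ∧ ¬ 3 ∣ dg X ∧ ¬ 3 ∣ dg Y ∧
      dg Y = dg X + 1 ∧ (∀ g, ρ g = 0 ∨ ρ g = 3) ∧
      (∀ g, ρ g = 1 + (X : G → ℂ) g - (Y : G → ℂ) g) ∧ ∑ r : (R : Subgroup G), ρ r = 18 := by
  classical
  have := Fintype.ofFinite G
  obtain ⟨O, _⟩ := exists_val 3
  obtain ⟨X, hX, hR⟩ := exists_reps R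
  obtain ⟨a, h1, h2, h3⟩ := h.exists_a hX hR (four_le hX hc)
  obtain ⟨N, h4, h5⟩ := h.count hX hR h2
  obtain ⟨h6, h7⟩ := lift O (ll_class a) (h.ll_gen h1 h2 h3)
  have h8 : ∑ r : (R : Subgroup G), ll a (ppart 3 (r : G)) = 18 := by
    rw [← h.ll_sum h1 h2 h3]
    exact Finset.sum_congr rfl fun r _ => by
      rw [ppart_eq (isPPart_self (isPElt_of_mem R.isPGroup' r.2))]
  set ρ := fun g => ll a (ppart 3 g) with hρ
  have hv : ∀ g, ρ g = 0 ∨ ρ g = 3 := fun g => ll_val _ _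
  obtain ⟨m, e1, e2⟩ := h6.exists_coeff
  have c0 : (Nat.card G : ℂ) ≠ 0 := card_ne_zero_complex
  have e3 : (m (triv G) : ℂ) = (Nat.card G : ℂ)⁻¹ * (3 * N) := by
    rw [← e1, (triv G).2.isGen.inner_eq, ← h5]; simp [triv_apply, hρ]
  have e4 : ∑ χ, m χ * m χ = 3 * m (triv G) := by
    rw [← Int.cast_inj (α := ℂ), ← inner_eq_sum_coeff h6.isClassFunction e1 e1, h6.inner_eq]
    push_cast
    rw [e3, ← h5, mul_left_comm, Finset.mul_sum (s := Finset.univ) (a := 3)]
    refine congrArg _ (Finset.sum_congr rfl fun g _ => ?_)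
    rw [show ρ g⁻¹ = ρ g by simp only [hρ, ppart_inv, ll_inv]]
    change _ = 3 * ρ g
    rcases hv g with e | e <;> simp [e]
  have e5 : m (triv G) = 1 := by
    have e6 : m (triv G) * Nat.card G = 3 * N := by
      rw [← Int.cast_inj (α := ℂ)]; push_cast; rw [e3]; field_simp
    have e7 : m (triv G) ≠ 0 := fun c => by
      rw [c, mul_zero] at e4
      change ∑ r : (R : Subgroup G), ρ r = 18 at h8
      rw [e2] at h8
      simp [fun χ => eq_zero_of_norm_zero e4 (Finset.mem_univ χ)] at h8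
    have h0 : (0 : ℤ) < Nat.card G := by exact_mod_cast Nat.card_pos
    have e8 : m (triv G) < 2 := by nlinarith
    have e9 : 0 ≤ m (triv G) := by nlinarith
    omega
  obtain ⟨i, -, j, -, k1, k2, k3, k4, k5, k6⟩ := norm_three (Finset.mem_univ (triv G))
    (by rw [e4, e5]; rfl) e5
  have e6 : ∀ g, ρ g = 1 + m i * (i : G → ℂ) g + m j * (j : G → ℂ) g := fun g => by
    rw [congrFun e2 g, Finset.sum_apply, sum_eq_three (Finset.mem_univ (triv G)) (Finset.mem_univ i)
      (Finset.mem_univ j) k1 k2 k3 _ fun k hk a b c => by simp [k6 k hk a b c]]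
    simp [e5, triv_apply]
  have e7 : ∀ χ, m χ * m χ = 1 → ¬ 3 ∣ dg χ := fun χ e => by
    refine ht_B0_iff.1 (height_eq_zero_of_le_two (β := B0 O G) (p := 3) ?_ ?_)
    · rw [defect_B0]
      have := R.card_eq_multiplicity
      rw [h.card] at this
      exact (Nat.pow_right_injective (a := 3) (by norm_num) (this.symm.trans (by norm_num))).le
    · by_contra c
      have := h7 χ c
      rw [← inner_irr_eq_bil, e1, Int.cast_eq_zero] at this
      simp [this] at e
  have e8 : 1 + m i * dg i + m j * dg j = 0 := by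
    have := e6 1
    rw [← cast_deg, ← cast_deg, show ρ 1 = 0 by
      simp [hρ, ll, ppart_eq (isPPart_one (preg_one (p := 3) (G := G)))]] at this
    exact_mod_cast this.symm
  have p1 := dg_pos i
  have p2 := dg_pos j
  have p3 := ch_deg_ne_one h.perf k1
  rcases mul_self_eq_one_iff.1 k4 with a1 | a1 <;> rcases mul_self_eq_one_iff.1 k5 with a2 | a2 <;>
    rw [a1, a2] at e8
  · omega
  · exact ⟨i, j, ρ, k1, k2, e7 i k4, e7 j k5, by omega, hv, fun g => by
      rw [e6, a1, a2]; push_cast; ring, h8⟩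
  · exact ⟨j, i, ρ, k2, k1, e7 j k5, e7 i k4, by omega, hv, fun g => by
      rw [e6, a1, a2]; push_cast; ring, h8⟩
  · omega

end Nine

end H20.K9
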