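import Cfsg.Agent.H20.N3d
import Cfsg.Agent.H25.M11a

/-! Simple groups of degree `3 p` with Sylow `p`-normaliser of order `2 p`. -/

set_option autoImplicit false
set_option linter.unusedSectionVars false
open Cfsg H17 H19 H2 Subgroup MulAction
open scoped MatrixGroups

namespace H20.N3

variable {G : Type*} [Group G] [Finite G] {p : ℕ} [hp : Fact p.Prime]
  {O : ValuationSubring ℂ} [CharP (kk O) p] {P : Sylow p G} {X Y : Finset (IrrCharacter G)}
  {s : IrrCharacter G → ℤ} {ε : ℤ} {χ θ : IrrCharacter G}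
  (h : D1 p O (P : Subgroup G) 2 X Y s ε) (hC : cent (P : Subgroup G) ≤ P)
include h hC

theorem dvd_dg {ψ : IrrCharacter G} (hψ : ψ ∉ irr (B0 O G)) : p ∣ dg ψ := by
  have := Fintype.ofFinite (P : Subgroup G)
  obtain ⟨m, hm⟩ := ch_sum_sub ψ.2.isCharacter (P : Subgroup G)
  rw [ch_sum_const (fun y : (P : Subgroup G) => (ψ : G → ℂ) y) 0 fun y hy =>
    h.zero_of_not_mem hC hψ (h.sing y.2 fun e => hy (Subtype.ext e)), OneMemClass.coe_one,
    ← cast_deg, h.card, mul_zero, add_zero] at hm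
  exact ⟨m, by exact_mod_cast hm⟩

theorem decomp (hG : commutator G = ⊤) (hp3 : 3 < p) (hχ : χ ∈ X) (hθ : θ ∈ Y) (α : Type*)
    [Finite α] [MulAction G α] [IsPretransitive G α] {k : ℕ} (hk : k = 1 ∨ k = 3)
    (hα : Nat.card α = k * p) :
    (s χ = 1 ∧ ε = 1 ∧ k = 3 ∧ p = 5 ∧ dg χ = 6 ∧ dg θ = 7 ∧ ∀ g, ¬ p ∣ orderOf g →
      (Nat.card (fixedBy α g) : ℂ) = 3 + 2 * (χ : G → ℂ) g) ∨
    (s χ = -1 ∧ ε = -1 ∧ dg θ + 1 = dg χ ∧ (dg χ + 1 = p ∨ k = 3 ∧
      ((dg χ + 1 = 3 * p ∧ ∀ g, (Nat.card (fixedBy α g) : ℂ) = 1 + (χ : G → ℂ) g) ∨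
      (dg χ + 1 = 2 * p ∧ ∃ ψ : IrrCharacter G, ψ ∉ irr (B0 O G) ∧ dg ψ = p ∧
        ∀ g, (Nat.card (fixedBy α g) : ℂ) = 1 + (χ : G → ℂ) g + (ψ : G → ℂ) g)))) := by
  classical
  haveI := Fintype.ofFinite G
  obtain ⟨c, hc1, hc2, hc3, hc4⟩ := h.coeff_const hC (isCharacter_perm α) (a := 0) (fun g hg => by
    simp only [fix_zero_of_sing (α := α) P h.card ⟨k, by rw [hα, mul_comm]⟩ hg]; simp) hθ
  have hct : c (triv G) = 1 := by
    haveI : Nonempty α := (Nat.card_pos_iff.1 (by rcases hk with rfl | rfl <;> omega)).1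
    haveI := (pretransitive_iff_unique_quotient_of_nonempty G α).1 inferInstance |>.some
    have := hc1 (triv G)
    rw [coe_triv, classInner_perm_one, Nat.card_unique] at this
    exact_mod_cast this.symm
  have h1 := ch_deg_of_coeff hc2 (d := k * p) (by simp [← hα])
  obtain ⟨u, hu, -⟩ := h.split hG hθ
  obtain ⟨hu1, hu⟩ := hu χ hχ
  have h2 := h.eqn_deg hθ
  have ht := h.cardY
  have hX := h.X_eq hχ
  have hodd := hp.out.eq_two_or_odd
  rw [h.sum_all, Finset.sum_congr rfl (s₁ := Y) (g := fun _ => c θ * dg θ) fun ψ hψ => by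
    rw [hc3 ψ hψ, h.degY_eq hψ hθ], Finset.sum_const, smul_eq_mul, hct,
    show dg (triv G) = 1 from ch_deg_triv, hX, Finset.sum_singleton] at h1
  rw [hX, Finset.sum_singleton] at h2 hc4
  rw [hct] at hc4
  have hπ : ∀ g, (Nat.card (fixedBy α g) : ℂ) = 1 + (c χ * (χ : G → ℂ) g + c θ * ∑ ψ ∈ Y,
      (ψ : G → ℂ) g) + ∑ ψ with ψ ∉ irr (B0 O G), c ψ * (ψ : G → ℂ) g := fun g => by
    have h10 := congrFun hc2 g
    simp only [Finset.sum_apply, Pi.smul_apply, smul_eq_mul] at h10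
    rw [h10, h.sum_all, hX, Finset.sum_singleton, hct, Finset.mul_sum,
      Finset.sum_congr rfl (s₁ := Y) fun ψ hψ => by rw [hc3 ψ hψ]]
    simp
  have h0 : ∀ (A : Finset (IrrCharacter G)) g, ∑ ψ ∈ A, c ψ * dg ψ = 0 →
      ∑ ψ ∈ A, c ψ * (ψ : G → ℂ) g = 0 := fun A g e => Finset.sum_eq_zero fun ψ hψ => by
    rw [(Nat.mul_eq_zero.1 (Finset.sum_eq_zero_iff.1 e ψ hψ)).resolve_right (dg_pos ψ).ne']; simp
  have hup := Nat.le_mul_of_pos_left p hu1
  have hkp : k * p ≤ 3 * p := Nat.mul_le_mul_right p (by omega)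
  rcases hu with ⟨h3, h4⟩ | ⟨h3, h4⟩ <;> rw [h3] at h2 hc4
  · have h5 : ε = 1 := h.eps.resolve_right fun h5 => by rw [h5] at h2; omega
    rw [h5] at h2 hc4
    have h6 := Nat.mul_le_mul (le_refl Y.card) (Nat.mul_le_mul (show 1 ≤ c θ by omega)
      (show Y.card * 2 + 3 ≤ dg θ by omega))
    have h7 : Y.card = 2 := by
      by_contra h7
      have := Nat.mul_le_mul_right Y.card (show 3 ≤ Y.card by omega)
      rw [show Y.card * (1 * (Y.card * 2 + 3)) = 2 * (Y.card * Y.card) + 3 * Y.card by ring] at h6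
      omega
    obtain rfl : p = 5 := by omega
    rw [h7] at h1
    have h8 : c θ = 1 := by
      by_contra h8
      have := Nat.mul_le_mul (show 2 ≤ c θ by omega) (le_refl (dg θ))
      omega
    have h9 : c χ = 0 := by omega
    rw [h8, h9] at h1
    refine Or.inl ⟨h3, h5, by omega, rfl, by omega, by omega, fun g hg => ?_⟩
    have e1 := h.eqn θ hθ g hg
    rw [hX, Finset.sum_singleton, h3, h5] at e1
    rw [hπ, h0 _ g (by omega), h.sumY_reg hθ hg, h7, h8, h9]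
    push_cast at e1 ⊢
    linear_combination 2 * e1
  have h5 : ε = -1 := h.eps.resolve_left fun h5 => by have := dg_pos θ; rw [h5] at h2; omega
  rw [h5] at hc4 h2
  refine Or.inr ⟨h3, h5, by omega, or_iff_not_imp_left.2 fun h6 => ?_⟩
  have h7 := Nat.mul_le_mul_right p (show 2 ≤ u χ by
    by_contra h7; rw [show u χ = 1 by omega] at h4; omega)
  have h8 : c χ = c θ + 1 := by omega
  rw [h8, add_mul, one_mul] at h1
  have h9 : c θ = 0 := by
    by_contra h9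
    have := Nat.mul_le_mul (show 1 ≤ c θ by omega) (le_refl (dg χ))
    omega
  rw [h9] at h1 h8
  simp only [h8, h9] at hπ
  obtain rfl : k = 3 := hk.resolve_left (by rintro rfl; omega)
  refine ⟨rfl, or_iff_not_imp_left.2 fun h10 => ?_⟩
  have h11 : ∑ ψ with ψ ∉ irr (B0 O G), c ψ * dg ψ ≠ 0 := fun e =>
    h10 ⟨by omega, fun g => by rw [hπ, h0 _ g e]; simp⟩
  obtain ⟨ψ, k1, k2⟩ := Finset.exists_ne_zero_of_sum_ne_zero h11
  have k3 := (Finset.mem_filter.1 k1).2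
  have k4 := Nat.le_of_dvd (dg_pos ψ) (dvd_dg h hC k3)
  have k5 := Nat.mul_le_mul (show 1 ≤ c ψ from Nat.pos_of_ne_zero (left_ne_zero_of_mul k2))
    (le_refl (dg ψ))
  rw [← Finset.add_sum_erase _ _ k1] at h1
  have k6 : c ψ = 1 := by
    by_contra k6
    have := Nat.mul_le_mul (show 2 ≤ c ψ by have := left_ne_zero_of_mul k2; omega) (le_refl (dg ψ))
    omega
  refine ⟨by omega, ψ, k3, by omega, fun g => ?_⟩
  rw [hπ, ← Finset.add_sum_erase _ _ k1, h0 _ g (by omega), k6]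
  simp

omit h hC in
theorem two_setup [IsSimpleGroup G] (hG : ¬ IsMulCommutative G) (S : Sylow 2 G) :
    ∃ (t : G) (a r c : ℕ), orderOf t = 2 ∧ 2 ≤ a ∧ Nat.card G = 2 ^ a * r ∧ Odd r ∧
      Nat.card (S : Subgroup G) = 2 ^ a ∧ Nat.card (centralizer ({t} : Set G)) = 2 ^ a * c ∧
      Odd c := by
  obtain ⟨a, ha⟩ := S.isPGroup'.exists_card_eq
  have h1 := (S : Subgroup G).card_mul_index
  have h2 : Odd (S : Subgroup G).index := Nat.odd_iff.2 (Nat.two_dvd_ne_zero.1 S.not_dvd_index)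
  have h3 : 2 ≤ a := (Nat.pow_dvd_pow_iff_le_right one_lt_two).1
    (((Nat.coprime_two_left.2 h2).pow_left 2).dvd_of_dvd_mul_right (ha ▸ h1 ▸ sm_four_dvd hG))
  haveI : Nontrivial (S : Subgroup G) := Finite.one_lt_card_iff_nontrivial.1
    (ha ▸ Nat.one_lt_two_pow (by omega))
  haveI := S.isPGroup'.center_nontrivial
  obtain ⟨z, hz⟩ := exists_prime_orderOf_dvd_card' (G := center (S : Subgroup G)) 2
    ((S.isPGroup'.to_subgroup _).card_eq_or_dvd.resolve_left Finite.one_lt_card.ne')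
  have h4 : (S : Subgroup G) ≤ centralizer {z.1.1} := fun x hx =>
    mem_centralizer_singleton_iff.2 (congrArg Subtype.val (mem_center_iff.1 z.2 ⟨x, hx⟩))
  obtain ⟨c, hc⟩ := card_dvd_of_le h4
  refine ⟨z.1.1, a, _, c, (orderOf_coe _).trans ((orderOf_coe _).trans hz), h3, ha ▸ h1.symm, h2, ha, ha ▸ hc, h2.of_dvd_nat ?_⟩
  exact Nat.dvd_of_mul_dvd_mul_left Nat.card_pos (h1 ▸ hc ▸ card_subgroup_dvd_card _)

omit h hC in
theorem small [IsSimpleGroup G] (hG : ¬ IsMulCommutative G) {Ω : Type*} [Finite Ω] [MulAction G Ω]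
    {a r f : ℕ} (h1 : Nat.card G = 2 ^ a * r) (h2 : Odd r) (ha : a = 2 ∨ a = 3)
    (h3 : ∀ t : G, orderOf t = 2 → Nat.card (fixedBy Ω t) = f)
    (h4 : a = 3 → ¬ (8 : ℤ) ∣ Nat.card Ω - f) : GW.Known G := by
  have h5 : ¬ 2 ∣ r := Nat.two_dvd_ne_zero.2 (Nat.odd_iff.1 h2)
  rcases ha with rfl | rfl
  · exact sm_known_four hG h1 h5
  refine (sm_known_eight hG h1 h5).resolve_right fun ⟨h6, _⟩ => h4 rfl ?_
  obtain ⟨T⟩ : Nonempty (Sylow 2 G) := inferInstance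
  have := dvd_of_const (Ω := Ω) (T : Subgroup G) fun x hx h => h3 x (h6 T x hx h)
  rwa [sm_card_sylow_eq T h1 h5] at this

theorem prim [IsSimpleGroup G] (hG : ¬ IsMulCommutative G) (hp3 : 3 < p)
    (hN : Nat.card (nrm (P : Subgroup G)) = 2 * p) (hχ : χ ∈ X) (hθ : θ ∈ Y) {Ω : Type*}
    [Finite Ω] [MulAction G Ω] [IsPretransitive G Ω] (hΩ : Nat.card Ω = 3 * p) :
    dg χ + 1 = p ∨ ∃ (F : Type) (_ : Field F) (_ : Fintype F),
      Fintype.card F + 1 = 2 * p ∧ Nonempty (G ≃* PSL(2, F)) := by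
  have hperf := sm_commutator_eq_top hG
  have hodd := hp.out.eq_two_or_odd
  have hd := decomp h hC hperf hp3 hχ hθ Ω (Or.inr rfl) hΩ
  have hs : s χ = ε := by rcases hd with ⟨e1, e2, -⟩ | ⟨e1, e2, -⟩ <;> rw [e1, e2]
  obtain ⟨S⟩ : Nonempty (Sylow 2 G) := inferInstance
  obtain ⟨t, a, r, c, ht, ha, h1, hr, hS, h2, hc⟩ := two_setup hG S
  obtain ⟨⟨v, hv, hv', htv⟩, hf⟩ := formula h hC hN hχ hθ hs ht
  have cj : ∀ {Φ : G → ℂ}, IsCharacter G Φ → ∀ t' : G, orderOf t' = 2 → Φ t' = Φ v := fun hΦ t' ht' => by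
    obtain ⟨⟨w, hw, hw', k⟩, -⟩ := formula h hC hN hχ hθ hs ht'
    exact hΦ.isClassFunction.of_isConj (k.trans (refl_conj h.card hC hN h.odd hw hw' hv hv'))
  have hz : ∀ y, p ∣ orderOf y → Nat.card (fixedBy Ω y) = 0 := fun y hy =>
    fix_zero_of_sing (α := Ω) P h.card ⟨3, by rw [hΩ, mul_comm]⟩ hy
  obtain ⟨f, hf3, hfv⟩ := val_refl h.card hC hN h.odd (isCharacter_perm Ω) (fun y hy h1 => by
    simp only [hz y (h.sing hy h1), Nat.cast_zero]) (m := 3) (by rw [fix_one, hΩ, mul_comm]) hv hv'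
  have hfix : ∀ t' : G, orderOf t' = 2 → Nat.card (fixedBy Ω t') + 3 = 2 * f := fun t' ht' => by
    rw [← Nat.cast_inj (R := ℂ)]
    push_cast at hfv ⊢
    linear_combination cj (isCharacter_perm Ω) t' ht' + hfv
  have hft := hfix t ht
  have hft' : (Nat.card (fixedBy Ω t) : ℂ) = 2 * f - 3 := by
    rw [eq_sub_iff_add_eq]; exact_mod_cast hft
  have htr : ¬ p ∣ orderOf t := fun hd => by have := Nat.le_of_dvd (by omega) hd; omega
  have key : ∀ α : ℤ, (χ : G → ℂ) t = α →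
      (r : ℤ) * (dg χ - α) ^ 2 = 2 ^ a * c ^ 2 * p * (dg χ * dg θ) := fun α e => by
    rw [e, h1, h2, ← cast_deg] at hf
    rw [← Int.cast_inj (α := ℂ)]
    push_cast at hf ⊢
    exact mul_left_cancel₀ (pow_ne_zero a two_ne_zero) (by linear_combination hf)
  obtain ⟨b, rfl⟩ : ∃ b, a = b + 2 := ⟨a - 2, by omega⟩
  have hr' := Nat.odd_iff.1 hr
  have hS1 := sm_sylow_ne_bot S ((Dvd.intro 2 rfl).trans (sm_four_dvd hG))
  obtain ⟨j, hj⟩ : ∃ j, p = 2 * j + 1 := ⟨p / 2, by omega⟩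
  rcases hd with ⟨-, -, -, rfl, d1, d2, hπ⟩ | ⟨e1, -, d1, d2 | ⟨-, ⟨d2, hπ⟩ | ⟨d2, ψ, hψ, d3, hπ⟩⟩⟩
  · have k1 := key (f - 3) (by push_cast; linear_combination (hft' - hπ t htr) / 2)
    rw [d1, d2, show (2 : ℤ) ^ (b + 2) * c ^ 2 * (5 : ℕ) * ((6 : ℕ) * (7 : ℕ)) =
      840 * (2 ^ b * c ^ 2) by push_cast; ring] at k1
    obtain rfl | rfl : f = 2 ∨ f = 3 := by omega
    all_goals norm_num at k1; omega
  · exact Or.inl d2
  · have k1 := key (2 * f - 4) (by push_cast; linear_combination hft' - hπ t)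
    rw [show dg χ = 6 * j + 2 by omega, show dg θ = 6 * j + 1 by omega] at k1
    obtain rfl | rfl : f = 2 ∨ f = 3 := by omega
    · have k2 := se_case hG hp3 hΩ fun t' ht' => by have := hfix t' ht'; omega
      rw [h1, show 3 * p - 1 = 6 * j + 2 by omega, show (6 * j + 2) ^ 2 = 3 * p * (6 * j + 1) + 1 by
        rw [hj]; ring, Nat.add_sub_cancel] at k2
      have k3 : ((2 ^ (b + 2) * c : ℕ) : ℤ) ^ 2 = 3 * (6 * j + 2) ^ 2 :=
        mul_left_cancel₀ (show (p * ((6 * j + 2) * (6 * j + 1)) : ℤ) ≠ 0 by positivity) (by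
          have k4 : (2 ^ (b + 2) * r : ℤ) = (6 * j + 2) * (3 * p * (6 * j + 1)) := by exact_mod_cast k2
          push_cast at k1 ⊢
          linear_combination (6 * j + 2 : ℤ) ^ 2 * k4 - 2 ^ (b + 2) * k1)
      obtain ⟨w, hw⟩ := Int.prime_three.dvd_of_dvd_pow ⟨_, k3⟩
      rw [hw] at k3
      have := Int.prime_three.dvd_of_dvd_pow (a := 6 * j + 2) (n := 2) ⟨w ^ 2, by linarith⟩
      omega
    have k2 := (loc (Ω := Ω) S.isPGroup' hS1 fun t' ht' => by have := hfix t' ht'; omega).1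
    rw [hS, hΩ, hj] at k2
    obtain ⟨e, he⟩ : (2 ^ b : ℤ) ∣ j := (show IsCoprime (2 ^ b : ℤ) 3 from
      IsCoprime.pow_left ⟨-1, 1, by norm_num⟩).dvd_of_dvd_mul_left
      (Int.dvd_of_mul_dvd_mul_left (a := 4) (by norm_num) (by convert k2 using 1 <;> push_cast <;> ring))
    have k3 : (9 * r * e ^ 2 * 2 ^ b : ℤ) = 2 * (c ^ 2 * p * (3 * j + 1) * (6 * j + 1)) :=
      mul_left_cancel₀ (show (4 * 2 ^ b : ℤ) ≠ 0 by positivity) (by
        push_cast at k1
        linear_combination k1 - 36 * r * (j + 2 ^ b * e) * he)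
    have k4 : Even (j : ℤ) → Odd (c ^ 2 * p * (3 * j + 1) * (6 * j + 1) : ℤ) := fun k => by
      have : Odd (c : ℤ) := by exact_mod_cast hc
      refine ((this.pow.mul ⟨j, by omega⟩).mul (k.mul_left 3).add_one).mul ⟨3 * j, by ring⟩
    refine Or.inr (known_deg hp3 P hN (small (Ω := Ω) (f := 3) hG h1 hr ?_
      (fun t' ht' => by have := hfix t' ht'; omega) fun hb hd => ?_) d1 (Or.inr d2))
    · obtain _ | _ | b := b
      · exact Or.inl rfl
      · exact Or.inr rfl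
      obtain ⟨w, hw⟩ := k4 ⟨2 ^ b * 2 * e, by rw [he]; ring⟩
      rw [hw, show (9 * r * e ^ 2 * 2 ^ (b + 1 + 1) : ℤ) = 4 * (9 * r * e ^ 2 * 2 ^ b) by ring] at k3
      omega
    obtain rfl : b = 1 := by omega
    obtain ⟨w, hw⟩ := k4 ⟨e, by rw [he]; ring⟩
    obtain ⟨e', rfl⟩ : 2 ∣ e := by omega
    rw [hw, show (9 * r * (2 * e') ^ 2 * 2 ^ 1 : ℤ) = 8 * (9 * r * e' ^ 2) by ring] at k3
    omega
  obtain ⟨f', hf', hfv'⟩ := val_refl h.card hC hN h.odd ψ.2.isCharacter (fun y hy h1 =>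
    h.zero_of_not_mem hC hψ (h.sing hy h1)) (m := 1) (by rw [← cast_deg, mul_one]; exact congrArg _ d3)
    hv hv'
  obtain ⟨f'', hf'', hfv''⟩ := val_refl h.card hC hN h.odd (isCharacter_one'.add χ.2.isCharacter)
    (fun y hy h1 => by simp [h.valX χ hχ y (h.sing hy h1), e1]) (m := 2) (by
      rw [Pi.add_apply, ← cast_deg, mul_comm, ← d2]; push_cast; exact add_comm _ _) hv hv'
  rw [← cj ψ.2.isCharacter t ht] at hfv'
  rw [Pi.add_apply, ← cj χ.2.isCharacter t ht, Pi.one_apply] at hfv''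
  have k0 : f = f' + f'' := by
    rw [← Nat.cast_inj (R := ℂ)]
    push_cast at hfv' hfv'' ⊢
    linear_combination (hπ t - hft' + hfv' + hfv'') / 2
  have k1 := key (2 * f'' - 3) (by push_cast at hfv'' ⊢; linear_combination hfv'')
  rw [show dg χ = 4 * j + 1 by omega, show dg θ = 4 * j by omega] at k1
  have hp' : Odd (p : ℤ) := ⟨j, by omega⟩
  have hro : Odd (r : ℤ) := by exact_mod_cast hr
  obtain rfl | rfl : f'' = 1 ∨ f'' = 2 := by omega
  · obtain ⟨w, hw⟩ := hro.mul (hp'.pow (n := 2))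
    have : (r * p ^ 2 : ℤ) = 4 * (2 ^ b * c ^ 2 * p * ((4 * j + 1) * j)) :=
      mul_left_cancel₀ (show (4 : ℤ) ≠ 0 by norm_num) (by
        push_cast at k1
        rw [hj] at k1 ⊢
        push_cast at k1 ⊢
        linear_combination k1)
    omega
  have k2 : (r * j : ℤ) = 2 ^ b * (c ^ 2 * p * (4 * j + 1)) :=
    mul_left_cancel₀ (show (16 * j : ℤ) ≠ 0 by omega) (by push_cast at k1; linear_combination k1)
  obtain ⟨e, he⟩ : (2 ^ b : ℤ) ∣ j := (Int.isCoprime_two_left.2 hro).pow_left.dvd_of_dvd_mul_left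
    ⟨_, k2⟩
  have k3 : Odd e := by
    have : Odd (c : ℤ) := by exact_mod_cast hc
    have k3 : (r * e : ℤ) = c ^ 2 * p * (4 * j + 1) :=
      mul_left_cancel₀ (show (2 ^ b : ℤ) ≠ 0 by positivity) (by linear_combination k2 - r * he)
    exact (Int.odd_mul.1 (k3 ▸ (this.pow.mul hp').mul ⟨2 * j, by ring⟩)).2
  obtain ⟨w, hw⟩ := k3
  by_cases hb : b ≤ 1
  · refine Or.inr (known_deg hp3 P hN (small (Ω := Ω) (f := 2 * (f' + 2) - 3) hG h1 hr (by omega)
      (fun t' ht' => by have := hfix t' ht'; omega) fun hb hd => ?_) d1 (Or.inl d2))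
    obtain rfl : b = 1 := by omega
    omega
  exfalso
  obtain ⟨b, rfl⟩ : ∃ b', b = b' + 2 := ⟨b - 2, by omega⟩
  have he' : (j : ℤ) = 4 * (2 ^ b * e) := by rw [he]; ring
  have hS' : (Nat.card (S : Subgroup G) : ℤ) = 16 * 2 ^ b := by rw [hS]; push_cast; ring
  have inv : ∀ x ∈ (S : Subgroup G), x ≠ 1 → ∃ k : ℕ, orderOf x = 2 ^ (k + 1) := fun x hx h => by
    obtain ⟨k, hk⟩ := IsPGroup.iff_orderOf.1 S.isPGroup' ⟨x, hx⟩
    rw [orderOf_mk] at hk
    exact ⟨k - 1, by rwa [Nat.sub_add_cancel (Nat.pos_of_ne_zero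
      (by rintro rfl; exact h (orderOf_eq_one_iff.1 hk)))]⟩
  obtain rfl | rfl : f' = 0 ∨ f' = 1 := by omega
  · have k4 := dvd_of_const (Ω := Ω) (f := 1) (S : Subgroup G) fun x hx h0 => by
      obtain ⟨k, hk⟩ := inv x hx h0
      have k5 := hfix _ (orderOf_pow_orderOf_div (n := 2) (orderOf_pos x).ne' (hk ▸ dvd_pow_self _
        (by omega)))
      have k6 := Set.ncard_le_ncard (show fixedBy Ω x ⊆ fixedBy Ω (x ^ (orderOf x / 2)) from
        fun y hy => (stabilizer G y).pow_mem hy _)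
      have k7 := H6.card_modEq_fixedBy (Ω := Ω) (hk ▸ pow_orderOf_eq_one x)
      unfold Nat.ModEq at k7
      change _ = 1
      simp only [Nat.card_coe_set_eq] at k5 ⊢
      omega
    have := (Dvd.intro _ hS'.symm).trans k4
    omega
  obtain ⟨g, hg, ω, a, a', -, -, g1, g2, g3, g4, g5, g6, g7⟩ := (loc (Ω := Ω) S.isPGroup' hS1
    fun t' ht' => by have := hfix t' ht'; omega).2 fun hd => by
      obtain ⟨z, hz⟩ := hd
      rw [hS', hΩ, hj] at hz
      have : (3 * e : ℤ) = 2 * z := mul_left_cancel₀ (show (8 * 2 ^ b : ℤ) ≠ 0 by positivity) (by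
        push_cast at hz; linear_combination hz - 6 * he')
      omega
  have hg1 : g ≠ 1 := by rintro rfl; exact g1 ((one_smul G a).symm.trans g3)
  obtain ⟨k, hk⟩ := inv g hg hg1
  obtain ⟨x, hx, hx1⟩ := h.exists_x
  haveI := Fintype.ofFinite G
  have hxs := h.sing hx hx1
  refine no16 (by omega) (by omega) hΩ (h.X_ne hχ) (fun e => hψ ((h.mem _).2 (Or.inl e))) hπ d2 d3
    (sm_orderOf_eq h.card hx hx1) (fun v hv y hy => by_contra fun h0 => ?_)
    (by rw [h.valX χ hχ x hxs, e1]; simp) (h.zero_of_not_mem hC hψ hxs) g1 g2 g3 g4 g5 g7 ?_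
    (hk ▸ pow_orderOf_eq_one g) ?_
  · have := hz v (h.sing (zpowers_le.2 hx hv) h0)
    rw [Nat.card_coe_set_eq, Set.ncard_eq_zero] at this
    exact Set.notMem_empty y (this ▸ hy)
  · by_contra h8
    have := ord_four hperf (isCharacter_perm Ω) (g := g) (orderOf_dvd_iff_pow_eq_one.1 (hk ▸
      (pow_dvd_pow 2 (by_contra fun h => h8 (hk ▸ pow_dvd_pow 2 (show 3 ≤ k + 1 by omega))) :
        _ ∣ 2 ^ 2))) (n := 3 * p) (by rw [fix_one, hΩ]) (by simp [g5]) (by simp [g6])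
    omega
  have k4 := h.eqn θ hθ g fun hd => by
    have := Nat.le_of_dvd two_pos (hp.out.dvd_of_dvd_pow (hk ▸ hd)); omega
  rw [H25.dz_vanish h1 (by omega) (Int.natCast_dvd_natCast.1 ⟨e, by
    rw [show dg θ = 4 * j by omega]; push_cast; rw [he]; ring⟩) (hk ▸ dvd_pow_self 2 (by omega)),
    h.X_eq hχ, Finset.sum_singleton, e1] at k4
  push_cast at k4
  linear_combination k4

end H20.N3
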