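import Cfsg.Agent.H20.K9b
import Cfsg.Agent.H20.N3e
import Cfsg.Agent.H2.D1x
import Cfsg.Agent.S3784
import Cfsg.Agent.S3968
import Cfsg.Agent.S0904

/-! Simple groups of order `9 * 2 ^ a * q ^ b`. -/

set_option autoImplicit false
set_option linter.unusedSectionVars false
open Cfsg H17 H19 H2 Subgroup

namespace H20.K9
variable {G : Type*} [Group G] [Finite G]

theorem consec {q a b x : ℕ} (hq : q.Prime) (q2 : q ≠ 2) (q3 : q ≠ 3) (hx : 2 ≤ x)
    (h1 : x ∣ 2 ^ a * q ^ b) (h2 : x + 1 ∣ 2 ^ a * q ^ b) :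
    (x = q ∧ ∃ i, x + 1 = 2 ^ i) ∨ (x + 1 = q ∧ ∃ i, x = 2 ^ i) := by
  obtain ⟨_, _, k1, k2, e1⟩ := (Nat.dvd_mul).1 h1
  obtain ⟨_, _, k3, k4, e2⟩ := (Nat.dvd_mul).1 h2
  obtain ⟨i, -, rfl⟩ := (Nat.dvd_prime_pow Nat.prime_two).1 k1
  obtain ⟨j, -, rfl⟩ := (Nat.dvd_prime_pow hq).1 k2
  obtain ⟨k, -, rfl⟩ := (Nat.dvd_prime_pow Nat.prime_two).1 k3
  obtain ⟨l, -, rfl⟩ := (Nat.dvd_prime_pow hq).1 k4
  have c : ∀ r : ℕ, r.Prime → r ∣ x → r ∣ x + 1 → False := fun r hr a b =>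
    hr.one_lt.ne' (Nat.dvd_one.1 ((Nat.dvd_add_right a).1 b))
  have a1 : i = 0 ∨ k = 0 := by
    by_contra! h
    exact c 2 Nat.prime_two (e1 ▸ (dvd_pow_self 2 h.1).mul_right _) (e2 ▸ (dvd_pow_self 2 h.2).mul_right _)
  have a2 : j = 0 ∨ l = 0 := by
    by_contra! h
    exact c q hq (e1 ▸ (dvd_pow_self q h.1).mul_left _) (e2 ▸ (dvd_pow_self q h.2).mul_left _)
  have n9 : ∀ m, q ^ m ≠ 9 := fun m e => q3 ((Nat.prime_dvd_prime_iff_eq Nat.prime_three hq).1
    (Nat.prime_three.dvd_of_dvd_pow (n := m) (e ▸ by norm_num))).symm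
  rcases a1 with rfl | rfl <;> rcases a2 with rfl | rfl <;>
    simp only [pow_zero, one_mul, mul_one] at e1 e2
  · omega
  · rcases Cfsg.Agent.S3784.result 2 q k j Nat.prime_two hq
      (Nat.pos_of_ne_zero (by rintro rfl; simp at *; omega))
      (Nat.pos_of_ne_zero (by rintro rfl; simp at *; omega))
      (by omega) with ⟨-, rfl, -⟩ | ⟨h, -⟩ | ⟨-, h⟩
    · exact Or.inl ⟨by rw [← e1, pow_one], k, e2.symm⟩
    · exact absurd h q2
    · exact absurd ((Nat.prime_dvd_prime_iff_eq Nat.prime_two hq).1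
        (Nat.prime_two.dvd_of_dvd_pow (n := j) (h ▸ by norm_num))).symm q2
  · rcases Cfsg.Agent.S3784.result q 2 l i hq Nat.prime_two
      (Nat.pos_of_ne_zero (by rintro rfl; simp at *; omega))
      (Nat.pos_of_ne_zero (by rintro rfl; simp at *; omega))
      (by omega) with ⟨h, -⟩ | ⟨-, rfl, -⟩ | ⟨h, -⟩
    · exact absurd h q2
    · exact Or.inr ⟨by rw [← e2, pow_one], i, e1.symm⟩
    · exact absurd h (n9 l)
  · omega

theorem odd_dvd {d k : ℕ} (hd : d % 2 = 1) (h : d ∣ 9 * 2 ^ k) : d = 1 ∨ d = 3 ∨ d = 9 := by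
  have h1 : d ∣ 9 := ((Nat.coprime_two_right.2 (Nat.odd_iff.2 hd)).pow_right k).dvd_of_dvd_mul_right h
  have := Nat.le_of_dvd (by norm_num) h1
  interval_cases d <;> simp_all

theorem faith [IsSimpleGroup G] {χ : IrrCharacter G} (h : χ ≠ triv G) (g : G)
    (e : (χ : G → ℂ) g = (χ : G → ℂ) 1) : g = 1 :=
  (χ.2.charKer_eq_bot_of_simple fun c => h (Subtype.ext c)).le (χ.2.mem_charKer.2 e)

theorem big [IsSimpleGroup G] (hG : ¬ IsMulCommutative G) {q a : ℕ} (hq : q.Prime) (h : 11 ≤ q)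
    (hc : Nat.card G = 9 * 2 ^ a * q) : Nat.card G = 2448 := by
  haveI := Fact.mk hq
  have ho : q % 2 = 1 := hq.eq_two_or_odd.resolve_left (by omega)
  have n5 : ¬ 5 ∣ 2 ^ a := fun c => by have := Nat.prime_five.dvd_of_dvd_pow c; omega
  obtain ⟨⟨-, ⟨h1, -⟩ | ⟨h1, -⟩⟩, -⟩ := bt_main (p := q) (q := 2) (b := a) (g := 9) hG Nat.prime_two
    (by omega) (by rw [hc]; ring) (by omega)
  · obtain ⟨k, rfl⟩ : ∃ k, q = 2 * k + 1 := ⟨q / 2, by omega⟩
    have h2 : 9 * 2 ^ (a + 1) = 4 * (k * (k + 1)) := by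
      refine Nat.eq_of_mul_eq_mul_left hq.pos ?_
      rw [show 4 * (k * (k + 1)) = (2 * k + 1) ^ 2 - 1 from Nat.eq_sub_of_add_eq (by ring), ← h1, hc]
      ring
    have h3 : k ≤ 9 := by
      rcases Nat.mod_two_eq_zero_or_one k with e | e
      · have := odd_dvd (d := k + 1) (by omega) ⟨4 * k, h2.trans (by ring)⟩
        omega
      · have := odd_dvd e ⟨4 * (k + 1), h2.trans (by ring)⟩
        omega
    rw [pow_succ] at h2
    rw [hc]
    interval_cases k <;> omega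
  · have h2 : 9 * 2 ^ a = (q - 1) * (q - 2) :=
      Nat.eq_of_mul_eq_mul_left hq.pos (by rw [← h1, hc]; ring)
    have := odd_dvd (d := q - 2) (by omega) ⟨q - 1, h2.trans (mul_comm _ _)⟩
    obtain rfl : q = 11 := by omega
    omega

instance f7 : Fact (Nat.Prime 7) := ⟨by norm_num⟩

theorem seven [IsSimpleGroup G] (hG : ¬ IsMulCommutative G) {a : ℕ}
    (hc : Nat.card G = 9 * 2 ^ a * 7) : Nat.card G = 504 := by
  obtain ⟨P⟩ : Nonempty (Sylow 7 G) := inferInstance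
  have n7 : ¬ 7 ∣ 9 * 2 ^ a := fun c => by
    rcases (Nat.Prime.dvd_mul f7.out).1 c with c | c
    · omega
    · have := f7.out.dvd_of_dvd_pow c; omega
  have hP : Nat.card (P : Subgroup G) = 7 :=
    (sm_card_sylow_eq P (k := 1) (by rw [hc]; ring) n7).trans (pow_one 7)
  have hC : centralizer ((P : Subgroup G) : Set G) = P := Cfsg.Agent.S0904.result 3 2 7 2 a Nat.prime_three Nat.prime_two (by norm_num)
    (by norm_num) (by norm_num) hc P
  have h1 := sm_card_eq P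
  have h2 := sm_e_dvd P hP
  have h3 := sm_e_ne_one hG P ⟨9 * 2 ^ a, by rw [hc]; ring⟩
  have h4 : Nat.card (Sylow 7 G) % 7 = 1 := card_sylow_modEq_one 7 G
  have h5 : ∀ n, 2 ^ n % 7 = 1 ∨ 2 ^ n % 7 = 2 ∨ 2 ^ n % 7 = 4 := fun n => by
    induction n with
    | zero => simp
    | succ n ih => rw [pow_succ]; omega
  have h6 := sm_relIndex_cent (P : Subgroup G)
  obtain ⟨O, _, hO⟩ := exists_ovp 7
  obtain ⟨X, Y, s, ε, D⟩ := d1_exists hO (by norm_num) P hP
  generalize (centralizer ((P : Subgroup G) : Set G)).relIndex (normalizer ((P : Subgroup G) : Set G))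
    = e at *
  rw [hC, hP] at h1 h6
  have h7 := h5 a
  have h8 : e = 2 ∧ 2 ^ a % 7 = 1 := by
    have := Nat.le_of_dvd (by norm_num) h2
    rw [hc] at h1
    interval_cases e <;> omega
  obtain ⟨rfl, h8⟩ := h8
  obtain ⟨χ, rfl⟩ := Finset.card_eq_one.1 (Nat.succ_injective D.cardX)
  obtain ⟨θ, hθ⟩ := D.Y_nonempty
  have hχ := Finset.mem_singleton_self χ
  have k1 := D.eqn_deg hθ
  have k2 := D.modX hχ
  have k3 := D.dvdX hχ
  have k4 := D.dvdY hθ
  have k5 := ch_deg_ne_one (sm_commutator_eq_top hG) (D.X_ne hχ)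
  have k6 := ch_deg_ne_one (sm_commutator_eq_top hG) (D.Y_ne hθ)
  have k7 := dg_pos χ
  have k8 := dg_pos θ
  rw [show (cent (P : Subgroup G)).index = 9 * 2 ^ a from (congrArg index hC).trans
    (sm_index_sylow_eq P (k := 1) (by rw [hc]; ring) n7)] at k3 k4
  rw [Finset.sum_singleton] at k1
  have k9 : s χ = ε ∧ dg χ = 8 ∧ dg θ = 9 := by
    have a1 := (Nat.mod_two_eq_zero_or_one _).imp_right fun h => odd_dvd h k3
    have a2 := (Nat.mod_two_eq_zero_or_one _).imp_right fun h => odd_dvd h k4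
    change dg χ ≠ 1 at k5
    change dg θ ≠ 1 at k6
    rcases D.sgn χ hχ with e1 | e1 <;> rcases D.eps with e2 | e2 <;> rw [e1, e2] at k1 ⊢ <;>
      rw [e1, Nat.cast_ofNat] at k2 <;> omega
  obtain ⟨S⟩ : Nonempty (Sylow 2 G) := inferInstance
  obtain ⟨t, a', r, c, ht, ha, -, -, hS, l2, l3⟩ := N3.two_setup hG S
  obtain rfl : a = a' := Nat.pow_right_injective le_rfl
    ((sm_card_sylow_eq S (k := a) (m := 63) (by rw [hc]; ring) (by norm_num)).symm.trans hS)
  obtain ⟨-, hf⟩ := N3.formula D hC.le h6.symm hχ hθ k9.1 ht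
  have l4 := χ.2.isCharacter.norm_le_norm_one t
  have l5 := norm_sub_le ((χ : G → ℂ) 1) ((χ : G → ℂ) t)
  have l6 := congrArg norm hf
  rw [← cast_deg χ, show charDegree (χ : G → ℂ) = 8 from k9.2.1] at l4 l5 l6
  simp only [k9.2.1, k9.2.2, l2, hc, norm_mul, norm_pow, Complex.norm_natCast] at l4 l5 l6
  have l7 := norm_nonneg (((8 : ℕ) : ℂ) - (χ : G → ℂ) t)
  generalize ‖((8 : ℕ) : ℂ) - (χ : G → ℂ) t‖ = z at *
  have l8 : (1 : ℝ) ≤ c := by exact_mod_cast l3.pos
  have l9 : (0 : ℝ) < 2 ^ a := by positivity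
  push_cast at l4 l5 l6
  have m1 : z ^ 2 = 8 * 2 ^ a * c ^ 2 := mul_left_cancel₀ (a := 63 * 2 ^ a) (by positivity)
    (by linear_combination l6)
  have m2 : (2 : ℝ) ^ a ≤ 32 := by
    have : z ^ 2 ≤ 256 := by nlinarith
    nlinarith [mul_le_mul_of_nonneg_left (one_le_pow₀ (n := 2) l8) l9.le]
  have m3 : a ≤ 5 := (Nat.pow_le_pow_iff_right one_lt_two).1 (by exact_mod_cast m2)
  rw [hc]
  interval_cases a <;> omega

theorem five [IsSimpleGroup G] {R : Sylow 3 G} (h : Nine R) [Fintype (R : Subgroup G)]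
    {X Y : IrrCharacter G} {ρ : G → ℂ} (h1 : X ≠ triv G) (hX : dg X = 4) (hY : dg Y = 5)
    (hv : ∀ g, ρ g = 0 ∨ ρ g = 3) (hρ : ∀ g, ρ g = 1 + (X : G → ℂ) g - (Y : G → ℂ) g)
    (hs : ∑ r : (R : Subgroup G), ρ r = 18) : False := by
  classical
  have x1 : (X : G → ℂ) 1 = 4 := by rw [← cast_deg]; exact_mod_cast hX
  have y1 : (Y : G → ℂ) 1 = 5 := by rw [← cast_deg]; exact_mod_cast hY
  have a1 : ∀ g, ∃ n : ℤ, (X : G → ℂ) g = n := fun g =>
    exists_int_of_forall_fixed (X.2.isGen.isIntegral g) fun σ => by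
      let X' : IrrCharacter G := ⟨_, X.2.map_ringHom (σ : ℂ →+* ℂ)⟩
      let Y' : IrrCharacter G := ⟨_, Y.2.map_ringHom (σ : ℂ →+* ℂ)⟩
      have x2 : (X' : G → ℂ) 1 = 4 := by simp [X', x1, map_ofNat]
      have y2 : (Y' : G → ℂ) 1 = 5 := by simp [Y', y1, map_ofNat]
      have e : (X' : G → ℂ) - Y' = X - Y := funext fun g => by
        have e1 : σ (ρ g) = ρ g := by rcases hv g with e | e <;> simp [e, map_ofNat]
        rw [hρ, map_sub, map_add, map_one] at e1
        change σ _ - σ _ = (X : G → ℂ) g - (Y : G → ℂ) g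
        linear_combination e1
      have e2 := congrArg (fun f => bil f X') e
      simp only [map_sub, LinearMap.sub_apply, bil_irr] at e2
      rw [if_pos trivial, if_neg fun c : Y' = X' => by rw [c, x2] at y2; norm_num at y2,
        if_neg fun c : Y = X' => by rw [c, x2] at y1; norm_num at y1] at e2
      have e3 : X = X' := by by_contra c; simp [c] at e2
      exact (congrFun (congrArg Subtype.val e3) g).symm
  choose f hf using a1
  have a2 : f 1 = 4 := by have := hf 1; rw [x1] at this; exact_mod_cast this.symm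
  have a3 : ∀ r : (R : Subgroup G), r ≠ 1 → f r ≤ 1 := fun r hr => by
    obtain ⟨O, hO⟩ := exists_val 3
    have b1 := GC_mul_sub_mem (O := O) (irr_mem_GC X) (isPElt_of_mem R.isPGroup' r.2)
      (Commute.one_right _)
    rw [mul_one, hf, hf, ← Int.cast_sub, intCast_mem_nonunits_iff 3, a2] at b1
    have b2 := X.2.isCharacter.norm_le_norm_one r
    rw [hf, hf, a2, Complex.norm_intCast, Complex.norm_intCast] at b2
    have b3 : |f r| ≤ 4 := by exact_mod_cast b2.trans_eq (by norm_num : |((4 : ℤ) : ℝ)| = 4)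
    have b4 : f r ≠ 4 := fun c => hr (Subtype.ext (faith h1 _ (by rw [hf, hf, a2, c])))
    have := le_of_abs_le b3
    omega
  have a4 : ∀ g, f g⁻¹ = f g := fun g => by
    have := X.2.isGen.conj_apply g
    rw [hf, hf, map_intCast] at this
    exact_mod_cast this.symm
  obtain ⟨m, a5⟩ := ch_sum_sub X.2.isCharacter (R : Subgroup G)
  obtain ⟨n, a6⟩ := ch_sum_sub Y.2.isCharacter (R : Subgroup G)
  simp only [hρ, Finset.sum_sub_distrib, Finset.sum_add_distrib, a5, a6, Finset.sum_const,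
    Finset.card_univ, ← Nat.card_eq_fintype_card, h.card] at hs
  have a7 : (9 : ℤ) + 9 * m - 9 * n = 18 := by
    rw [← Int.cast_inj (α := ℂ)]; simpa using hs
  have a8 : ∑ r : (R : Subgroup G), f r = 9 * m := by
    rw [← Int.cast_inj (α := ℂ)]; rw [h.card] at a5; simpa [hf] using a5
  have a9 := Finset.sum_le_card_nsmul (Finset.univ.erase (1 : (R : Subgroup G))) (fun r => f r) 1
    fun r hr => a3 r (Finset.mem_erase.1 hr).1
  have a10 := Finset.add_sum_erase _ (fun r : (R : Subgroup G) => f r) (Finset.mem_univ 1)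
  rw [Finset.card_erase_of_mem (Finset.mem_univ _), Finset.card_univ, ← Nat.card_eq_fintype_card,
    h.card] at a9
  have a11 : ∑ r : (R : Subgroup G), (f r : ZMod 2) = 0 := Finset.sum_involution (fun r _ => r⁻¹)
    (fun r _ => by rw [coe_inv, a4, CharTwo.add_self_eq_zero])
    (fun r _ c e => h.ne_inv r.2 (fun k => c (by rw [k, a2]; rfl)) (congrArg Subtype.val e).symm)
    (fun _ _ => Finset.mem_univ _) fun r _ => inv_inv r
  rw [← Int.cast_sum, ZMod.intCast_zmod_eq_zero_iff_dvd, a8] at a11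
  simp only [OneMemClass.coe_one, a2, a8, smul_eq_mul, nsmul_eq_mul] at a9 a10
  omega

theorem final [IsSimpleGroup G] (hG : ¬ IsMulCommutative G) {q a b : ℕ} (hq : q.Prime) (q2 : q ≠ 2)
    (q3 : q ≠ 3) (hc : Nat.card G = 9 * 2 ^ a * q ^ b)
    (h3 : 3 ≤ Nat.card {C : ConjClasses G // ∃ g ∈ C.carrier, g ≠ 1 ∧ orderOf g ∣ 9}) :
    Nat.card G = 504 ∨ Nat.card G = 2448 := by
  obtain ⟨R⟩ : Nonempty (Sylow 3 G) := inferInstance
  have := Fintype.ofFinite (R : Subgroup G)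
  have hp := sm_commutator_eq_top hG
  have h : Nine R := ⟨sm_card_sylow_eq R (k := 2) (m := 2 ^ a * q ^ b) (by rw [hc]; ring) fun c => by
    rcases (Nat.Prime.dvd_mul Nat.prime_three).1 c with c | c
    · have := Nat.prime_three.dvd_of_dvd_pow c; omega
    · exact q3 ((Nat.prime_dvd_prime_iff_eq Nat.prime_three hq).1
        (Nat.prime_three.dvd_of_dvd_pow c)).symm, hp⟩
  obtain ⟨X, Y, ρ, h1, h2, h4, h5, h6, h7, h8, h9⟩ := h.main h3
  have d : ∀ χ : IrrCharacter G, ¬ 3 ∣ dg χ → dg χ ∣ 2 ^ a * q ^ b := fun χ c =>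
    (((Nat.Prime.coprime_iff_not_dvd Nat.prime_three).2 c).symm.pow_right 2).dvd_of_dvd_mul_left
      ((χ.2.degree_dvd_card (cast_deg χ).symm).trans (by rw [hc, mul_assoc]))
  have k1 := dg_pos X
  have k2 : dg X ≠ 1 := ch_deg_ne_one hp h1
  have k3 := consec hq q2 q3 (by omega) (d X h4) (h6 ▸ d Y h5)
  obtain ⟨Z, z1, z2⟩ : ∃ Z : IrrCharacter G, Z ≠ triv G ∧ dg Z = q :=
    k3.elim (fun k => ⟨X, h1, k.1⟩) fun k => ⟨Y, h2, h6.trans k.1⟩
  have z3 : (Z : G → ℂ) 1 = q := by rw [← cast_deg]; exact_mod_cast z2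
  obtain rfl : b = 1 := by
    rcases Nat.lt_trichotomy b 1 with c | c | c
    · obtain rfl : b = 0 := by omega
      have := Z.2.degree_dvd_card z3
      rw [hc, pow_zero, mul_one] at this
      have := odd_dvd (hq.eq_two_or_odd.resolve_left q2) this
      rcases this with rfl | rfl | rfl <;> first | omega | norm_num at hq
    · exact c
    · refine absurd ?_ hG
      have := Cfsg.Agent.S3968.result q hq Z z3 (faith z1) (hc ▸ (pow_dvd_pow q c).mul_left _)
      exact center_eq_top_iff.1 ((Normal.eq_bot_or_eq_top inferInstance).resolve_left this)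
  rw [pow_one] at hc
  by_cases c : 11 ≤ q
  · exact Or.inr (big hG hq c hc)
  obtain rfl | rfl : q = 5 ∨ q = 7 := by
    have := hq.two_le
    have c' : q < 11 := by omega
    interval_cases q <;> first | omega | norm_num at hq
  · have : dg X = 4 := by
      rcases k3 with ⟨k, i, e⟩ | ⟨k, -⟩
      · have := Nat.prime_three.dvd_of_dvd_pow (n := i) (m := 2) (e ▸ k ▸ by norm_num)
        omega
      · omega
    exact (five h h1 this (by omega) h7 h8 h9).elim
  · exact Or.inl (seven hG hc)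

end H20.K9
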