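import Cfsg.Agent.H10.JC
import Cfsg.Prelude.Def_LocalEven

/-!
Set-up for the 2-local analysis of simple groups of order `9 * 2 ^ a * q ^ b` with a strongly
self-centralizing elementary Sylow 3-subgroup.
-/

set_option autoImplicit false
set_option linter.unusedSectionVars false

namespace H20.N9

open Subgroup Cfsg H10

variable {G : Type*} [Group G] [Finite G]

/-- standing hypotheses -/
structure Hy (G : Type*) [Group G] (q : ℕ) : Prop where
  hq : q.Prime
  q5 : 5 ≤ q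
  prm : ∀ r : ℕ, r.Prime → r ∣ Nat.card G → r = 2 ∨ r = 3 ∨ r = q
  c3 : ∀ k x : G, orderOf k = 3 → x * k = k * x → x ^ 3 = 1
  n9 : ∀ M : Subgroup G, IsTwoLocal M → ¬ 9 ∣ Nat.card M
  ch : IsCharacteristicTwoType G

/-- a maximal 2-local `L = U : ⟨k, s⟩` with `L / U` symmetric of degree 3 -/
structure S3 (L U : Subgroup G) (k s : G) : Prop where
  two : IsPGroup 2 U
  ne : U ≠ ⊥
  nrm : NN(U) = L
  k3 : orderOf k = 3
  ss : s * s = 1
  sk : s * k * s = k⁻¹
  kL : k ∈ L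
  sL : s ∈ L
  mem : ∀ g ∈ L, ∃ u ∈ U, g = u ∨ g = u * k ∨ g = u * k⁻¹ ∨ g = u * s ∨ g = u * s * k ∨ g = u * s * k⁻¹
  max : IsMaximalTwoLocal L

/-- the Sylow 2-subgroup `U⟨s⟩` -/
def TT (U : Subgroup G) (s : G) : Subgroup G := U ⊔ zpowers s

/-- Glauberman's subgroup inside `G` -/
def JH (P : Subgroup G) : Subgroup G := (jHat P).map P.subtype

/-- in a 2-local of order divisible by 3 no involution commutes with an element of order `q` -/
def T1 (G : Type*) [Group G] (q : ℕ) : Prop :=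
  ∀ Y : Subgroup G, IsTwoLocal Y → 3 ∣ Nat.card Y → ∀ t ∈ Y, ∀ x ∈ Y,
    orderOf t = 2 → orderOf x = q → t * x ≠ x * t

/-- factorizations of the 2-locals of order prime to 3 -/
def Fac (G : Type*) [Group G] : Prop :=
  ∀ X P : Subgroup G, IsTwoLocal X → ¬ 3 ∣ Nat.card X → IsSylowIn 2 P X →
    (∀ g ∈ X, ∃ c ∈ X ⊓ CC(P ⊓ CC(P)), ∃ n ∈ NN(JT P), g = c * n) ∧
    (∀ g ∈ X, ∃ c ∈ CC(ZO 2 (JH P)), ∃ n ∈ NN(JT P), g = c * n)

theorem Hy.fpf {q : ℕ} (h : Hy G q) {k x : G} (hk : orderOf k = 3) {D : Subgroup G}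
    (hD : IsPGroup 2 D) (hx : x ∈ D) (c : x * k = k * x) : x = 1 := by
  obtain ⟨n, hn⟩ := hD ⟨x, hx⟩
  have h1 : x ^ 2 ^ n = 1 := congrArg Subtype.val hn
  have h2 := Nat.dvd_gcd (orderOf_dvd_of_pow_eq_one h1) (orderOf_dvd_of_pow_eq_one (h.c3 k x hk c))
  rw [(Nat.Coprime.pow_left n (by norm_num : Nat.Coprime 2 3)).gcd_eq_one, Nat.dvd_one] at h2
  exact orderOf_eq_one_iff.1 h2

namespace S3
variable {L U : Subgroup G} {k s : G} (d : S3 L U k s)
include d

theorem UL : U ≤ L := d.nrm ▸ le_NN_self U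
theorem kN : k ∈ NN(U) := d.nrm ▸ d.kL
theorem sN : s ∈ NN(U) := d.nrm ▸ d.sL
theorem LN : L ≤ NN(U) := d.nrm.ge
theorem sinv : s⁻¹ = s := inv_eq_of_mul_eq_one_right d.ss
theorem kkk : k * k * k = 1 := by
  have := pow_orderOf_eq_one k
  rwa [d.k3, pow_succ, pow_two] at this
theorem kk : k * k = k⁻¹ := eq_inv_of_mul_eq_one_left d.kkk
theorem k1 : k ≠ 1 := fun e => by have := d.k3; rw [e, orderOf_one] at this; omega

theorem not_mem_two {D : Subgroup G} (hD : IsPGroup 2 D) : k ∉ D := fun hk => by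
  obtain ⟨n, hn⟩ := hD ⟨k, hk⟩
  have h1 : k ^ 2 ^ n = 1 := congrArg Subtype.val hn
  have h2 := orderOf_dvd_of_pow_eq_one h1
  rw [d.k3] at h2
  have := Nat.Prime.dvd_of_dvd_pow Nat.prime_three h2
  omega

theorem sU : s ∉ U := fun hs => d.not_mem_two d.two (by
  have e : k = s * (k * s * k⁻¹) := by
    rw [← mul_assoc, ← mul_assoc, d.sk, ← mul_inv_rev, d.kk, inv_inv]
  rw [e]; exact U.mul_mem hs (conj_mem_of_mem_NN d.kN hs))

theorem UT : U ≤ TT U s := le_sup_left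
theorem sT : s ∈ TT U s := mem_sup_right (mem_zpowers s)
theorem TL : TT U s ≤ L := sup_le d.UL (zpowers_le.2 d.sL)

theorem mem_T {g : G} : g ∈ TT U s ↔ g ∈ U ∨ g * s ∈ U := by
  constructor
  · intro hg
    let K : Subgroup G :=
      { carrier := {g | g ∈ U ∨ g * s ∈ U}
        one_mem' := Or.inl U.one_mem
        mul_mem' := by
          rintro a b (ha | ha) (hb | hb)
          · exact Or.inl (U.mul_mem ha hb)
          · exact Or.inr (mul_assoc a b s ▸ U.mul_mem ha hb)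
          · refine Or.inr ?_
            have := U.mul_mem ha (conj_mem_of_mem_NN d.sN hb)
            rwa [show a * s * (s * b * s⁻¹) = a * (s * s) * b * s⁻¹ by group, d.ss, mul_one, d.sinv] at this
          · refine Or.inl ?_
            have := U.mul_mem ha (conj_mem_of_mem_NN d.sN hb)
            rwa [show a * s * (s * (b * s) * s⁻¹) = a * (s * s) * b by group, d.ss, mul_one] at this
        inv_mem' := by
          rintro a (ha | ha)
          · exact Or.inl (U.inv_mem ha)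
          · refine Or.inr ?_
            have := conj_mem_of_mem_NN d.sN (U.inv_mem ha)
            rwa [show s * (a * s)⁻¹ * s⁻¹ = a⁻¹ * s⁻¹ by group, d.sinv] at this }
    have : TT U s ≤ K := sup_le (fun a ha => Or.inl ha)
      (zpowers_le.2 (Or.inr (d.ss ▸ U.one_mem)))
    exact this hg
  · rintro (h | h)
    · exact d.UT h
    · have := (TT U s).mul_mem (d.UT h) d.sT
      rwa [mul_assoc, d.ss, mul_one] at this

theorem T2 : IsPGroup 2 (TT U s) := by
  rintro ⟨g, hg⟩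
  have : g * g ∈ U := by
    rcases d.mem_T.1 hg with h | h
    · exact U.mul_mem h h
    · have := U.mul_mem h (conj_mem_of_mem_NN d.sN h)
      rwa [show g * s * (s * (g * s) * s⁻¹) = g * (s * s) * g by group, d.ss, mul_one] at this
  obtain ⟨n, hn⟩ := d.two ⟨_, this⟩
  refine ⟨n + 1, Subtype.ext ?_⟩
  have h1 : (g * g) ^ 2 ^ n = 1 := congrArg Subtype.val hn
  rw [← pow_two, ← pow_mul, ← pow_succ'] at h1
  exact h1

/-- a subgroup between `T` and `L` not containing `k` is `T` -/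
theorem le_T {X : Subgroup G} (h1 : TT U s ≤ X) (h2 : X ≤ L) (hk : k ∉ X) : X ≤ TT U s := by
  intro g hg
  obtain ⟨u, hu, h⟩ := d.mem g (h2 hg)
  have uX := h1 (d.UT hu)
  have sX := h1 d.sT
  rcases h with rfl | rfl | rfl | rfl | rfl | rfl
  · exact d.UT hu
  · exact (hk ((X.mul_mem_cancel_left uX).1 hg)).elim
  · exact (hk (X.inv_mem_iff.1 ((X.mul_mem_cancel_left uX).1 hg))).elim
  · exact (TT U s).mul_mem (d.UT hu) d.sT
  · exact (hk ((X.mul_mem_cancel_left (X.mul_mem uX sX)).1 hg)).elim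
  · exact (hk (X.inv_mem_iff.1 ((X.mul_mem_cancel_left (X.mul_mem uX sX)).1 hg))).elim

theorem sylT : IsSylowIn 2 (TT U s) L :=
  ⟨d.TL, d.T2, fun _ hQ h1 h2 => le_antisymm (d.le_T h1 h2 (d.not_mem_two hQ)) h1⟩

/-- `L` is the normalizer of every nontrivial 2-subgroup it normalizes -/
theorem NN_eq {D : Subgroup G} (hD : IsPGroup 2 D) (h1 : D ≠ ⊥) (h : L ≤ NN(D)) : NN(D) = L :=
  d.max.2 _ ⟨D, hD, h1, rfl⟩ h

/-- `s` acts freely enough on every `k`-invariant 2-subgroup -/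
theorem sq_le {q : ℕ} (h : Hy G q) {D : Subgroup G} (hD : IsPGroup 2 D) (hk : k ∈ NN(D)) :
    Nat.card (D ⊓ centralizer {s} : Subgroup G) ^ 2 ≤ Nat.card D := by
  set C : Subgroup G := D ⊓ centralizer {s}
  have key : ∀ x ∈ C, ∀ y ∈ C, x = k * y * k⁻¹ → x = 1 := by
    intro x hx y hy e
    have c1 : s * x = x * s := hx.2 s rfl
    have c2 : s * y = y * s := hy.2 s rfl
    refine h.fpf d.k3 hD hx.1 ?_
    have e1 : k = s * (k * s * k⁻¹) := by
      rw [← mul_assoc, ← mul_assoc, d.sk, ← mul_inv_rev, d.kk, inv_inv]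
    have c3 : (k * s * k⁻¹) * x = x * (k * s * k⁻¹) := by
      rw [e, show k * s * k⁻¹ * (k * y * k⁻¹) = k * (s * y) * k⁻¹ by group, c2]; group
    calc x * k = x * (s * (k * s * k⁻¹)) := by rw [← e1]
      _ = s * (k * s * k⁻¹) * x := by rw [← mul_assoc, ← c1, mul_assoc, ← c3, ← mul_assoc]
      _ = k * x := by rw [← e1]
  let f : C × C → D := fun p => ⟨p.1 * (k * p.2 * k⁻¹), D.mul_mem p.1.2.1 (conj_mem_of_mem_NN hk p.2.2.1)⟩
  have inj : Function.Injective f := by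
    rintro ⟨a, b⟩ ⟨a', b'⟩ e
    have e' : (a : G) * (k * b * k⁻¹) = a' * (k * b' * k⁻¹) := congrArg Subtype.val e
    have e2 : (a' : G)⁻¹ * a = k * ((b' : G) * (b : G)⁻¹) * k⁻¹ := by
      calc (a' : G)⁻¹ * a = (a' : G)⁻¹ * (a * (k * b * k⁻¹)) * (k * b * k⁻¹)⁻¹ := by group
        _ = _ := by rw [e']; group
    have h1 := key _ (C.mul_mem (C.inv_mem a'.2) a.2) _ (C.mul_mem b'.2 (C.inv_mem b.2)) e2
    have ha : a = a' := Subtype.ext (inv_mul_eq_one.1 h1).symm
    subst ha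
    have hb : b = b' := Subtype.ext (by
      have := mul_left_cancel e'
      exact mul_left_cancel (mul_right_cancel this))
    rw [hb]
  have := Nat.card_le_card_of_injective f inj
  rwa [Nat.card_prod, ← pow_two] at this

/-- every element of the coset `U k` has order 3 -/
theorem ord_mul {q : ℕ} (h : Hy G q) {u : G} (hu : u ∈ U) : orderOf (u * k) = 3 := by
  set y := u * k with hy
  have h3 : y ^ 3 ∈ U := by
    have e : y ^ 3 = u * (k * u * k⁻¹) * (k⁻¹ * u * k) := by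
      rw [hy, pow_succ, pow_two, show u * (k * u * k⁻¹) * (k⁻¹ * u * k) = u * k * u * (k * k)⁻¹ * u * k by group,
        d.kk, inv_inv]; group
    rw [e]
    exact U.mul_mem (U.mul_mem hu (conj_mem_of_mem_NN d.kN hu)) (conj_mem_of_mem_NN' d.kN hu)
  obtain ⟨n, hn⟩ := d.two ⟨_, h3⟩
  have h1 : (y ^ 3) ^ 2 ^ n = 1 := congrArg Subtype.val hn
  have y1 : ∀ m : ℕ, y ^ 2 ^ m ∉ U := by
    intro m
    induction m with
    | zero => exact fun hm => d.not_mem_two d.two ((U.mul_mem_cancel_left hu).1 (by simpa using hm))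
    | succ m ih =>
      intro hm
      apply ih
      have a1 : (y ^ 2 ^ m) ^ 3 ∈ U := by rw [← pow_mul, mul_comm, pow_mul]; exact U.pow_mem h3 _
      rw [pow_succ, pow_mul] at hm
      rw [pow_succ] at a1
      exact (U.mul_mem_cancel_left hm).1 a1
  haveI : Fact (Nat.Prime 3) := ⟨Nat.prime_three⟩
  have o3 : orderOf (y ^ 2 ^ n) = 3 := orderOf_eq_prime (by rw [← pow_mul, mul_comm, pow_mul, h1])
    (fun e => y1 n (e ▸ U.one_mem))
  exact orderOf_eq_prime (h.c3 _ y o3 ((Commute.refl y).pow_right _).eq)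
    (fun e => y1 0 (by rw [e]; simp))

/-- every involution of `T` outside `U` can play the role of `s` -/
theorem swap {q : ℕ} (h : Hy G q) {a : G} (ha : a ∈ TT U s) (aU : a ∉ U) (aa : a * a = 1) :
    ∃ k', S3 L U k' a ∧ TT U a = TT U s := by
  have hu : a * s ∈ U := (d.mem_T.1 ha).resolve_left aU
  set u := a * s with hu'
  have ea : a = u * s := by rw [hu', mul_assoc, d.ss, mul_one]
  have ai : a⁻¹ = a := inv_eq_of_mul_eq_one_right aa
  set w := u * (k⁻¹ * (s * u * s⁻¹) * k) with hw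
  have wU : w ∈ U := U.mul_mem hu (conj_mem_of_mem_NN' d.kN (conj_mem_of_mem_NN d.sN hu))
  have e1 : a * (k * a * k⁻¹) = w * k := by
    have : s * k = k⁻¹ * s := by rw [← d.sk, mul_assoc, d.ss, mul_one]
    rw [hw, d.sinv]
    conv_lhs => rw [ea]
    calc u * s * (k * (u * s) * k⁻¹) = u * (s * k) * u * s * k⁻¹ := by group
      _ = u * (k⁻¹ * (s * u * s) * k) * (k * k)⁻¹ := by rw [this]; group
      _ = _ := by rw [d.kk, inv_inv]
  have aL := d.TL ha
  have kL' : w * k ∈ L := L.mul_mem (d.UL wU) d.kL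
  have cU : ∀ g ∈ L, ∀ x ∈ U, g * x * g⁻¹ ∈ U := fun g hg x hx => conj_mem_of_mem_NN (d.LN hg) hx
  have hT : TT U a = TT U s := le_antisymm (sup_le d.UT (zpowers_le.2 ha)) (sup_le le_sup_left
    (zpowers_le.2 (by
      have : s = u⁻¹ * a := by rw [ea]; group
      rw [this]
      exact mul_mem (mem_sup_left (U.inv_mem hu)) (mem_sup_right (mem_zpowers a)))))
  refine ⟨w * k, ⟨d.two, d.ne, d.nrm, d.ord_mul h wU, aa, ?_, kL', aL, ?_, d.max⟩, hT⟩
  · rw [← e1, mul_inv_rev, ai, ← mul_assoc, aa, one_mul]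
    simp [mul_assoc, ai]
  · intro g hg
    obtain ⟨v, hv, e⟩ := d.mem g hg
    have es : s = u⁻¹ * a := by rw [ea]; group
    have aL' := L.mul_mem aL d.kL
    rcases e with e | e | e | e | e | e
    · exact ⟨v, hv, Or.inl e⟩
    · exact ⟨v * w⁻¹, mul_mem hv (inv_mem wU), Or.inr (Or.inl (by rw [e]; group))⟩
    · exact ⟨v * (k⁻¹ * w * k⁻¹⁻¹), mul_mem hv (cU _ (inv_mem d.kL) _ wU),
        Or.inr (Or.inr (Or.inl (by rw [e]; group)))⟩
    · exact ⟨v * u⁻¹, mul_mem hv (inv_mem hu), Or.inr (Or.inr (Or.inr (Or.inl (by rw [e, es]; group))))⟩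
    · exact ⟨v * u⁻¹ * (a * w⁻¹ * a⁻¹), mul_mem (mul_mem hv (inv_mem hu)) (cU _ aL _ (inv_mem wU)),
        Or.inr (Or.inr (Or.inr (Or.inr (Or.inl (by rw [e, es]; group)))))⟩
    · exact ⟨v * u⁻¹ * (a * k⁻¹ * w * (a * k⁻¹)⁻¹), mul_mem (mul_mem hv (inv_mem hu))
          (cU _ (mul_mem aL (inv_mem d.kL)) _ wU),
        Or.inr (Or.inr (Or.inr (Or.inr (Or.inr (by rw [e, es]; group)))))⟩

end S3

end H20.N9
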