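import Cfsg.Agent.H20.K9d
import Cfsg.Agent.H18.SC5
import Cfsg.Agent.H6.Baer
import Cfsg.Agent.H10.TV
import Cfsg.Agent.S0144

/-!
General lemmas for the analysis of `C(Ω₁ Z(S))`.
-/

set_option autoImplicit false
set_option linter.unusedSectionVars false

namespace H20.N9

open Subgroup Cfsg H10
open scoped commutatorElement

variable {G : Type*} [Group G] [Finite G]

theorem modEq {p : ℕ} (hp : p.Prime) {D : Subgroup G} {x : G} (ho : orderOf x = p) (hx : x ∈ NN(D)) :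
    Nat.card D ≡ Nat.card (D ⊓ centralizer {x} : Subgroup G) [MOD p] := by
  haveI := Fact.mk hp
  let φ : zpowers x →* MulAut D := D.normalizerMonoidHom.comp (inclusion (zpowers_le.2 hx))
  letI : MulAction (zpowers x) D := MulAction.compHom D φ
  have sm : ∀ (g : zpowers x) (d : D), ((g • d : D) : G) = g * d * (g : G)⁻¹ := fun _ _ => rfl
  have hP : IsPGroup p (zpowers x) := IsPGroup.of_card (n := 1) (by rw [Nat.card_zpowers, ho, pow_one])
  have := hP.card_modEq_card_fixedPoints D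
  refine this.trans (Nat.ModEq.rfl.trans ?_)
  rw [Nat.card_congr (β := (D ⊓ centralizer {x} : Subgroup G))]
  refine ⟨fun d => ⟨d.1.1, d.1.2, ?_⟩, fun d => ⟨⟨d.1, d.2.1⟩, fun g => Subtype.ext ?_⟩,
    fun _ => rfl, fun _ => rfl⟩
  · rintro _ rfl
    have := congrArg Subtype.val (d.2 ⟨_, mem_zpowers _⟩)
    rw [sm] at this
    exact mul_inv_eq_iff_eq_mul.1 this
  · rw [sm]
    obtain ⟨_, n, rfl⟩ := g
    have c : Commute x d.1 := d.2.2 x rfl
    exact mul_inv_eq_iff_eq_mul.2 (c.zpow_left n).eq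

theorem cen_of_le {q : ℕ} (hq : q.Prime) (q5 : 5 ≤ q) {D : Subgroup G} (hD : IsPGroup 2 D) {x : G}
    (ho : orderOf x = q) (hx : x ∈ NN(D)) (h : (centralizer {x}).relIndex D ≤ 4) :
    D ≤ centralizer {x} := by
  have h1 := modEq hq ho hx
  have h2 := card_inf_mul_relIndex (centralizer {x}) D
  rw [inf_comm] at h2
  obtain ⟨n, hn⟩ := (hD.to_le (inf_le_left : D ⊓ centralizer {x} ≤ D)).exists_card_eq
  rw [← h2, hn] at h1
  have cop : Nat.gcd q (2 ^ n) = 1 :=
    Nat.Coprime.pow_right n ((Nat.coprime_primes hq Nat.prime_two).2 (by omega))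
  have h3 : (centralizer {x}).relIndex D ≡ 1 [MOD q] :=
    Nat.ModEq.cancel_left_of_coprime cop (by rwa [mul_one])
  have h0 : (centralizer {x}).relIndex D ≠ 0 := index_ne_zero_of_finite
  rw [Nat.ModEq, Nat.mod_eq_of_lt (by omega), Nat.mod_eq_of_lt (by omega)] at h3
  exact relIndex_eq_one.1 h3

theorem idx2 {A W : Subgroup G} (h : ∀ a ∈ W, ∀ b ∈ W, a ∉ A → b ∉ A → a⁻¹ * b ∈ A) :
    A.relIndex W ≤ 2 := by
  classical
  let f : W ⧸ A.subgroupOf W → Bool := fun c => decide ((c.out : G) ∈ A)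
  have inj : Function.Injective f := by
    intro c c' e
    rw [← c.out_eq', ← c'.out_eq', QuotientGroup.eq, mem_subgroupOf]
    have e' : ((c.out : G) ∈ A) ↔ ((c'.out : G) ∈ A) := by simpa [f] using e
    by_cases m : (c.out : G) ∈ A
    · exact A.mul_mem (A.inv_mem m) (e'.1 m)
    · exact h _ c.out.2 _ c'.out.2 m (fun m' => m (e'.2 m'))
  exact (Nat.card_le_card_of_injective f inj).trans (by simp)

theorem card_le_of_idx {A W : Subgroup G} {n : ℕ} (h : A.relIndex W ≤ n) :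
    Nat.card W ≤ n * Nat.card (W ⊓ A : Subgroup G) := by
  rw [← card_inf_mul_relIndex A W, inf_comm, mul_comm]
  exact Nat.mul_le_mul_right _ h

theorem mem_sup2 {U : Subgroup G} {s : G} (hs : s ∈ NN(U)) (ss : s * s ∈ U) {g : G}
    (hg : g ∈ U ⊔ zpowers s) : g ∈ U ∨ g * s ∈ U := by
  let K : Subgroup G :=
    { carrier := {g | g ∈ U ∨ g * s ∈ U}
      one_mem' := Or.inl U.one_mem
      mul_mem' := by
        rintro a b (ha | ha) (hb | hb)
        · exact Or.inl (U.mul_mem ha hb)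
        · exact Or.inr (mul_assoc a b s ▸ U.mul_mem ha hb)
        · refine Or.inr ?_
          have := U.mul_mem ha (conj_mem_of_mem_NN' hs hb)
          rwa [show a * s * (s⁻¹ * b * s) = a * b * s by group] at this
        · refine Or.inl ?_
          have := U.mul_mem (U.mul_mem ha (conj_mem_of_mem_NN' hs hb)) (U.inv_mem ss)
          rwa [show a * s * (s⁻¹ * (b * s) * s) * (s * s)⁻¹ = a * b by group] at this
      inv_mem' := by
        rintro a (ha | ha)
        · exact Or.inl (U.inv_mem ha)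
        · refine Or.inr ?_
          have := U.mul_mem (conj_mem_of_mem_NN hs (U.inv_mem ha)) ss
          rwa [show s * (a * s)⁻¹ * s⁻¹ * (s * s) = a⁻¹ * s by group] at this }
  have : U ⊔ zpowers s ≤ K := sup_le (fun a ha => Or.inl ha) (zpowers_le.2 (Or.inr ss))
  exact this hg

theorem idx_sup2 {U : Subgroup G} {s : G} (hs : s ∈ NN(U)) (ss : s * s ∈ U) :
    U.relIndex (U ⊔ zpowers s) ≤ 2 := idx2 fun a ha b hb a1 b1 => by
  have h1 := (mem_sup2 hs ss ha).resolve_left a1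
  have h2 := (mem_sup2 hs ss hb).resolve_left b1
  have := conj_mem_of_mem_NN hs (U.mul_mem (U.inv_mem h1) h2)
  rwa [show s * ((a * s)⁻¹ * (b * s)) * s⁻¹ = a⁻¹ * b by group] at this

/-- an involution acting without fixed points inverts -/
theorem inv_of_fpf {N : Subgroup G} {t : G} (hn : t ∈ NN(N)) (tt : t * t = 1)
    (hf : ∀ y ∈ N, t * y * t⁻¹ = y → y = 1) {a : G} (ha : a ∈ N) : t * a * t⁻¹ = a⁻¹ := by
  have inj : Function.Injective fun b : N =>
      (⟨(b : G)⁻¹ * (t * b * t⁻¹), mul_mem (inv_mem b.2) (conj_mem_of_mem_NN hn b.2)⟩ : N) := by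
    intro b c e
    have e : (b : G)⁻¹ * (t * b * t⁻¹) = (c : G)⁻¹ * (t * c * t⁻¹) := congrArg Subtype.val e
    refine Subtype.ext (mul_inv_eq_one.1 (hf _ (mul_mem b.2 (inv_mem c.2)) ?_))
    calc t * (b * (c : G)⁻¹) * t⁻¹ = b * ((b : G)⁻¹ * (t * b * t⁻¹)) * (t * c * t⁻¹)⁻¹ := by group
      _ = _ := by rw [e]; group
  obtain ⟨b, hb⟩ := Finite.surjective_of_injective inj ⟨a, ha⟩
  obtain rfl : (b : G)⁻¹ * (t * b * t⁻¹) = a := congrArg Subtype.val hb
  calc _ = t * (b : G)⁻¹ * t⁻¹ * (t * t * b * (t * t)⁻¹) := by group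
    _ = _ := by rw [tt]; group

/-- the elements fixed by `e` modulo `N` -/
def Fx (N : Subgroup G) (e : G) : Subgroup G where
  carrier := {w | w ∈ NN(N) ∧ ⁅e, w⁆ ∈ N}
  one_mem' := ⟨one_mem _, by simp⟩
  mul_mem' := by
    rintro a b ⟨ha, ha'⟩ ⟨hb, hb'⟩
    refine ⟨mul_mem ha hb, ?_⟩
    rw [show ⁅e, a * b⁆ = ⁅e, a⁆ * (a * ⁅e, b⁆ * a⁻¹) by simp only [commutatorElement_def]; group]
    exact N.mul_mem ha' (conj_mem_of_mem_NN ha hb')
  inv_mem' := by
    rintro a ⟨ha, ha'⟩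
    refine ⟨inv_mem ha, ?_⟩
    rw [show ⁅e, a⁻¹⁆ = a⁻¹ * ⁅e, a⁆⁻¹ * a by simp only [commutatorElement_def]; group]
    exact conj_mem_of_mem_NN' ha (N.inv_mem ha')

theorem mem_Fx {N : Subgroup G} {e w : G} : w ∈ Fx N e ↔ w ∈ NN(N) ∧ ⁅e, w⁆ ∈ N := Iff.rfl

theorem Fx_symm {N : Subgroup G} {e w : G} (he : e ∈ NN(N)) (h : w ∈ Fx N e) : e ∈ Fx N w :=
  ⟨he, by rw [← commutatorElement_inv]; exact N.inv_mem h.2⟩

theorem Fx_conj {N : Subgroup G} {e w g : G} (hg : g ∈ NN(N)) (h : w ∈ Fx N e) :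
    g * w * g⁻¹ ∈ Fx N (g * e * g⁻¹) :=
  ⟨mul_mem (mul_mem hg h.1) (inv_mem hg), by
    rw [show ⁅g * e * g⁻¹, g * w * g⁻¹⁆ = g * ⁅e, w⁆ * g⁻¹ by simp only [commutatorElement_def]; group]
    exact conj_mem_of_mem_NN hg h.2⟩

/-- a subgroup `{1, z}` of order 2 -/
structure Z2 (Z : Subgroup G) (z : G) : Prop where
  z1 : z ≠ 1
  mem : ∀ y, y ∈ Z ↔ y = 1 ∨ y = z

namespace Z2
variable {Z : Subgroup G} {z : G} (h : Z2 Z z)
include h

theorem zZ : z ∈ Z := (h.mem z).2 (Or.inr rfl)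
theorem zz : z * z = 1 := by
  rcases (h.mem _).1 (Z.mul_mem h.zZ h.zZ) with e | e
  · exact e
  · exact (h.z1 (mul_eq_left.1 e)).elim
theorem cm {g : G} (hg : g ∈ NN(Z)) : g * z = z * g := by
  rcases (h.mem _).1 (conj_mem_of_mem_NN hg h.zZ) with e | e
  · exact (h.z1 (by simpa using e)).elim
  · exact mul_inv_eq_iff_eq_mul.1 e
theorem cm' {g y : G} (hg : g ∈ NN(Z)) (hy : y ∈ Z) : g * y = y * g := by
  rcases (h.mem _).1 hy with rfl | rfl
  · simp
  · exact h.cm hg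
theorem two : IsPGroup 2 Z := fun ⟨y, hy⟩ => ⟨1, Subtype.ext (by
  rcases (h.mem _).1 hy with rfl | rfl
  · simp
  · simpa [pow_two] using h.zz)⟩
theorem ne : Z ≠ ⊥ := fun e => h.z1 (mem_bot.1 (e ▸ h.zZ))

theorem odd {x w : G} (hx : x ∈ NN(Z)) (ho : Odd (orderOf x)) (hw : ⁅x, w⁆ ∈ Z) : w ∈ centralizer {x} := by
  refine mem_centralizer_singleton_iff.2 (Eq.symm ?_)
  rcases (h.mem _).1 hw with e | e
  · exact commutatorElement_eq_one_iff_mul_comm.1 e
  · have e1 : x * w * x⁻¹ = z * w := by rw [← e, commutatorElement_def]; group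
    have e2 : Commute (x ^ 2) w := by
      have : x * x * w * (x * x)⁻¹ = w := by
        calc _ = x * (x * w * x⁻¹) * x⁻¹ := by group
          _ = (x * z) * w * x⁻¹ := by rw [e1]; group
          _ = z * (x * w * x⁻¹) := by rw [h.cm hx]; group
          _ = w := by rw [e1, ← mul_assoc, h.zz, one_mul]
      rw [pow_two]; exact mul_inv_eq_iff_eq_mul.1 this
    obtain ⟨m, hm⟩ := ho
    have : x = (x ^ 2) ^ (m + 1) := by
      rw [← pow_mul, show 2 * (m + 1) = orderOf x + 1 by omega, pow_succ, pow_orderOf_eq_one, one_mul]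
    rw [this]; exact (e2.pow_left _).eq

variable {q : ℕ} (hy : Hy G q)
include hy

theorem no3 {x : G} (hx : x ∈ NN(Z)) : orderOf x ≠ 3 := fun e =>
  h.z1 (hy.fpf e h.two h.zZ (h.cm hx).symm)

theorem two_of {D : Subgroup G} (hD : D ≤ NN(Z)) (hq : ∀ x ∈ D, orderOf x ≠ q) : IsPGroup 2 D := by
  refine isPGroup_of_forall_coprime fun x hx hc => by_contra fun x1 => ?_
  obtain ⟨r, hr, hd⟩ := Nat.exists_prime_and_dvd (fun e => x1 (orderOf_eq_one_iff.1 e))
  haveI := Fact.mk hr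
  obtain ⟨y, hy', o⟩ := exists_orderOf_eq_of_dvd (p := r) (L := zpowers x) (by rwa [Nat.card_zpowers])
  have yD := zpowers_le.2 hx hy'
  rcases hy.prm r hr (hd.trans (orderOf_dvd_natCard x)) with e | e | e
  · subst e; exact absurd (Nat.eq_one_of_dvd_coprimes hc hd dvd_rfl) (by norm_num)
  · exact h.no3 hy (hD yD) (o.trans e)
  · exact hq y yD (o.trans e)

theorem solv : Group.IsSolvable NN(Z) := by
  have hq := hy.hq
  have h5 := hy.q5
  refine Cfsg.Agent.S0144.result 2 q ((Nat.card NN(Z)).factorization 2) ((Nat.card NN(Z)).factorization q)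
    Nat.prime_two hq ?_
  have h0 : Nat.card NN(Z) ≠ 0 := Nat.card_pos.ne'
  conv_lhs => rw [← Nat.prod_factorization_pow_eq_self h0]
  rw [Finsupp.prod_of_support_subset _ (s := {2, q}) ?_ _ (by simp), Finset.prod_pair (by omega)]
  intro r hr
  have hr' := Nat.prime_of_mem_primeFactors hr
  have hd := Nat.dvd_of_mem_primeFactors hr
  haveI := Fact.mk hr'
  obtain ⟨y, hy', o⟩ := exists_orderOf_eq_of_dvd hd
  rcases hy.prm r hr' (hd.trans (card_subgroup_dvd_card _)) with e | e | e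
  · simp [e]
  · exact (h.no3 hy hy' (o.trans e)).elim
  · simp [e]

/-- elements inducing transvections modulo `Z` lie in the 2-core -/
theorem tv {W : Subgroup G} (hW : IsPGroup 2 W) (h1 : W ≤ NN(Z)) (h2 : NN(Z) ≤ NN(W))
    (h3 : ∀ x ∈ NN(Z), orderOf x = q → ¬ W ≤ centralizer {x}) {e : G} (he : e ∈ NN(Z))
    (hi : ∀ a ∈ W, ∀ b ∈ W, a ∉ Fx Z e → b ∉ Fx Z e → a⁻¹ * b ∈ Fx Z e) : e ∈ pCoreOf 2 NN(Z) := by
  obtain ⟨P⟩ : Nonempty (Sylow 2 NN(Z)) := inferInstance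
  have key : ∀ g ∈ NN(Z), IsPGroup 2 (closure ({e, g * e * g⁻¹} : Set G)) := by
    intro g hg
    have ge : g * e * g⁻¹ ∈ NN(Z) := mul_mem (mul_mem hg he) (inv_mem hg)
    have hD : closure ({e, g * e * g⁻¹} : Set G) ≤ NN(Z) := (closure_le _).2 (by
      rintro _ (rfl | rfl); exacts [he, ge])
    refine h.two_of hy hD fun x hx o => h3 x (hD hx) o ?_
    refine cen_of_le hy.hq hy.q5 hW o (h2 (hD hx)) ?_
    have i1 := idx2 hi
    have i2 : (Fx Z (g * e * g⁻¹)).relIndex W ≤ 2 := idx2 fun a ha b hb a1 b1 => by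
      have t : ∀ {c}, g⁻¹ * c * g ∈ Fx Z e → c ∈ Fx Z (g * e * g⁻¹) := fun {c} m => by
        have := Fx_conj hg m
        rwa [show g * (g⁻¹ * c * g) * g⁻¹ = c by group] at this
      refine t ?_
      have := hi _ (conj_mem_of_mem_NN' (h2 hg) ha) _ (conj_mem_of_mem_NN' (h2 hg) hb)
        (fun m => a1 (t m)) (fun m => b1 (t m))
      rwa [show (g⁻¹ * a * g)⁻¹ * (g⁻¹ * b * g) = g⁻¹ * (a⁻¹ * b) * g by group] at this
    have le : Fx Z e ⊓ Fx Z (g * e * g⁻¹) ≤ centralizer {x} := fun w hw => by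
      have : closure ({e, g * e * g⁻¹} : Set G) ≤ Fx Z w := (closure_le _).2 (by
        rintro _ (rfl | rfl); exacts [Fx_symm he hw.1, Fx_symm ge hw.2])
      refine h.odd (hD hx) ?_ (Fx_symm hw.1.1 (this hx)).2
      rw [o]; exact hy.hq.odd_of_ne_two (by have := hy.q5; omega)
    refine (relIndex_le_of_le_left le index_ne_zero_of_finite).trans (relIndex_inf_le.trans ?_)
    exact Nat.mul_le_mul i1 i2
  have := H6.baer_suzuki_elt (p := 2) (x := (⟨e, he⟩ : NN(Z))) (fun g => by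
    refine isPGroup_of_map NN(Z).subtype (by rw [MonoidHom.map_closure, Set.image_pair]; exact key g g.2) ?_
    rw [ker_subtype, inf_bot_eq]; exact IsPGroup.of_bot) P
  exact ⟨_, H1.le_pCore (P.isPGroup'.to_le (normalCore_le _)) this, rfl⟩

end Z2

namespace S3
variable {L U : Subgroup G} {k s : G} (d : S3 L U k s) {q : ℕ} (h : Hy G q)
include d h

theorem c2 : ∀ a ∈ U, ∀ b ∈ U, ∀ c ∈ U, Commute ⁅a, b⁆ c := fun a ha b hb c hc => by
  let α : MulAut U := U.normalizerMonoidHom ⟨k, d.kN⟩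
  have hf : ∀ g : U, α g = g → g = 1 := fun g e => Subtype.ext (h.fpf d.k3 d.two g.2
    (mul_inv_eq_iff_eq_mul.1 (congrArg Subtype.val e)).symm)
  have := Fact.mk Nat.prime_three
  have o : orderOf α = 3 := by
    refine orderOf_eq_prime ?_ fun e => d.ne (eq_bot_iff.2 fun g hg =>
      congrArg Subtype.val (hf ⟨g, hg⟩ (by rw [e]; rfl)))
    rw [← map_pow, show (⟨k, d.kN⟩ : NN(U)) ^ 3 = 1 from Subtype.ext (d.k3 ▸ pow_orderOf_eq_one k), map_one]
  have l := (Cfsg.Agent.S3779.result Nat.prime_three α o hf).2.1 rfl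
  have h1 : ⁅⁅(⟨a, ha⟩ : U), (⟨b, hb⟩ : U)⁆, (⟨c, hc⟩ : U)⁆ ∈ (⊤ : Subgroup U).lowerCentralSeries 2 :=
    commutator_mem_commutator (commutator_mem_commutator (mem_top _) (mem_top _)) (mem_top _)
  rw [l, mem_bot, commutatorElement_eq_one_iff_commute] at h1
  exact congrArg Subtype.val h1.eq

theorem nrm3 {a : G} (ha : a ∈ U) : a * (k * a * k⁻¹) * (k⁻¹ * a * k) = 1 := by
  have := pow_orderOf_eq_one (a * k)
  rw [d.ord_mul h ha] at this
  rw [← this, pow_succ, pow_two, show a * (k * a * k⁻¹) * (k⁻¹ * a * k) = a * k * a * (k * k)⁻¹ * a * k by group,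
    d.kk, inv_inv]; group

theorem cc {a : G} (ha : a ∈ U) : ⁅a, k * a * k⁻¹⁆ = 1 := by
  have h1 := d.nrm3 h ha
  have h2 := d.nrm3 h (U.inv_mem ha)
  rw [commutatorElement_eq_one_iff_mul_comm, eq_inv_of_mul_eq_one_left h1]
  have : a⁻¹ * (k * a⁻¹ * k⁻¹) = k⁻¹ * a * k := by rw [eq_inv_of_mul_eq_one_left h2]; group
  rw [← this]; group

theorem adj {u w : G} (hu : u ∈ U) (hw : w ∈ U) : ⁅k * u * k⁻¹, w⁆ = ⁅u, k * w * k⁻¹⁆ := by
  have hc := d.c2 h
  have hu' := conj_mem_of_mem_NN d.kN hu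
  have hw' := conj_mem_of_mem_NN d.kN hw
  have h1 := d.cc h (mul_mem hu hw)
  rw [← conj_mul, H18.sc_bil hc hu hw (mul_mem hu' hw'), H18.sc_bir hc hw hu' hw', H18.sc_bir hc hu hu' hw',
    d.cc h hu, d.cc h hw, mul_one, one_mul] at h1
  rw [← commutatorElement_inv, eq_inv_of_mul_eq_one_left h1, inv_inv]

/-- centralizers in `U` are `k`-invariant -/
theorem k_cen {b : G} (hb : b ∈ U) : k ∈ NN(U ⊓ centralizer {b}) := by
  have : k⁻¹ ∈ NN(U ⊓ centralizer {b}) := mem_NN_of_conj_mem fun y hy => by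
    refine ⟨conj_mem_of_mem_NN (inv_mem d.kN) hy.1, mem_centralizer_singleton_iff.2 ?_⟩
    have c : ⁅b, y⁆ = 1 := commutatorElement_eq_one_iff_mul_comm.2 (hy.2 b rfl)
    have := d.adj h hb (conj_mem_of_mem_NN d.kN hy.1)
    rw [show ⁅k * b * k⁻¹, k * y * k⁻¹⁆ = k * ⁅b, y⁆ * k⁻¹ by simp only [commutatorElement_def]; group, c,
      show k * (k * y * k⁻¹) * k⁻¹ = (k * k) * y * (k * k)⁻¹ by group, d.kk] at this
    exact (commutatorElement_eq_one_iff_mul_comm.1 (by rw [← this]; group)).symm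
  simpa using inv_mem this

theorem mod3 {D : Subgroup G} (hD : IsPGroup 2 D) (hk : k ∈ NN(D)) : Nat.card D % 3 = 1 := by
  have := modEq Nat.prime_three d.k3 hk
  rwa [show D ⊓ centralizer {k} = ⊥ from eq_bot_iff.2 fun y hy =>
    h.fpf d.k3 hD hy.1 (hy.2 k rfl).symm, card_bot] at this

end S3

end H20.N9
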