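import Cfsg.Agent.H20.K9e

/-!
The case `|Ω₁ Z(U)| = 4`: the centralizer of `Ω₁ Z(T)` lies in `L`.
-/

set_option autoImplicit false
set_option linter.unusedSectionVars false

namespace H20.N9

open Subgroup Cfsg H10
open scoped commutatorElement

variable {G : Type*} [Group G] [Finite G]

theorem comm_mul_l (a b c : G) : ⁅a * b, c⁆ = ⁅a, ⁅b, c⁆⁆ * ⁅b, c⁆ * ⁅a, c⁆ := by
  simp only [commutatorElement_def]; group

theorem comm_mul_r (a b c : G) : ⁅a, b * c⁆ = ⁅a, b⁆ * ⁅b, ⁅a, c⁆⁆ * ⁅a, c⁆ := by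
  simp only [commutatorElement_def]; group

theorem comm_conj (g a b : G) : g * ⁅a, b⁆ * g⁻¹ = ⁅g * a * g⁻¹, g * b * g⁻¹⁆ := by
  simp only [commutatorElement_def]; group

theorem one_of {a b : G} (h : a * b = b * a) : ⁅a, b⁆ = 1 := commutatorElement_eq_one_iff_mul_comm.2 h

/-- the preimage of `Ω₁ Z(Q / Z)` -/
def WB {Z Q : Subgroup G} {z : G} (h : Z2 Z z) (hQ : Q ≤ NN(Z)) : Subgroup G where
  carrier := {w | w ∈ Q ∧ w * w ∈ Z ∧ ∀ c ∈ Q, ⁅c, w⁆ ∈ Z}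
  one_mem' := ⟨one_mem _, by simp, by simp⟩
  mul_mem' := by
    rintro a b ⟨a1, a2, a3⟩ ⟨b1, b2, b3⟩
    refine ⟨mul_mem a1 b1, ?_, fun c hc => ((Fx Z c).mul_mem ⟨hQ a1, a3 c hc⟩ ⟨hQ b1, b3 c hc⟩).2⟩
    rw [show a * b * (a * b) = a * ⁅b, a⁆ * a⁻¹ * (a * a) * (b * b) by simp only [commutatorElement_def]; group]
    exact mul_mem (mul_mem (conj_mem_of_mem_NN (hQ a1) (a3 b b1)) a2) b2
  inv_mem' := by
    rintro a ⟨a1, a2, a3⟩
    exact ⟨inv_mem a1, by rw [← mul_inv_rev]; exact inv_mem a2,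
      fun c hc => ((Fx Z c).inv_mem ⟨hQ a1, a3 c hc⟩).2⟩

/-- properties of the normal closure of `V` -/
structure WD (V Z Q W : Subgroup G) : Prop where
  VW : V ≤ W
  CW : NN(Z) ≤ NN(W)
  WQ : W ≤ Q
  w2 : ∀ w ∈ W, w * w ∈ Z
  w3 : ∀ w ∈ W, ∀ c ∈ Q, ⁅c, w⁆ ∈ Z

namespace S3
variable {L U : Subgroup G} {k s : G} (d : S3 L U k s) {q : ℕ} (h : Hy G q)

local notation "𝐕" => ZO 2 U
local notation "𝐓" => TT U s
local notation "𝐙" => ZO 2 (TT U s)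
local notation "𝐐" => pCoreOf 2 NN(ZO 2 (TT U s))

include d h

theorem LV : L ≤ NN(𝐕) := le_NN_ZO d.LN
theorem Vne : 𝐕 ≠ ⊥ := ZO_ne_bot d.two d.ne
theorem cV {v u : G} (hv : v ∈ 𝐕) (hu : u ∈ U) : u * v = v * u := ZO_le_CC U hv u hu

theorem s_not : ¬ 𝐕 ≤ centralizer {s} := fun e => by
  have := d.sq_le h (isPGroup_ZO (p := 2) U) (d.LV h d.kL)
  rw [inf_eq_left.2 e] at this
  have h2 := (one_lt_card_iff_ne_bot _).2 (d.Vne h)
  nlinarith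

theorem ZV : 𝐙 ≤ 𝐕 := fun y hy => by
  refine ZO_inf_le d.UT ⟨hy, by_contra fun yU => d.s_not h fun v hv => ?_⟩
  have h1 := d.cV h hv ((d.mem_T.1 (ZO_le _ hy)).resolve_left yU)
  have h2 : v * y = y * v := ZO_le_CC _ hy v (d.UT (ZO_le _ hv))
  rw [← mul_assoc, h2, mul_assoc, mul_assoc] at h1
  exact mem_centralizer_singleton_iff.2 (mul_left_cancel h1).symm

variable (hV : Nat.card (ZO 2 U) = 4)
include hV

theorem cardZ : Nat.card 𝐙 = 2 := by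
  have h1 := d.sq_le h (isPGroup_ZO (p := 2) U) (d.LV h d.kL)
  have h2 : Nat.card 𝐙 ≤ Nat.card (𝐕 ⊓ centralizer {s} : Subgroup G) := card_le_of_le (le_inf (d.ZV h)
    fun y hy => mem_centralizer_singleton_iff.2 (ZO_le_CC _ hy s d.sT).symm)
  have h3 := (one_lt_card_iff_ne_bot _).2 (ZO_ne_bot (p := 2) d.T2 (fun e => d.ne (eq_bot_iff.2 (e ▸ d.UT))))
  rw [hV] at h1
  nlinarith

theorem exZ : ∃ z, Z2 𝐙 z := by
  obtain ⟨⟨z, hz⟩, z1, hu⟩ := (Nat.card_eq_two_iff' (1 : 𝐙)).1 (d.cardZ h hV)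
  refine ⟨z, fun e => z1 (Subtype.ext e), fun y => ⟨fun hy => ?_, ?_⟩⟩
  · by_cases e : y = 1
    · exact Or.inl e
    · exact Or.inr (congrArg Subtype.val (hu ⟨y, hy⟩ fun e' => e (congrArg Subtype.val e')))
  · rintro (rfl | rfl)
    exacts [one_mem _, hz]

theorem idxV {a b : G} (ha : a ∈ 𝐕) (hb : b ∈ 𝐕) (a1 : a ∉ 𝐙) (b1 : b ∉ 𝐙) : a * b ∈ 𝐙 := by
  have h1 := card_mul_relIndex (d.ZV h)
  rw [d.cardZ h hV, hV] at h1
  have h2 : (Subgroup.subgroupOf 𝐙 𝐕).index = 2 := by change relIndex _ _ = 2; omega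
  exact (mul_mem_iff_of_index_two h2 (a := ⟨a, ha⟩) (b := ⟨b, hb⟩)).2 (iff_of_false a1 b1)

variable {z : G} (hz : Z2 (ZO 2 (TT U s)) z)
include hz

theorem cenV {g : G} (hg : 𝐕 ≤ centralizer {g}) : g ∈ U := by
  have gV : g ∈ CC(𝐕) := fun v hv => mem_centralizer_singleton_iff.1 (hg hv)
  have gL : g ∈ L := d.NN_eq (isPGroup_ZO U) (d.Vne h) (d.LV h) ▸ CC_le_NN _ gV
  obtain ⟨u, hu, e⟩ := d.mem g gL
  have uV : u ∈ CC(𝐕) := le_CC_ZO U hu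
  have zV := d.ZV h hz.zZ
  have kz : k ∉ centralizer {z} := fun m =>
    hz.z1 (h.fpf d.k3 hz.two hz.zZ (mem_centralizer_singleton_iff.1 m).symm)
  have sz : s ∈ centralizer {z} := mem_centralizer_singleton_iff.2 (ZO_le_CC _ hz.zZ s d.sT)
  have t : CC(𝐕) ≤ centralizer {z} := centralizer_le (Set.singleton_subset_iff.2 zV)
  have uz := t uV
  have gz := t gV
  rcases e with rfl | rfl | rfl | rfl | rfl | rfl
  · exact hu
  · exact (kz ((Subgroup.mul_mem_cancel_left _ uz).1 gz)).elim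
  · exact (kz (inv_mem_iff.1 ((Subgroup.mul_mem_cancel_left _ uz).1 gz))).elim
  · exact (d.s_not h fun v hv => mem_centralizer_singleton_iff.2
      ((Subgroup.mul_mem_cancel_left _ uV).1 gV v hv)).elim
  · exact (kz ((Subgroup.mul_mem_cancel_left _ (mul_mem uz sz)).1 gz)).elim
  · exact (kz (inv_mem_iff.1 ((Subgroup.mul_mem_cancel_left _ (mul_mem uz sz)).1 gz))).elim

theorem noq {x : G} (o : orderOf x = q) : ¬ 𝐕 ≤ centralizer {x} := fun m => by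
  obtain ⟨n, hn⟩ := d.two ⟨x, d.cenV h hV hz m⟩
  have := orderOf_dvd_of_pow_eq_one (show x ^ 2 ^ n = 1 from congrArg Subtype.val hn)
  rw [o] at this
  have h2 := (Nat.prime_dvd_prime_iff_eq h.hq Nat.prime_two).1 (h.hq.dvd_of_dvd_pow this)
  have := h.q5
  omega

theorem TC : 𝐓 ≤ NN(𝐙) := le_NN_ZO (le_NN_self _)

theorem comVT {c v : G} (hc : c ∈ 𝐓) (hv : v ∈ 𝐕) : ⁅c, v⁆ ∈ 𝐙 := by
  by_cases m : v ∈ 𝐙
  · rw [one_of (hz.cm' (d.TC h hV hz hc) m)]; exact one_mem _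
  · refine d.idxV h hV (conj_mem_of_mem_NN (d.LV h (d.TL hc)) hv) (inv_mem hv) (fun m' => m ?_)
      (fun m' => m (inv_mem_iff.1 m'))
    have := conj_mem_of_mem_NN' (d.TC h hV hz hc) m'
    rwa [show c⁻¹ * (c * v * c⁻¹) * c = v by group] at this

theorem mulU {a b : G} (ha : a ∈ 𝐓) (hb : b ∈ 𝐓) (a1 : a ∉ U) (b1 : b ∉ U) : a⁻¹ * b ∈ U := by
  have := conj_mem_of_mem_NN d.sN (U.mul_mem (U.inv_mem ((d.mem_T.1 ha).resolve_left a1))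
    ((d.mem_T.1 hb).resolve_left b1))
  rwa [show s * ((a * s)⁻¹ * (b * s)) * s⁻¹ = a⁻¹ * b by group] at this

variable (hT : IsSylowIn 2 (TT U s) ⊤)
include hT

theorem sylC : IsSylowIn 2 𝐓 NN(𝐙) := hT.of_le (d.TC h hV hz) le_top
theorem QT : 𝐐 ≤ 𝐓 := (d.sylC h hV hz hT).pCoreOf_le

theorem VQ : 𝐕 ≤ 𝐐 := fun v hv => by
  have ch : CharPIn 2 NN(𝐙) := charPIn_iff.2 (h.ch.2 _ hz.two hz.ne)
  have UC := d.UT.trans (d.TC h hV hz)
  have t : ∀ a ∈ U, a ∈ Fx 𝐙 v := fun a ha => ⟨UC ha, by rw [one_of (d.cV h hv ha).symm]; exact one_mem _⟩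
  refine hz.tv h (isPGroup_pCoreOf _) (pCoreOf_le _) (le_NN_pCoreOf _) (fun x hx o m => ?_)
    (UC (ZO_le _ hv)) fun a ha b hb a1 b1 => t _ (d.mulU h hV hz (d.QT h hV hz hT ha) (d.QT h hV hz hT hb)
      (fun m => a1 (t a m)) (fun m => b1 (t b m)))
  have := ch.eq_one hx (fun y hy => mem_centralizer_singleton_iff.1 (m hy))
    (by rw [o]; exact (Nat.coprime_primes h.hq Nat.prime_two).2 (by have := h.q5; omega))
  rw [this, orderOf_one] at o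
  have := h.q5
  omega

/-- the normal closure of `V` in `C` -/
theorem exW : WD 𝐕 𝐙 𝐐 (ncl 𝐕 NN(𝐙)) := by
  have le : ncl 𝐕 NN(𝐙) ≤ WB hz (pCoreOf_le (p := 2) NN(𝐙)) := by
    refine ncl_le (fun v hv => ⟨d.VQ h hV hz hT hv, ?_, fun c hc => d.comVT h hV hz (d.QT h hV hz hT hc) hv⟩)
      (le_NN_iff.2 fun g hg w hw => ⟨conj_mem_of_mem_NN (le_NN_pCoreOf _ hg) hw.1, ?_, fun c hc => ?_⟩)
    · rw [← pow_two, (mem_ZO.1 hv).2.2]; exact one_mem _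
    · rw [conj_mul]; exact conj_mem_of_mem_NN hg hw.2.1
    · have := conj_mem_of_mem_NN hg (hw.2.2 _ (conj_mem_of_mem_NN' (le_NN_pCoreOf _ hg) hc))
      rwa [comm_conj, show g * (g⁻¹ * c * g) * g⁻¹ = c by group] at this
  exact ⟨le_ncl _ _, le_NN_ncl _ _, fun w hw => (le hw).1, fun w hw => (le hw).2.1, fun w hw => (le hw).2.2⟩

omit hT in
theorem comV {e w : G} (he : e ∈ U) (hw : w ∈ U) (ww : w * w ∈ 𝐙) : ⁅e, w⁆ ∈ 𝐕 := by
  refine mem_ZO.2 ⟨mul_mem (mul_mem (mul_mem he hw) (inv_mem he)) (inv_mem hw),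
    fun c hc => (d.c2 h e he w hw c hc).eq.symm, ?_⟩
  rw [pow_two, ← H18.sc_bir (d.c2 h) he hw hw]
  exact one_of (d.cV h (d.ZV h ww) he)

variable {W : Subgroup G} (w : WD (ZO 2 U) (ZO 2 (TT U s)) (pCoreOf 2 NN(ZO 2 (TT U s))) W)
include w

theorem tvW {e : G} (he : e ∈ U)
    (hi : ∀ a ∈ W, ∀ b ∈ W, a ∉ Fx 𝐙 e → b ∉ Fx 𝐙 e → a⁻¹ * b ∈ Fx 𝐙 e) : e ∈ 𝐐 :=
  hz.tv h ((isPGroup_pCoreOf _).to_le w.WQ) (w.WQ.trans (pCoreOf_le _)) w.CW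
    (fun _ _ o m => d.noq h hV hz o (w.VW.trans m)) (d.TC h hV hz (d.UT he)) hi

theorem case1 (WU : W ≤ U) : U ≤ 𝐐 := fun e he => d.tvW h hV hz hT w he fun a ha b hb a1 b1 => by
  have WC := w.WQ.trans (pCoreOf_le _)
  refine ⟨WC (mul_mem (inv_mem ha) hb), ?_⟩
  rw [H18.sc_bir (d.c2 h) he (inv_mem (WU ha)) (WU hb)]
  exact d.idxV h hV (d.comV h hV hz he (inv_mem (WU ha)) (w.w2 _ (inv_mem ha)))
    (d.comV h hV hz he (WU hb) (w.w2 _ hb)) (fun m => a1 (inv_mem_iff.1 ⟨WC (inv_mem ha), m⟩))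
    (fun m => b1 ⟨WC hb, m⟩)

theorem exw {e : G} (he : e ∈ U) (eQ : e ∉ 𝐐) : ∃ y ∈ W, y ∈ U ∧ ⁅e, y⁆ ∉ 𝐙 := by
  by_contra hn
  push Not at hn
  have WC := w.WQ.trans (pCoreOf_le _)
  have WT := w.WQ.trans (d.QT h hV hz hT)
  refine eQ (d.tvW h hV hz hT w he fun a ha b hb a1 b1 => ?_)
  have m := mul_mem (inv_mem ha) hb
  exact ⟨WC m, hn _ m (d.mulU h hV hz (WT ha) (WT hb) (fun m => a1 ⟨WC ha, hn _ ha m⟩)
    (fun m => b1 ⟨WC hb, hn _ hb m⟩))⟩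

variable {a : G} (aW : a ∈ W) (aU : a ∉ U) (aa : a * a = 1)
include aW aU aa

theorem idxa {D : Subgroup G} (hD : D ≤ 𝐐) : (centralizer {a}).relIndex D ≤ 2 :=
  idx2 fun y hy y' hy' y1 y1' => by
    have t : ∀ y ∈ D, y ∉ centralizer {a} → y * a * y⁻¹ = z * a := fun y hy y1 => by
      rcases (hz.mem _).1 (w.w3 a aW y (hD hy)) with e | e
      · exact (y1 (mem_centralizer_singleton_iff.2 (commutatorElement_eq_one_iff_mul_comm.1 e))).elim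
      · rw [← e, commutatorElement_def]; group
    refine mem_centralizer_singleton_iff.2 ?_
    calc y⁻¹ * y' * a = y⁻¹ * (y' * a * y'⁻¹) * y' := by group
      _ = a * (y⁻¹ * y') := by rw [t y' hy' y1', ← t y hy y1]; group

theorem ZU : U ⊓ CC(U) = 𝐕 := by
  have VD : 𝐕 ≤ U ⊓ CC(U) := le_inf (ZO_le _) (ZO_le_CC _)
  have DQ : U ⊓ CC(U) ≤ 𝐐 := fun y hy => by_contra fun yQ => by
    obtain ⟨u, -, hu, m⟩ := d.exw h hV hz hT w hy.1 yQ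
    exact m (by rw [one_of (hy.2 u hu).symm]; exact one_mem _)
  obtain ⟨k', d', -⟩ := d.swap h (d.QT h hV hz hT (w.WQ aW)) aU aa
  have h1 := d'.sq_le h (d.two.to_le (inf_le_left : U ⊓ CC(U) ≤ U))
    (mem_NN.2 (by rw [cj_inf, cj_centralizer, mem_NN.1 d'.kN]))
  have h2 := card_le_of_idx (d.idxa h hV hz hT w aW aU aa DQ)
  have h3 : 0 < Nat.card (U ⊓ CC(U) ⊓ centralizer {a} : Subgroup G) := Nat.card_pos
  exact (eq_of_le_of_card_ge VD (by rw [hV]; nlinarith)).symm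

theorem sqV {e : G} (he : e ∈ U) : e * e ∈ 𝐕 := by
  rw [← d.ZU h hV hz hT w aW aU aa]
  refine ⟨mul_mem he he, fun y hy => (commutatorElement_eq_one_iff_mul_comm.1 ?_).symm⟩
  have m : ⁅e, y⁆ ∈ 𝐕 := by
    rw [← d.ZU h hV hz hT w aW aU aa]
    exact ⟨U.mul_mem (U.mul_mem (U.mul_mem he hy) (U.inv_mem he)) (U.inv_mem hy),
      fun c hc => (d.c2 h e he y hy c hc).eq.symm⟩
  rw [H18.sc_bil (d.c2 h) he he hy, ← pow_two, (mem_ZO.1 m).2.2]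

theorem noX {e x : G} (he : e ∈ U) (eQ : e ∉ 𝐐) (hx : x ∈ NN(𝐙)) (o : orderOf x = q)
    (c : ⁅x, e⁆ ∈ 𝐐) : False := by
  have WC := w.WQ.trans (pCoreOf_le _)
  have WT := w.WQ.trans (d.QT h hV hz hT)
  have eC := d.TC h hV hz (d.UT he)
  have cW : ∀ y ∈ W, ⁅e, y⁆ ∈ W := fun y hy => mul_mem (conj_mem_of_mem_NN (w.CW eC) hy) (inv_mem hy)
  have c0 := cW a aW
  set D := 𝐕 ⊔ zpowers ⁅e, a⁆ with hD
  have VD : 𝐕 ≤ D := le_sup_left
  have ZD : 𝐙 ≤ D := (d.ZV h).trans VD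
  have DW : D ≤ W := sup_le w.VW (zpowers_le.2 c0)
  have inD : ∀ y ∈ W, ⁅e, y⁆ ∈ D := fun y hy => by
    by_cases m : y ∈ U
    · exact VD (d.comV h hV hz he m (w.w2 y hy))
    · have y0 := mul_mem hy (inv_mem aW)
      have m0 : y * a⁻¹ ∈ U := by
        simpa using d.mulU h hV hz (WT (inv_mem hy)) (WT (inv_mem aW)) (fun m' => m (inv_mem_iff.1 m'))
          (fun m' => aU (inv_mem_iff.1 m'))
      rw [show y = y * a⁻¹ * a by group, comm_mul_r]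
      exact mul_mem (mul_mem (VD (d.comV h hV hz he m0 (w.w2 _ y0))) (ZD (w.w3 _ c0 _ (w.WQ y0))))
        (mem_sup_right (mem_zpowers _))
  have cD : ∀ y ∈ W, x * ⁅e, y⁆ * x⁻¹ ∈ D := fun y hy => by
    have y1 := conj_mem_of_mem_NN (w.CW hx) hy
    rw [comm_conj, show x * e * x⁻¹ = ⁅x, e⁆ * e by simp only [commutatorElement_def]; group, comm_mul_l]
    exact mul_mem (mul_mem (ZD (w.w3 _ (cW _ y1) _ c)) (inD _ y1)) (ZD (w.w3 _ y1 _ c))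
  obtain ⟨y, hy, yU, m⟩ := d.exw h hV hz hT w he eQ
  have v0 := d.comV h hV hz he yU (w.w2 y hy)
  have xD : x ∈ NN(D) := by
    refine mem_NN_of_cj_le ?_
    rw [hD, cj_sup, cj_zpowers]
    refine sup_le (cj_le_of fun v hv => ?_) (zpowers_le.2 (cD a aW))
    by_cases vZ : v ∈ 𝐙
    · exact ZD (conj_mem_of_mem_NN hx vZ)
    · have := d.idxV h hV (inv_mem v0) hv (fun m' => m (inv_mem_iff.1 m')) vZ
      rw [show x * v * x⁻¹ = x * ⁅e, y⁆ * x⁻¹ * (x * (⁅e, y⁆⁻¹ * v) * x⁻¹) by group]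
      exact mul_mem (cD y hy) (ZD (conj_mem_of_mem_NN hx this))
  refine d.noq h hV hz o (VD.trans (cen_of_le h.hq h.q5 (((isPGroup_pCoreOf _).to_le w.WQ).to_le DW) o xD ?_))
  have i1 : (𝐕).relIndex D ≤ 2 := idx_sup2 (d.LV h (d.TL (WT c0))) (d.ZV h (w.w2 _ c0))
  have i2 : (𝐙).relIndex 𝐕 ≤ 2 := idx2 fun a ha b hb a1 b1 =>
    d.idxV h hV (inv_mem ha) hb (fun m => a1 (inv_mem_iff.1 m)) b1
  have le : 𝐙 ≤ centralizer {x} := fun y hy => mem_centralizer_singleton_iff.2 (hz.cm' hx hy).symm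
  refine (relIndex_le_of_le_left le index_ne_zero_of_finite).trans ?_
  rw [← relIndex_mul_relIndex _ _ _ (d.ZV h) VD]
  exact Nat.mul_le_mul i2 i1

theorem idxU : (𝐐).relIndex U ≤ 2 := by
  obtain ⟨F, hF⟩ := exists_OF (p := 2) (hz.solv h)
  have UC := d.UT.trans (d.TC h hV hz)
  have CQ : NN(𝐙) ≤ NN(𝐐) := le_NN_pCoreOf _
  haveI hn : ((𝐐).subgroupOf NN(𝐙)).Normal := normal_subgroupOf CQ
  let π := QuotientGroup.mk' ((𝐐).subgroupOf NN(𝐙))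
  have ker : ∀ g : NN(𝐙), π g = 1 ↔ (g : G) ∈ 𝐐 := fun g => QuotientGroup.eq_one_iff g
  have inv : ∀ e (he : e ∈ U), e ∉ 𝐐 → ∀ y (hy : y ∈ F),
      π ⟨e, UC he⟩ * π ⟨y, hF.le hy⟩ * (π ⟨e, UC he⟩)⁻¹ = (π ⟨y, hF.le hy⟩)⁻¹ := by
    intro e he eQ y hy
    have K : F ⊓ Fx 𝐐 e = 𝐐 := by
      refine hF.syl.eq_of_le (hz.two_of h (inf_le_left.trans hF.le) fun x hx o =>
        d.noX h hV hz hT w aW aU aa he eQ (hF.le hx.1) o (Fx_symm (CQ (UC he)) hx.2).2)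
        (le_inf hF.syl.le fun c hc => ⟨le_NN_self _ hc, ?_⟩) inf_le_left
      exact mul_mem (conj_mem_of_mem_NN (CQ (UC he)) hc) (inv_mem hc)
    refine inv_of_fpf (N := (F.subgroupOf NN(𝐙)).map π) (mem_NN_of_conj_mem ?_) ?_ ?_ ⟨_, hy, rfl⟩
    · rintro _ ⟨u, hu, rfl⟩
      exact ⟨⟨e, UC he⟩ * u * ⟨e, UC he⟩⁻¹, conj_mem_of_mem_NN (hF.norm (UC he)) hu, by simp⟩
    · rw [← map_mul, ker]
      exact d.VQ h hV hz hT (d.sqV h hV hz hT w aW aU aa he)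
    · rintro _ ⟨u, hu, rfl⟩ e1
      rw [ker, ← K]
      refine ⟨hu, CQ u.2, (ker ⁅(⟨e, UC he⟩ : NN(𝐙)), u⁆).1 ?_⟩
      rw [map_commutatorElement, commutatorElement_def, e1, mul_inv_cancel]
  refine idx2 fun e he f hf e1 f1 => ?_
  have m := mul_mem (inv_mem he) hf
  have mF : zpowers (e⁻¹ * f) ≤ F := by
    refine hF.cent _ (zpowers_le.2 (UC m)) (commutator_le.2 fun y hy g hg => ?_)
    have : zpowers (e⁻¹ * f) ≤ Fx 𝐐 y := zpowers_le.2 ⟨CQ (UC m), ?_⟩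
    · exact (this hg).2
    refine (ker ⁅(⟨y, hF.le hy⟩ : NN(𝐙)), (⟨e, UC he⟩ : NN(𝐙))⁻¹ * ⟨f, UC hf⟩⁆).1 ?_
    rw [map_commutatorElement, map_mul, map_inv, commutatorElement_eq_one_iff_mul_comm]
    have h1 := inv e he e1 y hy
    have h2 := inv f hf f1 y hy
    rw [← h2] at h1
    calc _ = (π ⟨e, UC he⟩)⁻¹ * (π ⟨e, UC he⟩ * π ⟨y, hF.le hy⟩ * (π ⟨e, UC he⟩)⁻¹) * π ⟨f, UC hf⟩ := by group
      _ = _ := by rw [h1]; group
  have : 𝐓 ⊓ F = 𝐐 := hF.syl.eq_of_le (d.T2.to_le inf_le_left) (le_inf (d.QT h hV hz hT) hF.syl.le) inf_le_right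
  exact this ▸ ⟨d.UT m, mF (mem_zpowers _)⟩

theorem case2 : Nat.card U ≤ 4 := by
  by_contra h4
  obtain ⟨k', d', -⟩ := d.swap h (d.QT h hV hz hT (w.WQ aW)) aU aa
  have h1 := d'.sq_le h d.two d'.kN
  have h2 := card_le_of_idx (d.idxU h hV hz hT w aW aU aa)
  have h3 := card_le_of_idx (d.idxa h hV hz hT w aW aU aa (inf_le_right : U ⊓ 𝐐 ≤ 𝐐))
  have h5 : Nat.card (U ⊓ 𝐐 ⊓ centralizer {a} : Subgroup G) ≤ Nat.card (U ⊓ centralizer {a} : Subgroup G) :=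
    card_le_of_le (inf_le_inf_right _ inf_le_left)
  have h6 : Nat.card U ≤ 16 := by nlinarith
  obtain ⟨b, hb, bV⟩ : ∃ b ∈ U, b ∉ 𝐕 := by
    by_contra hn
    push Not at hn
    exact h4 (hV ▸ card_le_of_le hn)
  have two := d.two.to_le (inf_le_left : U ⊓ centralizer {b} ≤ U)
  have m3 := d.mod3 h two (d.k_cen h hb)
  have lt : 𝐕 < U ⊓ centralizer {b} := lt_of_le_of_ne
    (le_inf (ZO_le _) fun v hv => mem_centralizer_singleton_iff.2 (d.cV h hv hb).symm)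
    fun e => bV (e ▸ ⟨hb, mem_centralizer_singleton_iff.2 rfl⟩)
  have l2 := two_mul_card_le lt
  obtain ⟨n, hn⟩ := two.exists_card_eq
  have l3 : 16 ≤ Nat.card (U ⊓ centralizer {b} : Subgroup G) := by
    rw [hn] at m3 l2 ⊢
    rw [hV] at l2
    rcases Nat.lt_or_ge n 4 with l | l
    · interval_cases n <;> omega
    · exact Nat.pow_le_pow_right (n := 2) (by norm_num) l
  have e := eq_of_le_of_card_ge (inf_le_left : U ⊓ centralizer {b} ≤ U) (h6.trans l3)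
  refine bV (d.ZU h hV hz hT w aW aU aa ▸ ⟨hb, fun y hy => ?_⟩)
  exact mem_centralizer_singleton_iff.1 (e.ge hy).2

end S3

theorem v4b {q : ℕ} {L U : Subgroup G} {k s : G} (h : Hy G q) (d : S3 L U k s)
    (hV : Nat.card (ZO 2 U) = 4) (hT : IsSylowIn 2 (TT U s) ⊤) (h4 : 4 < Nat.card U)
    (hN : NN(TT U s) ≤ L) : NN(ZO 2 (TT U s)) ≤ L := by
  obtain ⟨z, hz⟩ := d.exZ h hV
  have w := d.exW h hV hz hT
  by_cases WU : ncl (ZO 2 U) NN(ZO 2 (TT U s)) ≤ U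
  · have UQ := d.case1 h hV hz hT w WU
    have QT := d.QT h hV hz hT
    refine (le_NN_pCoreOf (p := 2) _).trans ?_
    by_cases QU : pCoreOf 2 NN(ZO 2 (TT U s)) ≤ U
    · rw [le_antisymm QU UQ, d.nrm]
    · obtain ⟨c, hc, cU⟩ := SetLike.not_le_iff_exists.1 QU
      have : s ∈ pCoreOf 2 NN(ZO 2 (TT U s)) :=
        (Subgroup.mul_mem_cancel_left _ hc).1 (UQ ((d.mem_T.1 (QT hc)).resolve_left cU))
      rwa [le_antisymm QT (sup_le UQ (zpowers_le.2 this))]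
  · rw [ncl_le_iff] at WU
    push Not at WU
    obtain ⟨g, hg, n⟩ := WU
    obtain ⟨a, ha, aU⟩ := SetLike.not_le_iff_exists.1 n
    have aa : a * a = 1 := by
      obtain ⟨v, hv, rfl⟩ := mem_cj'.1 ha
      rw [conj_mul, ← pow_two, (mem_ZO.1 hv).2.2]; group
    exact absurd (d.case2 h hV hz hT w (cj_le_ncl _ hg ha) aU aa) (by omega)

end H20.N9
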