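import Cfsg.Agent.H20.K9e
import Cfsg.Agent.S3331
import Cfsg.Agent.H22.Linear

/-!
No involution of a 2-local of order divisible by 3 commutes with an element of order `q`.
-/

set_option autoImplicit false
set_option linter.unusedSectionVars false

namespace H20.N9

open Subgroup Cfsg H10

variable {G : Type*} [Group G] [Finite G] {q : ℕ}

theorem a5_dec : ∀ x : Equiv.Perm (Fin 5), x ≠ 1 → x ^ 5 = 1 →
    (∀ t : Equiv.Perm (Fin 5), t * t = 1 → t * x = x * t → t = 1) ∧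
    ∃ a : Equiv.Perm (Fin 5), a ≠ 1 ∧ a ^ 3 = 1 ∧ a⁻¹ * x ≠ 1 ∧ (a⁻¹ * x) ^ 3 = 1 ∧ (a * (a⁻¹ * x)⁻¹) ^ 5 = 1 := by
  decide +kernel

theorem a5 {x : alternatingGroup (Fin 5)} (x1 : x ≠ 1) (x5 : x ^ 5 = 1) :
    (∀ t : alternatingGroup (Fin 5), t * t = 1 → t * x = x * t → t = 1) ∧
    ∃ a b : alternatingGroup (Fin 5), a ≠ 1 ∧ a ^ 3 = 1 ∧ b ≠ 1 ∧ b ^ 3 = 1 ∧ a * b = x ∧ (a * b⁻¹) ^ 5 = 1 := by
  obtain ⟨x, hx⟩ := x
  obtain ⟨h1, a, a1, a3, b1, b3, e⟩ := a5_dec x (fun e => x1 (Subtype.ext e))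
    (by simpa only [Subtype.ext_iff, SubgroupClass.coe_pow, OneMemClass.coe_one] using x5)
  refine ⟨fun t tt c => Subtype.ext (h1 t.1 (congrArg Subtype.val tt) (congrArg Subtype.val c)), ?_⟩
  have ha : a ∈ alternatingGroup (Fin 5) := by
    rw [Equiv.Perm.mem_alternatingGroup]
    have := congrArg Equiv.Perm.sign a3
    rw [map_pow, map_one] at this
    rcases Int.units_eq_one_or (Equiv.Perm.sign a) with h | h
    · exact h
    · rw [h] at this; exact absurd this (by decide)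
  refine ⟨⟨a, ha⟩, ⟨a, ha⟩⁻¹ * ⟨x, hx⟩, fun e => a1 (congrArg Subtype.val e), ?_,
    fun e => b1 (congrArg Subtype.val e), ?_, by group, ?_⟩ <;>
  simp only [Subtype.ext_iff, SubgroupClass.coe_pow, OneMemClass.coe_one, Subgroup.coe_mul, Subgroup.coe_inv] <;>
  assumption

/-- the action of two fixed-point-free elements of order 3 on an elementary abelian group -/
theorem act {Y : Type*} [Group Y] {N : Subgroup Y} [hN : N.Normal] (hc : ∀ u ∈ N, ∀ w ∈ N, u * w = w * u)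
    (h2 : ∀ u ∈ N, u * u = 1) {a b t : Y} (a3 : a * a * a = 1)
    (ha : ∀ u ∈ N, u * (a * u * a⁻¹) * (a⁻¹ * u * a) = 1) (hb : ∀ u ∈ N, u * (b * u * b⁻¹) * (b⁻¹ * u * b) = 1)
    (ht : t ∈ N) (e : a * b * t * (a * b)⁻¹ = t) (h5 : (a * b⁻¹) ^ 5 ∈ N) : a * t * a⁻¹ = t := by
  set y := a * b⁻¹ with hy
  have t1 := hN.conj_mem t ht a
  have t2 := hN.conj_mem' t ht a
  have ai : a⁻¹ = a * a := inv_eq_of_mul_eq_one_left a3
  have e1 : b * t * b⁻¹ = a⁻¹ * t * a := by
    conv_rhs => rw [← e]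
    group
  have e2 : b⁻¹ * t * b = a * t * a⁻¹ := by
    have k1 := ha t ht
    have k2 := hb t ht
    rw [e1] at k2
    rw [mul_assoc, hc _ t1 _ t2, ← mul_assoc] at k1
    exact mul_left_cancel (k2.trans k1.symm)
  have f0 : y * t * y⁻¹ = a⁻¹ * t * a := by
    calc _ = a * (b⁻¹ * t * b) * a⁻¹ := by rw [hy]; group
      _ = (a * a) * t * (a * a)⁻¹ := by rw [e2]; group
      _ = _ := by rw [← ai, inv_inv]
  have f2 : y * (a⁻¹ * t * a) * y⁻¹ = a * t * a⁻¹ := by rw [← e1, hy]; group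
  have f1 : y * (a * t * a⁻¹) * y⁻¹ = t := by
    have k1 := ha t ht
    have k3 : a * t * a⁻¹ = t * (a⁻¹ * t * a) := by
      have := eq_inv_of_mul_eq_one_left k1
      rw [inv_eq_of_mul_eq_one_right (h2 _ t2)] at this
      rw [← this, ← mul_assoc, h2 t ht, one_mul]
    rw [k3, ← conj_mul, f0, f2, k3, hc t ht _ t2, ← mul_assoc, h2 _ t2, one_mul]
  have : y ^ 5 * t * (y ^ 5)⁻¹ = a * t * a⁻¹ := by
    rw [show y ^ 5 * t * (y ^ 5)⁻¹ = y * (y * (y * (y * (y * t * y⁻¹) * y⁻¹) * y⁻¹) * y⁻¹) * y⁻¹ by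
      simp only [pow_succ, pow_zero]; group, f0, f2, f1, f0, f2]
  rw [← this, hc _ h5 t ht, mul_inv_cancel_right]

theorem norm3 {Y : Type*} [Group Y] [Finite Y] {N : Subgroup Y} [hN : N.Normal] {x : Y} (hx : x * x * x = 1)
    (hf : ∀ y ∈ N, x * y * x⁻¹ = y → y = 1) : ∀ a ∈ N, a * (x * a * x⁻¹) * (x⁻¹ * a * x) = 1 := fun a ha => by
  have inj : Function.Injective fun b : N =>
      (⟨(b : Y)⁻¹ * (x * b * x⁻¹), mul_mem (inv_mem b.2) (hN.conj_mem _ b.2 x)⟩ : N) := by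
    intro b c e
    have e : (b : Y)⁻¹ * (x * b * x⁻¹) = (c : Y)⁻¹ * (x * c * x⁻¹) := congrArg Subtype.val e
    refine Subtype.ext (mul_inv_eq_one.1 (hf _ (mul_mem b.2 (inv_mem c.2)) ?_))
    calc x * (b * (c : Y)⁻¹) * x⁻¹ = b * ((b : Y)⁻¹ * (x * b * x⁻¹)) * (x * c * x⁻¹)⁻¹ := by group
      _ = _ := by rw [e]; group
  obtain ⟨b, hb⟩ := Finite.surjective_of_injective inj ⟨a, ha⟩
  obtain rfl : (b : Y)⁻¹ * (x * b * x⁻¹) = a := congrArg Subtype.val hb
  have xi : x⁻¹ = x * x := inv_eq_of_mul_eq_one_left hx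
  calc _ = (b : Y)⁻¹ * (x * b * x⁻¹) * (x * ((b : Y)⁻¹ * (x * b * x⁻¹)) * x⁻¹) *
        (x * x * ((b : Y)⁻¹ * (x * b * x⁻¹)) * (x * x)⁻¹) := by rw [← xi, inv_inv]
    _ = (b : Y)⁻¹ * (x * x * x * b * (x * x * x)⁻¹) := by group
    _ = 1 := by rw [hx]; group

theorem typ1 (h : Hy G q) : T1 G q := by
  intro Y hY h3 t ht x hx t2 xq c
  haveI := Fact.mk Nat.prime_three
  haveI := Fact.mk h.hq
  have q5 := h.q5
  obtain ⟨k, k3⟩ := exists_prime_orderOf_dvd_card' (G := Y) 3 h3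
  have k3' : orderOf (k : G) = 3 := by rw [Subgroup.orderOf_coe, k3]
  have hC : centralizer ((zpowers k : Subgroup Y) : Set Y) = zpowers k := by
    have le : zpowers k ≤ centralizer ((zpowers k : Subgroup Y) : Set Y) := le_centralizer _
    have p3 : IsPGroup 3 (centralizer ((zpowers k : Subgroup Y) : Set Y)) := fun g => ⟨1, Subtype.ext (Subtype.ext
      (by simpa using h.c3 k g.1.1 k3' (congrArg Subtype.val (g.2 k (mem_zpowers k))).symm))⟩
    obtain ⟨n, hn⟩ := p3.exists_card_eq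
    refine (eq_of_le_of_card_ge le ?_).symm
    rw [Nat.card_zpowers, k3, hn]
    rcases Nat.lt_or_ge n 2 with l | l
    · interval_cases n <;> norm_num
    · exact absurd ((Nat.pow_dvd_pow 3 l).trans (hn ▸ card_subgroup_dvd_card _)) (h.n9 Y hY)
  obtain ⟨D, hD, D1, rfl⟩ := hY
  have ch := h.ch.2 D hD D1
  have O1 : pCore 2 NN(D) ≠ ⊥ := fun e => D1 (eq_bot_iff.2 fun g hg => by
    have : D.subgroupOf NN(D) ≤ pCore 2 NN(D) := H1.le_pCore (isPGroup_subgroupOf hD _)
    have := this (show (⟨g, le_normalizer hg⟩ : NN(D)) ∈ D.subgroupOf NN(D) from hg)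
    rw [e] at this
    exact congrArg Subtype.val (mem_bot.1 this))
  set x' : NN(D) := ⟨x, hx⟩
  set t' : NN(D) := ⟨t, ht⟩
  have xq' : orderOf x' = q := by rw [← xq]; exact (Subgroup.orderOf_coe x').symm
  have t2' : orderOf t' = 2 := by rw [← t2]; exact (Subgroup.orderOf_coe t').symm
  have c' : t' * x' = x' * t' := Subtype.ext c
  have x1 : x' ≠ 1 := fun e => by rw [e, orderOf_one] at xq'; omega
  have xN : ∀ (N : Subgroup NN(D)) [N.Normal], x' ∉ N → q ∣ Nat.card (NN(D) ⧸ N) := fun N _ m => by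
    have : orderOf (QuotientGroup.mk' N x') = q := orderOf_eq_prime
      (by rw [← map_pow, ← xq', pow_orderOf_eq_one, map_one]) (fun e => m ((QuotientGroup.eq_one_iff _).1 e))
    exact this ▸ orderOf_dvd_natCard _
  have nil : ∀ (N : Subgroup NN(D)) [N.Normal], Group.IsNilpotent N → x' ∉ N := fun N _ hn m => by
    have xF := H1.le_fitting hn m
    have : x' ∈ pCore 2 NN(D) := ch fun y hy => by
      have yF := H1.pCore_le_fitting 2 hy
      refine congrArg Subtype.val (H1.commute_of_coprime_orderOf (a := (⟨y, yF⟩ : fittingSubgroup NN(D)))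
        (b := ⟨x', xF⟩) ?_).eq
      obtain ⟨n, hn⟩ := H1.isPGroup_pCore 2 (⟨y, hy⟩ : pCore 2 NN(D))
      rw [Subgroup.orderOf_mk (a := y), Subgroup.orderOf_mk (a := x'), xq']
      exact Nat.Coprime.coprime_dvd_left (orderOf_dvd_of_pow_eq_one (congrArg Subtype.val hn))
        (Nat.Coprime.pow_left _ ((Nat.coprime_primes Nat.prime_two h.hq).2 (by omega)))
    obtain ⟨n, hn⟩ := H1.isPGroup_pCore 2 (⟨x', this⟩ : pCore 2 NN(D))
    have := orderOf_dvd_of_pow_eq_one (show x' ^ 2 ^ n = 1 from congrArg Subtype.val hn)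
    rw [xq'] at this
    have := (Nat.prime_dvd_prime_iff_eq h.hq Nat.prime_two).1 (h.hq.dvd_of_dvd_pow this)
    omega
  rcases Cfsg.Agent.S3331.result (zpowers k) (by rw [Nat.card_zpowers, k3]) hC with
    ⟨N, hN, hn, -, e⟩ | ⟨N, hN, hc, h2, ⟨e⟩⟩ | ⟨⟨e⟩⟩
  · have := xN N (nil N hn)
    have d6 : q ∣ 6 := by
      rcases e with e | ⟨⟨e⟩⟩
      · exact (e ▸ this).trans (by norm_num)
      · rwa [Nat.card_congr e.toEquiv, Nat.card_perm, Nat.card_eq_fintype_card, Fintype.card_fin] at this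
    have := Nat.le_of_dvd (by norm_num) d6
    have := h.hq
    interval_cases q <;> simp_all (config := {decide := true})
  · have xn : x' ∉ N := fun m => by
      have := orderOf_dvd_of_pow_eq_one (h2 _ m)
      rw [xq'] at this
      have := Nat.le_of_dvd (by norm_num) this
      omega
    let π : NN(D) →* alternatingGroup (Fin 5) := e.toMonoidHom.comp (QuotientGroup.mk' N)
    have ker : ∀ g, π g = 1 ↔ g ∈ N := fun g => by
      simp only [π, MonoidHom.comp_apply, MulEquiv.coe_toMonoidHom, EmbeddingLike.map_eq_one_iff,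
        QuotientGroup.mk'_apply, QuotientGroup.eq_one_iff]
    have sur : Function.Surjective π := e.surjective.comp (QuotientGroup.mk'_surjective N)
    have q60 : q ∣ 60 := by
      have := xN N xn
      rwa [Nat.card_congr e.toEquiv, nat_card_alternatingGroup, Nat.card_eq_fintype_card, Fintype.card_fin] at this
    have e5 : q = 5 := by
      have hq := h.hq
      rcases (Nat.Prime.dvd_mul hq).1 (show q ∣ 12 * 5 from q60) with d | d
      · have := Nat.le_of_dvd (by norm_num) d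
        interval_cases q <;> simp_all (config := {decide := true})
      · exact (Nat.prime_dvd_prime_iff_eq hq Nat.prime_five).1 d
    obtain ⟨i1, a, b, a1, a3, b1, b3, ab, e5'⟩ := a5 (x := π x') (fun e => xn ((ker _).1 e))
      (by rw [← map_pow, show x' ^ 5 = 1 from orderOf_dvd_iff_pow_eq_one.1 (by rw [xq', e5]), map_one])
    have tt : t' * t' = 1 := by rw [← pow_two, ← t2', pow_orderOf_eq_one]
    have tN : t' ∈ N := (ker _).1 (i1 _ (by rw [← map_mul, tt, map_one]) (by rw [← map_mul, c', map_mul]))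
    have hcm : ∀ u ∈ N, ∀ w ∈ N, u * w = w * u := fun u hu w hw =>
      congrArg Subtype.val (hc.is_comm.comm ⟨u, hu⟩ ⟨w, hw⟩)
    have two : IsPGroup 2 (N.map NN(D).subtype) := IsPGroup.map (fun g => ⟨1, Subtype.ext (h2 _ g.2)⟩) _
    have lift : ∀ a : alternatingGroup (Fin 5), a ≠ 1 → a ^ 3 = 1 → ∃ g, π g = a ∧ g * g * g = 1 ∧
        ∀ y ∈ N, g * y * g⁻¹ = y → y = 1 := fun a a1 a3 => by
      obtain ⟨g, rfl⟩ := sur a
      have m : g ^ 3 ∈ N := (ker _).1 (by rw [map_pow, a3])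
      have p4 : π (g ^ 4) = π g := by rw [map_pow, pow_succ, a3, one_mul]
      have g3 : (g ^ 4) ^ 3 = 1 := by
        rw [← pow_mul, show 4 * 3 = 3 * 2 * 2 from rfl, pow_mul, pow_mul, h2 _ m, one_pow]
      refine ⟨g ^ 4, p4, by rwa [pow_succ, pow_two] at g3, fun y hy e => Subtype.ext ?_⟩
      have o : orderOf (g ^ 4) = 3 := orderOf_eq_prime g3 fun e => a1 (by rw [← p4, e, map_one])
      exact h.fpf (k := ((g ^ 4 : NN(D)) : G)) (by rw [Subgroup.orderOf_coe, o]) two ⟨y, hy, rfl⟩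
        (congrArg Subtype.val (mul_inv_eq_iff_eq_mul.1 e)).symm
    obtain ⟨a, rfl, aa, fa⟩ := lift a a1 a3
    obtain ⟨b, rfl, bb, fb⟩ := lift b b1 b3
    have m : x'⁻¹ * (a * b) ∈ N := (ker _).1 (by rw [map_mul, map_inv, map_mul, ab, inv_mul_cancel])
    refine (fun e => by rw [e, orderOf_one] at t2'; omega : t' ≠ 1) (fa t' tN (act hcm
      (fun u hu => by rw [← pow_two, h2 u hu]) aa (norm3 aa fa) (norm3 bb fb) tN ?_
      ((ker _).1 (by rw [map_pow, map_mul, map_inv, e5']))))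
    calc a * b * t' * (a * b)⁻¹ = x' * (x'⁻¹ * (a * b) * t') * (a * b)⁻¹ := by group
      _ = x' * t' * x'⁻¹ := by rw [hcm _ m _ tN]; group
      _ = t' := by rw [← c', mul_inv_cancel_right]
  · haveI : Fact (Nat.Prime 7) := ⟨by norm_num⟩
    haveI := H22.PSL_fin_isSimpleGroup (F := ZMod 7) 2 le_rfl (fun _ => by rw [ZMod.card]; norm_num)
    haveI : IsSimpleGroup NN(D) := e.isSimpleGroup
    rcases (inferInstance : (pCore 2 NN(D)).Normal).eq_bot_or_eq_top with e | e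
    · exact O1 e
    · haveI := (H1.pCore_eq_top_iff.1 e).isNilpotent
      exact nil ⊤ inferInstance (mem_top _)

end H20.N9
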