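import Cfsg.Agent.H1.CIT7

/-! Groups whose Sylow `2`-subgroup has two elementary abelian subgroups of order `16`:
the local configuration. -/

set_option autoImplicit false
set_option linter.unusedSectionVars false

namespace H20L4
open Subgroup Cfsg H10
open GW (C1 mem_C1)
open H6 (ord2_of ord2_mul_self ord2_ne_one ord2_inv ord2_conj)
open H1.CIT (le_or_le cj_C1 cm_surj mem_of_sq_of_odd Pt pt_cj)
open scoped commutatorElement

variable {G : Type*} [Group G] [Finite G]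

theorem four_cases {Y : Subgroup G} (hY : Nat.card Y = 4) {w u : G} (hw : w ∈ Y) (hu : u ∈ Y)
    (w2 : w * w = 1) (w1 : w ≠ 1) (u1 : u ≠ 1) (uw : u ≠ w) {y : G} (hy : y ∈ Y) :
    y = 1 ∨ y = w ∨ y = u ∨ y = w * u := by
  have h1 : w * u ≠ 1 := fun e => uw (by rw [← one_mul u, ← w2, mul_assoc, e, mul_one])
  have h2 : w * u ≠ w := fun e => u1 (mul_eq_left.1 e)
  have h3 : w * u ≠ u := fun e => w1 (mul_eq_right.1 e)
  have h4 : ({1, w, u, w * u} : Set G).ncard = 4 := by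
    rw [Set.ncard_insert_of_notMem (by simp [w1.symm, u1.symm, h1.symm]),
      Set.ncard_insert_of_notMem (by simp [uw.symm, h2.symm]), Set.ncard_pair h3.symm]
  have h5 : ({1, w, u, w * u} : Set G) = Y := Set.eq_of_subset_of_ncard_le (by
    rintro _ (rfl | rfl | rfl | rfl)
    exacts [Y.one_mem, hw, hu, Y.mul_mem hw hu]) (by
      rw [h4, ← Nat.card_coe_set_eq]; exact hY.le)
  exact h5.ge hy

/-- two elementary abelian groups of order `16` normalizing each other -/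
structure L0 (V A : Subgroup G) : Prop where
  sv : ∀ v ∈ V, v * v = 1
  sa : ∀ a ∈ A, a * a = 1
  nA : V ≤ NN(A)
  nV : A ≤ NN(V)
  cW : Nat.card (V ⊓ A : Subgroup G) = 4
  cV : Nat.card V = 16
  cA : Nat.card A = 16
  nd : ∀ v ∈ V, ∀ a ∈ A, v * a = a * v → v ∈ A ∨ a ∈ V

/-- the same, generating a Sylow `2`-subgroup -/
structure Lo (V A : Subgroup G) : Prop extends L0 V A where
  syl : IsSylowIn 2 (V ⊔ A) ⊤

namespace L0
variable {V A A' : Subgroup G} (h : L0 V A)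
include h

theorem symm : L0 A V := ⟨h.sa, h.sv, h.nV, h.nA, inf_comm V A ▸ h.cW, h.cA, h.cV,
  fun a ha v hv e => (h.nd v hv a ha e.symm).symm⟩

theorem map {K : Type*} [Group K] [Finite K] (f : G →* K) (hf : ∀ x ∈ V ⊔ A, f x = 1 → x = 1) :
    L0 (V.map f) (A.map f) := by
  have inj : ∀ x ∈ V ⊔ A, ∀ y ∈ V ⊔ A, f x = f y → x = y := fun x hx y hy e =>
    mul_inv_eq_one.1 (hf _ (mul_mem hx (inv_mem hy)) (by simp [e]))
  have hc : ∀ X : Subgroup G, X ≤ V ⊔ A → Nat.card (X.map f) = Nat.card X := fun X hX =>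
    (Nat.card_congr (Equiv.ofBijective (fun x : X => (⟨f x, mem_map_of_mem f x.2⟩ : X.map f))
      ⟨fun x y e => Subtype.ext (inj _ (hX x.2) _ (hX y.2) (congrArg Subtype.val e)),
        by rintro ⟨_, x, hx, rfl⟩; exact ⟨⟨x, hx⟩, rfl⟩⟩)).symm
  have hi : V.map f ⊓ A.map f = (V ⊓ A).map f := le_antisymm (by
    rintro _ ⟨⟨v, hv, rfl⟩, a, ha, e⟩
    exact ⟨v, ⟨hv, inj _ (mem_sup_right ha) _ (mem_sup_left hv) e ▸ ha⟩, rfl⟩) (map_inf_le _ _ _)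
  refine ⟨?_, ?_, map_le_NN_map f h.nA, map_le_NN_map f h.nV, ?_, ?_, ?_, ?_⟩
  · rintro _ ⟨v, hv, rfl⟩; rw [← map_mul, h.sv v hv, map_one]
  · rintro _ ⟨v, hv, rfl⟩; rw [← map_mul, h.sa v hv, map_one]
  · rw [hi, hc _ (inf_le_left.trans le_sup_left), h.cW]
  · rw [hc _ le_sup_left, h.cV]
  · rw [hc _ le_sup_right, h.cA]
  · rintro _ ⟨v, hv, rfl⟩ _ ⟨a, ha, rfl⟩ e
    rw [← map_mul, ← map_mul] at e
    exact (h.nd v hv a ha (inj _ (mul_mem (mem_sup_left hv) (mem_sup_right ha)) _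
      (mul_mem (mem_sup_right ha) (mem_sup_left hv)) e)).imp (mem_map_of_mem f) (mem_map_of_mem f)

theorem sub {T : Subgroup G} (hT : V ⊔ A ≤ T) : L0 (V.subgroupOf T) (A.subgroupOf T) := by
  have hV : V ≤ T := le_sup_left.trans hT
  have hA : A ≤ T := le_sup_right.trans hT
  refine ⟨fun v hv => Subtype.ext (h.sv v hv), fun v hv => Subtype.ext (h.sa v hv), ?_, ?_, ?_, ?_, ?_,
    fun v hv a ha e => h.nd v hv a ha (congrArg Subtype.val e)⟩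
  · rw [NN_subgroupOf hA]; exact fun v hv => h.nA hv
  · rw [NN_subgroupOf hV]; exact fun v hv => h.nV hv
  · rw [← h.cW, ← card_subgroupOf_of_le (inf_le_left.trans hV : V ⊓ A ≤ T)]; rfl
  · rw [card_subgroupOf_of_le hV, h.cV]
  · rw [card_subgroupOf_of_le hA, h.cA]

theorem conj (g : G) : L0 (cj g V) (cj g A) := by
  simpa only [cj_def] using h.map (MulAut.conj g).toMonoidHom fun x _ e => by simpa using e

theorem inv {v : G} (hv : v ∈ V) : v⁻¹ = v := inv_eq_of_mul_eq_one_right (h.sv v hv)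
theorem comm {u v : G} (hu : u ∈ V) (hv : v ∈ V) : u * v = v * u :=
  (H6.commute_of_mul_sq (h.sv u hu) (h.sv v hv) (h.sv _ (mul_mem hu hv))).eq
theorem ab : V ≤ CC(V) := fun _ hv => mem_CC.2 fun _ hu => h.comm hu hv
theorem pg : IsPGroup 2 V := isPGroup_iff_mem.2 fun v hv => ⟨1, by rw [pow_one, sq, h.sv v hv]⟩
theorem pgR : IsPGroup 2 (V ⊔ A : Subgroup G) := isPGroup_sup_of_NN h.pg h.symm.pg h.nA
theorem nle : ¬ V ≤ A := fun e => by
  have := h.cW; rw [inf_eq_left.2 e, h.cV] at this; omega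
theorem ne : V ≠ A := fun e => h.nle e.le
theorem exA : ∃ a ∈ A, a ∉ V := SetLike.not_le_iff_exists.1 h.symm.nle
theorem W_ne : V ⊓ A ≠ ⊥ := fun e => by have := h.cW; rw [e, card_bot] at this; omega
theorem V_ne : V ≠ ⊥ := fun e => h.W_ne (by simp [e])
theorem exW : ∃ w ∈ V ⊓ A, w ≠ 1 := (bot_or_exists_ne_one _).resolve_left h.W_ne

theorem cm_mem {v a : G} (hv : v ∈ V) (ha : a ∈ A) : v⁻¹ * (a * v * a⁻¹) ∈ V ⊓ A := by
  refine mem_inf.2 ⟨mul_mem (inv_mem hv) (conj_mem_of_mem_NN (h.nV ha) hv), ?_⟩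
  have := mul_mem (conj_mem_of_mem_NN' (h.nA hv) ha) (inv_mem ha)
  simpa [mul_assoc] using this

theorem mem_of_comm {v a : G} (hv : v ∈ V) (ha : a ∈ A) (hV : a ∉ V) (e : v * a = a * v) : v ∈ A :=
  (h.nd v hv a ha e).resolve_right hV

theorem fix {a : G} (ha : a ∈ A) (hV : a ∉ V) : V ⊓ C1 a = V ⊓ A :=
  le_antisymm (fun _ hv => ⟨hv.1, h.mem_of_comm hv.1 ha hV (mem_C1.1 hv.2)⟩)
    fun _ hv => ⟨hv.1, mem_C1.2 (h.symm.comm hv.2 ha)⟩

theorem surj {v w : G} (hv : v ∈ V) (hA : v ∉ A) (hw : w ∈ V ⊓ A) :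
    ∃ a ∈ A, a * v * a⁻¹ = w * v := by
  obtain ⟨a, ha, e⟩ := cm_surj h.symm.ab (h.nA hv) (U := V ⊓ A)
    (fun a ha => (h.symm.cm_mem ha hv).symm)
    (by rw [h.symm.fix hv hA, inf_comm A, h.cW, h.cA]) hw
  exact ⟨a⁻¹, inv_mem ha, by rw [← e]; group⟩

theorem mem_R {r : G} (hr : r ∈ V ⊔ A) : ∃ v ∈ V, ∃ a ∈ A, v * a = r := (mem_sup_of_NN h.nA).1 hr

theorem R_le_NV : V ⊔ A ≤ NN(V) := sup_le (le_NN_self V) h.nV

theorem fixR {s : G} (hs : s ∈ V ⊔ A) (hV : s ∉ V) : V ⊓ C1 s = V ⊓ A := by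
  obtain ⟨v, hv, a, ha, rfl⟩ := h.mem_R hs
  rw [← h.fix ha fun e => hV (mul_mem hv e)]
  ext u
  simp only [mem_inf, mem_C1, and_congr_right_iff]
  intro hu
  rw [← mul_assoc, h.comm hu hv, mul_assoc, mul_assoc, mul_right_inj]

theorem inv_mem {r : G} (hr : r ∈ V ⊔ A) (h2 : r * r = 1) : r ∈ V ∨ r ∈ A := by
  obtain ⟨v, hv, a, ha, rfl⟩ := h.mem_R hr
  by_cases hV : a ∈ V
  · exact Or.inl (mul_mem hv hV)
  · exact Or.inr (mul_mem (h.mem_of_comm hv ha hV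
      (H6.commute_of_mul_sq (h.sv v hv) (h.sa a ha) h2).eq) ha)

theorem elab_eq {E : Subgroup G} (hE : E ≤ V ⊔ A) (h2 : ∀ e ∈ E, e * e = 1)
    (hc : Nat.card E = 16) : E = V ∨ E = A :=
  (le_or_le fun e he => h.inv_mem (hE he) (h2 e he)).imp
    (fun e => eq_of_le_of_card_ge e (by rw [hc, h.cV]))
    (fun e => eq_of_le_of_card_ge e (by rw [hc, h.cA]))

theorem cj_eq {g : G} (hg : cj g V ≤ V ⊔ A) : cj g V = V ∨ cj g V = A :=
  h.elab_eq hg (h.conj g).sv (h.conj g).cV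

theorem swap {t : G} (ht : t ∈ NN((V ⊔ A : Subgroup G))) :
    (cj t V = V ∧ cj t A = A) ∨ (cj t V = A ∧ cj t A = V) := by
  have h1 := h.cj_eq (cj_le_of_mem_NN ht le_sup_left)
  have h2 := h.elab_eq (cj_le_of_mem_NN ht le_sup_right) (h.conj t).sa (h.conj t).cA
  have h3 := (h.conj t).ne
  rcases h1 with e | e <;> rcases h2 with e' | e'
  · exact absurd (e.trans e'.symm) h3
  · exact Or.inl ⟨e, e'⟩
  · exact Or.inr ⟨e, e'⟩
  · exact absurd (e.trans e'.symm) h3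

theorem R_le_CW : V ⊔ A ≤ CC((V ⊓ A : Subgroup G)) :=
  sup_le (h.ab.trans (CC_anti inf_le_left)) (h.symm.ab.trans (CC_anti inf_le_right))
theorem Wcomm {r w : G} (hr : r ∈ V ⊔ A) (hw : w ∈ V ⊓ A) : w * r = r * w :=
  mem_CC.1 (h.R_le_CW hr) w hw
theorem le_C1 {w : G} (hw : w ∈ V ⊓ A) : V ⊔ A ≤ C1 w := fun _ hr => mem_C1.2 (h.Wcomm hr hw).symm

omit h in
theorem cjW {g : G} (hg : g ∈ NN(V)) : cj g (V ⊓ A) = V ⊓ cj g A := by
  rw [cj_inf, cj_eq_of_mem_NN hg]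

theorem exists_third (z : G) : ∃ w ∈ V ⊓ A, w ≠ 1 ∧ w ≠ z := by
  by_contra hn
  push Not at hn
  have h1 : ((V ⊓ A : Subgroup G) : Set G) ⊆ {1, z} := fun w hw => by
    by_cases e : w = 1
    · exact Or.inl e
    · exact Or.inr (hn w hw e)
  have h2 := Set.ncard_le_ncard h1 (Set.toFinite _)
  have h3 : ({1, z} : Set G).ncard ≤ 2 := by simpa using Set.ncard_insert_le (1 : G) {z}
  rw [← Nat.card_coe_set_eq] at h2
  have := h.cW
  have h4 : Nat.card ((V ⊓ A : Subgroup G) : Set G) = 4 := this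
  omega

/-- every element of `W` is a square -/
theorem W_sq {w : G} (hw : w ∈ V ⊓ A) : ∃ g : G, g * g = w := by
  obtain ⟨v, hv, hvA⟩ := h.symm.exA
  obtain ⟨a, ha, e⟩ := h.surj hv hvA hw
  refine ⟨a * v, ?_⟩
  rw [h.symm.inv ha] at e
  rw [← mul_assoc, e, mul_assoc, h.sv v hv, mul_one]

/-- a complement of `W` in `V` -/
theorem dec {U : Subgroup G} (hU : U ≤ V) (hc : Nat.card U = 4) (hb : (V ⊓ A) ⊓ U = ⊥) {v : G}
    (hv : v ∈ V) : ∃ w ∈ V ⊓ A, ∃ u ∈ U, w * u = v := by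
  have hn : V ⊓ A ≤ NN(U) := inf_le_left.trans (h.ab.trans ((CC_anti hU).trans (CC_le_NN _)))
  have e : (V ⊓ A) ⊔ U = V := eq_of_le_of_card_ge (sup_le inf_le_left hU)
    (by rw [H1.card_sup_of_disjoint hn hb, h.cW, hc, h.cV])
  exact (mem_sup_of_NN hn).1 (e.ge hv)

theorem cover {U : Subgroup G} (hU : U ≤ V) (hc : Nat.card U = 4) (hb : (V ⊓ A) ⊓ U = ⊥) {v : G}
    (hv : v ∈ V) (hA : v ∉ A) : ∃ a ∈ A, v ∈ cj a U := by
  obtain ⟨w, hw, u, hu, rfl⟩ := h.dec hU hc hb hv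
  obtain ⟨a, ha, e⟩ := h.surj (hU hu) (fun e => hA (mul_mem hw.2 e)) hw
  exact ⟨a, ha, e ▸ conj_mem_cj hu⟩

/-- elements of `A` outside `V` move a complement off itself -/
theorem move {U : Subgroup G} (hU : U ≤ V) (hb : (V ⊓ A) ⊓ U = ⊥) {a u : G} (ha : a ∈ A)
    (hu : u ∈ U) (u1 : u ≠ 1) (e : a * u * a⁻¹ ∈ U) : a ∈ V := by
  by_contra hV
  have h1 : u⁻¹ * (a * u * a⁻¹) = 1 :=
    hb.le ⟨h.cm_mem (hU hu) ha, U.mul_mem (U.inv_mem hu) e⟩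
  rw [inv_mul_eq_one, eq_mul_inv_iff_mul_eq] at h1
  exact u1 (hb.le ⟨⟨hU hu, h.mem_of_comm (hU hu) ha hV h1⟩, hu⟩)

/-- invariant subgroups spanning `V` meet -/
theorem ind {U U' : Subgroup G} (hn : A ≤ NN(U)) (hn' : A ≤ NN(U')) (hs : U ⊔ U' = V)
    (hb : U ⊓ U' = ⊥) : U = ⊥ ∨ U' = ⊥ := by
  have k : ∀ {X : Subgroup G}, X ≤ V → A ≤ NN(X) → ¬ X ≤ A → V ⊓ A ≤ X := fun {X} h1 h2 h3 w hw => by
    obtain ⟨u, hu, hA⟩ := SetLike.not_le_iff_exists.1 h3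
    obtain ⟨a, ha, e⟩ := h.surj (h1 hu) hA hw
    have := X.mul_mem (conj_mem_of_mem_NN (h2 ha) hu) (X.inv_mem hu)
    rwa [e, mul_inv_cancel_right] at this
  have k2 : ∀ {X Y : Subgroup G}, X ≤ V → Y ≤ V → A ≤ NN(X) → A ≤ NN(Y) → X ⊓ Y = ⊥ → ¬ X ≤ A →
      Y = ⊥ := fun {X Y} h1 h2 h3 h4 h5 h6 => by
    by_cases h7 : Y ≤ A
    · exact le_bot_iff.1 (h5 ▸ le_inf ((le_inf h2 h7).trans (k h1 h3 h6)) le_rfl)
    · exact absurd (le_bot_iff.1 (h5 ▸ le_inf (k h1 h3 h6) (k h2 h4 h7))) h.W_ne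
  have h1 : U ≤ V := hs ▸ le_sup_left
  have h2 : U' ≤ V := hs ▸ le_sup_right
  by_cases h3 : U ≤ A
  · exact Or.inl (k2 h2 h1 hn' hn (inf_comm U U' ▸ hb) fun h4 => h.nle (hs ▸ sup_le h3 h4))
  · exact Or.inr (k2 h1 h2 hn hn' hb h3)

end L0

namespace Lo
variable {V A A' : Subgroup G} (h : Lo V A)
include h

theorem symm : Lo A V := ⟨h.toL0.symm, sup_comm V A ▸ h.syl⟩

theorem conj (g : G) : Lo (cj g V) (cj g A) :=
  ⟨h.toL0.conj g, by rw [← cj_sup]; exact h.syl.cj_top g⟩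

theorem conj' {g : G} (hg : g ∈ NN(V)) : Lo V (cj g A) := by
  simpa [cj_eq_of_mem_NN hg] using h.conj g

theorem sylV : IsSylowIn 2 (V ⊔ A) NN(V) := h.syl.of_le h.R_le_NV le_top

theorem not_cj (g : G) : cj g V ≠ A := by
  intro e
  have h1 := h.sylV.cj g
  rw [cj_normalizer, e] at h1
  obtain ⟨k, hk, e1⟩ := h1.exists_cj (sup_comm A V ▸ h.symm.sylV)
  have hn : k * g ∈ NN((V ⊔ A : Subgroup G)) := by rw [mem_NN, cj_mul, e1]
  have e2 : cj (k * g) V = A := by rw [cj_mul, e, cj_eq_of_mem_NN hk]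
  have e3 := ((h.swap hn).resolve_left fun e' => h.ne (e'.1.symm.trans e2)).2
  have : k * g ∈ NN(V) := by
    obtain ⟨m, j, hm, hj⟩ := H6.exists_odd_pow_two_elt (k * g)
    have h2 : (k * g) ^ m ∈ NN(V) := h.R_le_NV (h.syl.le_of_le_NN (isPGroup_zpowers hj) le_top
      (zpowers_le.2 (pow_mem hn m)) (mem_zpowers _))
    have h3 : k * g * (k * g) ∈ NN(V) := by rw [mem_NN, cj_mul, e2, e3]
    obtain ⟨i, rfl⟩ := hm
    rw [pow_succ, pow_mul, sq] at h2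
    exact (mul_mem_cancel_left (pow_mem h3 i)).1 h2
  exact h.ne ((cj_eq_of_mem_NN this).symm.trans e2)

theorem cj_eq' {g : G} (hg : cj g V ≤ V ⊔ A) : g ∈ NN(V) :=
  mem_NN.2 ((h.cj_eq hg).resolve_right (h.not_cj g))

theorem NR {g : G} (hg : g ∈ NN((V ⊔ A : Subgroup G))) : g ∈ NN(V) ∧ g ∈ NN(A) := by
  have := (h.swap hg).resolve_right fun e => h.not_cj g e.1
  exact ⟨mem_NN.2 this.1, mem_NN.2 this.2⟩

theorem cv_eq {P : Subgroup G} (hP : IsPGroup 2 P) (hn : P ≤ NN(V)) {s t : G} (hs : s ∈ P)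
    (ht : t ∈ P) (hs' : s ∉ V) (ht' : t ∉ V) : V ⊓ C1 s = V ⊓ C1 t := by
  obtain ⟨g, hg, e⟩ := h.sylV.exists_le_cj hP hn
  rw [cj_sup, cj_eq_of_mem_NN hg] at e
  rw [(h.conj' hg).fixR (e hs) hs', (h.conj' hg).fixR (e ht) ht']

theorem ti (h' : Lo V A') (hne : (V ⊓ A) ⊓ (V ⊓ A') ≠ ⊥) : V ⊓ A = V ⊓ A' := by
  by_contra hW
  obtain ⟨w, hw, w1⟩ := (bot_or_exists_ne_one _).resolve_left hne
  set H := (V ⊓ A) ⊔ (V ⊓ A') with hH
  have hHV : H ≤ V := sup_le inf_le_left inf_le_left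
  have hZ : zpowers w ≤ V := zpowers_le.2 hw.1.1
  set L := NN(V) ⊓ stabMod V H ⊓ stabMod H (zpowers w) ⊓ CC(zpowers w) with hL
  have key : ∀ {B B' : Subgroup G}, Lo V B → Lo V B' → V ⊓ B ≠ V ⊓ B' → w ∈ V ⊓ B → w ∈ V ⊓ B' →
      (V ⊓ B) ⊔ (V ⊓ B') = H → ∃ a ∈ B, a ∉ V ∧ a ∈ L := by
    intro B B' k k' hn h1 h2 h3
    obtain ⟨u, hu, huB⟩ := SetLike.not_le_iff_exists.1 fun e : V ⊓ B' ≤ V ⊓ B =>
      hn (eq_of_le_of_card_ge e (by rw [k.cW, k'.cW])).symm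
    obtain ⟨a, ha, e⟩ := k.surj hu.1 (fun e => huB ⟨hu.1, e⟩) h1
    have c1 : ∀ v ∈ V, ⁅a, v⁆ ∈ V ⊓ B := fun v hv => by
      have := k.cm_mem hv ha
      rwa [k.comm (V.inv_mem hv) (conj_mem_of_mem_NN (k.nV ha) hv)] at this
    have c2 : ∀ v ∈ V ⊓ B, ⁅a, v⁆ = 1 := fun v hv =>
      commutatorElement_eq_one_iff_mul_comm.2 (k.symm.comm ha hv.2)
    have c3 : a ∈ CC(zpowers w) := by
      rw [CC_zpowers]; exact mem_C1.2 (k.symm.comm ha h1.2)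
    have c4 : ∀ v ∈ H, ⁅a, v⁆ ∈ zpowers w := fun v hv => by
      rw [← h3] at hv
      obtain ⟨x, hx, y, hy, rfl⟩ := (mem_sup_of_NN (inf_le_left.trans (k.ab.trans
        ((CC_anti inf_le_left).trans (CC_le_NN _))))).1 hv
      have c5 : ⁅a, x * y⁆ = ⁅a, y⁆ := by
        rw [commutatorElement_mul_right_eq_mul_conj, c2 x hx, one_mul,
          k.comm hx.1 (c1 y hy.1).1, mul_inv_cancel_right]
      have c6 : ⁅a, u⁆ = w := by rw [commutatorElement_def, e, mul_inv_cancel_right]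
      rw [c5]
      rcases four_cases k'.cW h2 hu (k.sv w h1.1) w1 (fun e => huB (e ▸ one_mem _))
        (fun e => huB (e ▸ h1)) hy with rfl | rfl | rfl | rfl
      · simp
      · rw [c2 _ h1]; exact one_mem _
      · rw [c6]; exact mem_zpowers _
      · rw [commutatorElement_mul_right_eq_mul_conj, c2 w h1, c6]; simp
    refine ⟨a, ha, fun hV => w1 ?_, ⟨⟨k.nV ha, mem_NN_of_conj_mem fun x hx => ?_, fun v hv =>
      (h3 ▸ le_sup_left : V ⊓ B ≤ H) (c1 v hv)⟩, CC_le_NN _ c3, c4⟩, c3⟩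
    · rw [k.comm hV hu.1, mul_inv_cancel_right] at e
      exact mul_eq_right.1 e.symm
    · have := H.mul_mem ((h3 ▸ le_sup_left : V ⊓ B ≤ H) (c1 x (hHV hx))) hx
      rwa [commutatorElement_def, inv_mul_cancel_right] at this
  obtain ⟨a, ha, haV, haL⟩ := key h h' hW hw.1 hw.2 rfl
  obtain ⟨a', ha', haV', haL'⟩ := key h' h (Ne.symm hW) hw.2 hw.1 (sup_comm _ _)
  have r1 : resOf 2 L ≤ CC(H) := resOf_le_CC_of_step (h.pg.to_le hZ)
    (by rw [commutator_comm]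
        exact (commutator_mono (resOf_le L) le_rfl).trans (le_stabMod.1 (inf_le_left.trans inf_le_right)).2)
    ((resOf_le L).trans inf_le_right)
  have r2 : resOf 2 L ≤ CC(V) := resOf_le_CC_of_step (h.pg.to_le hHV)
    (by rw [commutator_comm]
        exact (commutator_mono (resOf_le L) le_rfl).trans
          (le_stabMod.1 (inf_le_left.trans (inf_le_left.trans inf_le_right))).2) r1
  obtain ⟨T, hT⟩ := exists_isSylowIn 2 L
  have k2 : ∀ {B : Subgroup G} {b : G}, Lo V B → b ∈ B → b ∉ V → b ∈ L →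
      ∃ t ∈ T, t ∉ V ∧ V ⊓ C1 t = V ⊓ B := fun {B b} k h1 h2 h3 => by
    obtain ⟨r, hr, t, ht, rfl⟩ := (mem_sup_of_NN' (hT.le.trans (le_NN_resOf L))).1 (hT.resOf_sup.ge h3)
    have e : V ⊓ C1 t = V ⊓ C1 (r * t) := by
      ext u
      simp only [mem_inf, mem_C1, and_congr_right_iff]
      intro hu
      rw [← mul_assoc, mem_CC.1 (r2 hr) u hu, mul_assoc, mul_assoc, mul_right_inj]
    rw [k.fix h1 h2] at e
    refine ⟨t, ht, fun hV => k.nle fun v hv => (e.le ⟨hv, mem_C1.2 (k.comm hv hV)⟩).2, e⟩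
  obtain ⟨t, ht, htV, e⟩ := k2 h ha haV haL
  obtain ⟨t', ht', htV', e'⟩ := k2 h' ha' haV' haL'
  exact hW (e.symm.trans ((h.cv_eq hT.isPGroup (hT.le.trans (inf_le_left.trans
    (inf_le_left.trans inf_le_left))) ht ht' htV htV').trans e'))

theorem ti' {g : G} (hg : g ∈ NN(V)) (hn : g ∉ NN((V ⊓ A : Subgroup G))) :
    (V ⊓ A) ⊓ (V ⊓ cj g A) = ⊥ := by
  by_contra e
  exact hn (by rw [mem_NN, L0.cjW hg, h.ti (h.conj' hg) e])

theorem trans (h' : Lo V A') (hb : (V ⊓ A) ⊓ (V ⊓ A') = ⊥) {A'' : Subgroup G} (h'' : Lo V A'')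
    (hne : V ⊓ A'' ≠ V ⊓ A) : ∃ a ∈ A, cj a (V ⊓ A') = V ⊓ A'' := by
  obtain ⟨v, hv, h1⟩ := h''.exW
  obtain ⟨a, ha, e⟩ := h.cover inf_le_left h'.cW hb hv.1 fun e =>
    hne (h''.ti h fun e' => h1 (e'.le ⟨hv, hv.1, e⟩))
  rw [L0.cjW (h.nV ha)] at e
  exact ⟨a, ha, by
    rw [L0.cjW (h.nV ha)]; exact (h'.conj' (h.nV ha)).ti h'' fun e' => h1 (e'.le ⟨e, hv⟩)⟩

theorem odd_mul (h' : Lo V A') (hb : (V ⊓ A) ⊓ (V ⊓ A') = ⊥) {a a' : G} (ha : a ∈ A) (hQ : a ∉ V)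
    (ha' : a' ∈ A') (hQ' : a' ∉ V) : Odd (orderOf (a * a')) := by
  refine Nat.not_even_iff_odd.1 fun he => ?_
  obtain ⟨h1, h2, h3⟩ := H6.exists_central_inv (h.sa a ha) (h'.sa a' ha') he
  have hz : (a * a') ^ (orderOf (a * a') / 2) ∈ NN(V) := pow_mem (mul_mem (h.nV ha) (h'.nV ha')) _
  generalize (a * a') ^ (orderOf (a * a') / 2) = z at h1 h2 h3 hz
  by_cases hV : z ∈ V
  · exact ord2_ne_one h1 (hb.le ⟨⟨hV, h.mem_of_comm hV ha hQ h2.eq⟩, hV, h'.mem_of_comm hV ha' hQ' h3.eq⟩)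
  have k : ∀ {B : Subgroup G} {b : G}, Lo V B → b ∈ B → b ∉ V → Commute z b → V ⊓ C1 z = V ⊓ B :=
    fun {B b} k h4 h5 h6 => by
      rw [← k.fix h4 h5]
      exact h.cv_eq (H6.isPGroup_closure_commute (ord2_mul_self h1) (k.sa b h4) h6)
        ((closure_le _).2 (by rintro _ (rfl | rfl); exacts [hz, k.nV h4]))
        (subset_closure (by simp)) (subset_closure (by simp)) hV h5
  refine h.W_ne ?_
  rw [← hb, ← k h' ha' hQ' h3, ← k h ha hQ h2, inf_idem]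

/-- if `N(A)` normalizes `W` then `V` is strongly closed -/
theorem sc (hA : NN(A) ≤ NN((V ⊓ A : Subgroup G))) {v : G} (hv : v ∈ V) (g : G)
    (hg : g * v * g⁻¹ ∈ V ⊔ A) : g * v * g⁻¹ ∈ V := by
  by_contra hV
  have ha : g * v * g⁻¹ ∈ A := (h.inv_mem hg ((h.conj g).sv _ (conj_mem_cj hv))).resolve_left hV
  have h1 : cj g V ≤ C1 (g * v * g⁻¹) := by
    rw [← cj_C1]; exact cj_mono g fun u hu => mem_C1.2 (h.comm hu hv)
  generalize g * v * g⁻¹ = a at hV ha h1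
  have h2 : A ≤ C1 a := fun b hb => mem_C1.2 (h.symm.comm hb ha)
  obtain ⟨T, hT, h3⟩ := exists_isSylowIn_ge h.symm.pg h2
  obtain ⟨k, -, h4⟩ := h.syl.exists_cj_le hT.isPGroup le_top
  have h5 : k ∈ NN(A) := h.symm.cj_eq' (sup_comm V A ▸ (cj_mono k h3).trans h4)
  have h6 : k * a * k⁻¹ ∉ V := fun e => hV (by
    simpa [mul_assoc] using (conj_mem_of_mem_NN' (hA h5) ⟨e, conj_mem_of_mem_NN h5 ha⟩).1)
  have h7 : T ≤ A := fun t ht => by
    obtain ⟨x, hx, b, hb, e⟩ := h.mem_R (h4 (conj_mem_cj ht))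
    have h8 : x * b ∈ C1 (k * a * k⁻¹) := by rw [e, ← cj_C1]; exact conj_mem_cj (hT.le ht)
    have h9 : x ∈ C1 (k * a * k⁻¹) := (mul_mem_cancel_right (show b ∈ C1 (k * a * k⁻¹) from
      mem_C1.2 (h.symm.comm hb (conj_mem_of_mem_NN h5 ha)))).1 h8
    have := A.mul_mem (h.mem_of_comm hx (conj_mem_of_mem_NN h5 ha) h6 (mem_C1.1 h9)) hb
    rw [e] at this
    simpa [mul_assoc] using conj_mem_of_mem_NN' h5 this
  obtain ⟨c, -, h8⟩ := hT.exists_cj_le (h.conj g).pg h1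
  rw [← cj_mul] at h8
  exact h.not_cj _ (eq_of_le_of_card_ge (h8.trans h7) (by rw [h.cA, (h.conj _).cV]))

end Lo
end H20L4
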