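import Cfsg.Agent.H20.L4a
import Cfsg.Agent.H10.GD3
import Cfsg.Agent.H3.Transfer

/-! Groups with Sylow `2`-subgroups as in the linear group of degree three over four elements:
normality of a strongly closed elementary abelian subgroup. -/

set_option autoImplicit false
set_option linter.unusedSectionVars false

namespace H20L4
open Subgroup Cfsg H10
open GW (C1 mem_C1)
open H6 (ord2_of ord2_mul_self ord2_ne_one ord2_inv ord2_conj)
open H1.CIT (le_or_le cj_C1 cm_surj mem_of_sq_of_odd Pt pt_cj)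
open H5 (CompOf)

universe u
variable {G : Type u} [Group G] [Finite G] {V A : Subgroup G}

theorem exists_third' {E : Subgroup G} (hE : 2 < Nat.card E) (z : G) : ∃ w ∈ E, w ≠ 1 ∧ w ≠ z := by
  by_contra hn
  push Not at hn
  have h1 : (E : Set G) ⊆ {1, z} := fun w hw => by
    by_cases e : w = 1
    · exact Or.inl e
    · exact Or.inr (hn w hw e)
  have h2 := Set.ncard_le_ncard h1 (Set.toFinite _)
  have h3 : ({1, z} : Set G).ncard ≤ 2 := by simpa using Set.ncard_insert_le (1 : G) {z}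
  rw [← Nat.card_coe_set_eq] at h2
  exact absurd (h2.trans h3) (not_le.2 hE)

theorem L0.exA2 (h : L0 V A) : ∃ a ∈ A, ∃ b ∈ A, a ∉ V ∧ b ∉ V ∧ a * b ∉ V := by
  obtain ⟨a, ha, haV⟩ := h.exA
  have hn : zpowers a ≤ NN((V ⊓ A : Subgroup G)) :=
    zpowers_le.2 (CC_le_NN _ (h.R_le_CW (mem_sup_right ha)))
  have h1 := card_sup_mul_card_inf hn
  rw [Nat.card_zpowers, ord2_of (h.sa a ha) fun e => haV (e ▸ one_mem _), h.cW] at h1
  obtain ⟨b, hb, hbX⟩ := SetLike.not_le_iff_exists.1 fun e : A ≤ zpowers a ⊔ (V ⊓ A) => by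
    have h2 := card_le_of_le e
    have h3 : 0 < Nat.card (zpowers a ⊓ (V ⊓ A) : Subgroup G) := Nat.card_pos
    rw [h.cA] at h2
    nlinarith
  refine ⟨a, ha, b, hb, haV, fun e => hbX (mem_sup_right ⟨e, hb⟩), fun e => hbX ?_⟩
  simpa using mul_mem (mem_sup_left (Subgroup.inv_mem _ (mem_zpowers a)))
    (mem_sup_right (show a * b ∈ V ⊓ A from ⟨e, mul_mem ha hb⟩) : a * b ∈ zpowers a ⊔ (V ⊓ A))

theorem Lo.nk (h : Lo V A) {K : Subgroup G} [K.Normal] (hT : (V ⊔ A) ⊓ K ≤ V) {n : G} (hn : n ∈ K)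
    (hV : n ∈ NN(V)) : n ∈ NN((V ⊓ A : Subgroup G)) := by
  by_contra hW
  obtain ⟨a, ha, b, hb, h1, h2, h3⟩ := h.exA2
  have ho := h.odd_mul (h.conj' hV) (h.ti' hV hW) ha h1 (conj_mem_cj (g := n) hb) fun e => h2 (by
    simpa [mul_assoc] using conj_mem_of_mem_NN' hV e)
  have e1 : ((a * (n * b * n⁻¹) : G) : G ⧸ K) = (a * b : G) := by
    simp [(QuotientGroup.eq_one_iff n).2 hn]
  have h4 := mem_of_sq_of_odd (X := K) ho (by
    rw [← QuotientGroup.eq_one_iff, QuotientGroup.mk_mul, e1, ← QuotientGroup.mk_mul,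
      h.sa _ (mul_mem ha hb)]; rfl)
  rw [← QuotientGroup.eq_one_iff, e1, QuotientGroup.eq_one_iff] at h4
  exact h3 (hT ⟨mem_sup_right (mul_mem ha hb), h4⟩)

theorem L0.no_comp (h : L0 V A) {M : Subgroup G} (f1 : ∀ v ∈ V, ∃ e ∈ V ⊓ M, v * e ∈ CC(M))
    (f2 : ∀ a ∈ V ⊓ M, a ≠ 1 → ∀ b ∈ V ⊓ M, b ≠ 1 →
      ∃ n ∈ M, n ∈ NN((V ⊓ A : Subgroup G)) ∧ n * a * n⁻¹ = b)
    (f3 : 2 < Nat.card (V ⊓ M : Subgroup G)) (f4 : M ⊓ CC(M) = ⊥)
    (f5 : ∀ g, cj g M = M ∨ cj g M ≤ CC(M)) : False := by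
  have one : ∀ {x : G}, x ∈ M → x ∈ CC(M) → x = 1 := fun a b => f4.le ⟨a, b⟩
  obtain ⟨a, ha, haV⟩ := h.exA
  have cm : ∀ {v : G}, v ∈ V → v⁻¹ * (a * v * a⁻¹) = 1 → v ∈ A := fun hv e => by
    rw [inv_mul_eq_one, eq_mul_inv_iff_mul_eq] at e
    exact h.mem_of_comm hv ha haV e
  rcases bot_or_exists_ne_one ((V ⊓ M) ⊓ (V ⊓ A)) with hb | ⟨e, he, e1⟩
  · have hW : ∀ w ∈ V ⊓ A, w ∈ CC(M) := fun w hw => by
      obtain ⟨e, he, h1⟩ := f1 w hw.1
      by_cases e1 : e = 1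
      · rwa [e1, mul_one] at h1
      obtain ⟨e', he', e1', ee⟩ := exists_third' f3 e
      obtain ⟨n, hn, h2, h3⟩ := f2 e he e1 e' he' e1'
      have h4 : n * (w * e) * n⁻¹ = w * e := by rw [mem_CC.1 h1 n hn, mul_inv_cancel_right]
      have h5 : w⁻¹ * (n * w * n⁻¹) = e * e'⁻¹ := by
        rw [← h3, eq_mul_inv_iff_mul_eq]
        calc w⁻¹ * (n * w * n⁻¹) * (n * e * n⁻¹) = w⁻¹ * (n * (w * e) * n⁻¹) := by group
          _ = e := by rw [h4]; group
      have h6 : e * e'⁻¹ = 1 := hb.le ⟨mul_mem he (Subgroup.inv_mem _ he'),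
        h5 ▸ mul_mem (Subgroup.inv_mem _ hw) (conj_mem_of_mem_NN h2 hw)⟩
      exact absurd (mul_inv_eq_one.1 h6).symm ee
    obtain ⟨e, he, e1, -⟩ := exists_third' f3 1
    have h1 := h.cm_mem he.1 ha
    rcases f5 a with h2 | h2
    · refine e1 (hb.le ⟨he, he.1, cm he.1 (hb.le ⟨⟨h1.1, ?_⟩, h1⟩)⟩)
      exact M.mul_mem (M.inv_mem he.2) (h2 ▸ conj_mem_cj he.2)
    · refine e1 (one he.2 ?_)
      have := CC(M).mul_mem (h2 (conj_mem_cj he.2)) (CC(M).inv_mem (hW _ h1))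
      simpa [mul_assoc] using this
  · have h1 : V ⊓ M ≤ V ⊓ A := fun x hx => by
      by_cases x1 : x = 1
      · rw [x1]; exact one_mem _
      obtain ⟨n, -, h2, rfl⟩ := f2 e he.1 e1 x hx x1
      exact conj_mem_of_mem_NN h2 he.2
    have h2 : V ⊓ M = V ⊓ A := eq_of_le_of_card_ge h1 (by
      have h3 := card_dvd_of_le h1
      rw [h.cW] at h3 ⊢
      have := Nat.le_of_dvd (by norm_num) h3
      interval_cases Nat.card (V ⊓ M : Subgroup G) <;> simp_all)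
    obtain ⟨v, hv, hvA⟩ := h.symm.exA
    obtain ⟨c, hc, h3⟩ := f1 v hv
    have h4 : a ∈ NN(M) := mem_NN.2 ((f5 a).resolve_right fun h5 => e1 (one he.1.2 (h5 (by
      rw [mem_cj, mul_assoc, h.symm.comm he.2.2 ha, inv_mul_cancel_left]; exact he.1.2))))
    have h5 := h.cm_mem (mul_mem hv hc.1) ha
    have h6 := cm (mul_mem hv hc.1) (one (h2.ge h5).2
      (CC(M).mul_mem (CC(M).inv_mem h3) (conj_mem_of_mem_NN (NN_le_NN_CC M h4) h3)))
    exact hvA ((A.mul_mem_cancel_right (h1 hc).2).1 h6)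

theorem core_normal (hO : pPrimeCore 2 G = ⊥) (K : Subgroup G) [K.Normal] : pPrimeCore 2 K = ⊥ := by
  have := H1.pPrimeCore_eq_bot_iff.1 hO ((pPrimeCore 2 K).map K.subtype) inferInstance
    (by rw [card_map_subtype]; exact H1.coprime_card_pPrimeCore 2)
  exact (map_eq_bot_iff_of_injective _ K.subtype_injective).1 this

theorem Lo.normal (h : Lo V A) (hO : pPrimeCore 2 G = ⊥)
    (hA : NN(A) ≤ NN((V ⊓ A : Subgroup G))) : V.Normal := by
  have s : SA (V ⊔ A) V := ⟨h.syl, le_sup_left, h.ab, fun a ha g => h.sc hA ha g⟩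
  have hn := s.ncl_sub
  have hK : V ≤ normalClosure (V : Set G) := le_normalClosure
  have hKn : (normalClosure (V : Set G)).Normal := inferInstance
  generalize normalClosure (V : Set G) = K at hn hK hKn
  have s' := s.sub hK
  have hO' := core_normal hO K
  have hT : (V ⊔ A) ⊓ K ≤ V := fun x hx => by
    obtain ⟨v, hv, a, ha, rfl⟩ := h.mem_R hx.1
    have h1 : a ∈ K := (mul_mem_cancel_left (hK hv)).1 hx.2
    have h2 : (⟨a, h1⟩ : K) ∈ V.subgroupOf K := (s'.eq_sup hn hO').ge (mem_sup_right (mem_omegaOne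
      (show (⟨a, h1⟩ : K) ∈ ((V ⊔ A) ⊓ K).subgroupOf K from ⟨mem_sup_right ha, h1⟩)
      (Subtype.ext (by simpa [sq] using h.sa a ha))))
    exact mul_mem hv h2
  have hT' : (V ⊔ A) ⊓ K = V := le_antisymm hT (le_inf le_sup_left hK)
  rw [hT'] at s'
  have hZ : (pCore 2 K).map K.subtype ≤ V := map_subtype_le_iff.2 (s'.core_le_A hn hO')
  have h1 : (pCore 2 K).map K.subtype ⊔ (V ⊓ (commutator K).map K.subtype) = V :=
    le_antisymm (sup_le hZ inf_le_left) fun v hv => by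
      obtain ⟨z, hz, c, hc, e⟩ := (mem_sup_of_NN (le_NN_of_normal _ _)).1
        ((s'.core_sup hn hO').ge (mem_top (⟨v, hK hv⟩ : K)))
      have e' : (z : G) * c = v := congrArg Subtype.val e
      rw [← e'] at hv ⊢
      exact mul_mem_sup (mem_map_of_mem _ hz)
        ⟨(mul_mem_cancel_left (hZ (mem_map_of_mem _ hz))).1 hv, mem_map_of_mem _ hc⟩
  have h2 : (pCore 2 K).map K.subtype ⊓ (V ⊓ (commutator K).map K.subtype) = ⊥ :=
    eq_bot_iff.2 (by
      rintro _ ⟨⟨z, hz, rfl⟩, hv, c, hc, e⟩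
      obtain rfl : c = z := Subtype.ext e
      haveI : IsMulCommutative (V.subgroupOf K) := isMulCommutative_iff_le_CC.2 s'.comm
      have := H3.eq_one_of_mem_abelian_hall (H := V.subgroupOf K)
        s'.syl.toSylowTop.card_coprime_index hv hc (s'.core_cent hn hO' hz)
      rw [this]; exact one_mem _)
  rcases h.ind (le_NN_of_normal _ _) (le_NN_inf h.nV (le_NN_of_normal _ _)) h1 h2 with h3 | h3
  swap
  · rw [h3, sup_bot_eq] at h1
    rw [← h1]; infer_instance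
  exfalso
  have ss : SS K := ⟨(map_eq_bot_iff_of_injective _ K.subtype_injective).1 h3, hO'⟩
  obtain ⟨L, hL⟩ : ∃ L : Subgroup K, CompOf L ⊤ := by
    by_contra! e
    exact h.V_ne (eq_bot_iff.2 fun v hv => congrArg Subtype.val
      (ss.eq_one (x := ⟨v, hK hv⟩) fun L hL => absurd hL (e L)))
  have l := ss.loc s' hn hL
  have hM : CompOf (L.map K.subtype) K := H5.compOf_map_subtype_iff.2 (H5.compOf_top_iff.1 hL)
  have cc : ∀ {x : K}, x ∈ CC(L) ↔ (x : G) ∈ CC(L.map K.subtype) := fun {x} => by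
    rw [← mem_map_iff_mem K.subtype_injective, map_CC_subtype]
    exact ⟨fun e => e.2, fun e => ⟨x.2, e⟩⟩
  have f1 : ∀ v ∈ V, ∃ e ∈ V ⊓ L.map K.subtype, v * e ∈ CC(L.map K.subtype) := fun v hv => by
    obtain ⟨e, he, h4⟩ := l.inn ⟨v, hK hv⟩ hv
    exact ⟨e, ⟨he.1, mem_map_of_mem _ he.2⟩, cc.1 h4⟩
  refine h.no_comp f1 ?_ ?_ ?_ fun g => ?_
  · rintro _ ⟨ha, a, ha', rfl⟩ a1 _ ⟨hb, b, hb', rfl⟩ b1
    obtain ⟨n, hn', e⟩ := l.tr a ⟨ha, ha'⟩ (fun e => a1 (by simp [e])) b ⟨hb, hb'⟩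
      (fun e => b1 (by simp [e]))
    refine ⟨n, mem_map_of_mem _ hn'.1, h.nk hT n.2 (mem_NN_of_conj_mem fun v hv => ?_),
      congrArg Subtype.val e⟩
    obtain ⟨_, ⟨hc, c, hc', rfl⟩, h4⟩ := f1 v hv
    have h5 : ((n * c⁻¹ * n⁻¹ : K) : G) ∈ V :=
      (conj_mem_of_mem_NN hn'.2 (inv_mem (show c ∈ V.subgroupOf K ⊓ L from ⟨hc, hc'⟩))).1
    have h6 := mem_CC.1 h4 n (mem_map_of_mem _ hn'.1)
    convert V.mul_mem (V.mul_mem hv hc) h5 using 1
    simp only [coe_subtype, coe_mul, coe_inv] at h6 ⊢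
    calc (n : G) * v * (n : G)⁻¹ = n * (v * c) * ((c : G)⁻¹ * (n : G)⁻¹) := by group
      _ = _ := by rw [h6]; group
  · have := l.four
    rwa [← card_map_subtype, map_inf _ _ _ K.subtype_injective, map_subgroupOf_of_le hK] at this
  · refine eq_bot_iff.2 ?_
    rintro _ ⟨⟨x, hx, rfl⟩, h4⟩
    rw [show x = 1 from (ss.inf_CC hL).le ⟨hx, cc.2 h4⟩]; exact one_mem _
  · by_cases e : cj g (L.map K.subtype) = L.map K.subtype
    · exact Or.inl e
    · exact Or.inr (comm_eq_bot.1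
        ((hM.cj_of_mem (le_NN_of_normal ⊤ K (mem_top g))).commutator_eq_bot hM e))

end H20L4
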