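import Cfsg.Agent.S5626
import Cfsg.Agent.Lead.St10
import Cfsg.Agent.H22.Linear

/-! Groups of collineations of a projective plane of order four. -/

set_option autoImplicit false
set_option linter.unusedSectionVars false

namespace H20L4
open Cfsg Equiv MulAction Projectivization
open scoped LinearAlgebra.Projectivization Matrix Pointwise

section blk
variable {α Λ : Type*} [Fintype α] [DecidableEq α]

/-- the blocks of an incidence relation -/
def blk (I : α → Λ → Prop) : Set (Finset α) := {b | ∃ l, ∀ p, p ∈ b ↔ I p l}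

theorem steiner {I : α → Λ → Prop} (h5 : ∀ l, {p | I p l}.ncard = 5)
    (hex : ∀ p q, p ≠ q → ∃ l, I p l ∧ I q l)
    (hun : ∀ p q l l', p ≠ q → I p l → I q l → I p l' → I q l' → ∀ r, I r l → I r l') :
    IsSteinerSystem 2 5 (blk I) := by
  classical
  refine ⟨?_, fun s hs => ?_⟩
  · rintro b ⟨l, hl⟩
    rw [← h5 l, ← Set.ncard_coe_finset]
    congr 1; ext p; simpa using hl p
  · obtain ⟨p, q, hpq, rfl⟩ := Finset.card_eq_two.1 hs
    obtain ⟨l, h1, h2⟩ := hex p q hpq
    refine ⟨Finset.univ.filter (I · l), ⟨⟨l, by simp⟩, by simp [Finset.insert_subset_iff, h1, h2]⟩, ?_⟩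
    rintro b ⟨⟨l', hl⟩, h3⟩
    have h4 := (hl p).1 (h3 (by simp))
    have h6 := (hl q).1 (h3 (by simp))
    ext r
    simp only [hl, Finset.mem_filter, Finset.mem_univ, true_and]
    exact ⟨hun p q l' l hpq h4 h6 h1 h2 r, hun p q l l' hpq h1 h2 h4 h6 r⟩

theorem mem_aut_blk {I : α → Λ → Prop} {σ : Perm α} (h : ∀ l, ∃ l', ∀ p, I (σ p) l' ↔ I p l) :
    σ ∈ setSystemAut (blk I) := Lead.St.mem_aut_of (by
  rintro b ⟨l, hl⟩
  obtain ⟨l', h'⟩ := h l
  refine ⟨l', fun p => ?_⟩
  rw [← Finset.inv_smul_mem_iff, hl, ← h']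
  simp)

theorem card_aut_le (hα : Fintype.card α = 21) {L : Set (Finset α)} (hL : IsSteinerSystem 2 5 L) :
    Nat.card (setSystemAut L) ≤ 120960 := by
  obtain ⟨H, hH⟩ : {S | Lead.St.Arc L 6 S}.Nonempty :=
    Set.nonempty_of_ncard_ne_zero (by rw [Lead.St.ncard_arc6 hα hL]; norm_num)
  let A := setSystemAut L ⊓ stabilizer (Perm α) H
  have c := H27.card_eq_orbit_mul (setSystemAut L) H
  have d : (orbit (setSystemAut L) H).ncard ≤ 168 := by
    rw [← Lead.St.ncard_arc6 hα hL]
    refine Set.ncard_le_ncard ?_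
    rintro _ ⟨g, rfl⟩
    refine ⟨(Finset.card_smul_finset _ _).trans hH.1, fun l hl => ?_⟩
    have := hH.2 _ (Lead.St.smul_mem_of_aut (inv_mem g.2) hl)
    rwa [← Finset.card_smul_finset (g : Perm α), Finset.smul_finset_inter, smul_inv_smul] at this
  let f : A → Perm H := fun g => g.1.subtypePerm fun p => by
    conv_lhs => rw [← show g.1 • H = H from g.2.2]
    exact Finset.smul_mem_smul_finset_iff g.1
  have fi : Function.Injective f := fun g g' e => Subtype.ext (by
    refine (inv_mul_eq_one.1 (Lead.St.hyper_rigid hα hL hH (mul_mem (inv_mem g'.2.1) g.2.1)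
      fun p hp => ?_)).symm
    have := congrArg Subtype.val (DFunLike.congr_fun e ⟨p, hp⟩)
    exact Perm.inv_eq_iff_eq.2 this)
  have a := Nat.card_le_card_of_injective f fi
  rw [Nat.card_perm, Nat.card_eq_fintype_card (α := H), Fintype.card_coe, hH.1] at a
  change _ = _ * Nat.card A at c
  rw [c]
  exact (Nat.mul_le_mul d a).trans (by norm_num [Nat.factorial])

end blk

section std
variable {F : Type*} [Field F] [Fintype F]

theorem ker_gl : (toPermHom (GL (Fin 3) F) (ℙ F (Fin 3 → F))).ker = Subgroup.center (GL (Fin 3) F) := by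
  ext m
  simp only [MonoidHom.mem_ker, toPermHom_apply, Perm.one_def, DFunLike.ext_iff, toPerm_apply,
    Equiv.refl_apply, Matrix.GeneralLinearGroup.center_eq_range_scalar]
  refine ⟨fun hm => ?_, ?_⟩
  · obtain ⟨a, ha⟩ := (Matrix.toLin' m.1).exists_eq_smul_id_of_forall_notLinearIndependent fun v => by
      by_cases hv : v = 0
      · simp [hv, linearIndependent_fin2]
      · simpa [LinearIndependent.pair_iff' hv, mk_eq_mk_iff'] using! hm (.mk F v hv)
    have h1 : m.1 = Matrix.scalar _ a := by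
      rw [← LinearMap.toMatrix'_toLin' m.1, ha]; exact LinearMap.toMatrix'_algebraMap a
    have h2 : a ≠ 0 := fun e => by
      have := m.det_ne_zero
      rw [h1, e] at this; simp at this
    exact ⟨Units.mk0 a h2, Units.ext h1.symm⟩
  · rintro ⟨u, rfl⟩ l
    induction l using Projectivization.ind with | _ v hv =>
    simp only [smul_mk, mk_eq_mk_iff]
    exact ⟨u, by simp [Units.smul_def]⟩

/-- incidence in the Desarguesian plane -/
def I0 (p l : ℙ F (Fin 3 → F)) : Prop := p.orthogonal l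

variable (hF : Fintype.card F = 4)
include hF

theorem card_pp : Nat.card (ℙ F (Fin 3 → F)) = 21 := by
  rw [Projectivization.card'', Nat.card_fun, Nat.card_eq_fintype_card (α := F), hF]; simp

theorem ncard_I0 (l : ℙ F (Fin 3 → F)) : {p | I0 p l}.ncard = 5 := by
  classical
  have := Fintype.ofFinite (ℙ F (Fin 3 → F))
  have h1 := Configuration.ProjectivePlane.card_points (ℙ F (Fin 3 → F)) (ℙ F (Fin 3 → F))
  have h2 := Configuration.ProjectivePlane.pointCount_eq (ℙ F (Fin 3 → F)) l
  rw [← Nat.card_eq_fintype_card, card_pp hF] at h1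
  have h3 : Configuration.ProjectivePlane.order (ℙ F (Fin 3 → F)) (ℙ F (Fin 3 → F)) = 4 := by
    generalize Configuration.ProjectivePlane.order (ℙ F (Fin 3 → F)) (ℙ F (Fin 3 → F)) = n at h1
    nlinarith
  rw [h3] at h2
  rw [← Nat.card_coe_set_eq]
  exact h2

theorem steiner0 [Fintype (ℙ F (Fin 3 → F))] [DecidableEq (ℙ F (Fin 3 → F))] :
    IsSteinerSystem 2 5 (blk (I0 (F := F))) := by
  classical
  refine steiner (ncard_I0 hF) (fun p q h => ⟨p.cross q, orthogonal_cross_left h,
    orthogonal_cross_right h⟩) fun p q l l' h h1 h2 h3 h4 r h5 => ?_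
  rwa [← (Configuration.ofField.eq_or_eq_of_orthogonal h1 h2 h3 h4).resolve_left h]

theorem card_range : Nat.card (toPermHom (GL (Fin 3) F) (ℙ F (Fin 3 → F))).range = 60480 := by
  have h1 := Subgroup.card_eq_card_quotient_mul_card_subgroup (Subgroup.center (GL (Fin 3) F))
  have h2 : Nat.card (Subgroup.center (GL (Fin 3) F)) = 3 := by
    rw [Matrix.GeneralLinearGroup.center_eq_range_scalar, ← Nat.card_congr (MonoidHom.ofInjective
      (fun a b e => Units.ext (by simpa using congrArg (fun m : GL (Fin 3) F => m.1 0 0) e))).toEquiv,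
      H22.card_units_field, hF]
  rw [Matrix.card_GL_field, h2, hF, Fin.prod_univ_three] at h1
  rw [← Nat.card_congr (QuotientGroup.quotientKerEquivRange _).toEquiv, ker_gl]
  norm_num [-Nat.card_eq_fintype_card] at h1
  omega

theorem exists_frob [Fintype (ℙ F (Fin 3 → F))] [DecidableEq (ℙ F (Fin 3 → F))] :
    ∃ φ ∈ setSystemAut (blk (I0 (F := F))), ∀ (g : GL (Fin 3) F) (l : ℙ F (Fin 3 → F)),
      ¬ ∀ p, I0 p l → g • φ p = p := by
  haveI : Fact (Nat.Prime 2) := ⟨Nat.prime_two⟩
  haveI : CharP F 2 := charP_of_card_eq_prime_pow (f := 2) (by rw [hF]; rfl)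
  have h4 : ∀ x : F, (x ^ 2) ^ 2 = x := fun x => by
    rw [← pow_mul]; simpa [hF] using FiniteField.pow_card x
  let f : (Fin 3 → F) →ₛₗ[frobenius F 2] (Fin 3 → F) :=
    { toFun := fun v i => v i ^ 2
      map_add' := fun v w => funext fun i => add_pow_char _ _ _
      map_smul' := fun a v => funext fun i => by simp [frobenius_def, mul_pow] }
  have hf : ∀ v i, f v i = v i ^ 2 := fun _ _ => rfl
  have ff : ∀ v, f (f v) = v := fun v => funext fun i => h4 _
  have fi : Function.Injective f := Function.LeftInverse.injective ff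
  have inv : Function.Involutive (Projectivization.map f fi) := fun p => by
    induction p using Projectivization.ind with | _ v hv => simp only [map_mk, ff]
  refine ⟨inv.toPerm, mem_aut_blk fun l => ⟨Projectivization.map f fi l, fun p => ?_⟩, fun g l hl => ?_⟩
  · induction p using Projectivization.ind with | _ v hv =>
    induction l using Projectivization.ind with | _ c hc =>
    simp only [Function.Involutive.coe_toPerm, map_mk, I0, orthogonal_mk]
    have : f v ⬝ᵥ f c = (v ⬝ᵥ c) ^ 2 := by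
      simp only [dotProduct, hf, Fin.sum_univ_three, add_pow_char, mul_pow]
    rw [this, pow_eq_zero_iff two_ne_zero]
  · obtain ⟨p, hp, q, hq, hpq⟩ := (Set.one_lt_ncard (Set.toFinite _)).1
      (by rw [ncard_I0 hF l]; norm_num : 1 < {p | I0 p l}.ncard)
    have li := LinearIndependent.pair_iff.1 (linearIndependent_pair_iff_ne.2 hpq)
    rw [← mk_rep p] at hp
    rw [← mk_rep q] at hq
    induction l using Projectivization.ind with | _ c hc =>
    simp only [Set.mem_setOf_eq, I0, orthogonal_mk] at hp hq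
    have hu := p.rep_nonzero
    generalize p.rep = u at li hp hu
    generalize q.rep = v at li hq
    have key : ∀ s t : F, s ≠ 0 ∨ t ≠ 0 → ∃ a : F, a • (s • u + t • v) =
        s ^ 2 • (g • f u) + t ^ 2 • (g • f v) := fun s t hst => by
      have h0 : s • u + t • v ≠ 0 := fun e => by
        obtain ⟨h1, h2⟩ := li s t e
        exact hst.elim (· h1) (· h2)
      have h1 := hl (mk F _ h0) (by simp [I0, orthogonal_mk, hp, hq])
      rw [Function.Involutive.coe_toPerm, map_mk, smul_mk, mk_eq_mk_iff'] at h1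
      obtain ⟨a, ha⟩ := h1
      refine ⟨a, ha.trans ?_⟩
      rw [map_add, map_smulₛₗ, map_smulₛₗ, smul_add, smul_comm g, smul_comm g]; rfl
    obtain ⟨a, ha⟩ := key 1 0 (by simp)
    obtain ⟨b, hb⟩ := key 0 1 (by simp)
    obtain ⟨d, hd⟩ := key 1 1 (by simp)
    obtain ⟨ω, h0, h1⟩ : ∃ ω : F, ω ≠ 0 ∧ ω ≠ 1 := by
      classical
      by_contra! e
      have : (Finset.univ : Finset F) ⊆ {0, 1} := fun x _ => by
        by_cases hx : x = 0 <;> simp [hx, e x]
      have h2 := (Finset.card_le_card this).trans Finset.card_le_two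
      rw [Finset.card_univ, hF] at h2; omega
    obtain ⟨e, he⟩ := key 1 ω (by simp)
    simp only [one_smul, zero_smul, add_zero, zero_add, one_pow, ne_eq, OfNat.ofNat_ne_zero,
      not_false_eq_true, zero_pow] at ha hb hd he
    rw [← ha, ← hb] at hd he
    obtain ⟨k1, k2⟩ := li (d - a) (d - b) (by linear_combination (norm := module) hd)
    obtain ⟨k3, k4⟩ := li (e - a) (e * ω - ω ^ 2 * b) (by linear_combination (norm := module) he)
    have a0 : a ≠ 0 := fun e0 => by
      rw [e0, zero_smul, eq_comm, smul_eq_zero_iff_eq] at ha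
      exact hu (fi (by rw [ha, map_zero]))
    have : a * (ω * (1 - ω)) = 0 := by linear_combination k4 - ω * k3 + ω ^ 2 * (k1 - k2)
    simp [a0, h0, sub_eq_zero, h1.symm] at this

theorem std_sub [Fintype (ℙ F (Fin 3 → F))] [DecidableEq (ℙ F (Fin 3 → F))] {σ : Perm (ℙ F (Fin 3 → F))}
    (hσ : σ ∈ setSystemAut (blk (I0 (F := F)))) :
    σ * σ ∈ (toPermHom (GL (Fin 3) F) (ℙ F (Fin 3 → F))).range ∧
      ((∃ l, ∀ p, I0 p l → σ p = p) → σ ∈ (toPermHom (GL (Fin 3) F) (ℙ F (Fin 3 → F))).range) := by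
  set R := (toPermHom (GL (Fin 3) F) (ℙ F (Fin 3 → F))).range with hR
  set Γ := setSystemAut (blk (I0 (F := F)))
  have hle : R ≤ Γ := by
    rintro _ ⟨g, rfl⟩
    refine mem_aut_blk fun l => ?_
    induction l using Projectivization.ind with | _ c hc =>
    have k : ∀ v, (g • v) ⬝ᵥ (c ᵥ* (g⁻¹).1) = v ⬝ᵥ c := fun v => by
      rw [dotProduct_comm, dotProduct_comm v]
      show _ ⬝ᵥ (g.1 *ᵥ v) = _
      rw [Matrix.dotProduct_mulVec, Matrix.vecMul_vecMul]; simp
    refine ⟨mk F (c ᵥ* (g⁻¹).1) fun e => hc ?_, fun p => ?_⟩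
    · have := congrArg (· ᵥ* g.1) e
      simpa [Matrix.vecMul_vecMul] using this
    · induction p using Projectivization.ind with | _ v hv =>
      simp only [toPermHom_apply, toPerm_apply, smul_mk, I0, orthogonal_mk, k]
  obtain ⟨φ, hφ, h1⟩ := exists_frob hF
  have h2 : φ ∉ R := by
    rintro ⟨g, e⟩
    exact h1 g⁻¹ (mk F 1 one_ne_zero) fun p _ => by rw [← e]; simp
  have h3 := Subgroup.card_mul_index (R.subgroupOf Γ)
  rw [Nat.card_congr (Subgroup.subgroupOfEquivOfLe hle).toEquiv, hR, card_range hF, ← hR] at h3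
  have h4 := card_aut_le (by rw [← Nat.card_eq_fintype_card, card_pp hF]) (steiner0 hF)
  have h5 : (R.subgroupOf Γ).index ≠ 1 := fun e =>
    h2 (Subgroup.subgroupOf_eq_top.1 (Subgroup.index_eq_one.1 e) hφ)
  have h6 : (R.subgroupOf Γ).index ≠ 0 := Subgroup.index_ne_zero_of_finite
  have h7 : (R.subgroupOf Γ).index = 2 := by
    change Nat.card Γ ≤ _ at h4
    omega
  refine ⟨Subgroup.mul_self_mem_of_index_two h7 ⟨σ, hσ⟩, fun ⟨l, hl⟩ => by_contra fun hn => ?_⟩
  obtain ⟨g, e⟩ : σ * φ⁻¹ ∈ R := (Subgroup.mul_mem_iff_of_index_two h7 (a := ⟨σ, hσ⟩)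
    (b := ⟨φ, hφ⟩⁻¹)).2 (iff_of_false hn fun e => h2 ((R.subgroupOf Γ).inv_mem_iff.1 e))
  refine h1 g l fun p hp => ?_
  rw [← hl p hp]
  conv_lhs => rw [hl p hp]
  exact (DFunLike.congr_fun e (φ p)).trans (by simp)

/-- embedding a group of collineations of a plane of order four -/
theorem embed {G α Λ : Type*} [Group G] [Finite α] [MulAction G α] (I : α → Λ → Prop)
    (hα : Nat.card α = 21) (h5 : ∀ l, {p | I p l}.ncard = 5)
    (hex : ∀ p q, p ≠ q → ∃ l, I p l ∧ I q l)
    (hun : ∀ p q l l', p ≠ q → I p l → I q l → I p l' → I q l' → ∀ r, I r l → I r l')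
    (hact : ∀ (g : G) l, ∃ l', ∀ p, I (g • p) l' ↔ I p l) (hf : ∀ g : G, (∀ p : α, g • p = p) → g = 1)
    (hgen : ∀ H : Subgroup G, (∀ g, g * g ∈ H) →
      (∀ g, (∃ l, ∀ p, I p l → g • p = p) → g ∈ H) → H = ⊤) :
    ∃ f : G →* GL (Fin 3) F ⧸ Subgroup.center (GL (Fin 3) F), Function.Injective f := by
  classical
  have := Fintype.ofFinite α
  have := Fintype.ofFinite (ℙ F (Fin 3 → F))
  obtain ⟨e, he⟩ := Cfsg.Agent.S5626.result (by rwa [← Nat.card_eq_fintype_card])
    (by rw [← Nat.card_eq_fintype_card, card_pp hF]) (steiner h5 hex hun) (steiner0 hF)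
  let ψ : G →* Perm (ℙ F (Fin 3 → F)) := e.permCongrHom.toMonoidHom.comp (toPermHom G α)
  have hψ : ∀ g p, ψ g (e p) = e (g • p) := fun g p => by simp [ψ]
  have h1 : ∀ g, ψ g ∈ setSystemAut (blk (I0 (F := F))) := fun g => Lead.St.mem_aut_of (by
    rw [← he]
    rintro _ ⟨b, hb, rfl⟩
    refine ⟨_, Lead.St.smul_mem_of_aut (mem_aut_blk (σ := toPermHom G α g) (hact g)) hb, ?_⟩
    simp only [Finset.smul_finset_def, Finset.image_image]
    congr 1
    exact funext fun p => (hψ g p).symm)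
  have h2 := hgen ((toPermHom (GL (Fin 3) F) (ℙ F (Fin 3 → F))).range.comap ψ)
    (fun g => by rw [Subgroup.mem_comap, map_mul]; exact (std_sub hF (h1 g)).1)
    fun g ⟨l, hl⟩ => (std_sub hF (h1 g)).2 (by
      obtain ⟨l', h3⟩ : (Finset.univ.filter (I · l)).image e ∈ blk (I0 (F := F)) :=
        he ▸ Set.mem_image_of_mem _ ⟨l, by simp⟩
      refine ⟨l', fun p hp => ?_⟩
      obtain ⟨q, hq, rfl⟩ := Finset.mem_image.1 ((h3 p).2 hp)
      rw [hψ, hl q (by simpa using hq)])
  let E := (QuotientGroup.quotientKerEquivRange (toPermHom (GL (Fin 3) F) (ℙ F (Fin 3 → F)))).symm.trans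
    (QuotientGroup.quotientMulEquivOfEq ker_gl)
  refine ⟨E.toMonoidHom.comp (ψ.codRestrict _ fun g => h2.ge (Subgroup.mem_top g)),
    E.injective.comp ((injective_iff_map_eq_one _).2 fun g hg => hf g fun p => e.injective ?_)⟩
  rw [← hψ, show ψ g = 1 from congrArg Subtype.val hg]; rfl

end std
end H20L4
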