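import Cfsg.Agent.H20.L4b
import Cfsg.Agent.H20.L4c
import Cfsg.Agent.S0051
import Cfsg.Agent.H9.Blackburn

/-! Groups with Sylow `2`-subgroups as in the linear group of degree three over four elements:
the affine case. -/

set_option autoImplicit false
set_option linter.unusedSectionVars false

namespace H20L4
open Subgroup Cfsg H10
open GW (C1 mem_C1)
open H6 (ord2_of ord2_mul_self ord2_ne_one ord2_inv ord2_conj)
open H1.CIT (le_or_le cj_C1 cm_surj mem_of_sq_of_odd Pt pt_cj)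

theorem ncard_bip {α β : Type*} [Finite α] [Finite β] (s : Set α) (t : Set β) (r : α → β → Prop)
    {m n : ℕ} (hm : ∀ a ∈ s, {b | b ∈ t ∧ r a b}.ncard = m)
    (hn : ∀ b ∈ t, {a | a ∈ s ∧ r a b}.ncard = n) : s.ncard * m = t.ncard * n := by
  classical
  rw [Set.ncard_eq_toFinset_card s, Set.ncard_eq_toFinset_card t]
  refine Finset.card_mul_eq_card_mul r (fun a ha => ?_) fun b hb => ?_
  · rw [← hm a (by simpa using ha), ← Set.ncard_coe_finset]
    congr 1; ext b; simp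
  · rw [← hn b (by simpa using hb), ← Set.ncard_coe_finset]
    congr 1; ext a; simp

universe u
variable {G : Type u} [Group G] [Finite G] {V A : Subgroup G}

theorem ncard_ne_one (Y : Subgroup G) : {y | y ∈ Y ∧ y ≠ 1}.ncard + 1 = Nat.card Y := by
  rw [← Set.ncard_insert_of_notMem (a := (1 : G)) (by simp), ← Nat.card_coe_set_eq]
  refine Nat.card_congr (Equiv.subtypeEquivRight fun y => ?_)
  by_cases h : y = 1 <;> simp [h]

theorem spread_card {p : Subgroup G → Prop} (hV : Nat.card V = 16) (h1 : ∀ Y, p Y → Y ≤ V)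
    (h2 : ∀ Y, p Y → Nat.card Y = 4) (h3 : ∀ Y Y' y, p Y → p Y' → y ∈ Y → y ∈ Y' → y ≠ 1 → Y = Y')
    (h4 : ∀ v ∈ V, ∃ Y, p Y ∧ v ∈ Y) : {Y | p Y}.ncard = 5 := by
  have := ncard_bip {y | y ∈ V ∧ y ≠ 1} {Y | p Y} (fun y Y => y ∈ Y) (m := 1) (n := 3)
    (fun v hv => by
      obtain ⟨Y, hY⟩ := h4 v hv.1
      exact Set.ncard_eq_one.2 ⟨Y, Set.eq_singleton_iff_unique_mem.2
        ⟨hY, fun Y' h' => h3 _ _ v h'.1 hY.1 h'.2 hY.2 hv.2⟩⟩)
    fun Y hY => by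
      have h5 := ncard_ne_one Y
      rw [h2 Y hY] at h5
      rw [← Nat.succ_inj.1 h5]
      congr 1; ext y
      exact ⟨fun e => ⟨e.2, e.1.2⟩, fun e => ⟨⟨h1 Y hY e.1, e.2⟩, e.1⟩⟩
  have h5 := ncard_ne_one V
  omega

/-- conjugation action on a family of subgroups -/
@[reducible] def cjAct (p : Subgroup G → Prop) (hp : ∀ g X, p X → p (cj g X)) :
    MulAction G {X // p X} where
  smul g X := ⟨cj g X, hp g X X.2⟩
  one_smul X := Subtype.ext (cj_one X.1)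
  mul_smul g k X := Subtype.ext (cj_mul g k X.1)

theorem top_of_syl {S H : Subgroup G} (hS : IsSylowIn 2 S ⊤) (h1 : ∀ g, g * g ∈ H) (h2 : S ≤ H) :
    H = ⊤ := eq_top_iff.2 (hS.le_of_resOf_le (resOf_le_iff.2 fun x _ hx =>
      mem_of_sq_of_odd (Nat.coprime_two_right.1 hx) (h1 x)) h2)

/-- embeddability in the projective linear group -/
def Emb (G F : Type*) [Group G] [Field F] : Prop :=
  ∃ f : G →* GL (Fin 3) F ⧸ center (GL (Fin 3) F), Function.Injective f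

/-- the spread defined by a complement -/
def Sp (V A U Y : Subgroup G) : Prop := Y = V ⊓ A ∨ ∃ a ∈ A, Y = cj a U

/-- incidence in the completed affine plane -/
def IA (K V : Subgroup G) (p : Subgroup G → Prop) :
    (G ⧸ K) ⊕ {Y // p Y} → Option (V × {Y // p Y}) → Prop
  | .inl q, some (x, Y) => ∃ y ∈ Y.1, q = ((x * y : G) : G ⧸ K)
  | .inr Z, some (_, Y) => Z = Y
  | .inl _, none => False
  | .inr _, none => True

theorem L0.elab (h : L0 V A) : IsElementaryAbelian 2 V :=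
  ⟨isMulCommutative_iff_le_CC.2 h.ab, fun v hv => by rw [sq, h.sv v hv]⟩

theorem IsSylowIn.cop {S : Subgroup G} (hS : IsSylowIn 2 S ⊤) : Nat.Coprime 2 S.index :=
  (Nat.Prime.coprime_iff_not_dvd Nat.prime_two).2 (by simpa using hS.not_dvd_relIndex)

theorem Lo.CV (h : Lo V A) [V.Normal] (hO : pPrimeCore 2 G = ⊥) : CC(V) ≤ V := by
  have h1 : (V ⊔ A) ⊓ CC(V) = V := le_antisymm (fun x hx => by_contra fun hV =>
    h.nle fun v hv => ((h.fixR hx.1 hV).le ⟨hv, mem_C1.2 (mem_CC.1 hx.2 v hv)⟩).2) (le_inf le_sup_left h.ab)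
  have h2 := h.syl.inf_normal le_top (le_NN_of_normal ⊤ CC(V))
  rw [h1] at h2
  have h3 : Nat.Coprime 2 (V.subgroupOf CC(V)).index :=
    (Nat.Prime.coprime_iff_not_dvd Nat.prime_two).2 h2.not_dvd_relIndex
  obtain ⟨X, hX⟩ := exists_right_complement'_of_coprime (N := V.subgroupOf CC(V))
    (by rw [card_subgroupOf_of_le h.ab, h.cV]; exact h3.pow_left 4)
  have k4 : CC(V) = V ⊔ X.map CC(V).subtype := by
    have := congrArg (map CC(V).subtype) hX.sup_eq_top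
    rwa [Subgroup.map_sup, map_subgroupOf_of_le h.ab, map_top_subtype, eq_comm] at this
  have k5 : X.map CC(V).subtype ≤ ⊥ := (H5.le_oppOf (map_subtype_le X) (k4.le.trans (sup_le
    ((le_CC_symm (map_subtype_le X)).trans (CC_le_NN _)) (le_NN_self _)))
    (by rw [card_map_subtype, ← hX.symm.index_eq_card]; exact h3.symm)).trans
    (((H5.SN.of_normal le_top (le_NN_of_normal _ _)).oppOf_le 2).trans (by rw [H5.oppOf_top, hO]))
  exact k4.le.trans (sup_le le_rfl (k5.trans bot_le))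

variable {F : Type*} [Field F] [Fintype F] (hF : Fintype.card F = 4)
include hF

theorem Lo.affine (h : Lo V A) [V.Normal] (hO : pPrimeCore 2 G = ⊥) {U : Subgroup G} (hU : U ≤ V)
    (hc : Nat.card U = 4) (hb : (V ⊓ A) ⊓ U = ⊥)
    (hinv : ∀ g Y, Sp V A U Y → Sp V A U (cj g Y)) : Emb G F := by
  have s1 : ∀ Y, Sp V A U Y → Y ≤ V := by
    rintro _ (rfl | ⟨a, ha, rfl⟩)
    exacts [inf_le_left, cj_le_of_mem_NN (h.nV ha) hU]
  have s2 : ∀ Y, Sp V A U Y → Nat.card Y = 4 := by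
    rintro _ (rfl | ⟨a, ha, rfl⟩)
    exacts [h.cW, (card_cj a U).trans hc]
  have s0 : ∀ a ∈ A, ∀ y ∈ V ⊓ A, y ∈ cj a U → y = 1 := fun a ha y hy e => by
    rw [mem_cj, mul_assoc, h.symm.comm hy.2 ha, inv_mul_cancel_left] at e
    exact hb.le ⟨hy, e⟩
  have s3 : ∀ Y Y' y, Sp V A U Y → Sp V A U Y' → y ∈ Y → y ∈ Y' → y ≠ 1 → Y = Y' := by
    rintro _ _ y (rfl | ⟨a, ha, rfl⟩) (rfl | ⟨b, hb', rfl⟩) h1 h2 y1
    · rfl
    · exact absurd (s0 b hb' y h1 h2) y1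
    · exact absurd (s0 a ha y h2 h1) y1
    · have h3 : b⁻¹ * a ∈ V := h.move hU hb (mul_mem (inv_mem hb') ha) (mem_cj.1 h1)
        (fun e => y1 (by simpa [mul_assoc, mul_eq_one_iff_eq_inv, inv_mul_eq_one] using e)) (by
          simpa [mul_assoc] using mem_cj.1 h2)
      have h4 : cj (b⁻¹ * a) U = U := cj_eq_of_mem_NN (CC_le_NN _ (CC_anti hU (h.ab h3)))
      conv_rhs => rw [← h4, ← cj_mul, mul_inv_cancel_left]
  have s4 : ∀ v ∈ V, ∃ Y, Sp V A U Y ∧ v ∈ Y := fun v hv => by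
    by_cases hA : v ∈ A
    · exact ⟨_, Or.inl rfl, hv, hA⟩
    · obtain ⟨a, ha, e⟩ := h.cover hU hc hb hv hA
      exact ⟨_, Or.inr ⟨a, ha, rfl⟩, e⟩
  have s5 : Nat.card {Y // Sp V A U Y} = 5 := by
    rw [← spread_card h.cV s1 s2 s3 s4, ← Nat.card_coe_set_eq]; rfl
  obtain ⟨B, hB, b1, b2⟩ := H9.exists_compl_of_elementary h.symm.elab (inf_le_right : V ⊓ A ≤ A)
  haveI := h.elab.1
  obtain ⟨K, hK⟩ := Cfsg.Agent.S0051.result V (V ⊔ A) le_sup_left
    (by rw [h.cV]; exact (IsSylowIn.cop h.syl).pow_left 4) B (hB.trans le_sup_right)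
    (eq_bot_iff.2 fun x hx => b1.le ⟨⟨hx.2, hB hx.1⟩, hx.1⟩)
    (le_antisymm (sup_le_sup_left hB _) (sup_le le_sup_left
      (b2.ge.trans (sup_le_sup_right inf_le_left _))))
  have dec : ∀ g : G, ∃ v ∈ V, ∃ k ∈ K, v * k = g := fun g =>
    (mem_sup_of_NN' (le_NN_of_normal _ _)).1 (hK.sup_eq_top.ge (mem_top g))
  have inj : ∀ {x y : G}, x ∈ V → y ∈ V → (x : G ⧸ K) = y → x = y := fun hx hy e =>
    inv_mul_eq_one.1 (hK.disjoint.le_bot ⟨V.mul_mem (V.inv_mem hx) hy, QuotientGroup.eq.1 e⟩)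
  have sur : ∀ q : G ⧸ K, ∃ x ∈ V, q = x := fun q => by
    obtain ⟨g, rfl⟩ := QuotientGroup.mk_surjective q
    obtain ⟨v, hv, k, hk, rfl⟩ := dec g
    exact ⟨v, hv, QuotientGroup.mk_mul_of_mem v hk⟩
  letI := cjAct _ hinv
  have sm : ∀ (g : G) (Y : {Y // Sp V A U Y}), (g • Y).1 = cj g Y := fun _ _ => rfl
  refine embed hF (IA K V (Sp V A U)) ?_ ?_ ?_ ?_ ?_ ?_ ?_
  · rw [Nat.card_sum, s5, ← index_eq_card, hK.index_eq_card, h.cV]
  · rintro (_ | ⟨x, Y⟩)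
    · rw [show {p | IA K V (Sp V A U) p none} = Set.range Sum.inr by ext (_ | _) <;> simp [IA],
        Set.ncard_range_of_injective Sum.inr_injective, s5]
    · rw [show {p | IA K V (Sp V A U) p (some (x, Y))} = insert (Sum.inr Y)
        ((fun y : G => Sum.inl ((x * y : G) : G ⧸ K)) '' Y.1) by
          ext (_ | _) <;> simp [IA, eq_comm], Set.ncard_insert_of_notMem (by simp),
        Set.InjOn.ncard_image (fun y hy z hz e => mul_left_cancel (inj
          (mul_mem x.2 (s1 _ Y.2 hy)) (mul_mem x.2 (s1 _ Y.2 hz)) (Sum.inl_injective e))),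
        ← Nat.card_coe_set_eq]
      exact congrArg (· + 1) (s2 _ Y.2)
  · rintro (p | Y) (q | Z) hne
    · obtain ⟨x, hx, rfl⟩ := sur p
      obtain ⟨y, hy, rfl⟩ := sur q
      obtain ⟨Y, hY, e⟩ := s4 _ (mul_mem (inv_mem hx) hy)
      exact ⟨some (⟨x, hx⟩, ⟨Y, hY⟩), ⟨1, one_mem _, by simp⟩, _, e, by simp⟩
    · obtain ⟨x, hx, rfl⟩ := sur p
      exact ⟨some (⟨x, hx⟩, Z), ⟨1, one_mem _, by simp⟩, rfl⟩
    · obtain ⟨x, hx, rfl⟩ := sur q
      exact ⟨some (⟨x, hx⟩, Y), rfl, ⟨1, one_mem _, by simp⟩⟩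
    · exact ⟨none, trivial, trivial⟩
  · have key : ∀ (x x' : V) (Y : {Y // Sp V A U Y}) (p : G ⧸ K),
        IA K V (Sp V A U) (.inl p) (some (x, Y)) → IA K V (Sp V A U) (.inl p) (some (x', Y)) →
        ∀ r, IA K V (Sp V A U) r (some (x, Y)) → IA K V (Sp V A U) r (some (x', Y)) := by
      rintro x x' Y p ⟨y, hy, rfl⟩ ⟨y', hy', e⟩ (r | r) hr
      · obtain ⟨z, hz, rfl⟩ := hr
        have e' := inj (mul_mem x.2 (s1 _ Y.2 hy)) (mul_mem x'.2 (s1 _ Y.2 hy')) e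
        refine ⟨y' * y⁻¹ * z, mul_mem (mul_mem hy' (inv_mem hy)) hz, ?_⟩
        rw [← mul_assoc, ← mul_assoc, ← e', mul_inv_cancel_right]
      · exact hr
    rintro (p | p) (q | q) (_ | ⟨x, Y⟩) (_ | ⟨x', Y'⟩) hne h1 h2 h3 h4 r hr
    all_goals first | exact hr | exact h1.elim | exact h2.elim | exact h3.elim | exact h4.elim | skip
    · obtain ⟨y, hy, e1⟩ := id h1
      obtain ⟨z, hz, e2⟩ := id h2
      obtain ⟨y', hy', e3⟩ := id h3
      obtain ⟨z', hz', e4⟩ := id h4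
      have e5 := inj (mul_mem x.2 (s1 _ Y.2 hy)) (mul_mem x'.2 (s1 _ Y'.2 hy')) (e1.symm.trans e3)
      have e6 := inj (mul_mem x.2 (s1 _ Y.2 hz)) (mul_mem x'.2 (s1 _ Y'.2 hz')) (e2.symm.trans e4)
      have e7 : y⁻¹ * z = y'⁻¹ * z' := by
        calc y⁻¹ * z = ((x : G) * y)⁻¹ * (x * z) := by group
          _ = _ := by rw [e5, e6]; group
      obtain rfl : Y = Y' := Subtype.ext (s3 _ _ _ Y.2 Y'.2 (mul_mem (inv_mem hy) hz)
        (e7 ▸ mul_mem (inv_mem hy') hz') fun e => hne (by rw [e1, e2, inv_mul_eq_one.1 e]))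
      exact key _ _ _ _ h1 h3 r hr
    · obtain rfl : Y = Y' := h2.symm.trans h4
      exact key _ _ _ _ h1 h3 r hr
    · obtain rfl : Y = Y' := h1.symm.trans h3
      exact key _ _ _ _ h2 h4 r hr
    · exact absurd (congrArg Sum.inr (h3.trans h4.symm)) hne
    · exact absurd (congrArg Sum.inr (h1.trans h2.symm)) hne
    · exact absurd (congrArg Sum.inr (h1.trans h2.symm)) hne
  · rintro g (_ | ⟨x, Y⟩)
    · exact ⟨none, by rintro (_ | _) <;> rfl⟩
    · obtain ⟨v, hv, e⟩ := sur g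
      have k : ∀ y ∈ Y.1, g • ((x * y : G) : G ⧸ K) = (g * x * g⁻¹ * v * (g * y * g⁻¹) : G) := fun y hy => by
        rw [mul_assoc _ v, h.comm hv (‹V.Normal›.conj_mem _ (s1 _ Y.2 hy) g), ← mul_assoc]
        calc g • ((x * y : G) : G ⧸ K) = (g * x * g⁻¹ * (g * y * g⁻¹)) • (g : G ⧸ K) := by
              simp [mul_assoc]
          _ = _ := by rw [e]; rfl
      refine ⟨some (⟨g * x * g⁻¹ * v, mul_mem (‹V.Normal›.conj_mem _ x.2 g) hv⟩, g • Y), ?_⟩
      rintro (p | Z)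
      · refine ⟨fun ⟨y, hy, e'⟩ => ?_, fun ⟨y, hy, e'⟩ => ⟨_, conj_mem_cj hy, ?_⟩⟩
        · obtain ⟨z, hz, rfl⟩ := mem_cj'.1 hy
          exact ⟨z, hz, smul_left_cancel g (e'.trans (k z hz).symm)⟩
        · rw [e']; exact k y hy
      · exact smul_left_cancel_iff g
  · intro g hg
    have h1 : g ∈ K := by
      have := QuotientGroup.eq.1 (Sum.inl_injective (hg (.inl ((1 : G) : G ⧸ K))))
      simpa using this
    have h2 : g ∈ CC(V) := mem_CC.2 fun v hv => by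
      have h3 : ((g * v * g⁻¹ : G) : G ⧸ K) = v :=
        (QuotientGroup.mk_mul_of_mem _ (inv_mem h1)).trans (Sum.inl_injective (hg (.inl (v : G ⧸ K))))
      rw [← mul_inv_eq_iff_eq_mul.1 (inj (‹V.Normal›.conj_mem v hv g) hv h3)]
    exact hK.disjoint.le_bot ⟨h.CV hO h2, h1⟩
  · intro H h1 h2
    have h3 : V ≤ H := fun v hv => h2 v ⟨none, by
      rintro (p | Z) hp
      · exact hp.elim
      · exact congrArg Sum.inr (Subtype.ext (cj_eq_of_mem_NN (CC_le_NN _ (CC_anti (s1 _ Z.2) (h.ab hv)))))⟩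
    refine top_of_syl h.syl h1 (sup_le h3 fun a ha => ?_)
    obtain ⟨v, hv, k, hk, rfl⟩ := dec a
    have h4 : k ∈ CC((V ⊓ A : Subgroup G)) := h.R_le_CW
      ((mul_mem_cancel_left (mem_sup_left hv)).1 (mem_sup_right ha))
    refine mul_mem (h3 hv) (h2 k ⟨some (1, ⟨_, Or.inl rfl⟩), ?_⟩)
    rintro (p | Z) hp
    · obtain ⟨y, hy, rfl⟩ := hp
      refine congrArg Sum.inl ?_
      simp only [OneMemClass.coe_one, one_mul, MulAction.Quotient.smul_coe, smul_eq_mul]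
      rw [← mem_CC.1 h4 y hy]
      exact QuotientGroup.mk_mul_of_mem y hk
    · obtain rfl : Z = _ := hp
      exact congrArg Sum.inr (Subtype.ext (cj_eq_of_mem_NN (CC_le_NN _ h4)))

theorem Lo.emb_a (h : Lo V A) [V.Normal] [A.Normal] (hO : pPrimeCore 2 G = ⊥) : Emb G F := by
  obtain ⟨k, hk⟩ := h.pgR.exists_card_eq
  obtain ⟨X, hX⟩ := exists_right_complement'_of_coprime (N := V ⊔ A)
    (by rw [hk]; exact (IsSylowIn.cop h.syl).pow_left k)
  obtain ⟨U, hU, h1, h2, h3⟩ := H9.maschke_elementary (A := X) h.elab (le_NN_of_normal _ _)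
    (by rw [← hX.symm.index_eq_card]; exact (IsSylowIn.cop h.syl).symm) (inf_le_left : V ⊓ A ≤ V)
    (le_NN_of_normal _ _)
  have h4 := H1.card_sup_of_disjoint (inf_le_left.trans (h.ab.trans ((CC_anti hU).trans (CC_le_NN _)))) h2
  rw [h3, h.cV, h.cW] at h4
  refine h.affine hF hO hU (by omega) h2 ?_
  rintro g _ (rfl | ⟨a, ha, rfl⟩)
  · exact Or.inl (cj_eq_of_normal g _)
  · obtain ⟨s, hs, x, hx, e⟩ := (mem_sup_of_NN' (le_NN_of_normal _ _)).1 (hX.sup_eq_top.ge (mem_top (g * a)))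
    obtain ⟨v, hv, b, hb, rfl⟩ := h.mem_R hs
    refine Or.inr ⟨b, hb, ?_⟩
    rw [← cj_mul, ← e, cj_mul, cj_mul, cj_eq_of_mem_NN (h1 hx), cj_eq_of_mem_NN
      (CC_le_NN _ (CC_anti (cj_le_of_mem_NN (h.nV hb) hU) (h.ab hv)))]

theorem Lo.emb_b (h : Lo V A) [V.Normal] (hO : pPrimeCore 2 G = ⊥) {n : G}
    (hn : n ∉ NN((V ⊓ A : Subgroup G))) : Emb G F := by
  have hN : ∀ g, g ∈ NN(V) := fun g => le_NN_of_normal ⊤ V (mem_top g)
  have hb := h.ti' (hN n) hn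
  have k : ∀ g, Sp V A (V ⊓ cj n A) (cj g (V ⊓ A)) := fun g => by
    rw [L0.cjW (hN g)]
    by_cases e : V ⊓ cj g A = V ⊓ A
    · exact Or.inl e
    · obtain ⟨a, ha, e'⟩ := h.trans (h.conj' (hN n)) hb (h.conj' (hN g)) e
      exact Or.inr ⟨a, ha, e'.symm⟩
  refine h.affine hF hO inf_le_left (h.conj' (hN n)).cW hb ?_
  rintro g _ (rfl | ⟨a, ha, rfl⟩)
  · exact k g
  · have := k (g * a * n)
    rwa [cj_mul, cj_mul, L0.cjW (hN n)] at this

end H20L4
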