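import Cfsg.Agent.H20.L4d
import Cfsg.Agent.H10.SG4
import Cfsg.Agent.S0205

/-! Groups with Sylow `2`-subgroups as in the linear group of degree three over four elements:
the projective case. -/

set_option autoImplicit false
set_option linter.unusedSectionVars false

namespace H20L4
open Subgroup Cfsg H10
open GW (C1 mem_C1)
open H6 (ord2_of ord2_mul_self ord2_ne_one ord2_inv ord2_conj)
open H1.CIT (le_or_le cj_C1 cm_surj mem_of_sq_of_odd Pt pt_cj eq_one_of_pg)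

theorem five_fix {H Ω : Type*} [Group H] [Finite H] [MulAction H Ω] [MulAction.IsPretransitive H Ω]
    (hΩ : Nat.card Ω = 5) (ho : Odd (Nat.card H)) {d : H} {x : Ω} (hd : d • x = x) (y : Ω) :
    d • y = y := by
  haveI : Finite Ω := Nat.finite_of_card_ne_zero (by omega)
  haveI : Fact (Nat.Prime 3) := ⟨Nat.prime_three⟩
  let φ := MulAction.toPermHom H Ω
  haveI : MulAction.IsPretransitive φ.range Ω := ⟨fun a b => by
    obtain ⟨g, hg⟩ := MulAction.exists_smul_eq H a b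
    exact ⟨⟨φ g, g, rfl⟩, hg⟩⟩
  have h1 := card_subgroup_dvd_card φ.range
  rw [Nat.card_perm, hΩ] at h1
  have h2 : Odd (Nat.card φ.range) := ho.of_dvd_nat (card_range_dvd φ)
  have h3 := MulAction.index_stabilizer_of_transitive φ.range x
  have h4 := (MulAction.stabilizer φ.range x).card_mul_index
  rw [hΩ] at h3
  rw [h3] at h4
  rw [← h4] at h1 h2
  have h5 : IsPGroup 3 (MulAction.stabilizer φ.range x) := by
    have h6 : Nat.card (MulAction.stabilizer φ.range x) ∣ 24 :=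
      Nat.dvd_of_mul_dvd_mul_right (by norm_num : 0 < 5) h1
    have h7 := (Nat.odd_mul.1 h2).1
    have h8 := Nat.le_of_dvd (by norm_num) h6
    have : Nat.card (MulAction.stabilizer φ.range x) = 3 ^ 0 ∨
        Nat.card (MulAction.stabilizer φ.range x) = 3 ^ 1 := by
      rw [Nat.odd_iff] at h7
      exact (by decide : ∀ n ≤ 24, n ∣ 24 → n % 2 = 1 → n = 3 ^ 0 ∨ n = 3 ^ 1) _ h8 h6 h7
    exact this.elim IsPGroup.of_card IsPGroup.of_card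
  let P := h5.toSylow (by rw [h3]; norm_num)
  have h6 : Nat.card (Sylow 3 φ.range) ∣ 5 := h3 ▸ P.card_dvd_index
  have h7 := card_sylow_modEq_one 3 φ.range
  haveI : Subsingleton (Sylow 3 φ.range) := (Nat.card_eq_one_iff_unique.1
    (((Nat.dvd_prime Nat.prime_five).1 h6).resolve_right fun e => by rw [e] at h7; revert h7; decide)).1
  have h8 : (MulAction.stabilizer φ.range x).Normal := P.normal_of_subsingleton
  obtain ⟨e, rfl⟩ := MulAction.exists_smul_eq φ.range x y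
  have h9 := h8.conj_mem' ⟨φ d, d, rfl⟩ hd e
  rw [MulAction.mem_stabilizer_iff, mul_smul, mul_smul, inv_smul_eq_iff] at h9
  exact h9

universe u
variable {G : Type u} [Group G] [Finite G] {V A : Subgroup G}

namespace Lo
variable (h : Lo V A)
include h

theorem sub {T : Subgroup G} (hT : V ⊔ A ≤ T) : Lo (V.subgroupOf T) (A.subgroupOf T) :=
  ⟨h.toL0.sub hT, by
    rw [← subgroupOf_sup (le_sup_left.trans hT) (le_sup_right.trans hT)]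
    exact isSylowIn_subgroupOf_top (h.syl.of_le hT le_top)⟩

theorem core_inj : ∀ x ∈ V ⊔ A, QuotientGroup.mk' (pPrimeCore 2 G) x = 1 → x = 1 := fun x hx e =>
  eq_one_of_pg h.pgR hx (H6.odd_orderOf_of_odd_card
    (Nat.coprime_two_right.1 (H1.coprime_card_pPrimeCore 2)) ((QuotientGroup.eq_one_iff x).1 e))

theorem quot : Lo (V.map (QuotientGroup.mk' (pPrimeCore 2 G))) (A.map (QuotientGroup.mk' (pPrimeCore 2 G))) :=
  ⟨h.toL0.map _ h.core_inj, by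
    rw [← Subgroup.map_sup]; exact h.syl.map_top (QuotientGroup.mk'_surjective _)⟩

theorem cen_le {w : G} (hw : w ∈ V ⊓ A) (w1 : w ≠ 1) (hc : ∀ g, g * w * g⁻¹ = w) :
    NN(V) ≤ NN((V ⊓ A : Subgroup G)) := fun g hg => by_contra fun e =>
  w1 ((h.ti' hg e).le ⟨hw, hw.1, hc g ▸ conj_mem_cj hw.2⟩)

theorem cen_normal (hO : pPrimeCore 2 G = ⊥) {w : G} (hw : w ∈ V ⊓ A) (w1 : w ≠ 1)
    (hc : ∀ g, g * w * g⁻¹ = w) : (V ⊔ A).Normal := by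
  haveI := h.normal hO (inf_comm A V ▸ h.symm.cen_le hw.symm w1 hc)
  haveI := h.symm.normal hO (inf_comm V A ▸ h.cen_le hw w1 hc)
  infer_instance

theorem solv {w : G} (hw : w ∈ V ⊓ A) (w1 : w ≠ 1) (hc : ∀ g, g * w * g⁻¹ = w) :
    Group.IsSolvable G := by
  have h' := h.quot
  haveI := h'.cen_normal (H1.pPrimeCore_quotient_pPrimeCore 2)
    ⟨mem_map_of_mem _ hw.1, mem_map_of_mem _ hw.2⟩ (fun e => w1 (h.core_inj w (mem_sup_left hw.1) e))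
    fun g => by
      obtain ⟨g, rfl⟩ := QuotientGroup.mk'_surjective _ g
      rw [← map_inv, ← map_mul, ← map_mul, hc]
  exact (Group.isSolvable_iff_subgroup_quotient (pPrimeCore 2 G)).2 ⟨Cfsg.Agent.S0205.result
    (Nat.coprime_two_right.1 (H1.coprime_card_pPrimeCore 2)),
    (Group.isSolvable_iff_subgroup_quotient _).2 ⟨H10.isSolvable_of_isPGroup h'.pgR,
      Cfsg.Agent.S0205.result (Nat.coprime_two_left.1 (IsSylowIn.cop h'.syl))⟩⟩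

variable (mv : ∃ g ∈ NN(V), g ∉ NN((V ⊓ A : Subgroup G)))
  (ma : ∃ g ∈ NN(A), g ∉ NN((A ⊓ V : Subgroup G)))
include mv

theorem conj1 {a b : G} (ha : a ∈ A) (hQ : a ∉ V) (hb : b ∈ A) (hQ' : b ∉ V) : IsConj a b := by
  obtain ⟨g, hg, e⟩ := mv
  have h' := h.conj' hg
  have e := h.ti' hg e
  obtain ⟨c, hc, hcV⟩ := h'.exA
  exact (H6.isConj_of_odd (h.sa a ha) (h'.sa c hc) (h.odd_mul h' e ha hQ hc hcV)).trans
    (H6.isConj_of_odd (h.sa b hb) (h'.sa c hc) (h.odd_mul h' e hb hQ' hc hcV)).symm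

include ma

theorem conjA {a b : G} (ha : a ∈ A) (h1 : a ≠ 1) (hb : b ∈ A) (h2 : b ≠ 1) : IsConj a b := by
  have k : ∀ {a : G}, a ∈ A → a ≠ 1 → ∃ b ∈ A, b ∉ V ∧ IsConj a b := fun {a} ha h1 => by
    by_cases hV : a ∈ V
    · obtain ⟨g, hg, e⟩ := ma
      refine ⟨g⁻¹ * a * g, conj_mem_of_mem_NN' hg ha, fun e' => h1 ((h.symm.ti' hg e).le
        ⟨⟨ha, hV⟩, ha, mem_cj.2 e'⟩), isConj_iff.2 ⟨g⁻¹, by simp⟩⟩
    · exact ⟨a, ha, hV, IsConj.refl a⟩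
  obtain ⟨c, hc, hcV, e⟩ := k ha h1
  obtain ⟨d, hd, hdV, e'⟩ := k hb h2
  exact (e.trans (h.conj1 mv hc hcV hd hdV)).trans e'.symm

theorem conjG {w t : G} (hw : w ∈ V ⊓ A) (h1 : w ≠ 1) (ht : orderOf t = 2) : IsConj w t := by
  obtain ⟨g, -, hg⟩ := h.syl.exists_cj_le (GW.isPGroup_zp2 ht) le_top
  have h2 := ord2_conj ht g
  refine IsConj.trans ?_ (isConj_iff.2 ⟨g, rfl⟩).symm
  exact (h.inv_mem (hg (conj_mem_cj (mem_zpowers t))) (ord2_mul_self h2)).elim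
    (fun e => h.symm.conjA ma mv hw.1 h1 e (ord2_ne_one h2))
    (fun e => h.conjA mv ma hw.2 h1 e (ord2_ne_one h2))

theorem c2 (hO : pPrimeCore 2 G = ⊥) {w : G} (hw : w ∈ V ⊓ A) (w1 : w ≠ 1) :
    C1 w ≤ NN((V ⊔ A : Subgroup G)) := by
  have hT := h.le_C1 hw
  have h' := h.sub hT
  have h1 : (⟨w, hT (mem_sup_left hw.1)⟩ : C1 w) ∈ V.subgroupOf (C1 w) ⊓ A.subgroupOf (C1 w) := hw
  have h2 : (⟨w, hT (mem_sup_left hw.1)⟩ : C1 w) ≠ 1 := fun e => w1 (congrArg Subtype.val e)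
  have h3 : ∀ g : C1 w, g * ⟨w, hT (mem_sup_left hw.1)⟩ * g⁻¹ = ⟨w, hT (mem_sup_left hw.1)⟩ :=
    fun g => Subtype.ext (GW.mem_C1'.1 g.2)
  have h4 := Sg.core_eq_bot hO (fun t ht => H5.plOf_eq_bot_of_solvable (by
      obtain ⟨g, rfl⟩ := isConj_iff.1 (h.conjG mv ma hw w1 ht)
      haveI := h'.solv h1 h2 h3
      rw [← cj_centralizer_singleton]
      exact Group.isSolvable_of_surjective (f := (cjEquiv g (C1 w)).toMonoidHom) (cjEquiv g _).surjective))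
    (Sg.h8_of_normal h.syl ⟨h.elab, by rw [h.cV]; norm_num⟩ h.R_le_NV)
    (ord2_of (h.sv w hw.1) w1)
  have h5 := h'.cen_normal ((map_eq_bot_iff_of_injective _ (subtype_injective _)).1 h4) h1 h2 h3
  rw [← subgroupOf_sup (le_sup_left.trans hT) (le_sup_right.trans hT)] at h5
  exact le_NN_of_normal_subgroupOf hT h5

end Lo

/-- the projective plane configuration -/
structure Pl (V A : Subgroup G) : Prop where
  lo : Lo V A
  mv : ∃ g ∈ NN(V), g ∉ NN((V ⊓ A : Subgroup G))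
  ma : ∃ g ∈ NN(A), g ∉ NN((A ⊓ V : Subgroup G))
  hO : pPrimeCore 2 G = ⊥

theorem Pt.iff (g : G) {P : Subgroup G} : Pt (cj g V) P ↔ Pt V P :=
  ⟨fun ⟨k, e⟩ => ⟨k * g, by rw [cj_mul, e]⟩, fun ⟨k, e⟩ => ⟨k * g⁻¹, by rw [cj_mul, cj_inv_cj, e]⟩⟩

namespace Pl
variable (h : Pl V A)
include h

theorem symm : Pl A V := ⟨h.lo.symm, h.ma, h.mv, h.hO⟩

theorem conj (g : G) : Pl (cj g V) (cj g A) := by
  have k : ∀ {V A : Subgroup G}, (∃ g ∈ NN(V), g ∉ NN((V ⊓ A : Subgroup G))) →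
      ∃ x ∈ NN(cj g V), x ∉ NN((cj g V ⊓ cj g A : Subgroup G)) := fun ⟨x, h1, h2⟩ =>
    ⟨g * x * g⁻¹, by rwa [← cj_normalizer, conj_mem_cj_iff],
      by rwa [← cj_inf, ← cj_normalizer, conj_mem_cj_iff]⟩
  exact ⟨h.lo.conj g, k h.mv, k h.ma, h.hO⟩

theorem le_R {w : G} (hw : w ∈ V ⊓ A) (h1 : w ≠ 1) {X : Subgroup G} (hX : IsPGroup 2 X)
    (h2 : X ≤ C1 w) : X ≤ V ⊔ A :=
  h.lo.syl.le_of_le_NN hX le_top (h2.trans (h.lo.c2 h.mv h.ma h.hO hw h1))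

theorem mem_VA {w t : G} (hw : w ∈ V ⊓ A) (h1 : w ≠ 1) (ht : t * t = 1) (h2 : t ∈ C1 w) :
    t ∈ V ∨ t ∈ A :=
  h.lo.inv_mem (h.le_R hw h1 (H6.isPGroup_zpowers_ord2 ht) (zpowers_le.2 h2) (mem_zpowers t)) ht

theorem exists_flag {t : G} (ht : orderOf t = 2) : ∃ g, t ∈ cj g V ⊓ cj g A := by
  obtain ⟨w, hw, w1⟩ := h.lo.exW
  obtain ⟨k, rfl⟩ := isConj_iff.1 (h.lo.conjG h.mv h.ma hw w1 ht)
  exact ⟨k, conj_mem_cj hw.1, conj_mem_cj hw.2⟩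

theorem pt_sq {P : Subgroup G} (hP : Pt V P) {t : G} (ht : t ∈ P) : t * t = 1 := by
  obtain ⟨g, rfl⟩ := hP; exact (h.lo.conj g).sv t ht

theorem pt_aux {P : Subgroup G} (hP : Pt V P) {t k : G} (ht : t ∈ P) (t1 : t ≠ 1)
    (hk : t ∈ cj k V ⊓ cj k A) : P = cj k V := by
  obtain ⟨g, rfl⟩ := hP
  have h1 : cj g V ≤ cj k V ⊔ cj k A := (h.conj k).le_R hk t1 (h.lo.conj g).pg
    fun x hx => mem_C1.2 ((h.lo.conj g).comm hx ht)
  refine ((h.lo.conj k).elab_eq h1 (h.lo.conj g).sv (h.lo.conj g).cV).resolve_right fun e => ?_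
  exact h.lo.not_cj (k⁻¹ * g) (by rw [cj_mul, e, cj_inv_cj])

theorem pt_eq {P P' : Subgroup G} (hP : Pt V P) (hP' : Pt V P') {t : G} (ht : t ∈ P) (ht' : t ∈ P')
    (t1 : t ≠ 1) : P = P' := by
  obtain ⟨k, hk⟩ := h.exists_flag (ord2_of (h.pt_sq hP ht) t1)
  rw [h.pt_aux hP ht t1 hk, h.pt_aux hP' ht' t1 hk]

theorem flag' {P L : Subgroup G} (hP : Pt V P) (hL : Pt A L) (hne : P ⊓ L ≠ ⊥) : Pl P L := by
  obtain ⟨t, ht, t1⟩ := (bot_or_exists_ne_one _).resolve_left hne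
  obtain ⟨k, hk⟩ := h.exists_flag (ord2_of (h.pt_sq hP ht.1) t1)
  rw [h.pt_aux hP ht.1 t1 hk, h.symm.pt_aux hL ht.2 t1 hk.symm]
  exact h.conj k

theorem mem_of_norm {P : Subgroup G} (hP : Pt V P) {t : G} (ht : orderOf t = 2) (hn : t ∈ NN(P)) :
    t ∈ P ∨ ∃ L, Pt A L ∧ P ⊓ L ≠ ⊥ ∧ t ∈ L := by
  obtain ⟨g, rfl⟩ := hP
  have h' := h.conj g
  obtain ⟨u, hu, u1⟩ := (bot_or_exists_ne_one _).resolve_left (inf_CC_ne_bot' h'.lo.pg
    (GW.isPGroup_zp2 ht) (zpowers_le.2 hn) h'.lo.V_ne)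
  obtain ⟨k, hk⟩ := h.exists_flag (ord2_of (h'.lo.sv u hu.1) u1)
  rw [h.pt_aux (pt_cj V g) hu.1 u1 hk]
  exact ((h.conj k).mem_VA hk u1 (ord2_mul_self ht) (mem_C1.2 (mem_CC.1 hu.2 t (mem_zpowers t)))).imp_right
    fun e' => ⟨_, pt_cj A k, (h.lo.conj k).W_ne, e'⟩

theorem uniq {P P' L L' : Subgroup G} (hP : Pt V P) (hP' : Pt V P') (hL : Pt A L) (hL' : Pt A L')
    (h1 : P ⊓ L ≠ ⊥) (h2 : P' ⊓ L ≠ ⊥) (h3 : P ⊓ L' ≠ ⊥) (h4 : P' ⊓ L' ≠ ⊥) (hn : P ≠ P') :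
    L = L' := by
  by_contra hne
  obtain ⟨b, hb, b1⟩ := (bot_or_exists_ne_one _).resolve_left h2
  obtain ⟨a, ha, a1⟩ := (bot_or_exists_ne_one _).resolve_left h3
  have f1 := (h.flag' hP hL h1).lo
  have f2 := (h.flag' hP' hL' h4).lo
  refine hn (h.pt_eq hP hP' (f1.cm_mem ha.1 hb.2).1 (f2.symm.cm_mem ha.2 hb.1).2 fun e => ?_)
  refine hne (h.symm.pt_eq hL hL' (f1.mem_of_comm ha.1 hb.2
    (fun e' => hn (h.pt_eq hP hP' e' hb.1 b1)) ?_) ha.2 a1)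
  rw [inv_mul_eq_one, eq_mul_inv_iff_mul_eq] at e
  exact e

theorem five : {L | Pt A L ∧ V ⊓ L ≠ ⊥}.ncard = 5 := by
  have := ncard_bip {y | y ∈ V ∧ y ≠ 1} {L | Pt A L ∧ V ⊓ L ≠ ⊥} (fun y L => y ∈ L) (m := 1) (n := 3)
    (fun v hv => by
      obtain ⟨k, hk⟩ := h.exists_flag (ord2_of (h.lo.sv v hv.1) hv.2)
      exact Set.ncard_eq_one.2 ⟨cj k A, Set.eq_singleton_iff_unique_mem.2
        ⟨⟨⟨pt_cj A k, fun e => hv.2 (e.le ⟨hv.1, hk.2⟩)⟩, hk.2⟩,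
          fun L h' => h.symm.pt_eq h'.1.1 (pt_cj A k) h'.2 hk.2 hv.2⟩⟩)
    fun L hL => by
      have h5 := ncard_ne_one (V ⊓ L)
      rw [(h.flag' (.refl V) hL.1 hL.2).lo.cW] at h5
      rw [← Nat.succ_inj.1 h5]
      congr 1; ext y
      exact ⟨fun e => ⟨⟨e.1.1, e.2⟩, e.1.2⟩, fun e => ⟨⟨e.1.1, e.2⟩, e.1.2⟩⟩
  have h5 := ncard_ne_one V
  rw [h.lo.cV] at h5
  omega

/-- an involution does not invert an element of odd order with even centralizer -/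
theorem no_inv {c d t : G} (c2 : c * c = 1) (ho : Odd (orderOf d)) (e : c * d * c⁻¹ = d⁻¹)
    (ht : orderOf t = 2) (hc : t ∈ C1 d) : d = 1 := by
  have h1 : zpowers c ≤ NN(C1 d) := zpowers_le.2 (by
    rw [mem_NN, cj_C1, e]; ext x; simp only [mem_C1]
    exact ⟨fun k => (Commute.inv_right_iff.1 k).eq, fun k => (Commute.inv_right_iff.2 k).eq⟩)
  obtain ⟨T, hT, h2⟩ := exists_isSylowIn_ge (H6.isPGroup_zpowers_ord2 c2)
    (le_sup_left : zpowers c ≤ zpowers c ⊔ C1 d)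
  have h3 := hT.inf_normal le_sup_right (sup_le h1 (le_NN_self _))
  obtain ⟨u, hu, ou⟩ := exists_orderOf_eq_of_ne_bot (h3.isPGroup.to_le inf_le_left)
    (inf_CC_ne_bot' h3.isPGroup (H6.isPGroup_zpowers_ord2 c2)
      (le_NN_inf (h2.trans (le_NN_self T)) h1) (h3.ne_bot (H6.even_card_of_ord2_mem hc ht).two_dvd))
  obtain ⟨k, hk⟩ := h.exists_flag ou
  have h' := h.conj k
  have h4 : c ∈ cj k V ⊔ cj k A := h'.le_R hk (ord2_ne_one ou) (H6.isPGroup_zpowers_ord2 c2)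
    (zpowers_le.2 (mem_C1.2 (mem_CC.1 hu.2 c (mem_zpowers c)))) (mem_zpowers c)
  have h5 := h'.lo.c2 h'.mv h'.ma h.hO hk (ord2_ne_one ou) (GW.mem_C1_comm.1 hu.1.2)
  have h6 := mul_mem (conj_mem_of_mem_NN h5 h4) (inv_mem h4)
  refine eq_one_of_pg h'.lo.pgR (mem_of_sq_of_odd ho ?_) ho
  convert h6 using 1
  calc d * d = d * (c * d * c⁻¹)⁻¹ := by rw [e, inv_inv]
    _ = _ := by group

theorem coll {P : Subgroup G} (hP : Pt V P) (hne : P ≠ V) :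
    ∃ L, Pt A L ∧ V ⊓ L ≠ ⊥ ∧ P ⊓ L ≠ ⊥ := by
  by_contra hn
  have hn' : ∀ L, Pt A L → V ⊓ L ≠ ⊥ → P ⊓ L ≠ ⊥ → False := fun L a b c => hn ⟨L, a, b, c⟩
  have nb : ∀ {X Y : Subgroup G} {t : G}, t ∈ X → t ∈ Y → t ≠ 1 → X ⊓ Y ≠ ⊥ :=
    fun a b c e => c (e.le ⟨a, b⟩)
  have sw : ∀ a ∈ V, a ≠ 1 → ∀ b ∈ P, b ≠ 1 →
      ∃ c, c * c = 1 ∧ c * a * c⁻¹ = b ∧ cj c V = P ∧ cj c P = V := by
    intro a ha a1 b hb b1
    have ho : Odd (orderOf (a * b)) := by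
      refine Nat.not_even_iff_odd.1 fun he => ?_
      obtain ⟨ou, h1, h2⟩ := H6.exists_central_inv (h.lo.sv a ha) (h.pt_sq hP hb) he
      obtain ⟨k, hk⟩ := h.exists_flag ou
      have w := (h.lo.conj k).W_ne
      rcases (h.conj k).mem_VA hk (ord2_ne_one ou) (h.lo.sv a ha) (mem_C1.2 h1.symm.eq) with e | e <;>
      rcases (h.conj k).mem_VA hk (ord2_ne_one ou) (h.pt_sq hP hb) (mem_C1.2 h2.symm.eq) with e' | e'
      · exact hne ((h.pt_eq hP (pt_cj V k) hb e' b1).trans (h.pt_eq (pt_cj V k) (.refl V) e ha a1))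
      · exact hn' _ (pt_cj A k) (by rwa [h.pt_eq (.refl V) (pt_cj V k) ha e a1]) (nb hb e' b1)
      · exact hn' _ (pt_cj A k) (nb ha e a1) (by rwa [h.pt_eq hP (pt_cj V k) hb e' b1])
      · exact hn' _ (pt_cj A k) (nb ha e a1) (nb hb e' b1)
    obtain ⟨c, c2, e, -⟩ := H1.CIT.Pl.exists_swap (h.lo.sv a ha) (h.pt_sq hP hb) ho
    have e1 : cj c V = P := h.pt_eq (pt_cj V c) hP (e ▸ conj_mem_cj ha) hb b1
    exact ⟨c, c2, e, e1, by rw [← e1, ← cj_mul, c2, cj_one]⟩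
  have hD : Odd (Nat.card (NN(V) ⊓ NN(P) : Subgroup G)) := H6.odd_card_iff.2 fun d hd od => by
    have d1 := ord2_ne_one od
    rcases h.mem_of_norm (.refl V) od hd.1 with e | ⟨L, hL, e1, e⟩ <;>
    rcases h.mem_of_norm hP od hd.2 with e' | ⟨L', hL', e1', e'⟩
    · exact hne (h.pt_eq hP (.refl V) e' e d1)
    · exact hn' _ hL' (nb e e' d1) e1'
    · exact hn' _ hL e1 (nb e' e d1)
    · exact hn' _ hL e1 (by rwa [h.symm.pt_eq hL hL' e e' d1])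
  obtain ⟨b, hb, b1⟩ : ∃ b ∈ P, b ≠ 1 := by
    obtain ⟨g, rfl⟩ := hP
    exact (bot_or_exists_ne_one _).resolve_left (h.lo.conj g).V_ne
  obtain ⟨w, hw, w1⟩ := h.lo.exW
  have htr : ∀ v ∈ V, v ≠ 1 → ∃ d ∈ NN(V) ⊓ NN(P), d * w * d⁻¹ = v ∧
      ∃ c, c * c = 1 ∧ c * d * c⁻¹ = d⁻¹ := by
    intro v hv v1
    obtain ⟨c, c2, e, e1, e2⟩ := sw w hw.1 w1 b hb b1
    obtain ⟨c', c2', e', e1', e2'⟩ := sw v hv v1 b hb b1
    refine ⟨c'⁻¹ * c, ⟨mem_NN.2 ?_, mem_NN.2 ?_⟩, ?_, c, c2, H6.inv_conj_mul' (by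
      rw [← mul_inv_rev, c2', inv_one]) c2⟩
    · rw [cj_mul, e1, ← e1', cj_inv_cj]
    · rw [cj_mul, e2, ← e2', cj_inv_cj]
    · calc c'⁻¹ * c * w * (c'⁻¹ * c)⁻¹ = c'⁻¹ * (c * w * c⁻¹) * c' := by group
        _ = v := by rw [e, ← e']; group
  obtain ⟨w', hw', w1', ww⟩ := h.lo.exists_third w
  obtain ⟨d, hd, e, c, c2, hc⟩ := htr w' hw'.1 w1'
  have hdA : cj d A = A := h.symm.pt_eq (pt_cj A d) (.refl A) (e ▸ conj_mem_cj hw.2) hw'.2 w1'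
  have key : ∀ y ∈ NN(V), cj d (cj y A) = cj y A := fun y hy => by
    letI : MulAction (NN(V) ⊓ NN(P) : Subgroup G) {L // Pt A L ∧ V ⊓ L ≠ ⊥} :=
      { smul := fun g L => ⟨cj g L, L.2.1.conj g, by
          rw [← L0.cjW g.2.1]; exact fun e => L.2.2 (cj_eq_bot.1 e)⟩
        one_smul := fun X => Subtype.ext (cj_one X.1)
        mul_smul := fun g k X => Subtype.ext (cj_mul (g : G) k X.1) }
    haveI := (MulAction.isPretransitive_iff_base (G := (NN(V) ⊓ NN(P) : Subgroup G))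
      (⟨A, .refl A, h.lo.W_ne⟩ : {L // Pt A L ∧ V ⊓ L ≠ ⊥})).2 fun L => by
        obtain ⟨v, hv, v1⟩ := (bot_or_exists_ne_one _).resolve_left L.2.2
        obtain ⟨f, hf, rfl, -⟩ := htr v hv.1 v1
        exact ⟨⟨f, hf⟩, Subtype.ext (h.symm.pt_eq (pt_cj A f) L.2.1 (conj_mem_cj hw.2) hv.2 v1)⟩
    exact congrArg Subtype.val (five_fix (by rw [← h.five, ← Nat.card_coe_set_eq]; rfl) hD
      (d := ⟨d, hd⟩) (x := (⟨A, .refl A, h.lo.W_ne⟩ : {L // Pt A L ∧ V ⊓ L ≠ ⊥})) (Subtype.ext hdA)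
      ⟨cj y A, pt_cj A y, (h.lo.conj' hy).W_ne⟩)
  obtain ⟨a, ha, haV⟩ := h.lo.exA
  obtain ⟨g, hg, hb⟩ := h.mv
  have hb := h.lo.ti' hg hb
  have h1 : a⁻¹ * (d * a * d⁻¹) ∈ A := mul_mem (inv_mem ha) (conj_mem_of_mem_NN (mem_NN.2 hdA) ha)
  have h2 : a⁻¹ * (d * a * d⁻¹) ∈ V := by
    obtain ⟨u, hu, u1⟩ := (h.lo.conj' hg).exW
    refine h.lo.move inf_le_left hb h1 hu u1
      (conj_mem_of_mem_NN (mem_NN_inf (h.lo.nV h1) (mem_NN.2 ?_)) hu)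
    rw [cj_mul, cj_mul, cj_mul, cj_eq_of_mem_NN (inv_mem (mem_NN.2 (key g hg))), ← cj_mul a,
      key _ (mul_mem (h.lo.nV ha) hg), cj_mul, cj_inv_cj]
  obtain ⟨t, ot, ht⟩ : ∃ t, orderOf t = 2 ∧ t ∈ C1 d := by
    rcases bot_or_exists_ne_one ((V ⊓ A) ⊓ C1 d) with h3 | ⟨t, ht, t1⟩
    · have hdW := mem_NN_inf hd.1 (mem_NN.2 hdA)
      obtain ⟨z, hz, h4⟩ := cm_surj (V := V ⊓ A) (U := V ⊓ A)
        (inf_le_left.trans (h.lo.ab.trans (CC_anti inf_le_left))) hdW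
        (fun v hv => mul_mem (inv_mem hv) (conj_mem_of_mem_NN hdW hv)) (by simp [h3]) ⟨h2, h1⟩
      refine ⟨a * z⁻¹, ord2_of (h.lo.sa _ (A.mul_mem ha (A.inv_mem hz.2)))
        fun e => haV (mul_inv_eq_one.1 e ▸ hz.1), GW.mem_C1_comm.1 (GW.mem_C1'.2 ?_)⟩
      calc d * (a * z⁻¹) * d⁻¹ = a * (a⁻¹ * (d * a * d⁻¹)) * (d * z * d⁻¹)⁻¹ := by group
        _ = _ := by rw [← h4]; group
    · exact ⟨t, ord2_of (h.lo.sv t ht.1.1) t1, ht.2⟩
  have := h.no_inv c2 (H6.odd_orderOf_of_odd_card hD hd) hc ot ht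
  exact ww (by rw [← e, this]; simp)

theorem five' {L : Subgroup G} (hL : Pt A L) : {P | Pt V P ∧ P ⊓ L ≠ ⊥}.ncard = 5 := by
  obtain ⟨g, rfl⟩ := hL
  rw [← (h.conj g).symm.five]
  simp only [Pt.iff, inf_comm]

theorem coll' {P Q : Subgroup G} (hP : Pt V P) (hQ : Pt V Q) (hne : P ≠ Q) :
    ∃ L, Pt A L ∧ P ⊓ L ≠ ⊥ ∧ Q ⊓ L ≠ ⊥ := by
  obtain ⟨g, rfl⟩ := hP
  simpa only [Pt.iff] using (h.conj g).coll ((Pt.iff g).2 hQ) hne.symm

theorem card21 : {P | Pt V P}.ncard = 21 := by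
  have := ncard_bip {P | Pt V P ∧ P ≠ V} {L | Pt A L ∧ V ⊓ L ≠ ⊥} (fun P L => P ⊓ L ≠ ⊥)
    (m := 1) (n := 4) (fun P hP => by
      obtain ⟨L, h1, h2, h3⟩ := h.coll hP.1 hP.2
      exact Set.ncard_eq_one.2 ⟨L, Set.eq_singleton_iff_unique_mem.2 ⟨⟨⟨h1, h2⟩, h3⟩,
        fun L' h' => h.uniq hP.1 (.refl V) h'.1.1 h1 h'.2 h'.1.2 h3 h2 hP.2⟩⟩)
    fun L hL => by
      have h1 := h.five' hL.1
      rw [show {P | Pt V P ∧ P ⊓ L ≠ ⊥} = insert V {P | (Pt V P ∧ P ≠ V) ∧ P ⊓ L ≠ ⊥} by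
        ext P
        by_cases e : P = V
        · simpa [e, H1.CIT.Pt.refl V] using hL.2
        · simp [e], Set.ncard_insert_of_notMem (by simp)] at h1
      exact Nat.succ_inj.1 h1
  rw [show {P | Pt V P} = insert V {P | Pt V P ∧ P ≠ V} by
    ext P
    by_cases e : P = V <;> simp [e, H1.CIT.Pt.refl V], Set.ncard_insert_of_notMem (by simp)]
  rw [h.five] at this
  omega

theorem emb {F : Type*} [Field F] [Fintype F] (hF : Fintype.card F = 4) : Emb G F := by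
  letI := cjAct (Pt V) fun g X hX => hX.conj g
  obtain ⟨w, hw, w1⟩ := h.lo.exW
  have gen : ∀ N : Subgroup G, N.Normal → ∀ t ∈ N, orderOf t = 2 → ∀ s, orderOf s = 2 → s ∈ N :=
    fun N hN t ht ot s os => by
      obtain ⟨g, rfl⟩ := isConj_iff.1 ((h.lo.conjG h.mv h.ma hw w1 ot).symm.trans
        (h.lo.conjG h.mv h.ma hw w1 os))
      exact hN.conj_mem t ht g
  refine embed hF (fun (P : {P // Pt V P}) (L : {L // Pt A L}) => P.1 ⊓ L.1 ≠ ⊥)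
    (by rw [← h.card21, ← Nat.card_coe_set_eq]; rfl) (fun L => ?_) (fun P Q hne => ?_)
    (fun P Q L L' hne h1 h2 h3 h4 r hr => ?_) (fun g L => ⟨⟨cj g L, L.2.conj g⟩, fun P => ?_⟩)
    (fun g hg => ?_) fun H h1 _ => ?_
  · rw [← h.five' L.2, ← Set.ncard_image_of_injective _ Subtype.val_injective]
    congr 1; ext P; simp [and_comm]
  · obtain ⟨L, k1, k2, k3⟩ := h.coll' P.2 Q.2 fun e => hne (Subtype.ext e)
    exact ⟨⟨L, k1⟩, k2, k3⟩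
  · rwa [← h.uniq P.2 Q.2 L.2 L'.2 h1 h2 h3 h4 fun e => hne (Subtype.ext e)]
  · show cj g P.1 ⊓ cj g L.1 ≠ ⊥ ↔ _
    rw [← cj_inf, ne_eq, cj_eq_bot]
  · have h1 : (MulAction.toPermHom G {P // Pt V P}).ker = ⊥ := by
      refine H1.pPrimeCore_eq_bot_iff.1 h.hO _ inferInstance
        (Nat.coprime_two_right.2 (H6.odd_card_iff.2 fun t ht ot => ?_))
      obtain ⟨v, hv, hvA⟩ := h.lo.symm.exA
      have h2 := gen _ inferInstance t ht ot v (ord2_of (h.lo.sv v hv) fun e => hvA (e ▸ one_mem _))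
      obtain ⟨k, hk, hb⟩ := h.ma
      obtain ⟨u, hu, u1⟩ := (h.lo.symm.conj' hk).exW
      have h3 : cj v (cj k V) = cj k V := congrArg Subtype.val
        (DFunLike.congr_fun (MonoidHom.mem_ker.1 h2) (⟨cj k V, pt_cj V k⟩ : {P // Pt V P}))
      exact hvA (h.lo.symm.move inf_le_left (h.lo.symm.ti' hk hb) hv hu u1 (conj_mem_of_mem_NN
        (mem_NN_inf (h.lo.nA hv) (mem_NN.2 h3)) hu))
    exact h1.le (MonoidHom.mem_ker.2 (Equiv.ext hg))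
  · have hN : H.Normal := ⟨fun x hx g => by
      have := H.mul_mem (H.mul_mem (h1 (g * x)) (H.inv_mem hx)) (h1 g⁻¹)
      convert this using 1; group⟩
    obtain ⟨y, hy⟩ := h.lo.W_sq hw
    have k : ∀ s, s * s = 1 → s ∈ H := fun s hs => by
      by_cases s1 : s = 1
      · rw [s1]; exact one_mem _
      · exact gen H hN w (hy ▸ h1 y) (ord2_of (h.lo.sv w hw.1) w1) s (ord2_of hs s1)
    exact top_of_syl h.lo.syl h1 (sup_le (fun v hv => k v (h.lo.sv v hv)) fun v hv => k v (h.lo.sa v hv))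

end Pl

theorem Lo.emb {F : Type*} [Field F] [Fintype F] (hF : Fintype.card F = 4) (h : Lo V A)
    (hO : pPrimeCore 2 G = ⊥) : Emb G F := by
  by_cases h1 : NN(V) ≤ NN((V ⊓ A : Subgroup G)) <;> by_cases h2 : NN(A) ≤ NN((A ⊓ V : Subgroup G))
  · haveI := h.normal hO (inf_comm A V ▸ h2)
    haveI := h.symm.normal hO (inf_comm V A ▸ h1)
    exact h.emb_a hF hO
  · haveI := h.symm.normal hO (inf_comm V A ▸ h1)
    obtain ⟨n, -, hn⟩ := SetLike.not_le_iff_exists.1 h2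
    exact h.symm.emb_b hF hO hn
  · haveI := h.normal hO (inf_comm A V ▸ h2)
    obtain ⟨n, -, hn⟩ := SetLike.not_le_iff_exists.1 h1
    exact h.emb_b hF hO hn
  · exact Pl.emb ⟨h, SetLike.not_le_iff_exists.1 h1, SetLike.not_le_iff_exists.1 h2, hO⟩ hF

end H20L4
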