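import Cfsg.Agent.H2.Br6
import Cfsg.Agent.H25.Tri

/-! Groups with a self-centralising Sylow subgroup of prime order `p` and normaliser of order
`2 p`: involutions. -/

set_option autoImplicit false
set_option linter.unusedSectionVars false
open scoped ComplexConjugate
open Cfsg H17 H19 H2 Subgroup MulAction

namespace H20.N3

variable {G : Type*} [Group G] [Finite G] {p : ℕ} [hp : Fact p.Prime]

section dih
variable {P : Subgroup G} (hP : Nat.card P = p) (hC : cent P ≤ P) (hN : Nat.card (nrm P) = 2 * p)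
include hP hC hN

theorem refl_sq {v : G} (hv : v ∈ nrm P) (hv' : v ∉ P) : v * v = 1 :=
  af_fpf hP hC hv' (v * v) (mul_self_mem_of_index_two (H := P.subgroupOf (nrm P))
    (relIndex_of_two_p hP hN) ⟨v, hv⟩) (mul_assoc _ _ _)

theorem refl_inv {v y : G} (hv : v ∈ nrm P) (hv' : v ∉ P) (hy : y ∈ P) : y * v = v * y⁻¹ := by
  have h1 := refl_sq hP hC hN hv hv'
  have h2 := refl_sq hP hC hN (mul_mem hv (le_normalizer hy)) ((P.mul_mem_cancel_right hy).not.2 hv')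
  calc y * v = (v * v) * y * v * (y * y⁻¹) := by rw [h1]; simp
    _ = v * (v * y * (v * y)) * y⁻¹ := by group
    _ = _ := by rw [h2, mul_one]

theorem refl_conj (h2 : p ≠ 2) {v w : G} (hv : v ∈ nrm P) (hv' : v ∉ P) (hw : w ∈ nrm P)
    (hw' : w ∉ P) : IsConj v w := by
  have h1 : v⁻¹ * w ∈ P := (mul_mem_iff_of_index_two (H := P.subgroupOf (nrm P))
    (relIndex_of_two_p hP hN) (a := ⟨v⁻¹, inv_mem hv⟩) (b := ⟨w, hw⟩)).2
    (by simp [mem_subgroupOf, hv', hw'])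
  obtain ⟨k, hk⟩ := hp.out.odd_of_ne_two h2
  have h3 : (v⁻¹ * w) ^ p = 1 := by
    have := pow_card_eq_one' (G := P) (x := ⟨_, h1⟩)
    rw [hP] at this
    exact congrArg Subtype.val this
  refine isConj_iff.2 ⟨(v⁻¹ * w) ^ k, ?_⟩
  rw [refl_inv hP hC hN hv hv' (pow_mem h1 k), mul_assoc, ← mul_inv_rev, ← pow_add, ← two_mul,
    ← eq_inv_mul_iff_mul_eq, inv_eq_iff_mul_eq_one, ← pow_succ, ← hk, h3]

theorem card_refl [Fintype G] [DecidablePred fun y => y ∈ nrm P ∧ y ∉ P] :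
    (Finset.univ.filter fun y => y ∈ nrm P ∧ y ∉ P).card = p := by
  have := Fintype.ofFinite P
  have := Fintype.ofFinite (nrm P)
  have h7 := ch_sum_le (le_normalizer : P ≤ nrm P) fun _ => 1
  simp only [Finset.sum_const, Finset.card_univ, ← Nat.card_eq_fintype_card, hP, hN,
    nsmul_eq_mul, mul_one] at h7
  have : 2 * p = p + (Finset.univ.filter fun y => y ∈ nrm P ∧ y ∉ P).card := by exact_mod_cast h7
  omega

theorem ncl_eq (h2 : p ≠ 2) {t x : G} (ht : orderOf t = 2) (hx : x ∈ P) (h1 : x ≠ 1)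
    (h0 : H25.ncl t t x ≠ 0) : H25.ncl t t x = p ∧ ∃ v ∈ nrm P, v ∉ P ∧ IsConj t v := by
  classical
  have := Fintype.ofFinite G
  have key : ∀ a b : G, IsConj t a → IsConj t b → a * b = x → a ∈ nrm P ∧ a ∉ P := by
    intro a b ha hb e
    have ha2 := (orderOf_isConj ha).trans ht
    have ha' : a * a = 1 := by rw [← sq, ← ha2, pow_orderOf_eq_one]
    have hb' : b * b = 1 := by rw [← sq, ← (orderOf_isConj hb).trans ht, pow_orderOf_eq_one]
    refine ⟨?_, fun h => h2 ?_⟩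
    · have h3 : a * x * a⁻¹ = x⁻¹ := by
        rw [← e, mul_inv_rev, inv_eq_of_mul_eq_one_right ha', inv_eq_of_mul_eq_one_right hb',
          ← mul_assoc, ha', one_mul]
      rw [← sm_zpowers_eq hP hx h1]
      refine mem_normalizer_fintype ?_
      rintro _ ⟨k, rfl⟩
      exact ⟨-k, by simp only [← conj_zpow, h3]; simp⟩
    · rw [← sm_orderOf_eq hP h (by rintro rfl; simp at ha2), ha2]
  obtain ⟨⟨a, b⟩, ha, hb, e⟩ := Set.nonempty_of_ncard_ne_zero h0
  obtain ⟨k1, k2⟩ := key a b ha hb e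
  refine ⟨?_, a, k1, k2, ha⟩
  rw [← card_refl hP hC hN, H25.ncl, ← Set.ncard_coe_finset,
    ← Set.ncard_image_of_injective _ (f := fun y : G => (y, y⁻¹ * x))
      fun a b h => (Prod.mk.inj h).1]
  congr 1
  ext ⟨c, d⟩
  simp only [Set.mem_setOf_eq, Set.mem_image, Finset.coe_filter, Finset.mem_univ, true_and,
    Prod.mk.injEq]
  constructor
  · rintro ⟨h3, h4, h5⟩
    exact ⟨c, key c d h3 h4 h5, rfl, by rw [← h5]; simp⟩
  · rintro ⟨y, ⟨h3, h4⟩, rfl, rfl⟩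
    exact ⟨ha.trans (refl_conj hP hC hN h2 k1 k2 h3 h4), ha.trans (refl_conj hP hC hN h2 k1 k2
      (mul_mem (inv_mem h3) (le_normalizer hx))
      ((P.mul_mem_cancel_right hx).not.2 (P.inv_mem_iff.not.2 h4))), by simp⟩

theorem val_refl (h2 : p ≠ 2) {Φ : G → ℂ} (hΦ : IsCharacter G Φ) (h0 : ∀ y ∈ P, y ≠ 1 → Φ y = 0)
    {m : ℕ} (hm : Φ 1 = (p * m : ℕ)) {v : G} (hv : v ∈ nrm P) (hv' : v ∉ P) :
    ∃ a : ℕ, a ≤ m ∧ Φ v = 2 * a - m := by
  classical
  have := Fintype.ofFinite G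
  have := Fintype.ofFinite P
  have := Fintype.ofFinite (nrm P)
  obtain ⟨a, ha⟩ := ch_sum_sub hΦ (nrm P)
  have h1 : ∑ y : P, Φ y = Nat.card P * m := by
    rw [ch_sum_const (fun y : P => Φ y) 0 fun y hy => h0 y y.2 fun e => hy (Subtype.ext e)]
    rw [OneMemClass.coe_one, hm, hP]
    simp
  refine ⟨a, ch_mult_mono hΦ le_normalizer h1 ha, ?_⟩
  rw [ch_sum_le le_normalizer, h1, Finset.sum_congr rfl (g := fun _ => Φ v) fun y hy =>
    (hΦ.isClassFunction.of_isConj (refl_conj hP hC hN h2 hv hv' (Finset.mem_filter.1 hy).2.1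
      (Finset.mem_filter.1 hy).2.2)).symm, Finset.sum_const, card_refl hP hC hN, hP, hN,
    nsmul_eq_mul] at ha
  have hp0 : (p : ℂ) ≠ 0 := Nat.cast_ne_zero.2 hp.out.ne_zero
  push_cast at ha
  exact mul_left_cancel₀ hp0 (by linear_combination ha)

end dih

variable {O : ValuationSubring ℂ} [CharP (kk O) p] {P : Sylow p G} {X Y : Finset (IrrCharacter G)}
  {s : IrrCharacter G → ℤ} {ε : ℤ} {χ θ : IrrCharacter G}

theorem formula [IsSimpleGroup G] (h : D1 p O (P : Subgroup G) 2 X Y s ε)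
    (hC : cent (P : Subgroup G) ≤ P) (hN : Nat.card (nrm (P : Subgroup G)) = 2 * p) (hχ : χ ∈ X)
    (hθ : θ ∈ Y) (hs : s χ = ε) {t : G} (ht : orderOf t = 2) :
    (∃ v ∈ nrm (P : Subgroup G), v ∉ (P : Subgroup G) ∧ IsConj t v) ∧
      (Nat.card G : ℂ) * ((χ : G → ℂ) 1 - (χ : G → ℂ) t) ^ 2 =
        (Nat.card (centralizer ({t} : Set G)) : ℂ) ^ 2 * p * (dg χ * dg θ) := by
  classical
  obtain ⟨x, hx, hx1⟩ := h.exists_x
  have hxs := h.sing hx hx1
  have htr : ¬ p ∣ orderOf t := fun hd =>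
    h.odd ((Nat.prime_dvd_prime_iff_eq hp.out Nat.prime_two).1 (ht ▸ hd))
  have hti : t⁻¹ = t := inv_eq_of_mul_eq_one_right (by rw [← sq, ← ht, pow_orderOf_eq_one])
  have h1 := H25.struct_const t t x
  rw [hti, h.sum_all, h.X_eq hχ, Finset.sum_singleton, Finset.sum_eq_zero (s := Finset.univ.filter _)
    fun ψ hψ => by rw [h.zero_of_not_mem hC (Finset.mem_filter.1 hψ).2 hxs]; simp,
    Finset.sum_congr rfl (s₁ := Y) (g := fun ψ => (θ : G → ℂ) t * (θ : G → ℂ) t / (θ : G → ℂ) 1 *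
      (ψ : G → ℂ) x) fun ψ hψ => by
        rw [h.regY hψ hθ htr, h.regY hψ hθ preg_one]; ring,
    ← Finset.mul_sum, h.sumY hxs, h.valX χ hχ x hxs, hs] at h1
  have e1 := h.eqn θ hθ t htr
  have e2 := h.eqn θ hθ 1 preg_one
  rw [h.X_eq hχ, Finset.sum_singleton, hs] at e1 e2
  have e3 := h.eps_mul
  have k1 := irr_one_ne_zero χ
  have k2 := irr_one_ne_zero θ
  have h2 : (Nat.card G : ℂ) * ((χ : G → ℂ) 1 - (χ : G → ℂ) t) ^ 2 =
      (Nat.card (centralizer ({t} : Set G)) : ℂ) ^ 2 * H25.ncl t t x *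
        ((χ : G → ℂ) 1 * (θ : G → ℂ) 1) := by
    rw [sq (Nat.card (centralizer ({t} : Set G)) : ℂ), ← h1]
    have e4 : (θ : G → ℂ) t = ε + (χ : G → ℂ) t := by
      linear_combination (ε : ℂ) * e1 - ((θ : G → ℂ) t - (χ : G → ℂ) t) * e3
    have e5 : (θ : G → ℂ) 1 = ε + (χ : G → ℂ) 1 := by
      linear_combination (ε : ℂ) * e2 - ((θ : G → ℂ) 1 - (χ : G → ℂ) 1) * e3
    simp only [triv_apply]
    have k3 : (Nat.card G : ℂ) ≠ 0 := card_ne_zero_complex
    field_simp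
    rw [e4, e5]
    linear_combination (-((χ : G → ℂ) t ^ 2) + (χ : G → ℂ) 1 * ε +
      2 * (χ : G → ℂ) 1 * (χ : G → ℂ) t) * e3
  have h3 : H25.ncl t t x ≠ 0 := fun h0 => by
    rw [h0, Nat.cast_zero, mul_zero, zero_mul, mul_eq_zero, pow_eq_zero_iff two_ne_zero,
      sub_eq_zero] at h2
    have h4 := χ.2.mem_charKer.2 (h2.resolve_left card_ne_zero_complex).symm
    rw [χ.2.charKer_eq_bot_of_simple fun h1 => h.X_ne hχ (Subtype.ext h1), mem_bot] at h4
    rw [h4, orderOf_one] at ht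
    omega
  obtain ⟨h4, h5⟩ := ncl_eq h.card hC hN h.odd ht hx hx1 h3
  exact ⟨h5, by rw [h2, h4, cast_deg, cast_deg]⟩

end H20.N3
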