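import Cfsg.Agent.H20.N3a
import Cfsg.Agent.S0157

/-! Permutation groups in which involutions fix three points; counting functions of invariant
relations. -/

set_option autoImplicit false
set_option linter.unusedSectionVars false
open scoped ComplexConjugate
open Cfsg H17 H19 H2 Subgroup MulAction

namespace H20.N3

variable {G : Type*} [Group G] [Finite G]

theorem quart {ι : Type*} (s : Finset ι) (z : ι → ℂ) (h : ∀ i, z i ^ 4 = 1) :
    ∃ a b c d : ℕ, s.card = a + b + c + d ∧ ∑ i ∈ s, z i = a - b + (c - d) * Complex.I ∧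
      ∑ i ∈ s, z i * z i = a + b - c - d ∧
      ∏ i ∈ s, z i = (-1) ^ b * Complex.I ^ c * (-Complex.I) ^ d := by
  classical
  induction s using Finset.induction_on with
  | empty => exact ⟨0, 0, 0, 0, by simp⟩
  | insert i s hi ih =>
    obtain ⟨a, b, c, d, h1, h2, h3, h4⟩ := ih
    rw [Finset.card_insert_of_notMem hi, Finset.sum_insert hi, Finset.sum_insert hi,
      Finset.prod_insert hi, h1, h2, h3, h4]
    have h5 : (z i - 1) * ((z i + 1) * ((z i - Complex.I) * (z i + Complex.I))) = 0 := by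
      linear_combination h i + (1 - z i ^ 2) * Complex.I_sq
    rcases mul_eq_zero.1 h5 with h6 | h6
    · rw [sub_eq_zero.1 h6]
      exact ⟨a + 1, b, c, d, by omega, by push_cast; ring, by push_cast; ring, by ring⟩
    rcases mul_eq_zero.1 h6 with h6 | h6
    · rw [eq_neg_of_add_eq_zero_left h6]
      exact ⟨a, b + 1, c, d, by omega, by push_cast; ring, by push_cast; ring, by ring⟩
    rcases mul_eq_zero.1 h6 with h6 | h6
    · rw [sub_eq_zero.1 h6]
      exact ⟨a, b, c + 1, d, by omega, by push_cast; ring,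
        by push_cast; linear_combination Complex.I_sq, by ring⟩
    · rw [eq_neg_of_add_eq_zero_left h6]
      exact ⟨a, b, c, d + 1, by omega, by push_cast; ring,
        by push_cast; linear_combination Complex.I_sq, by ring⟩

theorem ord_four (hG : commutator G = ⊤) {Φ : G → ℂ} (hΦ : IsCharacter G Φ) {g : G}
    (hg : g ^ 4 = 1) {n : ℕ} (hn : Φ 1 = n) (h1 : Φ g = 1) (h2 : Φ (g * g) = 3) : n % 8 = 7 := by
  obtain ⟨m, l, k1, k2⟩ := (hΦ.restrict (zpowers g)).exists_sum_linear (ch_comm_zpowers g)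
  have k3 := ch_det_prod hG hΦ (zpowers g).subtype l k2 ⟨g, mem_zpowers g⟩
  obtain ⟨a, b, c, d, e1, e2, e3, e4⟩ := quart Finset.univ (fun i => (l i ⟨g, mem_zpowers g⟩ : ℂ))
    fun i => by
      rw [← Units.val_pow_eq_pow_val, ← map_pow, show (⟨g, mem_zpowers g⟩ : zpowers g) ^ 4 = 1 from
        Subtype.ext hg, map_one, Units.val_one]
  rw [← k2, h1] at e2
  have e5 := k2 (⟨g, mem_zpowers g⟩ * ⟨g, mem_zpowers g⟩)
  simp only [map_mul, Units.val_mul, coe_mul, h2, e3] at e5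
  rw [← Units.coe_prod, k3] at e4
  rw [OneMemClass.coe_one, hn, Nat.cast_inj] at k1
  have f1 := congrArg Complex.re e2
  have f2 := congrArg Complex.im e2
  simp at f1 f2
  have f3 : c = d := by exact_mod_cast sub_eq_zero.1 f2.symm
  have f4 : (1 : ℤ) = a - b := by exact_mod_cast f1
  have f5 : (3 : ℤ) = a + b - c - d := by
    rw [← Int.cast_inj (α := ℂ)]; push_cast; exact e5
  rw [f3, mul_assoc, ← mul_pow] at e4
  simp only [mul_neg, Complex.I_mul_I, neg_neg, one_pow, mul_one, Units.val_one] at e4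
  have f6 : Even b := by
    by_contra hb
    rw [(Nat.not_even_iff_odd.1 hb).neg_one_pow] at e4
    norm_num at e4
  rw [Finset.card_univ, Fintype.card_fin] at e1
  obtain ⟨r, hr⟩ := f6
  omega

variable {Ω : Type*} [Finite Ω] [MulAction G Ω]

theorem fix_one : Nat.card (fixedBy Ω (1 : G)) = Nat.card Ω := by simp

theorem dvd_of_const (T : Subgroup G) {f : ℕ}
    (h : ∀ x ∈ T, x ≠ 1 → Nat.card (fixedBy Ω x) = f) :
    (Nat.card T : ℤ) ∣ (Nat.card Ω : ℤ) - f := by
  have := Fintype.ofFinite T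
  obtain ⟨m, hm⟩ := ch_sum_sub (isCharacter_perm (G := G) Ω) T
  rw [ch_sum_const (fun x : T => (Nat.card (fixedBy Ω (x : G)) : ℂ)) f fun x hx => by
    rw [h x x.2 fun e => hx (Subtype.ext e)], OneMemClass.coe_one, fix_one] at hm
  have : (Nat.card Ω : ℤ) + (Nat.card T - 1) * f = Nat.card T * m := by exact_mod_cast hm
  exact ⟨m - f, by linear_combination this⟩

theorem loc {S : Subgroup G} (hS : IsPGroup 2 S) (h1 : S ≠ ⊥)
    (h3 : ∀ t : G, orderOf t = 2 → Nat.card (fixedBy Ω t) = 3) :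
    (Nat.card S : ℤ) ∣ 2 * ((Nat.card Ω : ℤ) - 3) ∧ (¬ (Nat.card S : ℤ) ∣ (Nat.card Ω : ℤ) - 3 →
      ∃ g ∈ S, ∃ ω a b : Ω, ω ≠ a ∧ ω ≠ b ∧ a ≠ b ∧ g • ω = ω ∧ g • a = b ∧ g • b = a ∧
        Nat.card (fixedBy Ω g) = 1 ∧ Nat.card (fixedBy Ω (g * g)) = 3 ∧
        ∀ x ∈ zpowers g, ∀ y, y ≠ ω → y ≠ a → y ≠ b → x • y = y → x = 1) := by
  haveI : Fact (Nat.Prime 2) := ⟨Nat.prime_two⟩
  haveI := (nontrivial_iff_ne_bot S).2 h1
  haveI := hS.center_nontrivial
  obtain ⟨z, hz⟩ := exists_ne (1 : center S)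
  have inv : ∀ x ∈ S, x ≠ 1 → ∃ k : ℕ, orderOf (x ^ k) = 2 := fun x hx h => by
    obtain ⟨k, hk⟩ := IsPGroup.iff_orderOf.1 hS ⟨x, hx⟩
    rw [orderOf_mk] at hk
    exact ⟨_, orderOf_pow_orderOf_div (orderOf_pos x).ne' (hk ▸ dvd_pow_self _
      (by rintro rfl; exact h (orderOf_eq_one_iff.1 hk)))⟩
  obtain ⟨k, ht⟩ := inv z.1.1 z.1.2 fun e => hz (Subtype.ext (Subtype.ext e))
  set t : G := z.1.1 ^ k
  have hc : ∀ x ∈ S, Commute x t := fun x hx =>
    (show Commute x z.1.1 from congrArg Subtype.val (mem_center_iff.1 z.2 ⟨x, hx⟩)).pow_right k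
  have hD : (fixedBy Ω t).ncard = 3 := h3 t ht
  obtain ⟨ω, hω, hω'⟩ := H25.exists_fixed_of_not_dvd S hS (fixedBy Ω t)
    (fun x hx y hy => H6.smul_mem_fixedBy (hc x hx) hy) (by omega)
  obtain ⟨a, b, hab, hΔ⟩ := Set.ncard_eq_two.1 (show (fixedBy Ω t \ {ω}).ncard = 2 by
    rw [Set.ncard_diff_singleton_of_mem hω, hD])
  have ha : a ∈ fixedBy Ω t \ {ω} := by simp [hΔ]
  have hb : b ∈ fixedBy Ω t \ {ω} := by simp [hΔ]
  have hΔ' : fixedBy Ω t = {ω, a, b} := by rw [← hΔ, Set.insert_diff_singleton, Set.insert_eq_of_mem hω]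
  have mv : ∀ x ∈ S, ∀ y ∈ fixedBy Ω t \ {ω}, x • y = a ∨ x • y = b := fun x hx y hy => by
    have : x • y ∈ fixedBy Ω t \ {ω} := ⟨H6.smul_mem_fixedBy (hc x hx) hy.1, fun e =>
      hy.2 (smul_left_cancel x (e.trans (hω' x hx).symm))⟩
    simpa [hΔ] using this
  have fb : ∀ x ∈ S, x • a = a → x • b = b := fun x hx h => (mv x hx b hb).resolve_left fun e =>
    hab (smul_left_cancel x (h.trans e.symm))
  have sw : ∀ x ∈ S, x • a ≠ a → x • a = b ∧ x • b = a := fun x hx h =>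
    have := (mv x hx a ha).resolve_left h
    ⟨this, (mv x hx b hb).resolve_right fun e => hab (smul_left_cancel x (this.trans e.symm))⟩
  have sub : ∀ x ∈ S, x • a = a → ({ω, a, b} : Set Ω) ⊆ fixedBy Ω x := fun x hx h => by
    rintro y (rfl | rfl | rfl)
    exacts [hω' x hx, h, fb x hx h]
  have fx : ∀ x ∈ S, x ≠ 1 → x • a = a → fixedBy Ω x = {ω, a, b} := fun x hx h0 h => by
    obtain ⟨j, hj⟩ := inv x hx h0
    refine (sub x hx h).antisymm' ?_
    rw [Set.eq_of_subset_of_ncard_le (sub _ (pow_mem hx j) ((stabilizer G a).pow_mem h j))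
      (by rw [← hΔ', hD]; exact (h3 _ hj).le)]
    exact fun y hy => (stabilizer G y).pow_mem hy j
  have fx' : ∀ x ∈ S, x ≠ 1 → x • a = a → Nat.card (fixedBy Ω x) = 3 := fun x hx h0 h => by
    rw [fx x hx h0 h, ← hΔ']; exact hD
  refine ⟨?_, fun hn => ?_⟩
  · have k1 := dvd_of_const (Ω := Ω) (stabilizer G a ⊓ S) fun x hx h0 => fx' x hx.2 h0 hx.1
    have k2 : (stabilizer G a).relIndex S ∣ 2 := by
      rw [← H25.ncard_suborbit]
      have k3 : orbit S a ⊆ {a, b} := by rintro _ ⟨x, rfl⟩; exact mv x x.2 a ha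
      have k4 := Set.ncard_le_ncard k3
      rw [Set.ncard_pair hab] at k4
      have k5 : (orbit S a).ncard ≠ 0 := Set.ncard_ne_zero_of_mem (mem_orbit_self a)
      interval_cases (orbit S a).ncard <;> simp_all
    rw [← (index_mul_card ((stabilizer G a).subgroupOf S)), Nat.cast_mul, ← inf_subgroupOf_right,
      Nat.card_congr (subgroupOfEquivOfLe inf_le_right).toEquiv, inf_subgroupOf_right]
    exact mul_dvd_mul (by exact_mod_cast k2) k1
  obtain ⟨g, hg, k1, k2⟩ : ∃ g ∈ S, g ≠ 1 ∧ Nat.card (fixedBy Ω g) ≠ 3 := by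
    by_contra! h
    exact hn (dvd_of_const S h)
  obtain ⟨k3, k4⟩ := sw g hg fun h => k2 (fx' g hg k1 h)
  have sq : ∀ x ∈ S, (x * x) • a = a := fun x hx => by
    by_cases h : x • a = a
    · rw [mul_smul, h, h]
    · rw [mul_smul, (sw x hx h).1, (sw x hx h).2]
  have k5 : g * g ≠ 1 := fun h => k2 (h3 g (orderOf_eq_prime (by rw [pow_two, h]) k1))
  have k6 : ∀ y, g • y = y → y ∈ ({ω, a, b} : Set Ω) := fun y hy => by
    rw [← fx _ (mul_mem hg hg) k5 (sq g hg)]
    exact (stabilizer G y).mul_mem hy hy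
  refine ⟨g, hg, ω, a, b, Ne.symm ha.2, Ne.symm hb.2, hab, hω' g hg, k3, k4, ?_,
    fx' _ (mul_mem hg hg) k5 (sq g hg), fun x hx y y1 y2 y3 h => by_contra fun h0 => ?_⟩
  · rw [show fixedBy Ω g = {ω} from Set.eq_singleton_iff_unique_mem.2 ⟨hω' g hg, fun y hy => by
      rcases k6 y hy with e | e | e
      · exact e
      · exact (hab (e ▸ hy.symm.trans (e ▸ k3))).elim
      · exact (hab (e ▸ (hy.symm.trans (e ▸ k4)).symm)).elim⟩]
    simp
  have hx' := (zpowers_le.2 hg) hx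
  by_cases h' : x • a = a
  · have : y ∈ fixedBy Ω x := h
    rw [fx x hx' h0 h'] at this
    simp_all
  by_cases h2 : x * x = 1
  swap
  · have : y ∈ fixedBy Ω (x * x) := (stabilizer G y).mul_mem h h
    rw [fx _ (mul_mem hx' hx') h2 (sq x hx')] at this
    simp_all
  obtain ⟨j, rfl⟩ := mem_zpowers_iff.1 hx
  obtain ⟨i, rfl | rfl⟩ := Int.even_or_odd' j
  · exact h' (by rw [zpow_mul, zpow_ofNat, pow_two]; exact (stabilizer G a).zpow_mem (sq g hg) i)
  rw [← (Commute.refl g).mul_zpow, ← orderOf_dvd_iff_zpow_eq_one] at h2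
  obtain ⟨j, hj⟩ := inv _ (mul_mem hg hg) k5
  have := (Int.natCast_dvd_natCast.2 (hj ▸ orderOf_pow_dvd (x := g * g) j)).trans h2
  omega

end H20.N3
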