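import Cfsg.Agent.H20.N3b

/-! Counting functions of invariant relations; a rank three configuration of degree `3 p`. -/

set_option autoImplicit false
set_option linter.unusedSectionVars false
open scoped ComplexConjugate
open Cfsg H17 H19 H2 Subgroup MulAction

namespace H20.N3

variable {G : Type*} [Group G] [Fintype G] {Ω : Type*} [Finite Ω] [MulAction G Ω]
  [IsPretransitive G Ω]

/-- the number of points `y` with `R y (x • y)` -/
noncomputable def nR (R : Ω → Ω → Prop) (x : G) : ℂ := ({y | R y (x • y)}.ncard : ℂ)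

theorem card_fib [DecidableEq Ω] (ω z : Ω) :
    (Finset.univ.filter fun x : G => x • ω = z).card = Nat.card (stabilizer G ω) := by
  obtain ⟨u, rfl⟩ := exists_smul_eq G ω z
  rw [← Fintype.card_subtype, ← Nat.card_eq_fintype_card]
  exact Nat.card_congr ((Equiv.mulLeft u⁻¹).subtypeEquiv fun x => by
    simp [mul_smul, inv_smul_eq_iff])

theorem card_rel (ω : Ω) (A : Ω → Prop) [DecidablePred A] :
    (Finset.univ.filter fun x : G => A (x • ω)).card =
      {z | A z}.ncard * Nat.card (stabilizer G ω) := by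
  classical
  have := Fintype.ofFinite Ω
  rw [Finset.card_eq_sum_card_fiberwise (f := fun x : G => x • ω) (t := Finset.univ.filter A)
    (by intro x; simp), Finset.sum_congr rfl (g := fun _ => Nat.card (stabilizer G ω)) fun z hz => by
      rw [← card_fib ω z, Finset.filter_filter]
      exact congrArg _ (Finset.filter_congr fun x _ => and_iff_right_of_imp fun e =>
        e ▸ (Finset.mem_filter.1 hz).2), Finset.sum_const, smul_eq_mul, ← Set.ncard_coe_finset]
  simp

theorem sum_coset {T : Finset G} {H : Subgroup G} [Fintype H]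
    (hT : ∀ x, ∀ h ∈ H, x * h ∈ T ↔ x ∈ T) (ζ : G → ℂ) :
    ∑ x ∈ T, ∑ h : H, ζ (x * h) = Nat.card H * ∑ x ∈ T, ζ x := by
  rw [Finset.sum_comm, Finset.sum_congr rfl (g := fun _ => ∑ x ∈ T, ζ x) fun (h : H) _ =>
    Finset.sum_equiv (f := fun x => ζ (x * h)) (Equiv.mulRight (h : G))
      (fun x => (hT x h h.2).symm) fun _ _ => rfl]
  simp

theorem sum_normSq {χ : G → ℂ} (hχ : IsIrrCharacter G χ) {H : Subgroup G} [Fintype H]
    (h1 : ∑ h : H, χ h = Nat.card H) :
    ((∑ x, ‖∑ h : H, χ (x * h)‖ ^ 2 : ℝ) : ℂ) * χ 1 = Nat.card G * Nat.card H ^ 2 := by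
  have k1 : ∀ y, ∑ x, conj (χ x) * χ (x * y) = Nat.card G / χ 1 * χ y := fun y => by
    rw [hχ.sum_mul_apply_mul hχ.isCharacter.conj.isClassFunction]
    have := hχ.inner_self
    rw [classInner_def, inv_mul_eq_iff_eq_mul₀ card_ne_zero_complex, mul_one] at this
    rw [← this, Finset.sum_congr rfl fun g _ => mul_comm (χ g) _]
  have k2 : ∀ h : H, ∑ x, conj (χ (x * h)) * ∑ h' : H, χ (x * h') =
      Nat.card G / χ 1 * Nat.card H := fun h => by
    simp only [Finset.mul_sum]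
    rw [Finset.sum_comm, ← h1, Finset.mul_sum, ← Equiv.sum_comp (Equiv.mulLeft h)]
    refine Finset.sum_congr rfl fun h' _ => ?_
    rw [← k1, eq_comm, ← Equiv.sum_comp (Equiv.mulRight (h : G))]
    simp [mul_assoc]
  push_cast
  simp only [← Complex.conj_mul', map_sum]
  rw [Finset.sum_congr rfl fun x _ => Finset.sum_mul _ _ _, Finset.sum_comm,
    Finset.sum_congr rfl fun h _ => k2 h]
  have := hχ.one_ne_zero
  simp
  field_simp

variable {R : Ω → Ω → Prop} (hR : ∀ (u : G) y z, R y z → R (u • y) (u • z))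
include hR

theorem rel_iff (u : G) (y z : Ω) : R (u • y) (u • z) ↔ R y z :=
  ⟨fun h => by simpa using hR u⁻¹ _ _ h, hR u y z⟩

theorem nR_class : IsClassFunction G (nR R) := fun g h => by
  rw [nR, nR, ← Set.ncard_smul_set h {y | R y (g • y)}]
  congr 2
  ext y
  rw [Set.mem_smul_set_iff_inv_smul_mem, Set.mem_setOf_eq, Set.mem_setOf_eq, ← rel_iff hR h⁻¹]
  simp [mul_smul]

theorem nR_inner [∀ y z, Decidable (R y z)] (ω : Ω) {ζ : G → ℂ} (hζ : IsClassFunction G ζ) :
    classInner (nR R) ζ * Nat.card (stabilizer G ω) = conj (∑ x with R ω (x • ω), ζ x) := by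
  have := Fintype.ofFinite Ω
  have k1 : ∀ y, ∑ x with R y (x • y), conj (ζ x) = ∑ x with R ω (x • ω), conj (ζ x) := fun y => by
    obtain ⟨u, rfl⟩ := exists_smul_eq G ω y
    refine (Finset.sum_equiv (MulAut.conj u).toEquiv (fun x => ?_) fun x _ => ?_).symm
    · simp [mul_smul, rel_iff hR]
    · exact congrArg conj (hζ x u).symm
  have k2 : ∀ x, nR R x * conj (ζ x) = ∑ y, if R y (x • y) then conj (ζ x) else 0 := fun x => by
    rw [← Finset.sum_filter, Finset.sum_const, nsmul_eq_mul, nR, ← Set.ncard_coe_finset]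
    simp
  have k3 : (Nat.card G : ℂ) ≠ 0 := card_ne_zero_complex
  rw [classInner_def, Finset.sum_congr rfl fun x _ => k2 x, Finset.sum_comm, map_sum]
  simp only [← Finset.sum_filter, k1, Finset.sum_const, nsmul_eq_mul, Finset.card_univ,
    ← Nat.card_eq_fintype_card]
  rw [H25.card_eq_card_mul_card_stabilizer ω, Nat.cast_mul] at k3 ⊢
  have := left_ne_zero_of_mul k3
  have := right_ne_zero_of_mul k3
  field_simp

theorem rank3 {χ ψ : IrrCharacter G} (h1 : χ ≠ triv G) (h2 : ψ ≠ triv G) (h3 : χ ≠ ψ)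
    (hπ : ∀ x, (Nat.card (fixedBy Ω x) : ℂ) = 1 + (χ : G → ℂ) x + (ψ : G → ℂ) x) (ω : Ω) :
    ∃ ρ ρ' : ℂ, (∀ x, nR R x = {z | R ω z}.ncard + ρ * (χ : G → ℂ) x + ρ' * (ψ : G → ℂ) x) ∧
      (ρ = {z | R ω z}.ncard → {z | R ω z}.ncard ≠ 0 →
        {z | R ω z}.ncard * dg χ ≤ Nat.card Ω) := by
  classical
  set H := stabilizer G ω
  have hH : (Nat.card H : ℂ) ≠ 0 := card_ne_zero_complex
  have k1 : ∀ ζ : IrrCharacter G, ∑ h : H, (ζ : G → ℂ) h = Nat.card H *
      ((if triv G = ζ then 1 else 0) + (if χ = ζ then 1 else 0) + if ψ = ζ then 1 else 0) := fun ζ => by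
    have e := nR_inner (R := fun y z : Ω => z = y) (fun u y z h => by rw [h]) ω ζ.2.isClassFunction
    rw [show nR (G := G) (fun y z : Ω => z = y) = (triv G : G → ℂ) + (χ : G → ℂ) + (ψ : G → ℂ) from
      funext fun x => hπ x, classInner_add_left, classInner_add_left, irr_inner, irr_inner,
      irr_inner, Finset.sum_subtype (p := (· ∈ H)) _ (by simp [H]), ← starRingEnd_self_apply (_ * _),
      (RingHom.injective _).eq_iff] at e
    rw [← e, map_mul, map_natCast, mul_comm]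
    congr 1
    split_ifs <;> simp
  set T := Finset.univ.filter fun x : G => R ω (x • ω)
  have hT : ∀ x, ∀ h ∈ H, x * h ∈ T ↔ x ∈ T := fun x h hh => by
    simp [T, mul_smul, mem_stabilizer_iff.1 hh]
  have k2 := card_rel (G := G) ω (R ω)
  refine ⟨classInner (nR R) (χ : G → ℂ), classInner (nR R) (ψ : G → ℂ), fun x => ?_, fun e h0 => ?_⟩
  · rw [(nR_class hR).apply_eq_sum, ← Finset.sum_subset (Finset.subset_univ {triv G, χ, ψ})
      fun ζ _ hζ => ?_, Finset.sum_insert (by simp [h1.symm, h2.symm]), Finset.sum_pair h3,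
      triv_apply, mul_one, add_assoc]
    · have := nR_inner hR ω (triv G).2.isClassFunction
      simp only [triv_apply, Finset.sum_const, nsmul_eq_mul, mul_one, map_natCast] at this
      rw [k2, Nat.cast_mul] at this
      rw [mul_right_cancel₀ hH this]
    · simp only [Finset.mem_insert, Finset.mem_singleton, not_or] at hζ
      have e1 := k1 ζ
      rw [if_neg (Ne.symm hζ.1), if_neg (Ne.symm hζ.2.1), if_neg (Ne.symm hζ.2.2)] at e1
      have e2 := sum_coset hT (ζ : G → ℂ)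
      rw [Finset.sum_eq_zero fun y _ => by
        simpa only [ζ.2.isClassFunction.apply_mul_comm y] using
          ch_sum_coset ζ.2.isCharacter H (by simpa using e1) y, eq_comm, mul_eq_zero_iff_left hH] at e2
      have e3 := nR_inner hR ω ζ.2.isClassFunction
      rw [e2, map_zero, mul_eq_zero_iff_right hH] at e3
      rw [e3, zero_mul]
  have e1 := k1 χ
  rw [if_neg h1.symm, if_neg h3.symm, if_pos rfl] at e1
  have e2 := sum_normSq χ.2 (e1.trans (by simp))
  have e3 := nR_inner hR ω χ.2.isClassFunction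
  rw [e, ← starRingEnd_self_apply (_ * _), (RingHom.injective _).eq_iff, map_mul, map_natCast,
    map_natCast, ← Nat.cast_mul, ← k2] at e3
  have e4 := sum_coset hT (χ : G → ℂ)
  rw [← e3] at e4
  have e5 := (norm_sum_le _ _).trans' (congrArg norm e4).ge
  rw [← Nat.cast_mul, Complex.norm_natCast] at e5
  have e6 := sq_sum_le_card_mul_sum_sq (s := T) (f := fun x => ‖∑ h : H, (χ : G → ℂ) (x * h)‖)
  have e7 := Finset.sum_le_sum_of_subset_of_nonneg (f := fun x => ‖∑ h : H, (χ : G → ℂ) (x * h)‖ ^ 2)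
    (Finset.subset_univ T) fun _ _ _ => sq_nonneg _
  rw [← cast_deg] at e2
  have e8 : (∑ x, ‖∑ h : H, (χ : G → ℂ) (x * h)‖ ^ 2) * dg χ = Nat.card G * Nat.card H ^ 2 := by
    exact_mod_cast e2
  have e9 : ((Nat.card H * T.card : ℕ) : ℝ) ^ 2 * dg χ ≤ T.card * (Nat.card G * Nat.card H ^ 2) := by
    rw [← e8, ← mul_assoc]
    gcongr
    exact ((pow_le_pow_left₀ (by positivity) e5 2).trans e6).trans (by gcongr)
  have e10 : (Nat.card H * T.card) ^ 2 * dg χ ≤ T.card * (Nat.card G * Nat.card H ^ 2) := by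
    exact_mod_cast e9
  rw [H25.card_eq_card_mul_card_stabilizer (G := G) ω, k2] at e10
  have := Nat.card_pos (α := H)
  exact Nat.le_of_mul_le_mul_left (c := {z | R ω z}.ncard * Nat.card H ^ 4) (by linarith)
    (by positivity)

omit hR in
theorem no16 {p : ℕ} (hp : 2 < p) (h8 : p % 8 = 1) (hΩ : Nat.card Ω = 3 * p)
    {χ ψ : IrrCharacter G} (h1 : χ ≠ triv G) (h2 : ψ ≠ triv G)
    (hπ : ∀ x, (Nat.card (fixedBy Ω x) : ℂ) = 1 + (χ : G → ℂ) x + (ψ : G → ℂ) x)
    (dχ : dg χ + 1 = 2 * p) (dψ : dg ψ = p) {x : G} (hx : orderOf x = p)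
    (hx0 : ∀ v ∈ zpowers x, ∀ y : Ω, v • y = y → v = 1) (χx : (χ : G → ℂ) x = -1)
    (ψx : (ψ : G → ℂ) x = 0) {g : G} {ω a b : Ω} (hab : a ≠ b) (gω : g • ω = ω) (ga : g • a = b)
    (gb : g • b = a) (hf : Nat.card (fixedBy Ω g) = 1)
    (fr : ∀ x ∈ zpowers g, ∀ y, y ≠ ω → y ≠ a → y ≠ b → x • y = y → x = 1) (hg : 8 ∣ orderOf g)
    {k : ℕ} (hg2 : g ^ 2 ^ k = 1) (χg : (χ : G → ℂ) g = 1) : False := by
  haveI : Fact (Nat.Prime 2) := ⟨Nat.prime_two⟩
  have h3 : χ ≠ ψ := by rintro rfl; omega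
  let R : Ω → Ω → Prop := fun y z => ¬ ∃ u : G, u • a = y ∧ u • b = z
  have hR : ∀ (u : G) y z, R y z → R (u • y) (u • z) := fun u y z h ⟨v, e1, e2⟩ =>
    h ⟨u⁻¹ * v, by rw [mul_smul, e1, inv_smul_smul], by rw [mul_smul, e2, inv_smul_smul]⟩
  have hd : ∀ y, R y y := fun y ⟨u, e1, e2⟩ => hab (smul_left_cancel u (e1.trans e2.symm))
  have inv : ∀ v : G, ∀ w ∈ zpowers v, ∀ y ∈ {y | R y (v • y)}, w • y ∈ {y | R y (v • y)} :=
    fun v => H6.inv_zpowers fun y hy => hR v _ _ hy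
  obtain ⟨ρ, ρ', k1, k2⟩ := rank3 hR h1 h2 h3 hπ ω
  have e1 := k1 1
  rw [nR, Set.eq_univ_of_forall (s := {y | R y ((1 : G) • y)}) fun y => by simpa using hd y,
    Set.ncard_univ, hΩ, ← cast_deg, ← cast_deg] at e1
  obtain ⟨m, hm⟩ := H6.card_dvd_ncard_of_free (zpowers x) _ (Set.toFinite _) (inv x)
    fun v hv y _ => hx0 v hv y
  have hm3 := Set.ncard_le_card {y | R y (x • y)}
  have e2 := k1 x
  rw [nR, χx, ψx, hm] at e2
  rw [Nat.card_zpowers, hx] at e2 hm
  rw [hm, hΩ, mul_comm, Nat.mul_le_mul_right_iff (by omega)] at hm3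
  have hω : ω ∈ {y | R y (g • y)} := by simpa [gω] using hd ω
  obtain ⟨j, hj⟩ := (Nat.card_zpowers g ▸ hg).trans (H6.card_dvd_ncard_of_free (zpowers g)
    ({y | R y (g • y)} \ {ω}) (Set.toFinite _) (fun v hv y hy => ⟨inv g v hv y hy.1, fun e => hy.2
      (smul_left_cancel v (e.trans ((zpowers_le (H := stabilizer G ω)).2 gω hv).symm))⟩)
    fun v hv y hy => fr v hv y hy.2 (fun e => hy.1 ⟨1, by simp [e], by simp [e, ga]⟩)
      fun e => hy.1 ⟨g, by simp [e, ga], by simp [e]⟩)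
  have e3 := k1 g
  have ψg := hπ g
  rw [hf, χg] at ψg
  rw [nR, χg, ← Set.ncard_diff_singleton_add_one hω, hj] at e3
  have e4 := H6.ncard_modEq_fixedBy hg2 {z | R ω z} (Set.toFinite _) fun y hy => gω ▸ hR g _ _ hy
  obtain ⟨ω', e5⟩ := Set.ncard_eq_one.1 hf
  obtain rfl : ω = ω' := by rw [← Set.mem_singleton_iff, ← e5]; exact gω
  rw [e5, Set.inter_eq_self_of_subset_right (Set.singleton_subset_iff.2 (hd ω)),
    Set.ncard_singleton] at e4
  generalize hL : {z | R ω z}.ncard = L at *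
  have e6 : (dg χ : ℂ) + 1 = 2 * p := by exact_mod_cast dχ
  have hp0 : (p : ℂ) ≠ 0 := Nat.cast_ne_zero.2 (by omega)
  change ((3 * p : ℕ) : ℂ) = L + ρ * dg χ + ρ' * dg ψ at e1
  rw [dψ] at e1
  push_cast at e1 e2 e3 ψg
  have e7 : ρ' = 3 - 2 * L + m * (2 * p - 1) := mul_left_cancel₀ hp0 (by
    linear_combination -e1 - ρ * e6 - (2 * p - 1) * e2)
  have e8 : (8 * j + 4 + m * (3 * p) : ℕ) = 4 * L + m := by
    rw [← Nat.cast_inj (R := ℂ)]
    push_cast
    linear_combination e3 + e2 - e7 - ρ' * ψg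
  obtain rfl : m = 0 := by
    unfold Nat.ModEq at e4
    interval_cases m <;> omega
  have e9 : L = 1 := by
    unfold Nat.ModEq at e4
    have := k2 (by linear_combination e2) (by omega)
    by_contra h
    have := Nat.mul_le_mul_right (dg χ) (show 2 ≤ L by omega)
    omega
  obtain ⟨ω', e10⟩ := Set.ncard_eq_one.1 (hL.trans e9)
  obtain rfl : ω = ω' := by rw [← Set.mem_singleton_iff, ← e10]; exact hd ω
  have tr : ∀ c d : Ω, c ≠ d → ∃ u : G, u • a = c ∧ u • b = d := fun c d h => by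
    obtain ⟨v, rfl⟩ := exists_smul_eq G ω c
    by_contra h'
    have : v⁻¹ • d ∈ {z | R ω z} := by simpa using hR v⁻¹ _ _ h'
    rw [e10, Set.mem_singleton_iff, inv_smul_eq_iff] at this
    exact h this.symm
  have i1 := (Cfsg.Agent.S0157.result (G := G) Ω (by omega)).2 (is_two_pretransitive_iff.2
    fun {c d c' d'} h h' => by
      obtain ⟨u, rfl, rfl⟩ := tr c d h
      obtain ⟨u', rfl, rfl⟩ := tr c' d' h'
      exact ⟨u' * u⁻¹, by simp [mul_smul], by simp [mul_smul]⟩)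
  rw [show (fun g : G => (Nat.card (fixedBy Ω g) : ℂ) - 1) = (χ : G → ℂ) + (ψ : G → ℂ) from
    funext fun g => by rw [hπ, Pi.add_apply]; ring] at i1
  have i2 := congrFun (i1.eq_of_inner_ne_zero χ.2 (by
    rw [classInner_add_left, irr_inner, irr_inner, if_pos rfl, if_neg h3.symm]; simp)) 1
  exact irr_one_ne_zero ψ (by simpa using i2)

end H20.N3
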