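import Cfsg.Agent.H20.N3c
import Cfsg.Agent.H2.Sm7
import Cfsg.Agent.H18.Small
import Cfsg.Agent.S4745
import Cfsg.Agent.S5892

/-! Identification lemmas for simple groups of degree `3 p`. -/

set_option autoImplicit false
set_option linter.unusedSectionVars false
open Cfsg H17 H19 H2 Subgroup MulAction
open scoped MatrixGroups

namespace H20.N3

variable {G : Type*} [Group G] [Finite G] {p : ℕ} [hp : Fact p.Prime]

theorem tri_card (hp3 : 3 < p) {a u : ℕ} (h : H17.Be.Tri G) (hu : Odd u)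
    (h1 : Nat.card G = 2 ^ a * u) (h2 : 3 * p = 2 ^ a + 1) :
    Nat.card G = 2 ^ a * ((2 ^ a) ^ 2 - 1) := by
  have ev : ∀ {n : ℕ}, n ≠ 0 → ∀ {k : ℕ}, k ≠ 0 → Odd ((2 ^ n) ^ k - 1) ∧ Odd ((2 ^ n) ^ k + 1) :=
    fun hn _ hk => have := Nat.even_pow.2 ⟨Nat.even_pow.2 ⟨even_two, hn⟩, hk⟩
      ⟨Nat.Even.sub_odd (Nat.one_le_pow _ _ (Nat.two_pow_pos _)) this odd_one, this.add_one⟩
  rcases h with ⟨F, _, _, n, k1, k2, ⟨e⟩⟩ | ⟨F, _, _, m, k1, k2, ⟨e⟩⟩ | ⟨F, _, _, n, k1, k2, ⟨e⟩⟩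
  · have k3 := H4.card_psl (F := F)
    have k4 := (ev (n := n) (by omega) one_ne_zero).1
    rw [pow_one] at k4
    rw [← Nat.card_congr e.toEquiv, k2, Nat.coprime_two_left.2 k4, one_mul] at k3
    rw [Cfsg.Agent.S4745.pow_eq hu (ev (by omega) two_ne_zero).1 (h1.symm.trans k3), k3]
  · rw [Nat.card_congr e.toEquiv, (H26.Sz.lieModel k1 k2).card_G, k2, mul_assoc] at h1
    have k4 := (ev (n := 2 * m + 1) (by omega) one_ne_zero).1
    rw [pow_one] at k4
    rw [← Cfsg.Agent.S4745.pow_eq ((ev (n := 2 * m + 1) (by omega) two_ne_zero).2.mul k4) hu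
      ((congrArg (· * _) (pow_mul 2 _ 2)).trans h1), mul_comm _ 2, pow_mul] at h2
    have := Nat.pow_mod (2 ^ 2) (2 * m + 1) 3
    simp only [Nat.reducePow, Nat.reduceMod, one_pow] at this h2
    omega
  · have k3 := H22.card_SU k2 3 (by omega)
    have k4 := (ev (n := n) (by omega) one_ne_zero).2
    rw [← H22.card_center_mul_card_quotient, H22.card_center_SU k2 3 (by omega),
      show Nat.card (_ ⧸ _) = _ from (Nat.card_congr e.toEquiv).symm.trans h1, ← mul_assoc,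
      mul_left_comm, ← pow_mul, Finset.prod_range_succ, Finset.prod_range_succ, Finset.prod_range_one,
      if_pos (by decide), if_neg (by decide), if_pos (by decide)] at k3
    rw [Cfsg.Agent.S4745.pow_eq (((pow_one (2 ^ n) ▸ k4).mul ((by decide : Odd 3).of_dvd_nat
      (Nat.gcd_dvd_left _ _))).mul hu) ((k4.mul (ev (by omega) (by omega)).1).mul
      (ev (by omega) (by omega)).2) k3, pow_mul] at h2
    obtain ⟨q, hq⟩ : ∃ q, 2 ^ n = q + 4 := ⟨_, (Nat.sub_add_cancel (Nat.pow_le_pow_right two_pos k1)).symm⟩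
    rw [hq, show (q + 4) ^ (3 * (3 - 1) / 2) + 1 = (q + 5) * (q ^ 2 + 7 * q + 13) by
      norm_num; ring] at h2
    rcases (hp.out.dvd_mul.1 ⟨3, by rw [← h2, mul_comm]⟩) with ⟨c, hc⟩ | ⟨c, hc⟩ <;>
      rw [hc, mul_comm 3] at h2
    · rw [mul_assoc, Nat.mul_right_inj (by omega)] at h2
      have := Nat.le_of_dvd (by omega) (Dvd.intro_left _ h2.symm)
      omega
    · rw [mul_left_comm, Nat.mul_right_inj (by omega)] at h2
      have := Nat.le_of_dvd (by omega) (Dvd.intro _ h2.symm)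
      omega

theorem se_case [IsSimpleGroup G] (hG : ¬ IsMulCommutative G) (hp3 : 3 < p) {Ω : Type*} [Finite Ω]
    [MulAction G Ω] [IsPretransitive G Ω] (hΩ : Nat.card Ω = 3 * p)
    (h1 : ∀ t : G, orderOf t = 2 → Nat.card (fixedBy Ω t) = 1) :
    Nat.card G = (3 * p - 1) * ((3 * p - 1) ^ 2 - 1) := by
  obtain ⟨t, ht⟩ := exists_prime_orderOf_dvd_card' (G := G) 2 ((Dvd.intro 2 rfl).trans (sm_four_dvd hG))
  obtain ⟨a, ha⟩ := Set.ncard_eq_one.1 (h1 t ht)
  have hi2 : (stabilizer G a).index = 3 * p := (index_stabilizer_of_transitive G a).trans hΩ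
  have hH : IsStronglyEmbedded (stabilizer G a) :=
    H6.stronglyEmbedded_iff.2 ⟨fun e => by rw [e, index_top] at hi2; omega,
      ⟨t, (ha ▸ Set.mem_singleton a : a ∈ fixedBy Ω t), ht⟩, fun g s hs k1 k2 => by
      obtain ⟨b, hb⟩ := Set.ncard_eq_one.1 (h1 s hs)
      have k3 : g⁻¹ • a ∈ fixedBy Ω s := by
        rw [mem_fixedBy, ← mul_smul, ← inv_mul_cancel_left g (s * g⁻¹), ← mul_assoc g, mul_smul,
          mem_stabilizer_iff.1 k2]
      have k4 : a ∈ fixedBy Ω s := k1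
      rw [hb] at k3 k4
      exact (smul_eq_iff_eq_inv_smul g).2 (k4.trans k3.symm)⟩
  have h0 : (stabilizer G a).normalCore = ⊥ := (IsSimpleGroup.eq_bot_or_eq_top_of_normal _
    inferInstance).resolve_right fun e => hH.1 (top_le_iff.1 (e ▸ normalCore_le _))
  obtain ⟨Q, k1, k2⟩ := H15.Bd.se_sz hH (H15.Bd.four_of_simple hG) h0
  obtain ⟨s, k3, k4⟩ := H6.se_exists_ord2_not_mem hH
  have h := k2 s k3 k4
  haveI := H15.Bd.faithful_of_core h0
  obtain ⟨n, hn⟩ := k1.exists_card_eq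
  have k5 := h.r1.card_Ω
  rw [← index_eq_card, hi2, hn] at k5
  have k6 := H17.Be.tri_LL h
  rw [(IsSimpleGroup.eq_bot_or_eq_top_of_normal _ h.normal_LL).resolve_left fun e => by
    have := card_le_of_le (e ▸ H17.le_LL (t := s) Q _)
    rw [card_bot, hn] at this
    omega] at k6
  rw [← card_top, tri_card hp3 k6 h.r1.odd_index_Q (by rw [card_top, ← hn, card_mul_index]) k5, k5,
    Nat.add_sub_cancel]

theorem nd (hp3 : 3 < p) {q j m : ℕ} (hq : 1 ≤ q) (h : p ∣ q * (q ^ 2 - 1)) (h1 : q + j = m * p)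
    (hj : j = 2 ∨ j = 3) : False := by
  have h2 : (p : ℤ) ∣ q * (q ^ 2 - 1) := by
    have := Int.natCast_dvd_natCast.2 h
    rwa [Nat.cast_mul, Nat.cast_sub (Nat.one_le_pow _ _ hq), Nat.cast_pow, Nat.cast_one] at this
  have h3 : (q : ℤ) = m * p - j := by rw [eq_sub_iff_add_eq]; exact_mod_cast h1
  have h4 : (p : ℤ) ∣ j * (j ^ 2 - 1) := by
    obtain ⟨c, hc⟩ := h2
    rw [h3] at hc
    exact ⟨m * ((m * p) ^ 2 - 3 * m * p * j + 3 * j ^ 2 - 1) - c, by linear_combination -hc⟩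
  have h5 : p ∣ 2 ^ 3 * 3 := by
    rcases hj with rfl | rfl
    · exact (Int.natCast_dvd_natCast.1 h4 : p ∣ 6).trans (by norm_num)
    · exact (Int.natCast_dvd_natCast.1 h4 : p ∣ 24)
  rcases hp.out.dvd_mul.1 h5 with h6 | h6
  · have := Nat.le_of_dvd two_pos (hp.out.dvd_of_dvd_pow h6); omega
  · have := Nat.le_of_dvd three_pos h6; omega

theorem known_deg (hp3 : 3 < p) (P : Sylow p G) (hN : Nat.card (nrm (P : Subgroup G)) = 2 * p)
    (h : GW.Known G) {χ θ : IrrCharacter G} (hd : dg θ + 1 = dg χ)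
    (hu : dg χ + 1 = 2 * p ∨ dg χ + 1 = 3 * p) : ∃ (F : Type) (_ : Field F) (_ : Fintype F),
      Fintype.card F + 1 = 2 * p ∧ Nonempty (G ≃* PSL(2, F)) := by
  obtain ⟨n, hn⟩ := exists_card_sylow p G
  have h2 := sm_sylow_mul P
  rw [hN, hn] at h2
  have hodd := hp.out.eq_two_or_odd
  rcases h with ⟨F, _, _, h3, h4, ⟨e⟩⟩ | ⟨⟨e⟩⟩
  · have h5 := Nat.odd_iff.1 h3
    have k1 := H4.card_psl (F := F)
    rw [H4.gcd_eq_two h5, ← Nat.card_congr e.toEquiv, ← h2] at k1
    have k2 : p ∣ Fintype.card F * (Fintype.card F ^ 2 - 1) := k1 ▸ ⟨2 * (1 + n * p) * 2, by ring⟩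
    have k3 := H4.sl_deg_cases (H4.psl_deg_sub ((H4.deg_of_equiv e).ge (show dg χ ∈ _ from ⟨χ, rfl⟩)))
    have k4 := H4.sl_deg_cases (H4.psl_deg_sub ((H4.deg_of_equiv e).ge (show dg θ ∈ _ from ⟨θ, rfl⟩)))
    refine ⟨F, inferInstance, inferInstance, by_contra fun k5 => ?_, ⟨e⟩⟩
    rcases (show Fintype.card F + 3 = 4 * p ∨ Fintype.card F + 2 = 3 * p ∨
      Fintype.card F + 3 = 6 * p by omega) with k6 | k6 | k6 <;> exact nd hp3 (by omega) k2 k6 (by simp)
  have k1 := H18.card_alt 7 (by omega)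
  rw [← Nat.card_congr e.toEquiv, ← h2] at k1
  have k2 : p ∣ 2 ^ 4 * (3 ^ 2 * (5 * 7)) := ⟨2 * (1 + n * p) * 2, by
    rw [show 2 ^ 4 * (3 ^ 2 * (5 * 7)) = Nat.factorial 7 from rfl, ← k1]; ring⟩
  simp only [hp.out.dvd_mul, hp.out.prime.dvd_pow_iff_dvd (show 4 ≠ 0 by omega),
    hp.out.prime.dvd_pow_iff_dvd two_ne_zero] at k2
  rcases k2 with k | k | k | k <;> rw [Nat.prime_dvd_prime_iff_eq hp.out (by norm_num)] at k <;>
    subst k <;> simp [Nat.factorial] at k1 hp3 <;> omega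

theorem psl_nine {F : Type} [Field F] [Fintype F] (h3 : Odd (Fintype.card F))
    (h5 : 5 ≤ Fintype.card F) (M : Subgroup PSL(2, F)) (hM : IsCoatom M)
    (h : 3 * Nat.card M = Fintype.card F * (Fintype.card F - 1)) : Fintype.card F = 9 := by
  obtain ⟨r, _⟩ := CharP.exists F
  haveI := Fact.mk (CharP.char_is_prime F r)
  have h6 := Cfsg.Agent.S5892.result r h3 h5 M hM
  have hM0 := Nat.card_pos (α := M)
  obtain ⟨q, hq⟩ : ∃ q, Fintype.card F = q + 1 := ⟨_, (Nat.sub_add_cancel (by omega)).symm⟩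
  simp only [hq, Nat.add_sub_cancel] at h h6 h3 h5 ⊢
  rcases h6 with k | ⟨-, k, k1, ⟨e⟩⟩ | ⟨-, -, k, k1, ⟨e⟩⟩ | ⟨K, _, _, k1, ⟨e⟩⟩ |
    ⟨K, _, _, s, k0, k1, k2, ⟨e⟩⟩ | ⟨-, -, ⟨e⟩⟩ | ⟨-, -, -, ⟨e⟩⟩ | ⟨-, -, ⟨e⟩⟩
  · omega
  · rw [Nat.card_congr e.toEquiv, DihedralGroup.nat_card] at h
    nlinarith
  · rw [Nat.card_congr e.toEquiv, DihedralGroup.nat_card, k1] at h
    have : q < 5 := by nlinarith
    interval_cases q <;> omega
  · rw [Nat.card_congr e.toEquiv, H4.card_pgl, k1, show q = Fintype.card K ^ 2 - 1 by omega,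
      ← mul_assoc, Nat.mul_left_inj (by omega), sq, Nat.mul_left_inj Fintype.card_ne_zero] at h
    rw [k1, ← h]
    norm_num
  · have k3 := H4.card_psl (F := K)
    have k4 := Fintype.one_lt_card (α := K)
    have k5 := Nat.pow_le_pow_right (n := Fintype.card K) (by omega)
      (show 3 ≤ s by have := k0.two_le; have := Nat.odd_iff.1 k1; omega)
    rw [← Nat.card_congr e.toEquiv] at k3
    have k6 := Nat.le_mul_of_pos_left (Nat.card M) (Nat.gcd_pos_of_pos_left (Fintype.card K - 1) two_pos)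
    have k7 : Fintype.card K * (Fintype.card K ^ 2 - 1) ≤ Fintype.card K ^ 3 := by
      rw [pow_succ' _ 2]; gcongr; omega
    nlinarith
  · rw [Nat.card_congr e.toEquiv, H18.card_a5] at h
    have : q < 14 := by nlinarith
    interval_cases q <;> omega
  · have := H18.card_alt 4 (by omega)
    rw [← Nat.card_congr e.toEquiv] at this
    simp only [Nat.factorial] at this
    have : q < 6 := by nlinarith
    interval_cases q <;> omega
  · rw [Nat.card_congr e.toEquiv, Nat.card_perm, Nat.card_fin] at h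
    simp only [Nat.factorial] at h
    have : q < 9 := by nlinarith
    interval_cases q <;> omega

theorem ti_count {K : Type*} [Group K] [Finite K]
    (hc : ∀ u g : K, u * u = 1 → u ≠ 1 → g * u = u * g → g * g = 1) (T : Sylow 2 K) :
    Nat.card (Sylow 2 K) ≡ 1 [MOD Nat.card (T : Subgroup K)] := by
  have hsq : ∀ x ∈ (T : Subgroup K), x * x = 1 := fun x hx => by
    by_cases h4 : x = 1
    · simp [h4]
    obtain ⟨k, hk⟩ := IsPGroup.iff_orderOf.1 T.isPGroup' ⟨x, hx⟩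
    rw [orderOf_mk] at hk
    have h5 := orderOf_pow_orderOf_div (x := x) (n := 2) (orderOf_pos x).ne' (hk ▸ dvd_pow_self _
      (by rintro rfl; exact h4 (orderOf_eq_one_iff.1 hk)))
    exact hc _ _ (by rw [← sq, ← h5, pow_orderOf_eq_one]) (by intro h6; simp [h6] at h5)
      (Commute.self_pow x _)
  have hab : ∀ x ∈ (T : Subgroup K), ∀ y ∈ (T : Subgroup K), x * y = y * x := fun x hx y hy => by
    rw [eq_inv_of_mul_eq_one_left (hsq _ (mul_mem hx hy)), mul_inv_rev,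
      ← eq_inv_of_mul_eq_one_left (hsq x hx), ← eq_inv_of_mul_eq_one_left (hsq y hy)]
  refine card_sylow_modEq_of_TI (sylow_TI_of_cent hab fun u hu h5 g hg => ?_)
  rw [← T.is_maximal' (Q := centralizer {u}) (fun y => ⟨1, Subtype.ext (by
    simpa [sq] using hc u y (hsq u hu) h5 (mem_centralizer_singleton_iff.1 y.2))⟩)
    fun y hy => mem_centralizer_singleton_iff.2 (hab y hy u hu)]
  exact mem_centralizer_singleton_iff.2 hg

theorem conc_sl (P : Sylow p G) (hN : Nat.card (nrm (P : Subgroup G)) = 2 * p) (h : BrConc G p) :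
    Nat.card G = p * ((p - 1) * (p - 2)) ∧ ∃ (m : ℕ) (F : Type) (_ : Field F) (_ : Fintype F),
      Fintype.card F = 2 ^ m ∧ p = 2 ^ m + 1 ∧ Nonempty (G ≃* SL(2, F)) := by
  refine h.2.elim (fun ⟨h1, F, _, _, hF, ⟨e⟩⟩ => ?_) id
  obtain ⟨n, hn⟩ := exists_card_sylow p G
  have h2 := sm_sylow_mul P
  rw [hN, hn] at h2
  have h3 : 4 * (1 + n * p) = p ^ 2 - 1 := Nat.eq_of_mul_eq_mul_left hp.out.pos (by linarith)
  have h4 : p ∣ 5 := (Nat.dvd_add_right (Dvd.intro_left (4 * n) rfl)).1 ⟨p, by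
    have : 0 < p ^ 2 := pow_pos hp.out.pos 2
    rw [← sq]; linarith [Nat.sub_add_cancel this]⟩
  obtain rfl := (Nat.prime_dvd_prime_iff_eq hp.out (by norm_num)).1 h4
  letI := Fintype.ofFinite (GaloisField 2 2)
  have h5 : Fintype.card (GaloisField 2 2) = 2 ^ 2 := by
    rw [← Nat.card_eq_fintype_card, GaloisField.card 2 2 two_ne_zero]
  obtain ⟨e1⟩ := H18.psl_a5 (Or.inr hF)
  obtain ⟨e2⟩ := H18.psl_a5 (Or.inl h5)
  exact ⟨by omega, 2, _, inferInstance, inferInstance, h5, rfl,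
    z_sl_of_psl (by rw [h5]; decide) ⟨e.trans (e1.trans e2.symm)⟩⟩

theorem not_prim [IsSimpleGroup G] (hG : ¬ IsMulCommutative G) (hp3 : 3 < p) {Ω : Type*}
    [Finite Ω] [MulAction G Ω] [IsPreprimitive G Ω] (hΩ : Nat.card Ω = 3 * p)
    (h1 : Nat.card G = p * ((p - 1) * (p - 2))) {m : ℕ} {F : Type} [Field F] [Fintype F]
    (h2 : Fintype.card F = 2 ^ m) (h3 : p = 2 ^ m + 1) (e : G ≃* SL(2, F)) : False := by
  have hm : m ≠ 0 := by rintro rfl; omega
  have hc := fun (u g : G) => sl2_even_cent (u := u) (g := g)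
    (by rw [h2]; exact even_two.pow_of_ne_zero hm) e
  have hodd := hp.out.eq_two_or_odd
  haveI : Nontrivial Ω := Finite.one_lt_card_iff_nontrivial.1 (by omega)
  obtain ⟨S⟩ : Nonempty (Sylow 2 G) := inferInstance
  obtain ⟨a, -, ha⟩ := H25.exists_fixed_of_not_dvd (S : Subgroup G) S.isPGroup' (Set.univ : Set Ω)
    (fun _ _ _ _ => trivial) (by rw [Set.ncard_univ]; omega)
  have hS := sm_card_sylow_eq S (k := m) (m := p * (p - 2)) (by
    rw [h1, show p - 1 = 2 ^ m by omega]; ring) (by rw [Nat.prime_two.dvd_mul]; omega)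
  have hle : (S : Subgroup G) ≤ stabilizer G a := ha
  have k1 := ti_count (fun (u g : stabilizer G a) h h' h'' => Subtype.ext (hc u g
    (congrArg Subtype.val h) (fun e => h' (Subtype.ext e)) (congrArg Subtype.val h''))) (S.subtype hle)
  have k2 := (S.subtype hle).card_dvd_index
  have k3 := (S.subtype hle).1.index_mul_card
  have k4 : Nat.card (S.subtype hle).1 = 2 ^ m :=
    (Nat.card_congr (subgroupOfEquivOfLe hle).toEquiv).trans hS
  have k5 := H25.card_eq_card_mul_card_stabilizer (G := G) a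
  rw [← k3, k4, hΩ, h1, show p - 1 = 2 ^ m by omega] at k5
  have k6 : p - 2 = 3 * (S.subtype hle).1.index :=
    Nat.eq_of_mul_eq_mul_left (show 0 < p * 2 ^ m by positivity) (by linarith)
  rw [k4] at k1
  have k7 := Nat.le_of_dvd (by omega) k2
  have k8 := k1.eq_of_lt_of_lt (by omega) (by omega)
  have k9 := sm_normal_of_card_sylow (S.subtype hle) k8
  have k10 : stabilizer G a ≤ normalizer ((S : Subgroup G) : Set G) :=
    (normal_subgroupOf_iff_le_normalizer hle).1 k9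
  have k11 := ti_count hc S
  rw [sm_card_sylow S, ← k10.eq_or_lt.resolve_right fun h => sm_sylow_normalizer_ne_top hG S
    ((Dvd.intro 2 rfl).trans (sm_four_dvd hG))
    (((isCoatom_stabilizer_iff_preprimitive G a).2 ‹_›).2 _ h),
    index_stabilizer_of_transitive, hΩ, hS] at k11
  have k12 : 2 ^ m ∣ 2 := (Nat.dvd_add_right (Dvd.intro_left 3 rfl)).1 (by
    convert (Nat.modEq_iff_dvd' (by omega)).1 k11.symm using 1; omega)
  have := Nat.le_of_dvd two_pos k12
  omega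

end H20.N3
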