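import Cfsg.Agent.H20.Fong
import Cfsg.Agent.H20.Amb
import Cfsg.Agent.H21.CD8
import Cfsg.Agent.H18.Dade

/-! Fong reduction for blocks of `p`-solvable groups; central idempotents supported on
`p`-regular elements. -/

set_option autoImplicit false
set_option linter.unusedSectionVars false

open MonoidAlgebra Subgroup H10 Cfsg H17 Finset
open H19 (kk Blk irr eB fB lam OG red ZZ om ev)
open CF (Irr dot cf cfj Res)
open scoped ComplexConjugate

namespace H20

section Inv
variable {G : Type*} [Group G] [Finite G] {K L : Subgroup G} {θ ξ : G → ℂ}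

theorem exists_ext_inv [K.Normal] [L.Normal] (hKL : K ≤ L)
    (hc : (Nat.card K).Coprime (K.relIndex L)) (hθ : θ ∈ Irr K) (hs : ⊤ ≤ CF.stab θ) :
    ∃ ξ ∈ Irr L, Res (K : Set G) ξ = θ ∧ ⊤ ≤ CF.stab ξ := by
  have hn : L ≤ nrm K := le_top.trans (top_le_nrm _)
  obtain ⟨ξ, hξ, h1⟩ := H21.exists_canon hKL hn hc hθ (le_top.trans hs)
  refine ⟨ξ, hξ.1, h1, fun g _ => ?_⟩
  have hgL : g ∈ nrm L := top_le_nrm _ (mem_top g)
  have hgK : g ∈ nrm K := top_le_nrm _ (mem_top g)
  have h2 : Res (K : Set G) (cfj g ξ) = θ := by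
    rw [← CF.cfj_Res_norm hgK, h1]; exact hs (mem_top g)
  refine H21.Canon.unique hKL hn hc ⟨CF.cfj_mem_Irr_norm hgL hξ.1, h2 ▸ hθ, ?_⟩ hξ (h2.trans h1.symm)
  have h3 := H21.detOrder_equiv (CF.irr_res hξ.1).isCharacter (MulAut.conjNormal (H := L) g⁻¹)
  have h4 : CF.res L (cfj g ξ) = fun y => CF.res L ξ (MulAut.conjNormal (H := L) g⁻¹ y) := by
    funext y
    simp [CF.res_apply, CF.cfj_apply]
  rw [h4, h3]
  exact hξ.2.2

theorem pci_fixed_top [L.Normal] (hs : ⊤ ≤ CF.stab ξ) : pci L ξ ∈ fixed ℂ (⊤ : Subgroup G) :=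
  mem_fixed.2 fun g hg => by rw [cj_pci (top_le_nrm _ hg), CF.mem_stab.1 (hs hg)]

theorem trunc_pci (hKL : K ≤ L) (h : Res (K : Set G) ξ = θ) :
    (K.relIndex L : ℂ) • trunc (K : Set G) (pci L ξ) = pci K θ := by
  refine ext_coeff fun x => ?_
  rw [coeff_smul, Finsupp.smul_apply, coeff_pci, ← h, CF.Res_one, smul_eq_mul]
  by_cases hx : x ∈ K
  · rw [coeff_trunc_of_mem _ hx, coeff_pci, CF.Res_of_mem _ (K.inv_mem hx), CF.relIndex_cast hKL]
    field_simp [CF.card_ne L]
  · rw [coeff_trunc_of_not_mem _ hx, CF.Res_of_not_mem _ (fun h => hx (K.inv_mem_iff.1 h))]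
    simp

theorem pci_mul_pci_ext (hKL : K ≤ L) (hθ : θ ∈ Irr K) (hξ : ξ ∈ Irr L)
    (h : Res (K : Set G) ξ = θ) (hf : pci K θ ∈ fixed ℂ L) : pci K θ * pci L ξ = pci L ξ := by
  rw [cen_mul_pci hξ ⟨supp_mono hKL (pci_cen hθ).1, hf⟩, ← ev_Res (pci_cen hθ).1, h, ev_pci hθ,
    ← h, CF.Res_one, div_self (CF.irr_one_ne hξ), one_smul]

theorem trace_eq_sum_coeff [Fintype G] (T : ℂ[G] →ₗ[ℂ] ℂ[G]) :
    LinearMap.trace ℂ _ T = ∑ g : G, (T (single g 1)).coeff g := by
  classical
  rw [LinearMap.trace_eq_matrix_trace ℂ (MonoidAlgebra.basis G ℂ), Matrix.trace]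
  refine sum_congr rfl fun u _ => ?_
  rw [Matrix.diag_apply, LinearMap.toMatrix_apply]
  simp
  rfl

theorem mul_eq_trunc_mul (hKL : K ≤ L) {E e : ℂ[G]} (hE : E ∈ cen ℂ L) (hi : E * E = E)
    (h1 : (K.relIndex L : ℂ) • trunc (K : Set G) E = e) (h2 : e * E = E) {a : ℂ[G]}
    (ha : a ∈ supp ℂ L) : a * E = (K.relIndex L : ℂ) • trunc (K : Set G) (a * E) * E := by
  classical
  have := Fintype.ofFinite G
  set n := (K.relIndex L : ℂ) with hn
  set T2 : ℂ[G] →ₗ[ℂ] ℂ[G] := LinearMap.mulRight ℂ E ∘ₗ trunc (L : Set G) with hT2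
  set T1 : ℂ[G] →ₗ[ℂ] ℂ[G] :=
    n • (LinearMap.mulRight ℂ E ∘ₗ trunc (K : Set G) ∘ₗ LinearMap.mulRight ℂ E) with hT1
  have e2 : ∀ a, T2 a = trunc (L : Set G) a * E := fun _ => rfl
  have e1 : ∀ a, T1 a = n • (trunc (K : Set G) (a * E) * E) := fun _ => rfl
  have hs : ∀ a, trunc (K : Set G) a * E ∈ supp ℂ L := fun a =>
    mul_mem (supp_mono hKL (trunc_mem_supp _ _)) hE.1
  have i22 : T2 * T2 = T2 := LinearMap.ext fun a => by
    rw [Module.End.mul_apply, e2, e2, trunc_eq_self_of_supp (mul_mem (trunc_mem_supp _ _) hE.1),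
      mul_assoc, hi]
  have i21 : T2 * T1 = T1 := LinearMap.ext fun a => by
    rw [Module.End.mul_apply, e1, map_smul, e2, trunc_eq_self_of_supp (hs _), mul_assoc, hi]
  have i12 : T1 * T2 = T1 := LinearMap.ext fun a => by
    rw [Module.End.mul_apply, e1, e1, e2, mul_assoc, hi, ← trunc_mul_right _ hE.1, trunc_trunc,
      Set.inter_eq_left.2 hKL]
  have i11 : T1 * T1 = T1 := LinearMap.ext fun a => by
    rw [Module.End.mul_apply, e1 a, map_smul, e1, mul_assoc, hi,
      trunc_mul_left (trunc_mem_supp _ _), mul_assoc, ← mul_smul_comm n _ (_ * E),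
      ← smul_mul_assoc n (trunc (K : Set G) E), h1, h2]
  have hid : IsIdempotentElem (T2 - T1) := by
    rw [IsIdempotentElem, sub_mul, mul_sub, mul_sub, i22, i21, i12, i11, sub_self, sub_zero]
  have t2 : LinearMap.trace ℂ _ T2 = Nat.card L * E.coeff 1 := by
    rw [trace_eq_sum_coeff, ← CF.sum_sub_const, ← CF.fs_univ,
      ← CF.sum_fs_subset (Set.subset_univ (L : Set G))]
    · refine CF.sum_fs_congr fun g hg => ?_
      rw [e2, trunc_eq_self_of_supp (single_mem_supp hg _), coeff_single_mul_apply]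
      simp
    · intro g _ hg
      rw [e2, trunc_eq_zero_iff.2, zero_mul]
      · rfl
      · intro y hy
        rw [coeff_single, Finsupp.single_eq_of_ne]
        rintro rfl
        exact hg hy
  have t1 : LinearMap.trace ℂ _ T1 = Nat.card L * E.coeff 1 := by
    rw [trace_eq_sum_coeff]
    have h3 : ∀ g : G, (T1 (single g 1)).coeff g =
        n * ∑ k ∈ CF.fs (K : Set G), E.coeff (g⁻¹ * k) * E.coeff (k⁻¹ * g) := by
      intro g
      rw [e1, coeff_smul, Finsupp.smul_apply, smul_eq_mul, coeff_mul_left, ← CF.fs_univ,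
        ← CF.sum_fs_subset (Set.subset_univ (K : Set G))]
      · congr 1
        refine CF.sum_fs_congr fun k hk => ?_
        rw [coeff_trunc_of_mem _ hk, coeff_single_mul_apply, one_mul]
      · intro k _ hk
        rw [coeff_trunc_of_not_mem _ hk, zero_mul]
    rw [sum_congr rfl fun g _ => h3 g, ← mul_sum, sum_comm, CF.sum_fs_congr
      (g := fun _ => E.coeff 1), CF.sum_sub_const, ← mul_assoc, hn, ← Nat.cast_mul, mul_comm _ (Nat.card K),
      CF.card_mul_relIndex hKL]
    intro k _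
    conv_rhs => rw [← hi, coeff_mul_left]
    exact Fintype.sum_equiv ((Equiv.inv G).trans (Equiv.mulRight k)) _ _ fun g => by simp
  have h4 : T2 - T1 = 0 := LinearMap.IsIdempotentElem.eq_zero_of_trace_eq_zero hid (by rw [map_sub, t1, t2, sub_self])
  have h5 := LinearMap.congr_fun (sub_eq_zero.1 h4) a
  rw [e1, e2, trunc_eq_self_of_supp ha] at h5
  rw [smul_mul_assoc]
  exact h5

theorem cj_mul_of_ext (hKL : K ≤ L) {E e : ℂ[G]} (hE : E ∈ supp ℂ L) (hE' : E ∈ fixed ℂ ⊤)
    (hi : E * E = E) (h1 : (K.relIndex L : ℂ) • trunc (K : Set G) E = e) (h2 : e * E = E)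
    {c : ℂ[G]} (hc : c ∈ fixed ℂ K) {t : G} (ht : t ∈ L) : cj t c * E = c * E := by
  have h3 := mul_eq_trunc_mul hKL ⟨hE, fixed_anti le_top hE'⟩ hi h1 h2
    (single_mem_supp (L.inv_mem ht) (1 : ℂ))
  have h4 : (K.relIndex L : ℂ) • trunc (K : Set G) (single t⁻¹ 1 * E) ∈ supp ℂ K :=
    Subalgebra.smul_mem _ (trunc_mem_supp _ _) _
  set a := (K.relIndex L : ℂ) • trunc (K : Set G) (single t⁻¹ 1 * E)
  have h5 : ∀ z, Commute E z := fun z => commute_of_fixed_of_supp hE' (mem_supp_top z)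
  rw [cj_eq, mul_assoc, h3, mul_assoc, ← mul_assoc c, (commute_of_fixed_of_supp hc h4).eq, mul_assoc,
    ← (h5 c).eq, ← mul_assoc a, ← h3, ← mul_assoc, ← mul_assoc, single_mul_single, mul_inv_cancel,
    mul_one, ← one_def, one_mul]

end Inv

section Base
variable {G : Type*} [Group G] [Finite G] {p : ℕ} [hp : Fact p.Prime] {K : Subgroup G} [K.Normal]

theorem exists_conj_of_reg {V : Subgroup G} [V.Normal] (hV : IsPGroup p V) {q r : G}
    (hq : ¬ p ∣ orderOf q) (hr : ¬ p ∣ orderOf r) (h : r * q⁻¹ ∈ V) :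
    ∃ x ∈ V, x * r * x⁻¹ = q := by
  obtain ⟨n, hn⟩ := hV.exists_card_eq
  obtain ⟨x, hx, c, hc, h1, h2⟩ := H18.coset_conj_centralizer V q (top_le_nrm _ (mem_top q))
    (hn ▸ (((Nat.Prime.coprime_iff_not_dvd hp.out).2 hq).symm.pow_right n)) _ h
  rw [inv_mul_cancel_right] at h2
  refine ⟨x, hx, ?_⟩
  have h3 : ¬ p ∣ orderOf (c * q) := by
    rwa [← h2, H19.orderOf_isConj (isConj_iff.2 ⟨x, rfl⟩)]
  have h4 : orderOf c ∣ orderOf (c * q) * orderOf q⁻¹ := by
    have := Commute.orderOf_mul_dvd_mul_orderOf (x := c * q) (y := q⁻¹)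
      ((Commute.mul_left h1 (Commute.refl q)).inv_right)
    rwa [mul_inv_cancel_right] at this
  by_contra h5
  have h6 : c ≠ 1 := fun h => h5 (by rw [h2, h, one_mul])
  rcases (Nat.Prime.dvd_mul hp.out).1 (((H19.isPElt_of_mem hV hc).dvd_orderOf h6).trans h4) with h | h
  · exact h3 h
  · exact hq (orderOf_inv q ▸ h)

theorem cj_comp (t : G) (q : G ⧸ K) {f : ℂ[G]} (hf : f ∈ fixed ℂ (⊤ : Subgroup G)) :
    cj t (comp K q f) = comp K ((t : G ⧸ K) * q * (t : G ⧸ K)⁻¹) f := by
  classical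
  refine ext_coeff fun x => ?_
  rw [coeff_cj, comp, comp, coeff_trunc, coeff_trunc, coeff_inv_conj_of_fixed hf (mem_top t)]
  have : t⁻¹ * x * t ∈ {y : G | (y : G ⧸ K) = q} ↔
      x ∈ {y : G | (y : G ⧸ K) = (t : G ⧸ K) * q * (t : G ⧸ K)⁻¹} := by
    simp only [Set.mem_setOf_eq, QuotientGroup.mk_mul, QuotientGroup.mk_inv]
    constructor
    · rintro rfl; group
    · intro h; rw [h]; group
  simp only [this]
  congr

theorem supp_of_reg_idem (hK : ¬ p ∣ Nat.card K) {V : Subgroup (G ⧸ K)} [V.Normal]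
    (hV : IsPGroup p V) (hC : cent V ≤ V) {θ : G → ℂ} (hθ : θ ∈ Irr K) (hs : ⊤ ≤ CF.stab θ)
    {f : ℂ[G]} (hf : f ∈ fixed ℂ (⊤ : Subgroup G)) (hi : f * f = f) (he : pci K θ * f = f)
    (hst : ∀ g, f.coeff g⁻¹ = conj (f.coeff g)) (hr : ∀ g, f.coeff g ≠ 0 → ¬ p ∣ orderOf g) :
    f ∈ supp ℂ K := by
  classical
  have := Fintype.ofFinite G
  set L := V.comap (QuotientGroup.mk' K) with hL
  have hKL : K ≤ L := fun x hx => by
    rw [hL, mem_comap, QuotientGroup.mk'_apply, (QuotientGroup.eq_one_iff x).2 hx]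
    exact one_mem _
  obtain ⟨m, hm⟩ := hV.exists_card_eq
  have hn : K.relIndex L = p ^ m := by
    rw [← hm, ← map_comap_eq_self_of_surjective (QuotientGroup.mk'_surjective K) V,
      ← relIndex_ker, QuotientGroup.ker_mk']
  obtain ⟨ξ, hξ, h1, h2⟩ := exists_ext_inv hKL
    (hn ▸ ((Nat.Prime.coprime_iff_not_dvd hp.out).2 hK).symm.pow_right m) hθ hs
  set E := pci L ξ with hE
  set e := pci K θ with he'
  have hEf : E ∈ fixed ℂ (⊤ : Subgroup G) := pci_fixed_top h2
  have hef : e ∈ fixed ℂ (⊤ : Subgroup G) := pci_fixed_top hs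
  have h3 : (K.relIndex L : ℂ) • trunc (K : Set G) E = e := trunc_pci hKL h1
  have h4 : e * E = E := pci_mul_pci_ext hKL hθ hξ h1 (fixed_anti le_top hef)
  set n := (K.relIndex L : ℂ) with hn'
  have h5 : ∀ a ∈ supp ℂ K, n * (a * E).coeff 1 = (e * a).coeff 1 := by
    intro a ha
    rw [← coeff_trunc_of_mem (S := (K : Set G)) (a * E) K.one_mem, trunc_mul_left ha,
      (commute_of_fixed_of_supp hef (mem_supp_top a)).eq, ← h3, mul_smul_comm, coeff_smul,
      Finsupp.smul_apply, smul_eq_mul]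
  have h6 : ∀ (q : G ⧸ K) (a : ℂ[G]), Hom K q a → q ∉ V → (a * E).coeff 1 = 0 := by
    intro q a ha hq
    rw [coeff_mul_left]
    refine sum_eq_zero fun x _ => ?_
    by_contra h
    have h7 := mem_of_coeff_ne_zero (pci_cen hξ).1 (right_ne_zero_of_mul h)
    rw [mul_one, L.inv_mem_iff, hL, mem_comap, QuotientGroup.mk'_apply,
      ha x (left_ne_zero_of_mul h)] at h7
    exact hq h7
  set F : G ⧸ K → ℂ[G] := fun q => comp K q f with hF
  have hF0 : ∀ q, p ∣ orderOf q → F q = 0 := by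
    intro q hq
    refine trunc_eq_zero_iff.2 fun x hx => ?_
    by_contra h
    refine hr x h (hq.trans ?_)
    rw [← show (x : G ⧸ K) = q from hx]
    exact orderOf_map_dvd (QuotientGroup.mk' K) x
  have hFe : ∀ q, e * F q = F q := fun q => by
    rw [hF]
    simp only
    rw [← comp_mul_left q (pci_cen hθ).1, he]
  have hFs : ∑ q, F q = f := sum_comp f
  set N : G ⧸ K → ℝ := fun q => ∑ x ∈ univ.filter fun x : G => (x : G ⧸ K) = q,
    Complex.normSq (f.coeff x) with hN
  have hN0 : ∀ q, 0 ≤ N q := fun q => sum_nonneg fun _ _ => Complex.normSq_nonneg _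
  have hNF : ∀ q, (F q * F q⁻¹).coeff 1 = N q := by
    intro q
    rw [coeff_mul_left, hN]
    simp only
    rw [sum_filter, Complex.ofReal_sum]
    refine sum_congr rfl fun x _ => ?_
    rw [hF]
    simp only [comp]
    by_cases hx : (x : G ⧸ K) = q
    · rw [if_pos hx, coeff_trunc_of_mem _ (by exact hx), mul_one, coeff_trunc_of_mem, hst,
        Complex.mul_conj]
      rw [Set.mem_setOf_eq, QuotientGroup.mk_inv, hx]
    · rw [if_neg hx, coeff_trunc_of_not_mem _ (by exact hx), zero_mul, Complex.ofReal_zero]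
  have hS1 : f.coeff 1 = ∑ q, (N q : ℂ) := by
    conv_lhs => rw [← hi, coeff_mul_left]
    rw [← Complex.ofReal_sum, hN, sum_fiberwise, Complex.ofReal_sum]
    exact sum_congr rfl fun x _ => by rw [mul_one, hst, Complex.mul_conj]
  set c : G ⧸ K → G ⧸ K → ℝ := fun q r =>
    if ¬ p ∣ orderOf q ∧ ¬ p ∣ orderOf r ∧ q * r ∈ V then 1 else 0 with hc
  have hT : ∀ q r, n * (F q * F r * E).coeff 1 = ((c q r * N q : ℝ) : ℂ) := by
    intro q r
    rw [hc]
    simp only
    split_ifs with h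
    · obtain ⟨x, hx, hx'⟩ := exists_conj_of_reg hV (q := q⁻¹) (r := r) (by rw [orderOf_inv]; exact h.1)
        h.2.1 (by
          have := Normal.conj_mem inferInstance _ h.2.2 q⁻¹
          simpa [mul_assoc] using this)
      obtain ⟨t, rfl⟩ := QuotientGroup.mk_surjective x
      have h7 := cj_mul_of_ext hKL (pci_cen hξ).1 hEf (pci_idem hξ) h3 h4
        (comp_mem_fixed r (fixed_anti le_top hf) le_rfl) (t := t) hx
      rw [cj_comp t r hf, hx'] at h7
      rw [mul_assoc, ← h7, ← mul_assoc, h5, ← mul_assoc, hFe, hNF, one_mul]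
      rw [← hom_one_iff, ← mul_inv_cancel q]
      exact (hom_comp _ _).mul (hom_comp _ _)
    · rw [zero_mul, Complex.ofReal_zero, mul_eq_zero]
      right
      by_cases hq : p ∣ orderOf q
      · rw [hF0 q hq, zero_mul, zero_mul]; rfl
      by_cases hr' : p ∣ orderOf r
      · rw [hF0 r hr', mul_zero, zero_mul]; rfl
      exact h6 _ _ ((hom_comp _ _).mul (hom_comp _ _)) fun h' => h ⟨hq, hr', h'⟩
  have hS2 : n * (f * E).coeff 1 = f.coeff 1 := by
    conv_lhs => rw [← hFs]
    rw [sum_mul, H19.coeff_sum_apply, sum_eq_single 1, h5 _ (hom_one_iff.1 (hom_comp _ _)), hFe]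
    · exact coeff_trunc_of_mem _ rfl
    · intro q _ hq
      by_cases h : q ∈ V
      · rw [hF0 q ((H19.isPElt_of_mem hV h).dvd_orderOf hq), zero_mul]; rfl
      · exact h6 _ _ (hom_comp _ _) h
    · simp
  have hS3 : ∑ q, N q = ∑ q, ∑ r, c q r * N q := by
    apply Complex.ofReal_injective
    rw [Complex.ofReal_sum, ← hS1, ← hS2, ← hi]
    conv_lhs => rw [← hFs]
    rw [sum_mul_sum, sum_mul, H19.coeff_sum_apply, mul_sum, Complex.ofReal_sum]
    refine sum_congr rfl fun q _ => ?_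
    rw [sum_mul, H19.coeff_sum_apply, mul_sum, Complex.ofReal_sum]
    exact sum_congr rfl fun r _ => hT q r
  have hc0 : ∀ q r, 0 ≤ c q r := fun q r => by rw [hc]; simp only; split_ifs <;> norm_num
  have hNz : ∀ q, p ∣ orderOf q → N q = 0 := fun q hq => by
    apply Complex.ofReal_injective
    rw [← hNF, hF0 q hq, zero_mul]; rfl
  have hc1 : ∀ q, ¬ p ∣ orderOf q → ∀ v ∈ V, c q (v * q⁻¹ * v⁻¹) = 1 := fun q hq v hv => by
    rw [hc]
    refine if_pos ⟨hq, ?_, ?_⟩
    · rwa [H19.orderOf_isConj (isConj_iff.2 ⟨v, rfl⟩), orderOf_inv]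
    · rw [← mul_assoc, ← mul_assoc]
      exact mul_mem (Normal.conj_mem inferInstance _ hv q) (inv_mem hv)
  have hle : ∀ q ∈ (univ : Finset (G ⧸ K)), N q ≤ ∑ r, c q r * N q := by
    intro q _
    by_cases hq : p ∣ orderOf q
    · simp [hNz q hq]
    · have := single_le_sum (f := fun r => c q r * N q) (s := univ)
        (fun r _ => mul_nonneg (hc0 q r) (hN0 q)) (mem_univ (1 * q⁻¹ * 1⁻¹))
      rwa [hc1 q hq 1 (one_mem _), one_mul] at this
  have heq := (sum_eq_sum_iff_of_le hle).1 hS3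
  refine mem_supp.2 fun x hx => ?_
  by_contra h0
  have hq : ¬ p ∣ orderOf (x : G ⧸ K) := fun h =>
    hr x h0 (h.trans (orderOf_map_dvd (QuotientGroup.mk' K) x))
  have hpos : 0 < N x := lt_of_lt_of_le (Complex.normSq_pos.2 h0)
    (single_le_sum (f := fun x => Complex.normSq (f.coeff x)) (fun _ _ => Complex.normSq_nonneg _)
      (mem_filter.2 ⟨mem_univ x, rfl⟩))
  have hcen : (x : G ⧸ K)⁻¹ ∈ cent V := by
    refine mem_cent.2 fun v hv => ?_
    by_contra hne
    have h7 := add_le_sum (f := fun r => c x r * N x) (s := univ)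
      (fun r _ => mul_nonneg (hc0 _ r) (hN0 _)) (mem_univ (1 * (x : G ⧸ K)⁻¹ * 1⁻¹))
      (mem_univ (v * (x : G ⧸ K)⁻¹ * v⁻¹)) (by rw [one_mul, inv_one, mul_one]; exact Ne.symm hne)
    rw [hc1 _ hq 1 (one_mem _), hc1 _ hq v hv, ← heq _ (mem_univ _)] at h7
    linarith
  exact hq ((H19.isPElt_of_mem hV (V.inv_mem_iff.1 (hC hcen))).dvd_orderOf
    fun h => hx ((QuotientGroup.eq_one_iff x).1 h))

end Base

section Ind
universe u
variable {O : ValuationSubring ℂ} {p : ℕ} [hp : Fact p.Prime] [CharP (kk O) p]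

theorem stab_of_pci_fixed {G : Type*} [Group G] [Finite G] {K : Subgroup G} [K.Normal] {θ : G → ℂ}
    (hθ : θ ∈ Irr K) (h : pci K θ ∈ fixed ℂ (⊤ : Subgroup G)) : ⊤ ≤ CF.stab θ := by
  intro g hg
  rw [CF.mem_stab]
  funext x
  have h1 := congrArg (fun a : ℂ[G] => a.coeff x⁻¹) (mem_fixed.1 h g hg)
  simp only [cj_pci (top_le_nrm K hg), coeff_pci, inv_inv, CF.cfj_at_one] at h1
  exact mul_left_cancel₀ (CF.irr_one_ne hθ) (mul_left_cancel₀ (inv_ne_zero (CF.card_ne K)) h1)

/-- Fong reduction as an induction principle -/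
theorem fong_ind (Pr : ∀ (G : Type u) [Group G] [Finite G], Blk O G → Prop)
    (h1 : ∀ (G : Type u) [Group G] [Finite G] (T K : Subgroup G) [K.Normal] (C : ℂ[G])
      (β : Blk O G) (β' : Blk O T), IsPSolvable p G → ¬ p ∣ Nat.card K → K ≤ T → C ∈ supp ℂ K →
      FR T C → C ∈ OG O G → FR T (red O C) → eG β * red O C = eA T β' →
      (∀ χ ∈ irr β, fB {χ} * C ≠ 0) → Pr T β' → Pr G β)
    (h2 : ∀ (G : Type u) [Group G] [Finite G] (θ : IrrCharacter (pPrimeCore p G)) (β : Blk O G),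
      IsPSolvable p G → ⊤ ≤ CF.stab (extendByZero _ (θ : pPrimeCore p G → ℂ)) →
      eG β = eA _ (lam O θ) → fB (irr β) = fA _ {θ} → Pr G β)
    (G : Type u) [Group G] [Finite G] (hs : IsPSolvable p G) (β : Blk O G) : Pr G β := by
  induction' hn : Nat.card G using Nat.strong_induction_on with n ih generalizing G
  have := Fintype.ofFinite G
  set K := pPrimeCore p G with hKd
  have hK : ¬ p ∣ Nat.card K := H1.not_dvd_card_pPrimeCore hp.out
  obtain ⟨c, hc, h0⟩ := exists_blk_mul_ne_zero K (isBlk_eG β).ne_zero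
  obtain ⟨γ, rfl⟩ := hc.exists_eA
  obtain ⟨θ, hθ⟩ := H19.irr_nonempty γ
  obtain rfl : lam O θ = γ := hθ
  have h3 := H19.singleton_of_not_dvd O hK θ
  by_cases hT : stab (eA K (lam O θ)) = ⊤
  · have h4 : eA K (lam O θ) ∈ fixed (kk O) ⊤ := mem_fixed_iff_le_stab.2 hT.ge
    have h5 := fong (QuotientGroup.mk' K) (QuotientGroup.mk'_surjective _)
      (by rwa [QuotientGroup.ker_mk']) (H1.isPGroup_pCore p)
      (H1.IsPSolvable.centralizer_pCore_le (H1.IsPSolvable.quotient hs _)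
        (H1.pPrimeCore_quotient_pPrimeCore p)) (by rwa [QuotientGroup.ker_mk']) h4 IsPGroup.of_bot
    rw [cent_bot, br_bot] at h5
    have h6 : eG β = eA K (lam O θ) := (h5.eq_of_mul_ne_zero' (isBlk_eG β) h0)
    have h7 : fA K {θ} ∈ fixed ℂ (⊤ : Subgroup G) := by
      rw [← h3]
      exact lift_mem_fixed (fA_mem_cen _ _) (fA_idem _ _) (fA_mem_OG _ _) (top_le_nrm _)
        (by rwa [red_fA])
    refine h2 G θ β hs (stab_of_pci_fixed (ext_mem_Irr θ) (by rwa [pci_ext])) h6 ?_
    refine idem_eq_of_red (fB_mem_cen _) (mem_cen_top.2 h7) (fB_idem _) (fA_idem _ _)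
      (H19.fB_irr_mem_OG β) (h3 ▸ fA_mem_OG _ _) ?_
    rw [red_fB, ← h3, red_fA, h6]
  · have h4 := (isBlk_eA K (lam O θ)).fr
    obtain ⟨β', hβ'⟩ := (h4.isBlk (isBlk_eG β) h0).exists_eA
    refine h1 G _ K (fA K (irr (lam O θ))) β β' hs hK
      (mem_fixed_iff_le_stab.1 (isBlk_eA _ _).fixed) (fA_mem_cen _ _).1 (fr_fA _) (fA_mem_OG _ _)
      (by rwa [red_fA]) (by rw [red_fA, hβ']) (fun χ hχ => exists_irr_under_of_cover h0 hχ) ?_
    exact ih _ (hn ▸ H21.card_lt_of_ne_top hT) _ (H1.IsPSolvable.subgroup hs _) β' rfl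

theorem exists_fA_of_idem {G : Type*} [Group G] [Finite G] {H : Subgroup G} {e : ℂ[G]}
    (he : e ∈ cen ℂ H) (hi : IsIdempotentElem e) : ∃ A : Set (IrrCharacter H), e = fA H A := by
  obtain ⟨a, rfl⟩ := exists_emb_eq he.1
  have h1 : a ∈ ZZ ℂ H := mem_cen_top_iff.1 (emb_mem_cen_up.1 (by rwa [up_top]))
  have h2 := emb_idem_iff.1 hi
  refine ⟨{χ | om (χ : H → ℂ) a = 1}, congrArg _ (H19.ZZ_ext_om h1 (H19.fB_mem_ZZ _) fun χ => ?_)⟩
  by_cases h : om (χ : H → ℂ) a = 1
  · rw [H19.om_fB_of_mem (by exact h), h]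
  · rw [H19.om_fB_of_not_mem (by exact h)]
    have h3 := H19.om_central_mul χ.2 h1 a
    rw [h2.eq] at h3
    exact (mul_left_eq_self₀.1 h3.symm).resolve_left h

/-- Harada's conjecture for `p`-solvable groups -/
theorem harada (G : Type u) [Group G] [Finite G] (hs : IsPSolvable p G) (β : Blk O G) :
    ∀ U : Set (IrrCharacter G), (∀ g, (fB U).coeff g ≠ 0 → ¬ p ∣ orderOf g) →
      ∀ χ ∈ irr β, ∀ ψ ∈ irr β, χ ∈ U → ψ ∈ U := by
  refine fong_ind (O := O) (p := p) (fun G _ _ β => ∀ U : Set (IrrCharacter G),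
    (∀ g, (fB U).coeff g ≠ 0 → ¬ p ∣ orderOf g) → ∀ χ ∈ irr β, ∀ ψ ∈ irr β, χ ∈ U → ψ ∈ U)
    ?_ ?_ G hs β
  all_goals
    have key : ∀ {G : Type u} [Group G] [Finite G] {K : Subgroup G} [K.Normal],
        ¬ p ∣ Nat.card K → ∀ {a C : ℂ[G]}, C ∈ supp ℂ K → (∀ g, a.coeff g ≠ 0 → ¬ p ∣ orderOf g) →
        ∀ g, (a * C).coeff g ≠ 0 → ¬ p ∣ orderOf g := by
      intro G _ _ K _ hK a C hC ha g hg
      have := Fintype.ofFinite G
      rw [coeff_mul_left] at hg
      obtain ⟨x, -, hx⟩ := exists_ne_zero_of_sum_ne_zero hg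
      have h1 := mem_of_coeff_ne_zero hC (right_ne_zero_of_mul hx)
      have h2 := ha x (left_ne_zero_of_mul hx)
      have h3 : g ^ orderOf x ∈ K := by
        rw [← QuotientGroup.eq_one_iff, QuotientGroup.mk_pow, ← QuotientGroup.eq.2 h1,
          ← QuotientGroup.mk_pow, pow_orderOf_eq_one, QuotientGroup.mk_one]
      have h4 : orderOf g ∣ orderOf x * Nat.card K := by
        rw [orderOf_dvd_iff_pow_eq_one, pow_mul]
        exact congrArg Subtype.val (pow_card_eq_one' (G := K) (x := ⟨_, h3⟩))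
      exact fun h => ((Nat.Prime.dvd_mul hp.out).1 (h.trans h4)).elim h2 hK
  · intro G _ _ T K _ C β β' _ hK hKT hC hF hO _ he h0 ih U hU χ hχ ψ hψ hχU
    have := Fintype.ofFinite G
    have hf := mem_cen_top.1 (fB_mem_cen U)
    obtain ⟨U', hU'⟩ := exists_fA_of_idem (hF.mul_cen hf)
      (IsIdempotentElem.mul_of_commute (commute_of_fixed_of_supp hf (mem_supp_top C)) (fB_idem U)
        hF.idem)
    obtain ⟨χ', hχ'⟩ := hF.exists_under (h0 χ hχ)
    obtain ⟨ψ', hψ'⟩ := hF.exists_under (h0 ψ hψ)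
    have hb := hF.fB_mul hO he
    refine (hF.mem_iff hU' hψ').2 (ih U' (fun g hg => ?_) χ' ((hF.mem_iff hb hχ').1 hχ) ψ'
      ((hF.mem_iff hb hψ').1 hψ) ((hF.mem_iff hU' hχ').1 hχU))
    rw [← orderOf_coe]
    refine key hK hC hU g ?_
    rwa [hU', fA, coeff_emb]
  · intro G _ _ θ β hs hi _ he U hU χ hχ ψ hψ hχU
    have hK : ¬ p ∣ Nat.card (pPrimeCore p G) := H1.not_dvd_card_pPrimeCore hp.out
    have h1 : fB (U ∩ irr β) ∈ supp ℂ (pPrimeCore p G) := by
      refine supp_of_reg_idem hK (H1.isPGroup_pCore p)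
        (H1.IsPSolvable.centralizer_pCore_le (H1.IsPSolvable.quotient hs _)
          (H1.pPrimeCore_quotient_pPrimeCore p)) (ext_mem_Irr θ) hi (mem_cen_top.1 (fB_mem_cen _))
        (fB_idem _) ?_ (fun g => ?_) ?_
      · rw [pci_ext, ← he, H19.fB_mul_fB, Set.inter_eq_right.2 Set.inter_subset_right]
      · classical
        rw [H19.coeff_fB, H19.coeff_fB, H19.blockCoeff_eq_sum, H19.blockCoeff_eq_sum, map_mul, map_sum,
          map_inv₀, map_natCast]
        congr 1
        exact sum_congr rfl fun χ _ => by rw [map_mul, H19.irr_conj, H19.irr_conj, inv_one]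
      · rw [← H19.fB_mul_fB, he]
        exact key hK (fA_mem_cen _ _).1 hU
    have h2 := cen_mul_pci (ext_mem_Irr θ) ⟨h1, fixed_anti le_top (mem_cen_top.1 (fB_mem_cen _))⟩
    rw [pci_ext, ← he, H19.fB_mul_fB, Set.inter_eq_left.2 Set.inter_subset_right] at h2
    have h3 := congrArg (om (χ : G → ℂ)) h2
    have h4 := congrArg (om (ψ : G → ℂ)) h2
    rw [map_smul, H19.om_fB_of_mem hχ, H19.om_fB_of_mem (A := U ∩ irr β) ⟨hχU, hχ⟩] at h3
    rw [map_smul, H19.om_fB_of_mem hψ, ← h3] at h4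
    by_contra h
    rw [H19.om_fB_of_not_mem fun h' => h h'.1] at h4
    exact zero_ne_one h4

theorem index_center_congr {A B : Type*} [Group A] [Group B] (e : A ≃* B) :
    (center A).index = (center B).index := by
  rw [← index_comap_of_surjective (center B) (f := e.toMonoidHom) e.surjective]
  congr 1
  ext x
  simp only [mem_comap, mem_center_iff]
  exact ⟨fun h g => by obtain ⟨a, rfl⟩ := e.surjective g; simpa using congrArg e (h a),
    fun h g => e.injective (by simpa using h (e g))⟩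

theorem FR.height_eq {G : Type*} [Group G] [Fintype G] {T : Subgroup G} {C : ℂ[G]} {β : Blk O G}
    {β' : Blk O T} (hF : FR T (red O C)) (he : eG β * red O C = eA T β') {χ : IrrCharacter G}
    {ψ : IrrCharacter T} (hχ : χ ∈ irr β) (hψ : ψ ∈ irr β')
    (h : (χ : G → ℂ) = indFun T (ψ : T → ℂ)) :
    blockHeight p (irr β) χ = blockHeight p (irr β') ψ := by
  obtain ⟨D, hD⟩ := exists_isDef p T (isBlk_eA T β').ne_zero
  have h1 := (hF.isDef (isBlk_eG β) (he ▸ hD)).card_eq_pow
  rw [hD.card_eq_pow_eA, Nat.pow_right_inj hp.out.one_lt] at h1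
  have h2 := defect_add_emin p ⟨_, hχ⟩
  have h3 := defect_add_emin p ⟨_, hψ⟩
  have h4 := height_add_emin p hχ
  have h5 := height_add_emin p hψ
  have h6 : charDegree (χ : G → ℂ) = T.index * charDegree (ψ : T → ℂ) :=
    H19.charDegree_natCast (by rw [h, indFun_one, Nat.cast_mul, H19.cast_deg])
  have h7 : vd p χ = T.index.factorization p + vd p ψ := by
    rw [vd, h6, Nat.factorization_mul T.index_ne_zero_of_finite (H19.deg_ne_zero ψ)]; rfl
  have h8 : (Nat.card G).factorization p = (Nat.card T).factorization p + T.index.factorization p := by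
    rw [← T.card_mul_index, Nat.factorization_mul Nat.card_pos.ne' T.index_ne_zero_of_finite]; rfl
  omega

/-- Fong's bound on heights -/
theorem height_le_of_psolv (G : Type u) [Group G] [Finite G] (hs : IsPSolvable p G) (β : Blk O G) :
    ∀ P, IsDef p ⊤ (eG β) P → ∀ χ ∈ irr β,
      blockHeight p (irr β) χ ≤ (center P).index.factorization p := by
  refine fong_ind (O := O) (p := p) (fun G _ _ β => ∀ P, IsDef p ⊤ (eG β) P → ∀ χ ∈ irr β,
      blockHeight p (irr β) χ ≤ (center P).index.factorization p) ?_ ?_ G hs β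
  · intro G _ _ T K _ C β β' _ hK hKT hC hF hO hF' he h0 ih P hP χ hχ
    have := Fintype.ofFinite G
    obtain ⟨ψ, hψ, h1⟩ := hF.exists_irr_under hO he hχ (h0 χ hχ)
    obtain ⟨D, hD⟩ := exists_isDef p ⊤ (isBlk_eG β').ne_zero
    obtain ⟨g, -, rfl⟩ := (hF'.isDef (isBlk_eG β) (by rw [he]; exact isDef_emb_top.2 hD)).exists_conj
      (isPrim_eG β) hP
    rw [hF'.height_eq he hχ hψ h1, ← index_center_congr (scEquiv g rfl),
      ← index_center_congr (D.equivMapOfInjective T.subtype T.subtype_injective)]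
    exact ih D hD ψ hψ
  · intro G _ _ θ β hs hi he he' P hP χ hχ
    classical
    have := Fintype.ofFinite G
    let K := pPrimeCore p G
    replace he' : fB (irr β) = fA K {θ} := he'
    have hK : ¬ p ∣ Nat.card K := H1.not_dvd_card_pPrimeCore hp.out
    have hS : IsSylowIn p P ⊤ := (he ▸ hP).isSylowIn_of_coprime hK (isBlk_eA _ _) (top_le_nrm _)
      le_top (he ▸ (isBlk_eG β).fixed)
    set V := pCore p (G ⧸ K) with hV
    have hC : cent V ≤ V := H1.IsPSolvable.centralizer_pCore_le (H1.IsPSolvable.quotient hs _)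
      (H1.pPrimeCore_quotient_pPrimeCore p)
    set A := (cent V).comap (QuotientGroup.mk' K) with hA
    have hKA : K ≤ A := fun x hx => by
      rw [hA, mem_comap, QuotientGroup.mk'_apply, (QuotientGroup.eq_one_iff x).2 hx]
      exact one_mem _
    have h1 : dot K (χ : G → ℂ) (extendByZero K θ) ≠ 0 := by
      rw [CF.dot_eq, CF.res_ext0]
      refine (inner_ne_zero_iff K χ θ).2 ?_
      rw [← he', H19.fB_mul_fB, Ne, fB_eq_zero_iff]
      exact Set.Nonempty.ne_empty ⟨χ, rfl, hχ⟩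
    have hχI := CF.mem_Irr_top.2 χ.2
    rw [H21.dot_eq_sum_under hKA (CF.Res_mem_cf le_top (CF.irr_cf hχI))] at h1
    obtain ⟨φ, hφ, h2⟩ := exists_ne_zero_of_sum_ne_zero h1
    obtain ⟨m, hm⟩ := ((H1.isPGroup_pCore p).to_le hC).exists_card_eq
    have h3 : K.relIndex A = p ^ m := by
      rw [← hm, ← map_comap_eq_self_of_surjective (QuotientGroup.mk'_surjective K) (cent V),
        ← relIndex_ker, QuotientGroup.ker_mk']
    have h4 := (H21.hall_central_inertia hKA (le_top.trans (top_le_nrm _)) (ext_mem_Irr θ)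
      (T := A) (inf_eq_left.2 (le_top.trans (by exact hi))).symm (by
        rw [commutator_le]
        intro a ha b hb
        rw [← QuotientGroup.eq_one_iff, ← QuotientGroup.mk'_apply, map_commutatorElement,
          commutatorElement_eq_one_iff_mul_comm]
        exact (ha _ (hC hb)).symm)
      (h3 ▸ ((Nat.Prime.coprime_iff_not_dvd hp.out).2 hK).symm.pow_right m)).1 φ
      (H21.mem_over.2 ⟨hφ, right_ne_zero_of_mul h2⟩)
    obtain ⟨r, h5, h6⟩ := H21.deg_over le_top (top_le_nrm _) hφ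
      (H21.mem_over.2 ⟨hχI, left_ne_zero_of_mul h2⟩)
    have h7 : ¬ p ∣ charDegree φ := fun h => hK (h.trans (by
      rw [H21.deg_congr (ψ := extendByZero K θ) (by rw [← h4, CF.Res_one])]
      exact H21.deg_dvd_card (ext_mem_Irr θ)))
    have h8 : vd p χ ≤ A.index.factorization p := by
      rw [relIndex_top_right] at h5
      rw [vd, h6, Nat.factorization_mul (fun h => A.index_ne_zero_of_finite (by simpa [h] using h5))
        (H21.deg_pos hφ).ne', Finsupp.add_apply, Nat.factorization_eq_zero_of_not_dvd h7, add_zero]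
      exact (Nat.factorization_le_iff_dvd (fun h => A.index_ne_zero_of_finite (by simpa [h] using h5))
        A.index_ne_zero_of_finite).2 h5 p
    have h9 : V ≤ P.map (QuotientGroup.mk' K) := by
      have := hS.map (QuotientGroup.mk' K)
      rw [map_top_of_surjective _ (QuotientGroup.mk'_surjective K)] at this
      exact this.le_of_NN (H1.isPGroup_pCore p) le_top (le_top.trans (top_le_nrm _))
    have h10 : Nat.card (center P) ∣ p ^ m := by
      rw [← hm]
      refine card_dvd_of_injective (((QuotientGroup.mk' K).comp (P.subtype.comp (center P).subtype)).codRestrict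
        (cent V) fun z v hv => ?_) ((injective_iff_map_eq_one _).2 fun z hz => ?_)
      · obtain ⟨y, hy, rfl⟩ := h9 hv
        have := congrArg Subtype.val (mem_center_iff.1 z.2 ⟨y, hy⟩)
        simpa using congrArg (QuotientGroup.mk' K) this
      · have h11 : ((z : P) : G) ∈ K := (QuotientGroup.eq_one_iff _).1 (congrArg Subtype.val hz)
        by_contra h12
        refine hK (((H19.isPElt_of_mem hP.pg (z : P).2).dvd_orderOf fun h => h12 ?_).trans
          (K.orderOf_dvd_natCard h11))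
        exact Subtype.ext (Subtype.ext h)
    have h11 : (Nat.card (center P)).factorization p ≤ m := by
      have := (Nat.factorization_le_iff_dvd Nat.card_pos.ne' (pow_ne_zero _ hp.out.ne_zero)).2 h10 p
      rwa [Nat.Prime.factorization_pow hp.out, Finsupp.single_eq_same] at this
    have h12 : (Nat.card G).factorization p = (Nat.card (center P)).factorization p +
        (center P).index.factorization p := by
      rw [← Finsupp.add_apply, ← Nat.factorization_mul Nat.card_pos.ne'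
        (center P).index_ne_zero_of_finite, card_mul_index, hS.card_eq_pow, card_top,
        Nat.Prime.factorization_pow hp.out, Finsupp.single_eq_same]
    have h13 : m + A.index.factorization p ≤ (Nat.card G).factorization p := by
      have h14 : p ^ m * A.index ∣ Nat.card G := by
        rw [← h3, relIndex_mul_index hKA]; exact K.index_dvd_card
      have := (Nat.factorization_le_iff_dvd (mul_ne_zero (pow_ne_zero _ hp.out.ne_zero)
        A.index_ne_zero_of_finite) Nat.card_pos.ne').2 h14 p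
      rwa [Nat.factorization_mul (pow_ne_zero _ hp.out.ne_zero) A.index_ne_zero_of_finite,
        Finsupp.add_apply, Nat.Prime.factorization_pow hp.out, Finsupp.single_eq_same] at this
    have h15 := height_add_emin p hχ
    omega

end Ind

end H20
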