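import Cfsg.Agent.H19.Exc
import Cfsg.Agent.H19.BS1

/-! Characters lying over a central element of prime order: projection lemmas. -/

set_option autoImplicit false
set_option linter.unusedSectionVars false
open scoped MonoidAlgebra ComplexConjugate
open Cfsg H17 H19

namespace H20.ST

variable {E : Type*} [Group E] [Finite E] {O : ValuationSubring ℂ} {p : ℕ} [hp : Fact p.Prime]

/-- The scalar by which a central element acts. -/
noncomputable def cz (z : E) (ζ : IrrCharacter E) : ℂ := (ζ : E → ℂ) z / (ζ : E → ℂ) 1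

variable {z : E}

theorem cz_mul (hz : z ∈ Subgroup.center E) (ζ : IrrCharacter E) (g : E) :
    (ζ : E → ℂ) (z * g) = cz z ζ * (ζ : E → ℂ) g := by
  obtain ⟨l, hl⟩ := ζ.2.exists_linear_center
  have h1 := hl ⟨z, hz⟩ 1
  have h2 := hl ⟨z, hz⟩ g
  simp only [mul_one] at h1 h2
  rw [h2, cz, h1, mul_div_assoc, div_self (irr_one_ne_zero ζ), mul_one]

theorem cz_pow (hz : z ∈ Subgroup.center E) (ζ : IrrCharacter E) (k : ℕ) (g : E) :
    (ζ : E → ℂ) (z ^ k * g) = cz z ζ ^ k * (ζ : E → ℂ) g := by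
  induction k with
  | zero => simp
  | succ k ih => rw [pow_succ', mul_assoc, cz_mul hz, ih, pow_succ', mul_assoc]

theorem cz_pow_eq (hz : z ∈ Subgroup.center E) (hzp : z ^ p = 1) (ζ : IrrCharacter E) :
    cz z ζ ^ p = 1 := by
  have := cz_pow hz ζ p 1
  rw [hzp, mul_one] at this
  exact mul_right_cancel₀ (irr_one_ne_zero ζ) (by rw [← this, one_mul])

theorem geom_root {w : ℂ} (hw : w ^ p = 1) [Decidable (w = 1)] :
    ∑ k ∈ Finset.range p, w ^ k = if w = 1 then (p : ℂ) else 0 := by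
  split_ifs with h
  · simp [h]
  · have := mul_geom_sum w p
    rw [hw, sub_self] at this
    exact (mul_eq_zero.1 this).resolve_left (sub_ne_zero.2 h)

/-- A combination vanishing on the nontrivial central translates of `y` splits evenly. -/
theorem proj (hz : z ∈ Subgroup.center E) (hzp : z ^ p = 1) (s : Finset (IrrCharacter E))
    (c : IrrCharacter E → ℂ) (y : E) {μ : ℂ} (hμ : μ ^ p = 1) [DecidablePred fun ζ => cz z ζ = μ]
    (h : ∀ k, 0 < k → k < p → ∑ ζ ∈ s, c ζ * (ζ : E → ℂ) (z ^ k * y) = 0) :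
    (p : ℂ) * ∑ ζ ∈ s with cz z ζ = μ, c ζ * (ζ : E → ℂ) y = ∑ ζ ∈ s, c ζ * (ζ : E → ℂ) y := by
  classical
  have hμ0 : μ ≠ 0 := fun h0 => by simp [h0, hp.out.ne_zero] at hμ
  have h1 : ∑ k ∈ Finset.range p, μ⁻¹ ^ k * ∑ ζ ∈ s, c ζ * (ζ : E → ℂ) (z ^ k * y) =
      ∑ ζ ∈ s, c ζ * (ζ : E → ℂ) y := by
    rw [Finset.sum_eq_single 0]
    · simp
    · intro k hk h0
      rw [h k (Nat.pos_of_ne_zero h0) (Finset.mem_range.1 hk), mul_zero]
    · intro h0; exact absurd (Finset.mem_range.2 hp.out.pos) h0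
  rw [← h1, Finset.sum_filter, Finset.mul_sum]
  simp only [Finset.mul_sum]
  rw [Finset.sum_comm]
  refine Finset.sum_congr rfl fun ζ _ => ?_
  have h2 : ∀ k, μ⁻¹ ^ k * (c ζ * (ζ : E → ℂ) (z ^ k * y)) =
      (μ⁻¹ * cz z ζ) ^ k * (c ζ * (ζ : E → ℂ) y) := fun k => by
    rw [cz_pow hz, mul_pow]; ring
  simp only [h2]
  rw [← Finset.sum_mul, geom_root (p := p) (by rw [mul_pow, cz_pow_eq hz hzp, inv_pow, hμ]; simp)]
  have h3 : μ⁻¹ * cz z ζ = 1 ↔ cz z ζ = μ := by
    rw [inv_mul_eq_one₀ hμ0, eq_comm]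
  by_cases h4 : cz z ζ = μ
  · rw [if_pos h4, if_pos (h3.2 h4)]
  · rw [if_neg h4, if_neg (mt h3.1 h4)]; simp

theorem pelt_of (hzp : z ^ p = 1) : IsPElt p z := isPElt_iff.2 ⟨1, by simpa using hzp⟩

theorem pow_ne_one (hzp : z ^ p = 1) (h1 : z ≠ 1) {k : ℕ} (h0 : 0 < k) (hk : k < p) : z ^ k ≠ 1 := by
  have : orderOf z = p := orderOf_eq_prime hzp h1
  exact pow_ne_one_of_lt_orderOf h0.ne' (this ▸ hk)

theorem comm_pow (hz : z ∈ Subgroup.center E) (k : ℕ) (g : E) : Commute (z ^ k) g :=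
  (Subgroup.mem_center_iff.1 (pow_mem hz k) g).symm

theorem sing_mul (hz : z ∈ Subgroup.center E) (hzp : z ^ p = 1) (h1 : z ≠ 1) {k : ℕ} (h0 : 0 < k)
    (hk : k < p) {y : E} (hy : ¬ p ∣ orderOf y) : p ∣ orderOf (z ^ k * y) := by
  by_contra h
  exact pow_ne_one hzp h1 h0 hk
    ((isPPart_eq_one_iff (isPPart_mul ((pelt_of hzp).pow k) hy (comm_pow hz k y))).2 h)

theorem ppart_cmul {w : E} (hw : IsPElt p w) (hc : ∀ g, Commute w g) (g : E) :
    ppart p (w * g) = w * ppart p g := by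
  conv_lhs => rw [← ppart_mul_rpart (p := p) g, ← mul_assoc]
  exact ppart_mul (hw.mul (ppart_isPElt g) (hc _)) (rpart_reg g)
    ((hc _).mul_left (commute_ppart_rpart g))

/-- Sums of functions supported on the sections of a central subgroup of order `p`. -/
theorem sum_sec [Fintype E] (hz : z ∈ Subgroup.center E) (hzp : z ^ p = 1) (h1 : z ≠ 1)
    (F : E → ℂ) (hF : ∀ g, F (z * g) = F g) (h0 : ∀ g, ppart p g ∉ Subgroup.zpowers z → F g = 0) :
    ∑ g, F g = p * ∑ g, pRegularPart p F g := by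
  classical
  have ho : orderOf z = p := orderOf_eq_prime hzp h1
  have hF' : ∀ k g, F (z ^ k * g) = F g := fun k g => by
    induction k with
    | zero => simp
    | succ k ih => rw [pow_succ', mul_assoc, hF, ih]
  have h2 : ∀ g, F g = ∑ k ∈ Finset.range p, if ppart p g = z ^ k then F g else 0 := fun g => by
    by_cases hg : ppart p g ∈ Subgroup.zpowers z
    · obtain ⟨k, hk, e⟩ : ∃ k < p, z ^ k = ppart p g := by
        rw [← mem_powers_iff_mem_zpowers] at hg
        obtain ⟨n, hn⟩ := hg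
        have h3 := pow_mod_orderOf z n
        rw [ho] at h3
        exact ⟨n % p, Nat.mod_lt _ hp.out.pos, h3.trans hn⟩
      rw [Finset.sum_eq_single k, if_pos e.symm]
      · intro j hj hjk
        refine if_neg fun h => hjk ?_
        exact pow_injOn_Iio_orderOf (by simpa [ho] using hj) (by simpa [ho] using hk)
          (h.symm.trans e.symm)
      · intro h; exact absurd (Finset.mem_range.2 hk) h
    · simp [h0 g hg]
  rw [Finset.sum_congr rfl fun g _ => h2 g, Finset.sum_comm]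
  rw [Finset.sum_congr rfl fun k _ => (?_ : _ = ∑ g, pRegularPart p F g)]
  · simp
  rw [← Equiv.sum_comp (Equiv.mulLeft (z ^ k))]
  refine Finset.sum_congr rfl fun g _ => ?_
  rw [Equiv.coe_mulLeft, ppart_cmul ((pelt_of hzp).pow k) (comm_pow hz k), hF', pr_apply]
  simp only [mul_eq_left, isPPart_eq_one_iff (isPPart_ppart g)]

theorem inner_sec [Fintype E] (hz : z ∈ Subgroup.center E) (hzp : z ^ p = 1) (h1 : z ≠ 1)
    {θ : E → ℂ} (hθ : ∀ g, θ (z * g) = θ g) (h0 : ∀ g, ppart p g ∉ Subgroup.zpowers z → θ g = 0)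
    (φ : E → ℂ) :
    (p : ℂ) * classInner (pRegularPart p θ) φ = classInner θ (fun g => φ (rpart p g)) := by
  rw [classInner_def, classInner_def, sum_sec hz hzp h1 (fun g => θ g * conj (φ (rpart p g)))
    (fun g => by rw [hθ, rpart_pelt_mul (pelt_of hzp) (by simpa using comm_pow hz 1 g)])
    (fun g hg => by rw [h0 g hg, zero_mul]), mul_left_comm]
  congr 2
  refine Finset.sum_congr rfl fun g _ => ?_
  by_cases hg : p ∣ orderOf g
  · rw [pr_of_sing _ hg, pr_of_sing _ hg, zero_mul]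
  · rw [pr_of_reg _ hg, pr_of_reg _ hg, rpart_of_reg hg]

variable [CharP (kk O) p]

/-- The class multiplication relation on a section avoided by products of two classes. -/
theorem sum_mul_div_section (β : Blk O E) [DecidablePred (· ∈ irr β)] {s t w : E}
    (h : ∀ x y u v : E, IsPPart p u v → IsConj w v → x * s * x⁻¹ * (y * t * y⁻¹ * u) ≠ 1)
    {g : E} (hg : IsPPart p g w) :
    ∑ χ with χ ∈ irr β,
      ((χ : E → ℂ) s * (χ : E → ℂ) t / (χ : E → ℂ) 1) * (χ : E → ℂ) g = 0 := by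
  classical
  have := Fintype.ofFinite E
  have h1 := blockPart_eq_zero_of_section (x := w) (θ := ∑ χ : IrrCharacter E,
    ((χ : E → ℂ) s * (χ : E → ℂ) t / (χ : E → ℂ) 1) • (χ : E → ℂ)) (fun g v hg hv => ?_) β hg
    (IsConj.refl w)
  · rw [blockPart_eq_sum] at h1
    simpa only [classInner_sum_irr] using h1
  have h2 : ∀ χ : IrrCharacter E, ∑ x : E, ∑ y : E,
      (χ : E → ℂ) 1 * (χ : E → ℂ) (x * s * x⁻¹ * (y * t * y⁻¹ * g)) = (Nat.card E : ℂ) ^ 2 *
        ((χ : E → ℂ) s * (χ : E → ℂ) t / (χ : E → ℂ) 1 * (χ : E → ℂ) g) := fun χ => by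
    rw [Finset.sum_comm]
    simp only [← Finset.mul_sum, sum_conj_mul, mul_div_assoc, ← Finset.sum_div]
    have := irr_one_ne_zero χ
    field_simp
  have h3 := Finset.sum_congr rfl fun χ (_ : χ ∈ Finset.univ) => h2 χ
  rw [← Finset.mul_sum, Finset.sum_comm, Finset.sum_eq_zero] at h3
  · simpa using (mul_eq_zero.1 h3.symm).resolve_left (pow_ne_zero 2 card_ne_zero_complex)
  intro x _
  rw [Finset.sum_comm]
  exact Finset.sum_eq_zero fun y _ => sum_irr_one_mul_of_ne (h x y g v hg hv)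

/-- Products of two involutions avoid the section of a central element of odd prime order. -/
theorem inv_avoid (hp2 : p ≠ 2) {w t : E} (hw : ∀ g, Commute w g) (hwp : IsPElt p w) (h1 : w ≠ 1)
    (ht : t * t = 1) (x y u v : E) (hu : IsPPart p u v) (hv : IsConj w v) :
    x * t * x⁻¹ * (y * t * y⁻¹ * u) ≠ 1 := by
  intro h
  obtain ⟨c, hc⟩ := isConj_iff.1 hv
  rw [← (hw c).eq, mul_inv_cancel_right] at hc
  subst hc
  have hab : ∀ x : E, x * t * x⁻¹ * (x * t * x⁻¹) = 1 := fun x => by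
    rw [show x * t * x⁻¹ * (x * t * x⁻¹) = x * (t * t) * x⁻¹ by group, ht]; simp
  have ha := hab x
  have hb := hab y
  generalize x * t * x⁻¹ = a at *
  generalize y * t * y⁻¹ = b at *
  have hu' : u = b * a := by
    rw [← mul_assoc, mul_eq_one_iff_inv_eq] at h
    rw [← h, mul_inv_rev, inv_eq_of_mul_eq_one_right ha, inv_eq_of_mul_eq_one_right hb]
  have h2 : a * u * a⁻¹ = u⁻¹ := by
    rw [hu', mul_inv_rev, inv_eq_of_mul_eq_one_right ha, inv_eq_of_mul_eq_one_right hb,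
      mul_assoc, mul_assoc, ha, mul_one]
  have h3 := ppart_conj (p := p) u a
  rw [h2, ppart_eq hu, ← (hw a).eq, mul_inv_cancel_right] at h3
  have h4 : ppart p u⁻¹ = w⁻¹ := ppart_eq (isPPart_inv hu)
  rw [h4, inv_eq_iff_mul_eq_one, ← pow_two] at h3
  have h5 := hwp.dvd_orderOf h1
  exact hp2 ((Nat.prime_dvd_prime_iff_eq hp.out Nat.prime_two).1
    (h5.trans (orderOf_dvd_of_pow_eq_one h3)))

end H20.ST
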