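import Cfsg.Agent.H20.ST1

/-! A principal block with two non-exceptional characters admits no perfect central extension. -/

set_option autoImplicit false
set_option linter.unusedSectionVars false
open scoped MonoidAlgebra ComplexConjugate
open Cfsg H17 H19

namespace H20.ST

theorem int_two {ι : Type*} [DecidableEq ι] (s : Finset ι) (e : ι → ℤ)
    (h : ∑ i ∈ s, e i * e i = 2) : ∃ i ∈ s, ∃ j ∈ s, e i * e i = 1 ∧ e j * e j = 1 ∧
      ∀ F : ι → ℂ, ∑ k ∈ s, (e k : ℂ) * F k = e i * F i + e j * F j := by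
  have key : ∀ (s : Finset ι) (n : ℤ), 0 < n → n < 4 → ∑ i ∈ s, e i * e i = n →
      ∃ i ∈ s, e i * e i = 1 ∧ ∑ k ∈ s.erase i, e k * e k = n - 1 := fun s n h0 h4 h => by
    obtain ⟨i, hs, hi⟩ : ∃ i ∈ s, e i * e i ≠ 0 :=
      Finset.exists_ne_zero_of_sum_ne_zero (by rw [h]; exact h0.ne')
    rw [← Finset.add_sum_erase _ _ hs] at h
    have h1 : 0 ≤ ∑ j ∈ s.erase i, e j * e j := Finset.sum_nonneg fun j _ => mul_self_nonneg _
    have h2 : e i ≠ 0 := fun h => hi (by simp [h])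
    have h3 : e i * e i = 1 := by
      have h5 : e i * e i < 4 := by omega
      have h6 : -2 < e i := by nlinarith
      have h7 : e i < 2 := by nlinarith
      have : e i = 1 ∨ e i = -1 := by omega
      rcases this with h | h <;> simp [h]
    exact ⟨i, hs, h3, by omega⟩
  obtain ⟨i, hi, h1, h2⟩ := key s 2 (by norm_num) (by norm_num) h
  obtain ⟨j, hj, h3, h4⟩ := key _ _ (by norm_num) (by norm_num) h2
  rw [show (2 : ℤ) - 1 - 1 = 0 by norm_num,
    Finset.sum_eq_zero_iff_of_nonneg (fun j _ => mul_self_nonneg _)] at h4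
  refine ⟨i, hi, j, Finset.mem_of_mem_erase hj, h1, h3, fun F => ?_⟩
  rw [← Finset.add_sum_erase _ _ hi, ← Finset.add_sum_erase _ _ hj, Finset.sum_eq_zero, add_zero]
  intro k hk
  rw [mul_self_eq_zero.1 (h4 k hk)]; simp

theorem alg_id {a F α : ℂ} (hF : F ≠ 0) (h1 : a + (a - 1) * F ≠ 0) (h2 : (a - 1) + a * F ≠ 0)
    (h : 1 - α ^ 2 / F = (a + (a - 1) * α) ^ 2 / (a + (a - 1) * F) -
      ((a - 1) + a * α) ^ 2 / ((a - 1) + a * F)) : a = 0 ∨ a = 1 ∨ F = 1 ∨ F = α := by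
  have h3 : a * (a - 1) * (F - 1) * (F - α) ^ 2 = 0 := by
    rw [one_sub_div hF, div_sub_div _ _ h1 h2, div_eq_div_iff hF (mul_ne_zero h1 h2)] at h
    linear_combination h
  simpa [sub_eq_zero, or_assoc] using h3

variable {E : Type*} [Group E] [Finite E] {G : Type*} [Group G] [Finite G]
  {O : ValuationSubring ℂ} {p : ℕ} [hp : Fact p.Prime] [CharP (kk O) p]

variable (O p) in
/-- The data of the argument. -/
structure Ctx (f : E →* G) (z : E) (χ : IrrCharacter G) (a : ℤ) : Prop where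
  surj : Function.Surjective f
  cen : z ∈ Subgroup.center E
  pow : z ^ p = 1
  ne : z ≠ 1
  ker : f.ker = Subgroup.zpowers z
  aa : a * a = 1
  mem : χ ∈ irr (B0 O G)
  ne_triv : χ ≠ triv G
  sing : ∀ g, p ∣ orderOf g → (χ : G → ℂ) g = a
  span : ∀ ψ ∈ irr (B0 O G), ∃ α β : ℂ, ∀ g, ¬ p ∣ orderOf g →
    (ψ : G → ℂ) g = α + β * (χ : G → ℂ) g

/-- The virtual character vanishing on the singular elements. -/
noncomputable def Ps (χ : IrrCharacter G) (a : ℤ) : G → ℂ :=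
  (triv G : G → ℂ) - (a : ℂ) • (χ : G → ℂ)

theorem Ps_apply (χ : IrrCharacter G) (a : ℤ) (g : G) : Ps χ a g = 1 - a * (χ : G → ℂ) g := rfl

theorem Ps_gen (χ : IrrCharacter G) (a : ℤ) : IsGeneralizedCharacter G (Ps χ a) :=
  (triv G).2.isGen.sub (χ.2.isGen.intCast_smul a)

variable (p) in
/-- The pairing with the regular part of the pulled back virtual character. -/
noncomputable def La [Fintype E] (f : E →* G) (χ : IrrCharacter G) (a : ℤ) (φ : E → ℂ) : ℂ :=
  p * classInner φ (pRegularPart p fun g => Ps χ a (f g))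

section
variable [Fintype E] {f : E →* G} {z : E} {χ : IrrCharacter G} {a : ℤ}

theorem La_congr {φ φ' : E → ℂ} (h : ∀ y, ¬ p ∣ orderOf y → φ y = φ' y) :
    La p f χ a φ = La p f χ a φ' := by
  rw [La, La, ← classInner_pr_left, ← classInner_pr_left, pr_eq_iff.2 h]

theorem La_sum {ι : Type*} (s : Finset ι) (c : ι → ℂ) (φ : ι → E → ℂ) :
    La p f χ a (fun y => ∑ i ∈ s, c i * φ i y) = ∑ i ∈ s, c i * La p f χ a (φ i) := by
  have : (fun y => ∑ i ∈ s, c i * φ i y) = ∑ i ∈ s, c i • φ i := by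
    funext y; simp
  rw [this, La, classInner_sum_left, Finset.mul_sum]
  refine Finset.sum_congr rfl fun i _ => ?_
  rw [classInner_smul_left, La]; ring

namespace Ctx
variable (h : Ctx O p f z χ a)
include h

theorem map_z : f z = 1 := by
  have : z ∈ f.ker := h.ker ▸ Subgroup.mem_zpowers z
  exact this

theorem aa' : (a : ℂ) * a = 1 := by exact_mod_cast congrArg (Int.cast : ℤ → ℂ) h.aa

theorem Ps_zero {g : E} (hg : ppart p g ∉ Subgroup.zpowers z) : Ps χ a (f g) = 0 := by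
  rw [← h.ker, ← reg_map_iff, not_not] at hg
  rw [Ps_apply, h.sing _ hg, h.aa', sub_self]

theorem La_eq (φ : E → ℂ) :
    La p f χ a φ = classInner (fun g => φ (rpart p g)) fun g => Ps χ a (f g) := by
  rw [La, ← classInner_conj_symm, ← classInner_conj_symm (fun g => Ps χ a (f g)),
    ← inner_sec h.cen h.pow h.ne (fun g => by rw [map_mul, h.map_z, one_mul])
      (fun g hg => h.Ps_zero hg), map_mul, map_natCast]

theorem La_int (ζ : IrrCharacter E) : ∃ n : ℤ, La p f χ a ζ = n := by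
  rw [h.La_eq]
  exact (isGen_hat ζ.2.isGen).inner_int ((Ps_gen χ a).comp f)

theorem La_comp [Fintype G] (φ : G → ℂ) : La p f χ a (fun g => φ (f g)) = classInner φ (Ps χ a) := by
  rw [h.La_eq, ← classInner_comp_of_surjective f h.surj, classInner_def, classInner_def]
  congr 1
  refine Finset.sum_congr rfl fun g _ => ?_
  by_cases hg : ppart p g ∈ Subgroup.zpowers z
  · rw [← h.ker] at hg
    have : f (ppart p g) = 1 := hg
    rw [rpart, map_mul, map_inv, this, inv_one, one_mul]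
  · rw [h.Ps_zero hg]; simp

theorem inner_Ps [Fintype G] [DecidableEq (IrrCharacter G)] (ψ : IrrCharacter G) :
    classInner (ψ : G → ℂ) (Ps χ a) =
      (if ψ = triv G then 1 else 0) - a * if ψ = χ then 1 else 0 := by
  rw [Ps, classInner_sub_right, classInner_smul_right, irr_inner, irr_inner, map_intCast]
  congr!

theorem La_infl [DecidableEq (IrrCharacter G)] (ψ : IrrCharacter G) :
    La p f χ a (infl f h.surj ψ) = (if ψ = triv G then 1 else 0) - a * if ψ = χ then 1 else 0 := by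
  have := Fintype.ofFinite G
  rw [coe_infl, h.La_comp, h.inner_Ps]

theorem La_one : La p f χ a (fun _ => 1) = 1 := by
  classical
  have := h.La_infl (triv G)
  rw [if_pos rfl, if_neg h.ne_triv.symm, mul_zero, sub_zero] at this
  exact this

theorem La_chi : La p f χ a (fun g => (χ : G → ℂ) (f g)) = -a := by
  classical
  have := h.La_infl χ
  rw [if_pos rfl, if_neg h.ne_triv, mul_one, zero_sub] at this
  exact this

theorem La_lin {φ : E → ℂ} {α β : ℂ}
    (hφ : ∀ y, ¬ p ∣ orderOf y → φ y = α + β * (χ : G → ℂ) (f y)) : La p f χ a φ = α - a * β := by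
  have h1 := La_sum (p := p) (f := f) (χ := χ) (a := a) Finset.univ ![α, β]
    ![fun _ => 1, fun g => (χ : G → ℂ) (f g)]
  simp only [Fin.sum_univ_two, Matrix.cons_val_zero, Matrix.cons_val_one, h.La_one, h.La_chi,
    mul_one] at h1
  rw [La_congr hφ, h1]; ring

theorem infl_mem {ψ : IrrCharacter G} (hψ : ψ ∈ irr (B0 O G)) : infl f h.surj ψ ∈ irr (B0 O E) := by
  rw [mem_irr, lam_infl, mem_irr.1 hψ, dom_B0]

theorem cz_infl (ψ : IrrCharacter G) : cz z (infl f h.surj ψ) = 1 := by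
  rw [cz, infl_apply, infl_apply, h.map_z, map_one, div_self (irr_one_ne_zero ψ)]

theorem exists_infl' {ζ : IrrCharacter E} (h1 : cz z ζ = 1) : ∃ ψ, infl f h.surj ψ = ζ := by
  refine exists_infl f h.surj ?_
  rw [h.ker, Subgroup.zpowers_le]
  intro x
  rw [cz_mul h.cen, h1, one_mul]

theorem mem_of_infl {ψ : IrrCharacter G} (hψ : infl f h.surj ψ ∈ irr (B0 O E)) :
    ψ ∈ irr (B0 O G) := by
  rw [mem_irr, lam_infl, ← dom_B0 f h.surj] at hψ
  refine dom_injective_of_cent (p := p) ?_ ?_ h.surj hψ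
  · rw [h.ker]; exact (pelt_of h.pow).isPGroup_zpowers
  · intro y _ w hw
    rw [h.ker] at hw
    exact (Subgroup.mem_center_iff.1 ((Subgroup.zpowers_le.2 h.cen) hw) y).symm

/-- Projection of a regular part lying in the principal block. -/
theorem proj_pr [DecidablePred (· ∈ irr (B0 O E))] {θ : E → ℂ}
    (hθ : blockPart (irr (B0 O E)) θ = θ) {μ : ℂ} (hμ : μ ^ p = 1)
    [DecidablePred fun ζ => cz z ζ = μ] {y : E} (hy : ¬ p ∣ orderOf y) :
    (p : ℂ) * ∑ ζ ∈ (Finset.univ.filter (· ∈ irr (B0 O E))) with cz z ζ = μ,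
      classInner (pRegularPart p θ) ζ * (ζ : E → ℂ) y = θ y := by
  have h1 : ∀ g, ∑ ζ ∈ (Finset.univ.filter (· ∈ irr (B0 O E))),
      classInner (pRegularPart p θ) ζ * (ζ : E → ℂ) g = pRegularPart p θ g := fun g => by
    rw [← blockPart_eq_sum, blockPart_pr, hθ]
  rw [proj h.cen h.pow _ _ y hμ fun k h0 hk => ?_, h1, pr_of_reg _ hy]
  rw [h1, pr_of_sing _ (sing_mul h.cen h.pow h.ne h0 hk hy)]

theorem span_E {ζ : IrrCharacter E} (hζ : ζ ∈ irr (B0 O E)) :
    ∃ α β : ℂ, ∀ y, ¬ p ∣ orderOf y → (ζ : E → ℂ) y = α + β * (χ : G → ℂ) (f y) := by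
  classical
  have h1 : ∀ ξ : IrrCharacter E, ξ ∈ irr (B0 O E) → cz z ξ = 1 →
      ∃ α β : ℂ, ∀ y, ¬ p ∣ orderOf y → (ξ : E → ℂ) y = α + β * (χ : G → ℂ) (f y) := by
    intro ξ h1 h2
    obtain ⟨ψ, rfl⟩ := h.exists_infl' h2
    obtain ⟨α, β, h3⟩ := h.span ψ (h.mem_of_infl h1)
    exact ⟨α, β, fun y hy => h3 _ (preg_of_dvd hy (orderOf_map_dvd f y))⟩
  choose! α β hαβ using h1
  set s := (Finset.univ.filter (· ∈ irr (B0 O E))).filter fun ξ => cz z ξ = 1
  refine ⟨p * ∑ ξ ∈ s, classInner (pRegularPart p (ζ : E → ℂ)) (ξ : E → ℂ) * α ξ,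
    p * ∑ ξ ∈ s, classInner (pRegularPart p (ζ : E → ℂ)) (ξ : E → ℂ) * β ξ, fun y hy => ?_⟩
  rw [← h.proj_pr (θ := ζ) (by rw [blockPart_irr, if_pos hζ]) (one_pow p) hy, mul_assoc,
    ← mul_add, Finset.sum_mul, ← Finset.sum_add_distrib]
  congr 1
  refine Finset.sum_congr rfl fun ξ hξ => ?_
  simp only [s, Finset.mem_filter, Finset.mem_univ, true_and] at hξ
  rw [hαβ ξ hξ.1 hξ.2 y hy]; ring

theorem block_Ps : blockPart (irr (B0 O E)) (fun g => Ps χ a (f g)) = fun g => Ps χ a (f g) := by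
  classical
  have h1 : (fun g => Ps χ a (f g)) = (triv E : E → ℂ) - (a : ℂ) • (infl f h.surj χ : E → ℂ) := rfl
  have h2 : ∀ (c : ℂ) (θ : E → ℂ), blockPart (irr (B0 O E)) (c • θ) =
      c • blockPart (irr (B0 O E)) θ := fun c θ => by
    simp only [blockPart_eq_sum', classInner_smul_left, Finset.smul_sum, smul_smul]
  rw [h1, blockPart_sub, h2, blockPart_irr, blockPart_irr, if_pos triv_mem_B0,
    if_pos (h.infl_mem h.mem)]

theorem sum_La [DecidablePred (· ∈ irr (B0 O E))] {μ : ℂ} (hμ : μ ^ p = 1)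
    [DecidablePred fun ζ => cz z ζ = μ] {y : E} (hy : ¬ p ∣ orderOf y) :
    ∑ ζ ∈ (Finset.univ.filter (· ∈ irr (B0 O E))) with cz z ζ = μ,
      La p f χ a ζ * (ζ : E → ℂ) y = Ps χ a (f y) := by
  rw [← h.proj_pr h.block_Ps hμ hy, Finset.mul_sum]
  refine Finset.sum_congr rfl fun ζ _ => ?_
  obtain ⟨n, hn⟩ := h.La_int ζ
  have h1 := congrArg conj hn
  rw [map_intCast, La, map_mul, map_natCast, classInner_conj_symm] at h1
  rw [← mul_assoc, h1, hn]

theorem sum_inv (hp2 : p ≠ 2) [DecidablePred (· ∈ irr (B0 O E))] {μ : ℂ} (hμ : μ ^ p = 1)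
    [DecidablePred fun ζ => cz z ζ = μ] {t : E} (ht : t * t = 1) :
    ∑ ζ ∈ (Finset.univ.filter (· ∈ irr (B0 O E))) with cz z ζ = μ,
      ((ζ : E → ℂ) t * (ζ : E → ℂ) t / (ζ : E → ℂ) 1) * La p f χ a ζ =
      1 - a * ((χ : G → ℂ) (f t) * (χ : G → ℂ) (f t) / (χ : G → ℂ) 1) := by
  classical
  have h1 : ∀ {μ : ℂ} (hμ : μ ^ p = 1) [DecidablePred fun ζ => cz z ζ = μ] {y : E},
      ¬ p ∣ orderOf y → (p : ℂ) * ∑ ζ ∈ (Finset.univ.filter (· ∈ irr (B0 O E))) with cz z ζ = μ,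
        ((ζ : E → ℂ) t * (ζ : E → ℂ) t / (ζ : E → ℂ) 1) * (ζ : E → ℂ) y =
        ∑ ζ ∈ (Finset.univ.filter (· ∈ irr (B0 O E))),
        ((ζ : E → ℂ) t * (ζ : E → ℂ) t / (ζ : E → ℂ) 1) * (ζ : E → ℂ) y := by
    intro μ hμ _ y hy
    refine proj h.cen h.pow _ _ y hμ fun k h0 hk => ?_
    exact sum_mul_div_section _ (inv_avoid hp2 (comm_pow h.cen k) ((pelt_of h.pow).pow k)
      (pow_ne_one h.pow h.ne h0 hk) ht) (isPPart_mul ((pelt_of h.pow).pow k) hy (comm_pow h.cen k y))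
  have hp0 : (p : ℂ) ≠ 0 := Nat.cast_ne_zero.2 hp.out.ne_zero
  rw [← La_sum, La_congr fun y hy => mul_left_cancel₀ hp0 ((h1 hμ hy).trans (h1 (one_pow p) hy).symm),
    La_sum]
  have h2 : ∀ ζ ∈ (Finset.univ.filter (· ∈ irr (B0 O E))).filter fun ζ => cz z ζ = 1,
      ((ζ : E → ℂ) t * (ζ : E → ℂ) t / (ζ : E → ℂ) 1) * La p f χ a ζ =
      (if ζ = triv E then ((ζ : E → ℂ) t * (ζ : E → ℂ) t / (ζ : E → ℂ) 1) else 0) -
        a * if ζ = infl f h.surj χ then ((ζ : E → ℂ) t * (ζ : E → ℂ) t / (ζ : E → ℂ) 1) else 0 := by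
    intro ζ hζ
    obtain ⟨ψ, rfl⟩ := h.exists_infl' (Finset.mem_filter.1 hζ).2
    rw [h.La_infl, ← infl_triv f h.surj]
    simp only [(infl_injective f h.surj).eq_iff]
    split_ifs <;> ring
  rw [Finset.sum_congr rfl h2, Finset.sum_sub_distrib, ← Finset.mul_sum, Finset.sum_ite_eq',
    Finset.sum_ite_eq', if_pos, if_pos]
  · simp
  · simpa using ⟨h.infl_mem h.mem, h.cz_infl χ⟩
  · rw [← infl_triv f h.surj]
    simpa using ⟨h.infl_mem triv_mem_B0, h.cz_infl _⟩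

end Ctx
end

theorem Ctx.core {f : E →* G} {z : E} {χ : IrrCharacter G} {a : ℤ} (h : Ctx O p f z χ a)
    (hp2 : p ≠ 2) (hz : z ∈ commutator E) {t : G} (ht : t * t = 1) :
    (χ : G → ℂ) 1 = a ∨ (χ : G → ℂ) t = (χ : G → ℂ) 1 := by
  classical
  have := Fintype.ofFinite E
  have := Fintype.ofFinite G
  obtain ⟨μ, hμ, hμ1⟩ : ∃ μ : ℂ, μ ^ p = 1 ∧ μ ≠ 1 :=
    ⟨_, (Complex.isPrimitiveRoot_exp p hp.out.ne_zero).pow_eq_one,
      (Complex.isPrimitiveRoot_exp p hp.out.ne_zero).ne_one hp.out.one_lt⟩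
  obtain ⟨u, hu, rfl⟩ := exists_reg_lift (p := p) h.surj (q := t) (fun hd => hp2
    ((Nat.prime_dvd_prime_iff_eq hp.out Nat.prime_two).1
      (hd.trans (orderOf_dvd_of_pow_eq_one (by rwa [pow_two])))))
  have huu : u * u = 1 := by
    have h1 : u * u ∈ Subgroup.zpowers z := by
      rw [← h.ker, MonoidHom.mem_ker, map_mul, ht]
    refine (isPElt_of_mem (pelt_of h.pow).isPGroup_zpowers h1).eq_one ?_
    rw [← pow_two]
    exact preg_of_dvd hu (orderOf_pow_dvd 2)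
  choose e he using h.La_int
  set s := (Finset.univ.filter (· ∈ irr (B0 O E))).filter fun ξ => cz z ξ = μ with hs
  have h1 : ∀ y, ¬ p ∣ orderOf y → ∑ ζ ∈ s, (e ζ : ℂ) * (ζ : E → ℂ) y = Ps χ a (f y) := by
    intro y hy
    simpa only [he] using h.sum_La hμ hy
  have h2 : ∑ ζ ∈ s, e ζ * e ζ = 2 := by
    have h3 := La_congr (f := f) (χ := χ) (a := a) h1
    rw [La_sum, h.La_lin (α := 1) (β := -a) fun y _ => by rw [Ps_apply]; ring] at h3
    simp only [he] at h3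
    have h4 : ((∑ ζ ∈ s, e ζ * e ζ : ℤ) : ℂ) = (2 : ℤ) := by
      push_cast
      rw [h3]; linear_combination h.aa'
    exact_mod_cast h4
  obtain ⟨i, hi, j, hj, hi1, hj1, hF⟩ := int_two s e h2
  have hi1' : (e i : ℂ) * e i = 1 := by exact_mod_cast congrArg (Int.cast : ℤ → ℂ) hi1
  have hj1' : (e j : ℂ) * e j = 1 := by exact_mod_cast congrArg (Int.cast : ℤ → ℂ) hj1
  have hlin : ∀ k ∈ s, (e k : ℂ) * e k = 1 → (e k : ℂ) * (k : E → ℂ) 1 ≠ 1 := by
    intro k hk hk1 h3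
    have h4 : (k : E → ℂ) 1 = 1 := by
      obtain ⟨n, hn⟩ := k.2.isCharacter.exists_nat_one
      have h5 : (k : E → ℂ) 1 = e k := by linear_combination (e k : ℂ) * h3 - (k : E → ℂ) 1 * hk1
      have h6 : (n : ℤ) = e k := by exact_mod_cast hn.symm.trans h5
      have h7 : e k * e k = 1 := by exact_mod_cast hk1
      rcases Int.eq_one_or_neg_one_of_mul_eq_one h7 with h8 | h8
      · rw [h5, h8]; simp
      · omega
    have h5 := (Finset.mem_filter.1 hk).2
    rw [cz, H21.apply_eq_one_of_mem_commutator k.2.isCharacter h4 hz, h4, div_one] at h5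
    exact hμ1 h5.symm
  obtain ⟨α, β, hαβ⟩ := h.span_E (ζ := i) (by simpa using (Finset.mem_filter.1 hi).1)
  have h3 := h.La_lin hαβ
  rw [he] at h3
  have ha := h.aa'
  have h4 : ∀ y, ¬ p ∣ orderOf y → (e i : ℂ) * (i : E → ℂ) y =
      e i * α + (e i * α - 1) * (a * (χ : G → ℂ) (f y)) := fun y hy => by
    rw [hαβ y hy]
    linear_combination (e i * a * (χ : G → ℂ) (f y)) * h3 - (a * (χ : G → ℂ) (f y)) * hi1' -
      (e i * β * (χ : G → ℂ) (f y)) * ha
  have h5 : ∀ y, ¬ p ∣ orderOf y → (e j : ℂ) * (j : E → ℂ) y =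
      -((e i * α - 1) + e i * α * (a * (χ : G → ℂ) (f y))) := fun y hy => by
    have h6 := h1 y hy
    rw [hF, Ps_apply, h4 y hy] at h6
    linear_combination h6
  have h6 := h.sum_inv hp2 hμ huu
  simp only [he, mul_comm _ (e _ : ℂ)] at h6
  rw [← hs, hF] at h6
  have hi0 := irr_one_ne_zero i
  have hj0 := irr_one_ne_zero j
  have hχ0 := irr_one_ne_zero χ
  have ha0 : (a : ℂ) ≠ 0 := left_ne_zero_of_mul_eq_one ha
  have hei : (e i : ℂ) ≠ 0 := left_ne_zero_of_mul_eq_one hi1'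
  have hej : (e j : ℂ) ≠ 0 := left_ne_zero_of_mul_eq_one hj1'
  have k1 := h4 1 preg_one
  have k2 := h5 1 preg_one
  have k3 := h4 u hu
  have k4 := h5 u hu
  rw [map_one] at k1 k2
  have h7 := alg_id (a := e i * α) (F := a * (χ : G → ℂ) 1) (α := a * (χ : G → ℂ) (f u))
    (mul_ne_zero ha0 hχ0) (k1 ▸ mul_ne_zero hei hi0)
    (neg_ne_zero.1 (k2 ▸ mul_ne_zero hej hj0)) (by
      rw [← k1, ← k3, ← neg_eq_iff_eq_neg.2 k2, ← neg_eq_iff_eq_neg.2 k4]
      have e1 : (a * (χ : G → ℂ) (f u)) ^ 2 / (a * (χ : G → ℂ) 1) =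
          a * ((χ : G → ℂ) (f u) * (χ : G → ℂ) (f u) / (χ : G → ℂ) 1) := by field_simp
      rw [e1, ← h6]
      field_simp
      ring)
  rcases h7 with h7 | h7 | h7 | h7
  · exact absurd (by rw [k2, h7]; ring) (hlin j hj hj1')
  · exact absurd (by rw [k1, h7]; ring) (hlin i hi hi1')
  · left; linear_combination (a : ℂ) * h7 - (χ : G → ℂ) 1 * ha
  · right; exact (mul_left_cancel₀ ha0 h7).symm

end H20.ST
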