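import Cfsg.Agent.H7.PGrp

/-! A central extension built by transferring a bilinear cocycle from an abelian subgroup. -/

set_option autoImplicit false
set_option linter.unusedSectionVars false
open scoped commutatorElement

namespace H20.ST

universe u

/-- Normalised additive two-cocycles. -/
structure Coc (G : Type u) [Group G] (T : Type) [AddCommGroup T] where
  c : G → G → T
  one_left : ∀ g, c 1 g = 0
  assoc : ∀ g h k, c g h + c (g * h) k = c h k + c g (h * k)

/-- The extension defined by a cocycle. -/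
@[ext] structure CExt {G : Type u} [Group G] {T : Type} [AddCommGroup T] (c : Coc G T) where
  t : T
  h : G

namespace CExt
variable {G : Type u} [Group G] {T : Type} [AddCommGroup T] {c : Coc G T}

theorem one_right (c : Coc G T) (g : G) : c.c g 1 = 0 := by
  have := c.assoc g 1 1
  simpa [c.one_left] using this

instance instMul : Mul (CExt c) := ⟨fun x y => ⟨x.t + y.t + c.c x.h y.h, x.h * y.h⟩⟩
instance instOne : One (CExt c) := ⟨⟨0, 1⟩⟩
instance instInv : Inv (CExt c) := ⟨fun x => ⟨-x.t - c.c x.h⁻¹ x.h, x.h⁻¹⟩⟩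

@[simp] theorem mul_t (x y : CExt c) : (x * y).t = x.t + y.t + c.c x.h y.h := rfl
@[simp] theorem mul_h (x y : CExt c) : (x * y).h = x.h * y.h := rfl
@[simp] theorem one_t : (1 : CExt c).t = 0 := rfl
@[simp] theorem one_h : (1 : CExt c).h = 1 := rfl
@[simp] theorem inv_t (x : CExt c) : (x⁻¹).t = -x.t - c.c x.h⁻¹ x.h := rfl
@[simp] theorem inv_h (x : CExt c) : (x⁻¹).h = x.h⁻¹ := rfl

instance instGroup : Group (CExt c) := Group.ofLeftAxioms
  (fun x y z => by
    ext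
    · simp only [mul_t, mul_h]
      have := c.assoc x.h y.h z.h
      calc x.t + y.t + c.c x.h y.h + z.t + c.c (x.h * y.h) z.h
          = x.t + y.t + z.t + (c.c x.h y.h + c.c (x.h * y.h) z.h) := by abel
        _ = _ := by rw [this]; abel
    · simp [mul_assoc])
  (fun x => by ext <;> simp [c.one_left])
  (fun x => by
    ext
    · simp only [mul_t, inv_t, inv_h, one_t]; abel
    · simp)

/-- projection -/
def proj (c : Coc G T) : CExt c →* G where
  toFun x := x.h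
  map_one' := rfl
  map_mul' _ _ := rfl

instance instFinite [Finite G] [Finite T] : Finite (CExt c) :=
  Finite.of_injective (fun x : CExt c => (x.t, x.h)) (fun x y h => by
    simp only [Prod.mk.injEq] at h
    exact CExt.ext h.1 h.2)

theorem commutator_of_commute {x y : G} (h : x * y = y * x) :
    ⁅(⟨0, x⟩ : CExt c), (⟨0, y⟩ : CExt c)⁆ = ⟨c.c x y - c.c y x, 1⟩ := by
  rw [commutatorElement_def, mul_inv_eq_iff_eq_mul, mul_inv_eq_iff_eq_mul]
  ext
  · simp [c.one_left]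
  · simp [h]

theorem pow_inl (t : T) (n : ℕ) : (⟨t, 1⟩ : CExt c) ^ n = ⟨n • t, 1⟩ := by
  induction n with
  | zero => ext <;> simp
  | succ n ih => rw [pow_succ, ih]; ext <;> simp [c.one_left, succ_nsmul]

end CExt

theorem exists_ext_of_coc {G : Type u} [Group G] [Finite G] {p : ℕ} [hp : Fact p.Prime]
    (c : Coc G (ZMod p)) {x y : G} (h : x * y = y * x) (hc : c.c x y ≠ c.c y x) :
    ∃ (E : Type u) (_ : Group E) (_ : Finite E) (f : E →* G) (z : E), Function.Surjective f ∧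
      z ∈ Subgroup.center E ∧ z ^ p = 1 ∧ z ≠ 1 ∧ f.ker = Subgroup.zpowers z ∧
      z ∈ commutator E := by
  have h0 : c.c x y - c.c y x ≠ 0 := sub_ne_zero.2 hc
  refine ⟨CExt c, inferInstance, inferInstance, CExt.proj c, ⟨c.c x y - c.c y x, 1⟩,
    fun g => ⟨⟨0, g⟩, rfl⟩, ?_, ?_, fun e => h0 (congrArg CExt.t e), ?_, ?_⟩
  · rw [Subgroup.mem_center_iff]
    intro g
    ext <;> simp [c.one_left, CExt.one_right, add_comm]
  · rw [CExt.pow_inl]; ext <;> simp
  · refine le_antisymm (fun g hg => ?_) (Subgroup.zpowers_le.2 rfl)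
    have hg' : g.h = 1 := hg
    refine Subgroup.mem_zpowers_iff.2 ⟨((g.t / (c.c x y - c.c y x)).val : ℕ), ?_⟩
    rw [zpow_natCast, CExt.pow_inl]
    ext
    · simp [div_mul_cancel₀ _ h0]
    · exact hg'.symm
  · rw [← CExt.commutator_of_commute h]
    exact Subgroup.commutator_mem_commutator (Subgroup.mem_top _) (Subgroup.mem_top _)

section transfer
variable {G : Type u} [Group G] [Finite G] {P : Subgroup G} {R : Type} [CommRing R]

/-- The `P`-valued cocycle of the coset action. -/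
noncomputable def pi (P : Subgroup G) (g : G) (i : G ⧸ P) : G := (g • i).out⁻¹ * g * i.out

theorem pi_mem (g : G) (i : G ⧸ P) : pi P g i ∈ P := by
  rw [pi, mul_assoc, ← QuotientGroup.eq, QuotientGroup.out_eq']
  conv_lhs => rw [← QuotientGroup.out_eq' i]
  rfl

theorem pi_mul (g h : G) (i : G ⧸ P) : pi P (g * h) i = pi P g (h • i) * pi P h i := by
  simp only [pi, mul_smul]; group

theorem pi_one (i : G ⧸ P) : pi P 1 i = 1 := by simp [pi]

/-- Additive functions on `P`. -/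
def Add (P : Subgroup G) (φ : G → R) : Prop := ∀ x ∈ P, ∀ y ∈ P, φ (x * y) = φ x + φ y

theorem Add.one {φ : G → R} (h : Add P φ) : φ 1 = 0 := by
  simpa using h 1 P.one_mem 1 P.one_mem

theorem Add.inv {φ : G → R} (h : Add P φ) {x : G} (hx : x ∈ P) : φ x⁻¹ = -φ x := by
  have := h x hx x⁻¹ (P.inv_mem hx)
  rw [mul_inv_cancel, h.one] at this
  exact eq_neg_of_add_eq_zero_right this.symm

theorem Add.pi_mul {φ : G → R} (h : Add P φ) (g k : G) (i : G ⧸ P) :
    φ (pi P (g * k) i) = φ (pi P g (k • i)) + φ (pi P k i) := by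
  rw [ST.pi_mul, h _ (pi_mem _ _) _ (pi_mem _ _)]

/-- The transferred cocycle. -/
noncomputable def trc [Fintype (G ⧸ P)] {φ ψ : G → R} (hφ : Add P φ) (hψ : Add P ψ) : Coc G R where
  c g h := ∑ i : G ⧸ P, φ (pi P g (h • i)) * ψ (pi P h i)
  one_left g := by simp [pi_one, hφ.one]
  assoc g h k := by
    rw [← Equiv.sum_comp (MulAction.toPerm k), ← Finset.sum_add_distrib, ← Finset.sum_add_distrib]
    refine Finset.sum_congr rfl fun i _ => ?_
    simp only [MulAction.toPerm_apply, hφ.pi_mul, hψ.pi_mul, mul_smul]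
    ring

theorem exists_sign (hs : ∀ g : G, (∀ x ∈ P, g⁻¹ * x * g ∈ P → g⁻¹ * x * g = x) ∨
    (∀ x ∈ P, g⁻¹ * x * g ∈ P → g⁻¹ * x * g = x⁻¹)) :
    ∃ ε : G ⧸ P → R, (∀ i, ε i * ε i = 1) ∧ (∀ x ∈ P, ∀ i, ε (x • i) = ε i) ∧
      ∀ φ : G → R, Add P φ → ∃ a : G ⧸ P → R, ∀ x ∈ P, ∀ i,
        φ (pi P x i) = ε i * φ x + a i - a (x • i) := by
  classical
  have h1 : ∀ g : G, ∃ e : R, e * e = 1 ∧ ∀ φ : G → R, Add P φ → ∀ x ∈ P, g⁻¹ * x * g ∈ P →
      φ (g⁻¹ * x * g) = e * φ x := fun g => by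
    rcases hs g with h | h
    · exact ⟨1, one_mul _, fun φ _ x hx h' => by rw [h x hx h', one_mul]⟩
    · exact ⟨-1, by ring, fun φ hφ x hx h' => by rw [h x hx h', hφ.inv hx]; ring⟩
  choose e he1 he2 using h1
  let rep : G ⧸ P → G ⧸ P := fun i => (Quotient.mk (MulAction.orbitRel P (G ⧸ P)) i).out
  have hrep : ∀ x ∈ P, ∀ i, rep (x • i) = rep i := fun x hx i => by
    have : Quotient.mk (MulAction.orbitRel P (G ⧸ P)) (x • i) = Quotient.mk _ i :=
      Quotient.sound ⟨⟨x, hx⟩, rfl⟩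
    simp only [rep, this]
  have hr : ∀ i, ∃ r ∈ P, r • rep i = i := fun i => by
    obtain ⟨r, hr⟩ : i ∈ MulAction.orbit P (rep i) :=
      MulAction.orbitRel_apply.1 (Quotient.exact (Quotient.out_eq
        (Quotient.mk (MulAction.orbitRel P (G ⧸ P)) i)).symm)
    exact ⟨r, r.2, hr⟩
  choose r hrP hr using hr
  refine ⟨fun i => e (rep i).out, fun i => he1 _, fun x hx i => by simp only [hrep x hx],
    fun φ hφ => ⟨fun i => e (rep i).out * φ (r i) - φ (pi P (r i) (rep i)), fun x hx i => ?_⟩⟩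
  simp only [hrep x hx]
  have hu : (r (x • i))⁻¹ * (x * r i) ∈ P := P.mul_mem (P.inv_mem (hrP _)) (P.mul_mem hx (hrP _))
  have hfix : ((r (x • i))⁻¹ * (x * r i)) • rep i = rep i := by
    rw [mul_smul, mul_smul, hr, inv_smul_eq_iff, ← hrep x hx i, hr]
  have k1 := hφ.pi_mul x (r i) (rep i)
  have k2 := hφ.pi_mul (r (x • i)) ((r (x • i))⁻¹ * (x * r i)) (rep i)
  rw [hr] at k1
  rw [mul_inv_cancel_left, hfix] at k2
  have k3 : φ (pi P ((r (x • i))⁻¹ * (x * r i)) (rep i)) =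
      e (rep i).out * φ ((r (x • i))⁻¹ * (x * r i)) := by
    have := pi_mem ((r (x • i))⁻¹ * (x * r i)) (rep i)
    rw [pi, hfix] at this ⊢
    exact he2 _ φ hφ _ hu this
  rw [hφ _ (P.inv_mem (hrP _)) _ (P.mul_mem hx (hrP _)), hφ.inv (hrP _), hφ _ hx _ (hrP _)] at k3
  linear_combination k2 - k1 + k3

theorem trc_comm [Fintype (G ⧸ P)] {φ ψ : G → R} (hφ : Add P φ) (hψ : Add P ψ)
    (hs : ∀ g : G, (∀ x ∈ P, g⁻¹ * x * g ∈ P → g⁻¹ * x * g = x) ∨
      (∀ x ∈ P, g⁻¹ * x * g ∈ P → g⁻¹ * x * g = x⁻¹)) {x y : G} (hx : x ∈ P) (hy : y ∈ P)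
    (h : x * y = y * x) : (trc hφ hψ).c x y - (trc hφ hψ).c y x =
      P.index * (φ x * ψ y - φ y * ψ x) := by
  obtain ⟨ε, h1, h2, h3⟩ := exists_sign (R := R) hs
  obtain ⟨a, ha⟩ := h3 φ hφ
  obtain ⟨b, hb⟩ := h3 ψ hψ
  have sh : ∀ (g : G) (F : G ⧸ P → R), ∑ i, F (g • i) = ∑ i, F i := fun g F =>
    Equiv.sum_comp (MulAction.toPerm g) F
  have key : ∀ x ∈ P, ∀ y ∈ P, (trc hφ hψ).c x y = P.index * (φ x * ψ y) +
      (∑ i, a (y • i) * b i - ∑ i, a i * b i - ∑ i, a ((x * y) • i) * b i +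
        ∑ i, a (x • i) * b i) := fun x hx y hy => by
    have e1 : ∑ i, ε i * b (y • i) = ∑ i, ε i * b i := by
      rw [← sh y fun i => ε i * b i]; simp only [h2 y hy]
    have e2 : ∑ i, ε i * a ((x * y) • i) = ∑ i, ε i * a (y • i) := by
      rw [(by rw [← sh (x * y) fun i => ε i * a i]; simp only [h2 _ (P.mul_mem hx hy)] :
        ∑ i, ε i * a ((x * y) • i) = ∑ i, ε i * a i), ← sh y fun i => ε i * a i]
      simp only [h2 y hy]
    have e3 := sh y fun i => a i * b i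
    have e4 := sh y fun i => a (x • i) * b i
    have e5 : (P.index : R) * (φ x * ψ y) = ∑ _i : G ⧸ P, φ x * ψ y := by
      simp [Subgroup.index, Nat.card_eq_fintype_card]
    have e6 : (trc hφ hψ).c x y = ∑ i, (φ x * ψ y + φ x * (ε i * b i) - φ x * (ε i * b (y • i)) +
        ψ y * (ε i * a (y • i)) - ψ y * (ε i * a ((x * y) • i)) + a (y • i) * b i -
        a (y • i) * b (y • i) - a ((x * y) • i) * b i + a (x • y • i) * b (y • i)) := by
      refine Finset.sum_congr rfl fun i _ => ?_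
      rw [ha x hx, hb y hy, h2 y hy, mul_smul]
      linear_combination (φ x * ψ y) * h1 i
    rw [e6, e5]
    simp only [Finset.sum_add_distrib, Finset.sum_sub_distrib, ← Finset.mul_sum]
    rw [e1, e2, e3, e4]
    ring
  rw [key x hx y hy, key y hy x hx, h]
  ring

end transfer

theorem exists_add {G : Type u} [Group G] [Finite G] {p : ℕ} [hp : Fact p.Prime] {P : Subgroup G}
    (hP : IsPGroup p P) {M : Subgroup P} (hM : IsCoatom M) :
    ∃ φ : G → ZMod p, Add P φ ∧ ∀ x : P, φ x = 0 ↔ x ∈ M := by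
  classical
  have hi := H7.index_eq_prime_of_isCoatom hP hM
  have := H7.normal_of_index_prime hP hi
  have hc : IsCyclic (P ⧸ M) := isCyclic_of_prime_card (p := p) hi
  have e : (P ⧸ M) ≃* Multiplicative (ZMod p) :=
    mulEquivOfCyclicCardEq (hi.trans (by simp))
  refine ⟨fun g => if h : g ∈ P then (e (QuotientGroup.mk ⟨g, h⟩)).toAdd else 0, ?_, fun x => ?_⟩
  · intro x hx y hy
    simp only [dif_pos hx, dif_pos hy, dif_pos (P.mul_mem hx hy)]
    rw [← toAdd_mul, ← map_mul]; rfl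
  · simp only [dif_pos x.2]
    rw [toAdd_eq_zero, map_eq_one_iff _ e.injective, QuotientGroup.eq_one_iff]

theorem exists_two_coatoms {H : Type*} [Group H] [Finite H] (h : ¬ IsCyclic H) :
    ∃ M M' : Subgroup H, IsCoatom M ∧ IsCoatom M' ∧ ∃ x ∈ M', x ∉ M ∧ ∃ y ∈ M, y ∉ M' := by
  have hnt : (⊥ : Subgroup H) ≠ ⊤ := fun e => by
    have : Subsingleton H := ⟨fun a b => by
      rw [Subgroup.mem_bot.1 (e.ge (Subgroup.mem_top a)),
        Subgroup.mem_bot.1 (e.ge (Subgroup.mem_top b))]⟩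
    exact h inferInstance
  obtain ⟨M, hM, -⟩ := (eq_top_or_exists_le_coatom ⊥).resolve_left hnt
  obtain ⟨x, hx⟩ : ∃ x, x ∉ M := by
    by_contra hc
    push Not at hc
    exact hM.1 (eq_top_iff.2 fun x _ => hc x)
  obtain ⟨M', hM', hx'⟩ := (eq_top_or_exists_le_coatom (Subgroup.zpowers x)).resolve_left
    fun e => h ⟨x, fun y => e.ge (Subgroup.mem_top y)⟩
  have hx2 : x ∈ M' := hx' (Subgroup.mem_zpowers x)
  refine ⟨M, M', hM, hM', x, hx2, hx, ?_⟩
  by_contra hc
  push Not at hc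
  exact hM'.1 (hM.2 _ (lt_of_le_of_ne hc fun e => hx (e ▸ hx2)))

/-- The perfect central extension attached to a noncyclic abelian subgroup of index prime to `p`
on which fusion acts by signs. -/
theorem exists_ext {G : Type u} [Group G] [Finite G] {p : ℕ} [hp : Fact p.Prime] {P : Subgroup G}
    (hP : IsPGroup p P) (hi : ¬ p ∣ P.index) (hc : ∀ x ∈ P, ∀ y ∈ P, x * y = y * x)
    (hn : ¬ IsCyclic P) (hs : ∀ g : G, (∀ x ∈ P, g⁻¹ * x * g ∈ P → g⁻¹ * x * g = x) ∨
      (∀ x ∈ P, g⁻¹ * x * g ∈ P → g⁻¹ * x * g = x⁻¹)) :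
    ∃ (E : Type u) (_ : Group E) (_ : Finite E) (f : E →* G) (z : E), Function.Surjective f ∧
      z ∈ Subgroup.center E ∧ z ^ p = 1 ∧ z ≠ 1 ∧ f.ker = Subgroup.zpowers z ∧
      z ∈ commutator E := by
  have := Fintype.ofFinite (G ⧸ P)
  obtain ⟨M, M', hM, hM', x, hx', hx, y, hy, hy'⟩ := exists_two_coatoms hn
  obtain ⟨φ, hφ, h1⟩ := exists_add hP hM
  obtain ⟨ψ, hψ, h2⟩ := exists_add hP hM'
  refine exists_ext_of_coc (trc hφ hψ) (hc x x.2 y y.2) (sub_ne_zero.1 ?_)
  rw [trc_comm hφ hψ hs x.2 y.2 (hc x x.2 y y.2), (h1 y).2 hy, zero_mul, sub_zero]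
  exact mul_ne_zero (mt (ZMod.natCast_eq_zero_iff _ _).1 hi)
    (mul_ne_zero (mt (h1 x).1 hx) (mt (h2 y).1 hy'))

end H20.ST
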