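import Cfsg.Agent.H20.ST2
import Cfsg.Agent.H20.ST3
import Cfsg.Agent.H20.AS2
import Cfsg.Agent.H5.JR
import Cfsg.Agent.H12.Weak
import Cfsg.Agent.H1.PLength2

/-! The Smith–Tyrer theorem. -/

set_option autoImplicit false
set_option linter.unusedSectionVars false
open Cfsg H17 H19 Subgroup
open H10 (IsSylowIn)

namespace H20.ST

variable {G : Type*} [Group G] [Finite G] {p : ℕ} [hp : Fact p.Prime] {P : Subgroup G}

variable (p) in
/-- An abelian Sylow subgroup inverted by its normaliser. -/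
structure Inv (P : Subgroup G) : Prop where
  syl : IsSylowIn p P ⊤
  comm : P ≤ cent P
  idx : (cent P).relIndex (nrm P) = 2
  inv : ∀ n ∈ nrm P, n ∉ cent P → ∀ x ∈ P, n * x * n⁻¹ = x⁻¹

theorem eq_one_of_inv (hp2 : p ≠ 2) (hP : IsPGroup p P) {x : G} (hx : x ∈ P) (h : x = x⁻¹) :
    x = 1 := by
  refine (isPElt_of_mem hP hx).eq_one fun hd => hp2 ?_
  exact (Nat.prime_dvd_prime_iff_eq hp.out Nat.prime_two).1
    (hd.trans (orderOf_dvd_of_pow_eq_one (by rwa [pow_two, mul_eq_one_iff_eq_inv])))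

theorem nine_le (hp2 : p ≠ 2) (hP : IsPGroup p P) (hn : ¬ IsCyclic P) : 9 ≤ Nat.card P := by
  obtain ⟨k, hk⟩ := IsPGroup.iff_card.1 hP
  have h3 : 3 ≤ p := by have := hp.out.two_le; omega
  obtain _ | _ | k := k
  · have : Subsingleton P := (Nat.card_eq_one_iff_unique.1 (by simpa using hk)).1
    exact absurd isCyclic_of_subsingleton hn
  · exact absurd (isCyclic_of_prime_card (p := p) (by simpa using hk)) hn
  · rw [hk]
    calc 9 = 3 ^ 2 := rfl
      _ ≤ p ^ 2 := Nat.pow_le_pow_left h3 2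
      _ ≤ _ := Nat.pow_le_pow_right hp.out.pos (by omega)

namespace Inv
variable (h : Inv p P) (hp2 : p ≠ 2)
include h

theorem comm' : ∀ x ∈ P, ∀ y ∈ P, x * y = y * x := fun x hx _ hy =>
  mem_centralizer_iff.1 (h.comm hy) x hx

theorem elt {g x : G} (hx : x ∈ P) (hg : g⁻¹ * x * g ∈ P) :
    g⁻¹ * x * g = x ∨ g⁻¹ * x * g = x⁻¹ := by
  obtain ⟨n, hn, e⟩ := fusion_of_comm h.syl h.comm hx hg (isConj_iff.2 ⟨g⁻¹, by simp⟩)
  rw [← e]
  by_cases hc : n ∈ cent P
  · left; rw [← mem_centralizer_iff.1 hc x hx, mul_inv_cancel_right]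
  · right; exact h.inv n hn hc x hx

include hp2

theorem af : AF p P := ⟨h.syl, h.comm, fun y hy h1 n hn => by
  by_contra hc
  have h2 := h.inv n hn.2 hc y hy
  rw [mem_centralizer_singleton_iff.1 hn.1, mul_inv_cancel_right] at h2
  exact h1 (eq_one_of_inv hp2 h.syl.isPGroup hy h2)⟩

theorem sign (g : G) : (∀ x ∈ P, g⁻¹ * x * g ∈ P → g⁻¹ * x * g = x) ∨
    (∀ x ∈ P, g⁻¹ * x * g ∈ P → g⁻¹ * x * g = x⁻¹) := by
  by_contra hc
  push Not at hc
  obtain ⟨⟨x, hx, hx1, hx2⟩, y, hy, hy1, hy2⟩ := hc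
  have e1 := (h.elt hx hx1).resolve_left hx2
  have e2 := (h.elt hy hy1).resolve_right hy2
  have e3 : g⁻¹ * (x * y) * g = x⁻¹ * y := by
    rw [show g⁻¹ * (x * y) * g = g⁻¹ * x * g * (g⁻¹ * y * g) by group, e1, e2]
  rcases h.elt (P.mul_mem hx hy) (e3 ▸ P.mul_mem (P.inv_mem hx) hy) with e | e
  · rw [e3, mul_left_inj] at e
    exact hx2 (e1.trans e)
  · rw [e3, h.comm' x hx y hy, mul_inv_rev, mul_right_inj] at e
    exact hy2 (e2.trans e)

theorem exists_chi (hn : ¬ IsCyclic P) (O : ValuationSubring ℂ) [CharP (kk O) p] :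
    ∃ (χ : IrrCharacter G) (a : ℤ), a * a = 1 ∧ χ ∈ irr (B0 O G) ∧ χ ≠ triv G ∧
      (∀ g, p ∣ orderOf g → (χ : G → ℂ) g = a) ∧ ∀ ψ ∈ irr (B0 O G), ∃ α β : ℂ,
        ∀ g, ¬ p ∣ orderOf g → (ψ : G → ℂ) g = α + β * (χ : G → ℂ) g := by
  classical
  have h9 := nine_le hp2 h.syl.isPGroup hn
  have hm : (cent P).relIndex (nrm P) + 1 < Nat.card P := by rw [h.idx]; omega
  obtain ⟨δ, d, ζ, a, X, Y, E⟩ := (h.af hp2).exists_exc O hm
  have h1 := E.card_Y (h.af hp2)
  have h2 := E.norm (h.af hp2) hm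
  have h3 := E.triv_mem (h.af hp2) hm
  have h4 := E.a_triv (h.af hp2) hm
  rw [h.idx] at h1 h2
  rw [← Finset.add_sum_erase _ _ h3, h4] at h2
  have h5 : ∀ χ ∈ X.erase (triv G), (1 : ℤ) ≤ a χ ^ 2 := fun χ hχ =>
    sq_pos_of_ne_zero (E.a_ne (h.af hp2) hm (Finset.mem_of_mem_erase hχ))
  have h6 := Finset.card_nsmul_le_sum _ _ _ h5
  have h7 : (4 : ℤ) ≤ Y.card := by omega
  have hd : d = 0 := by
    by_contra h0
    have : 1 ≤ d ^ 2 := sq_pos_of_ne_zero h0
    have h8 : 0 ≤ (d - δ) ^ 2 := by positivity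
    have h9 : (0 : ℤ) ≤ (X.erase (triv G)).card • (1 : ℤ) := by simp
    push_cast at h2
    nlinarith
  subst hd
  have hδ := E.δ_mul
  have h8 : ∑ χ ∈ X.erase (triv G), a χ ^ 2 = 1 := by push_cast at h2; nlinarith
  obtain ⟨χ, hχ⟩ : ∃ χ, X.erase (triv G) = {χ} := by
    rw [← Finset.card_eq_one]
    rw [h8, nsmul_eq_mul, mul_one] at h6
    have : (X.erase (triv G)).card ≠ 0 := fun h0 => by
      rw [Finset.card_eq_zero.1 h0] at h8; simp at h8
    omega
  have hχ' : χ ∈ X.erase (triv G) := hχ ▸ Finset.mem_singleton_self χ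
  rw [hχ, Finset.sum_singleton, pow_two] at h8
  refine ⟨χ, a χ, h8, E.X_mem (Finset.mem_of_mem_erase hχ'), Finset.ne_of_mem_erase hχ',
    fun g hg => E.val_sing (h.af hp2) (Finset.mem_of_mem_erase hχ') hg, fun ψ hψ => ?_⟩
  rcases (E.mem ψ).1 hψ with hX | hY
  · by_cases h0 : ψ = triv G
    · exact ⟨1, 0, fun g _ => by simp [h0]⟩
    · have : ψ ∈ X.erase (triv G) := Finset.mem_erase.2 ⟨h0, hX⟩
      rw [hχ, Finset.mem_singleton] at this
      exact ⟨0, 1, fun g _ => by simp [this]⟩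
  · refine ⟨δ, δ * a χ, fun g hg => ?_⟩
    have h10 := E.rel' (h.af hp2) hY hg
    rw [← Finset.add_sum_erase _ _ h3, h4, hχ, Finset.sum_singleton] at h10
    have hδ' : (δ : ℂ) * δ = 1 := by exact_mod_cast congrArg (Int.cast : ℤ → ℂ) hδ
    simp only [triv_apply] at h10
    push_cast at h10
    linear_combination (-δ : ℂ) * h10 - (ψ : G → ℂ) g * hδ'

omit hp2 in
theorem normal_of_ker (hO : pPrimeCore p G = ⊥) {K : Subgroup G} [K.Normal] (hK : K ≠ ⊤)
    (hs : ∀ g, p ∣ orderOf g → g ∈ K) {x : G} (hx : x ∈ P) (h1 : x ≠ 1) : P.Normal := by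
  have hPK : P ≤ K := fun y hy => by
    by_cases h0 : y = 1
    · exact h0 ▸ K.one_mem
    · exact hs y ((isPElt_of_mem h.syl.isPGroup hy).dvd_orderOf h0)
  have hCK : cent P ≤ K := fun c hc => by
    by_cases h0 : p ∣ orderOf c
    · exact hs c h0
    · refine (K.mul_mem_cancel_left (hPK hx)).1 (hs _ ?_)
      by_contra h2
      exact h1 ((isPPart_eq_one_iff (isPPart_mul (isPElt_of_mem h.syl.isPGroup hx) h0
        (mem_centralizer_iff.1 hc x hx))).2 h2)
  have hS : IsSylowIn p P K := h.syl.of_le hPK le_top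
  have h2 : K ⊓ nrm P ≤ cent P := fun n hn => by
    by_contra hc
    refine hK (eq_top_iff.2 fun g _ => ?_)
    obtain ⟨a, ha, b, hb, rfl⟩ := hS.frattini' le_top (H10.le_NN_of_normal _ _) (mem_top g)
    refine K.mul_mem ha ?_
    by_cases hbc : b ∈ cent P
    · exact hCK hbc
    · have h3 := (mul_mem_iff_of_index_two (H := (cent P).subgroupOf (nrm P)) h.idx
        (a := ⟨n, hn.2⟩) (b := ⟨b, hb.2⟩)).2 (by simp [mem_subgroupOf, hc, hbc])
      exact (K.mul_mem_cancel_left hn.1).1 (hCK h3)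
  have h3 := AS.pg_of_npc hO (npc_of_nrm_le hS h2)
  rwa [← h.syl.eq_of_le h3 hPK le_top]

theorem normal (hn : ¬ IsCyclic P) (hO : pPrimeCore p G = ⊥) : P.Normal := by
  obtain ⟨O, _⟩ := exists_val p
  obtain ⟨χ, a, h1, h2, h3, h4, h5⟩ := h.exists_chi hp2 hn O
  obtain ⟨E, _, _, f, z, k1, k2, k3, k4, k5, k6⟩ := exists_ext h.syl.isPGroup
    (relIndex_top_right P ▸ h.syl.not_dvd_relIndex) h.comm' hn (h.sign hp2)
  have h9 := nine_le hp2 h.syl.isPGroup hn
  obtain ⟨x, hx, hx1⟩ := (P.bot_or_exists_ne_one).resolve_left fun e => by simp [e] at h9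
  have hK := χ.2.isCharacter.charKer_normal
  have hfin : (χ : G → ℂ) 1 = a → P.Normal := fun e =>
    h.normal_of_ker hO (K := charKer (χ : G → ℂ))
      (fun e => h3 (Subtype.ext (χ.2.eq_one_of_charKer_eq_top e)))
      (fun g hg => χ.2.mem_charKer.2 ((h4 g hg).trans e.symm)) hx hx1
  haveI : Fact (Nat.Prime 2) := ⟨Nat.prime_two⟩
  obtain ⟨t, ht⟩ := exists_prime_orderOf_dvd_card' (G := G) 2 (by
    rw [← h.idx]
    exact (Subgroup.index_dvd_card _).trans (card_subgroup_dvd_card _))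
  rcases Ctx.core (O := O) ⟨k1, k2, k3, k4, k5, h1, h2, h3, h4, h5⟩ hp2 k6 (t := t)
    (by rw [← pow_two, ← ht, pow_orderOf_eq_one]) with e | e
  · exact hfin e
  by_cases hd : p ∣ Nat.card (charKer (χ : G → ℂ))
  · obtain ⟨y, hy⟩ := exists_prime_orderOf_dvd_card' p hd
    exact hfin ((χ.2.mem_charKer.1 y.2).symm.trans (h4 y (by rw [orderOf_coe, hy])))
  · have := H1.le_pPrimeCore (hp.out.coprime_iff_not_dvd.2 hd).symm (χ.2.mem_charKer.2 e)
    rw [hO, mem_bot] at this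
    rw [this, orderOf_one] at ht
    omega

omit hp2 in
theorem map {Q : Type*} [Group Q] [Finite Q] {f : G →* Q} (hf : Function.Surjective f)
    (hk : ¬ p ∣ Nat.card f.ker) : Inv p (P.map f) := by
  refine ⟨h.syl.map_top hf, (map_mono h.comm).trans (H5.map_centralizer_le _ P),
    (AS.relIndex_map h.syl.isPGroup hf hk).trans h.idx, ?_⟩
  rw [AS.nrm_map h.syl.isPGroup hf hk]
  rintro _ ⟨n, hn, rfl⟩ hc _ ⟨x, hx, rfl⟩
  rw [← map_inv, ← map_mul, ← map_mul,
    h.inv n hn (fun h1 => hc (H5.map_centralizer_le f P ⟨n, h1, rfl⟩)) x hx, map_inv]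

end Inv

theorem inv_of_fix (hc : P ≤ cent P) (hi : (cent P).relIndex (nrm P) = 2)
    (hf : ∀ s ∈ P, (∀ g ∈ nrm P, g * s = s * g) → s = 1) {n x : G} (hn : n ∈ nrm P)
    (hnc : n ∉ cent P) (hx : x ∈ P) : n * x * n⁻¹ = x⁻¹ := by
  have h2 : n * x * n⁻¹ ∈ P := (mem_normalizer_iff.1 hn x).1 hx
  have h3 : x * (n * x * n⁻¹) ∈ P := P.mul_mem hx h2
  refine eq_inv_of_mul_eq_one_right (hf _ h3 fun g hg => ?_)
  by_cases hgc : g ∈ cent P
  · exact (mem_centralizer_iff.1 hgc _ h3).symm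
  have key : ∀ a ∈ nrm P, a ∉ cent P → ∀ b ∈ nrm P, b ∉ cent P → a * b ∈ cent P :=
    fun a ha ha' b hb hb' => (mul_mem_iff_of_index_two (H := (cent P).subgroupOf (nrm P)) hi
      (a := ⟨a, ha⟩) (b := ⟨b, hb⟩)).2 (by simp [mem_subgroupOf, ha', hb'])
  have e1 := mem_centralizer_iff.1 (key g hg hgc n hn hnc) x hx
  have e2 := mem_centralizer_iff.1 (key n⁻¹ (Subgroup.inv_mem _ hn)
    (fun k => hnc ((Subgroup.inv_mem_iff _).1 k)) g hg hgc) x hx
  have e3 := mem_centralizer_iff.1 (hc h2) x hx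
  have e4 : g * x = n * x * n⁻¹ * g := by
    calc g * x = n * (n⁻¹ * g * x) := by group
      _ = _ := by rw [← e2]; group
  have e5 : g * (n * x * n⁻¹) = x * g := by
    calc g * (n * x * n⁻¹) = g * n * x * n⁻¹ := by group
      _ = _ := by rw [← e1, mul_assoc, mul_inv_cancel_right]
  rw [← mul_assoc g, e4, mul_assoc _ g, e5, e3]
  group

theorem inv_of_perfect (S : Sylow p G) (hab : IsMulCommutative (S : Subgroup G))
    (hi : (cent (S : Subgroup G)).relIndex (nrm (S : Subgroup G)) = 2) (h : pResidual p G = ⊤) :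
    Inv p (S : Subgroup G) := by
  have hc : (S : Subgroup G) ≤ cent S := le_centralizer_iff_isMulCommutative.2 hab
  have h1 := (H12.pResidual_eq_top_iff_le (H12.sylIn_top S)).1 h
  exact ⟨H10.isSylowIn_top S, hc, hi, fun n hn hnc x hx => inv_of_fix hc hi
    (fun s hs hf => H5.fix_eq_one_of_abelian_sylow S hs (h1 hs) hf) hn hnc hx⟩

theorem smith_tyrer (hp2 : p ≠ 2) (S : Sylow p G) (hab : IsMulCommutative (S : Subgroup G))
    (hn : ¬ IsCyclic (S : Subgroup G))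
    (hi : (cent (S : Subgroup G)).relIndex (nrm (S : Subgroup G)) = 2) (h : pResidual p G = ⊤) :
    PLengthLE p 1 G := by
  have h0 := inv_of_perfect S hab hi h
  have hf := QuotientGroup.mk'_surjective (pPrimeCore p G)
  have hk : ¬ p ∣ Nat.card (QuotientGroup.mk' (pPrimeCore p G)).ker := by
    rw [QuotientGroup.ker_mk']; exact H1.not_dvd_card_pPrimeCore hp.out
  have h1 := (h0.map hf hk).normal hp2 (fun hc => hn (isCyclic_of_injective
    ((QuotientGroup.mk' (pPrimeCore p G)).subgroupMap S) fun a b e => Subtype.ext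
      (AS.eq_of_map S.isPGroup' hk a.2 b.2 (congrArg Subtype.val e))))
    (H1.pPrimeCore_quotient_pPrimeCore p)
  have h2 := h1.comap (QuotientGroup.mk' (pPrimeCore p G))
  rw [comap_map_eq, QuotientGroup.ker_mk'] at h2
  exact H1.pLengthLE_one_of_sup_normal S _ (H1.coprime_card_pPrimeCore p)

end H20.ST
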