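import Cfsg.Agent.H19.Ht3
import Cfsg.Agent.H24.StCh2

/-! Uniqueness of the defect zero block of a Chevalley group in defining characteristic. -/

set_option autoImplicit false
set_option linter.unusedSectionVars false

open MonoidAlgebra Subgroup H10 Cfsg H17 Finset
open H19 (kk Blk irr eB fB lam OG red ZZ om ev setSum)

namespace H20

section Alg
variable {k : Type*} [Field k] {G : Type*} [Group G] [Finite G] {p : ℕ} [hp : Fact p.Prime]
  [CharP k p] {D K U H : Subgroup G} {e m : k[G]} {w : G}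

variable (k) in
/-- the sum of the elements of a subgroup -/
noncomputable abbrev sgS (K : Subgroup G) : k[G] := setSum k (K : Set G)

theorem coeff_sgS (K : Subgroup G) (x : G) [Decidable (x ∈ K)] :
    (sgS k K).coeff x = if x ∈ K then 1 else 0 := by
  classical
  rw [H19.coeff_setSum]; congr

theorem single_mul_sgS {u : G} (hu : u ∈ K) : single u (1 : k) * sgS k K = sgS k K := by
  classical
  refine ext_coeff fun x => ?_
  rw [coeff_single_mul_apply, one_mul, coeff_sgS, coeff_sgS]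
  exact if_congr (K.mul_mem_cancel_left (K.inv_mem hu)) rfl rfl

theorem sgS_mul_single {u : G} (hu : u ∈ K) : sgS k K * single u (1 : k) = sgS k K := by
  classical
  refine ext_coeff fun x => ?_
  rw [coeff_mul_single_apply, mul_one, coeff_sgS, coeff_sgS]
  exact if_congr (K.mul_mem_cancel_right (K.inv_mem hu)) rfl rfl

theorem sng_mul (g h : G) : single (g * h) (1 : k) = single g 1 * single h 1 := by
  rw [single_mul_single, one_mul]

theorem sng_inv_mul (g : G) (z : k[G]) : single g⁻¹ (1 : k) * (single g 1 * z) = z := by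
  rw [← mul_assoc, ← sng_mul, inv_mul_cancel, ← one_def, one_mul]

theorem sng_mul_inv (g : G) (z : k[G]) : single g (1 : k) * (single g⁻¹ 1 * z) = z := by
  rw [← mul_assoc, ← sng_mul, mul_inv_cancel, ← one_def, one_mul]

theorem single_mul_sgS' {u : G} (hu : u ∈ K) (z : k[G]) :
    single u (1 : k) * (sgS k K * z) = sgS k K * z := by rw [← mul_assoc, single_mul_sgS hu]

theorem sgS_mul_single' {u : G} (hu : u ∈ K) (z : k[G]) :
    sgS k K * (single u (1 : k) * z) = sgS k K * z := by rw [← mul_assoc, sgS_mul_single hu]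

theorem single_comm_sgS {g : G} (hg : g ∈ nrm K) :
    single g (1 : k) * sgS k K = sgS k K * single g 1 := by
  classical
  refine ext_coeff fun x => ?_
  rw [coeff_mul_single_apply, coeff_single_mul_apply, mul_one, one_mul, coeff_sgS, coeff_sgS]
  refine if_congr ?_ rfl rfl
  rw [mem_normalizer_iff.1 hg]
  simp [mul_assoc]

theorem single_comm_sgS' {g : G} (hg : g ∈ nrm K) (z : k[G]) :
    single g (1 : k) * (sgS k K * z) = sgS k K * (single g 1 * z) := by
  rw [← mul_assoc, single_comm_sgS hg, mul_assoc]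

theorem sgS_eq_sum [Fintype K] : sgS k K = ∑ u : K, single (u : G) (1 : k) := by
  classical
  refine ext_coeff fun x => ?_
  rw [coeff_sgS, H19.coeff_sum_apply]
  split_ifs with h
  · rw [sum_eq_single ⟨x, h⟩ (fun b _ hb => by
      rw [coeff_single, Finsupp.single_eq_of_ne fun h => hb (Subtype.ext h.symm)]) (by simp)]
    simp
  · refine (sum_eq_zero fun b _ => ?_).symm
    rw [coeff_single, Finsupp.single_eq_of_ne fun h' : x = b => h (h' ▸ b.2)]

theorem sgS_mul_of_fixed (h : ∀ d ∈ D, single d 1 * m = m) : sgS k D * m = Nat.card D • m := by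
  have := Fintype.ofFinite D
  rw [sgS_eq_sum, sum_mul, sum_congr rfl fun (d : D) _ => h d d.2, sum_const, card_univ,
    Nat.card_eq_fintype_card]

theorem mul_sgS_of_fixed (h : ∀ d ∈ D, m * single d 1 = m) : m * sgS k D = Nat.card D • m := by
  have := Fintype.ofFinite D
  rw [sgS_eq_sum, mul_sum, sum_congr rfl fun (d : D) _ => h d d.2, sum_const, card_univ,
    Nat.card_eq_fintype_card]

theorem exists_sgS_mul (h : ∀ d ∈ D, single d 1 * m = m) : ∃ y, m = sgS k D * y := by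
  classical
  have := Fintype.ofFinite D
  let r : G → G := fun g => (Quotient.mk (QuotientGroup.rightRel D) g).out
  have h1 : ∀ g, g * (r g)⁻¹ ∈ D := fun g =>
    QuotientGroup.rightRel_apply.1 (Quotient.exact (Quotient.out_eq _))
  have h2 : ∀ d ∈ D, ∀ g, r (d * g) = r g := fun d hd g => congrArg Quotient.out
    (Quotient.sound (QuotientGroup.rightRel_apply.2 (by simpa using hd)))
  refine ⟨trunc {g | r g = g} m, ext_coeff fun g => ?_⟩
  rw [sgS_eq_sum, sum_mul, H19.coeff_sum_apply, sum_eq_single ⟨_, h1 g⟩ (fun d _ hd => ?_) (by simp),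
    coeff_single_mul_apply, one_mul, coeff_trunc_of_mem, ← h _ (h1 g), coeff_single_mul_apply,
    one_mul, h _ (h1 g)]
  · show r _ = _
    rw [h2 _ (D.inv_mem (h1 g))]; simp
  · rw [coeff_single_mul_apply, one_mul, coeff_trunc_of_not_mem]
    intro h3
    rw [Set.mem_setOf_eq, h2 _ (D.inv_mem d.2)] at h3
    exact hd (Subtype.ext (by simp [h3]))

theorem sgS_mul_eq_zero (hU : IsPGroup p U) {g u : G} (hu : u ∈ U) (h1 : u ≠ 1)
    (h : g⁻¹ * u * g ∈ U) : sgS k U * single g 1 * sgS k U = 0 := by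
  obtain ⟨y, hy⟩ := exists_sgS_mul (D := zpowers u) (m := single g (1 : k) * sgS k U) fun d hd => by
    have h2 : g⁻¹ * d * g ∈ U := mem_sc.1 (zpowers_le.2 (mem_sc.2 h) hd)
    conv_rhs => rw [← single_mul_sgS h2]
    simp only [sng_mul, mul_assoc, sng_mul_inv]
  obtain ⟨n, hn⟩ := (hU.to_le (zpowers_le.2 hu)).exists_card_eq
  have h3 : n ≠ 0 := fun h => h1 (by simpa [h] using hn)
  rw [mul_assoc, hy, ← mul_assoc, mul_sgS_of_fixed fun d hd => sgS_mul_single (zpowers_le.2 hu hd),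
    hn, ← Nat.cast_smul_eq_nsmul k, Nat.cast_pow, CharP.cast_eq_zero, zero_pow h3, zero_smul,
    zero_mul]

variable (p) in
/-- the big cell of a Bruhat decomposition -/
structure BH (U H : Subgroup G) (w : G) : Prop where
  pU : IsPGroup p U
  pH : ¬ p ∣ Nat.card H
  HU : H ≤ nrm U
  br : ∀ g, (∃ u ∈ U, u ≠ 1 ∧ g⁻¹ * u * g ∈ U) ∨ ∃ u ∈ U, ∃ h ∈ H, ∃ u' ∈ U, g = u * (h * w) * u'

/-- central idempotents generating a simple ideal -/
structure Smp (e : k[G]) : Prop where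
  cen : ∀ a, Commute e a
  idem : IsIdempotentElem e
  ne : e ≠ 0
  gen : ∀ a, a * e ≠ 0 → ∀ N : Submodule k k[G], ∀ b c,
    (∀ g y, b * single g 1 * a * y * e ∈ N) → b * e * c ∈ N

/-- left invariants in a block -/
def LS (e : k[G]) (U : Subgroup G) : Submodule k k[G] where
  carrier := {m | e * m = m ∧ ∀ u ∈ U, single u 1 * m = m}
  add_mem' ha hb := ⟨by rw [mul_add, ha.1, hb.1], fun u hu => by rw [mul_add, ha.2 u hu, hb.2 u hu]⟩
  zero_mem' := ⟨mul_zero _, fun _ _ => mul_zero _⟩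
  smul_mem' c a ha := ⟨by rw [mul_smul_comm, ha.1], fun u hu => by rw [mul_smul_comm, ha.2 u hu]⟩

theorem BH.cases (hB : BH p U H w) (g : G) : sgS k U * single g 1 * sgS k U = 0 ∨
    ∃ h ∈ H, sgS k U * single g 1 * sgS k U = sgS k U * single (h * w) 1 * sgS k U := by
  rcases hB.br g with ⟨u, hu, h1, h2⟩ | ⟨u, hu, h, hh, u', hu', rfl⟩
  · exact .inl (sgS_mul_eq_zero hB.pU hu h1 h2)
  · refine .inr ⟨h, hh, ?_⟩
    simp only [sng_mul, mul_assoc, sgS_mul_single' hu, single_mul_sgS hu']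

theorem BH.LS_le (hB : BH p U H w) (he : Smp e) {N : Submodule k k[G]}
    (hN : ∀ h ∈ H, ∀ y, sgS k U * single (h * w) 1 * sgS k U * y * e ∈ N) : LS e U ≤ N := by
  intro m hm
  obtain ⟨y, rfl⟩ := exists_sgS_mul hm.2
  have h1 : sgS k U * e * y = sgS k U * y := by rw [← (he.cen _).eq, mul_assoc, hm.1]
  by_cases h0 : sgS k U * e = 0
  · rw [← h1, h0, zero_mul]; exact N.zero_mem
  rw [← h1]
  refine he.gen _ h0 N _ _ fun g z => ?_
  rcases hB.cases (k := k) g with h | ⟨h, hh, h2⟩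
  · rw [h, zero_mul, zero_mul]; exact N.zero_mem
  · rw [h2]; exact hN h hh z

theorem BH.ne_zero (hB : BH p U H w) (he : Smp e)
    (hf : ∀ m ∈ LS e U, ∀ h ∈ H, single h 1 * m = m) :
    sgS k H * (sgS k U * single w 1 * sgS k U) * sgS k H * e ≠ 0 ∧
    ∀ g, ∃ c : k, sgS k H * (sgS k U * single g 1 * sgS k U) * sgS k H =
      c • (sgS k H * (sgS k U * single w 1 * sgS k U) * sgS k H) := by
  have h1 : ∀ g, ∃ c : k, sgS k H * (sgS k U * single g 1 * sgS k U) * sgS k H =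
      c • (sgS k H * (sgS k U * single w 1 * sgS k U) * sgS k H) := fun g => by
    rcases hB.cases (k := k) g with h | ⟨h, hh, h2⟩
    · exact ⟨0, by rw [h, mul_zero, zero_mul, zero_smul]⟩
    · refine ⟨1, ?_⟩
      rw [h2, one_smul, ← one_mul (1 : k), ← single_mul_single, ← mul_assoc (sgS k U),
        ← single_comm_sgS (hB.HU hh)]
      simp only [← mul_assoc, sgS_mul_single hh, one_mul]
  refine ⟨fun h0 => ?_, h1⟩
  obtain ⟨v, hv, h2⟩ := exists_left_fixed hB.pU (fun g _ => cj_eq_self_iff.2 (he.cen _).symm)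
    he.idem he.ne
  have h3 := sgS_mul_of_fixed (hf v h2)
  obtain ⟨y, rfl⟩ := exists_sgS_mul h2.2
  have := Fintype.ofFinite H
  have h4 : sgS k U * sgS k H = sgS k H * sgS k U := by
    rw [sgS_eq_sum (K := H), mul_sum, sum_mul]
    exact sum_congr rfl fun h _ => (single_comm_sgS (hB.HU h.2)).symm
  have h5 : sgS k H * sgS k U * e ≠ 0 := fun h => by
    rw [← h2.1, ← mul_assoc e, (he.cen _).eq, ← mul_assoc, ← mul_assoc, h, zero_mul,
      ← Nat.cast_smul_eq_nsmul k, eq_comm, smul_eq_zero, CharP.cast_eq_zero_iff k p,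
      ← (he.cen _).eq, mul_assoc, h2.1] at h3
    exact h3.elim hB.pH hv
  refine h5 ?_
  rw [← mul_one (_ * e), ← Submodule.mem_bot k]
  refine he.gen _ h5 _ _ _ fun g z => ?_
  obtain ⟨c, hc⟩ := h1 g
  rw [Submodule.mem_bot, mul_assoc _ z, ← (he.cen z).eq, ← mul_assoc, ← h4, ← mul_assoc, h4]
  simp only [mul_assoc] at hc h0 ⊢
  simp only [← mul_assoc] at hc h0 ⊢
  rw [hc, smul_mul_assoc, h0, smul_zero, zero_mul]

theorem BH.unique (hB : BH p U H w) {e' : k[G]} (he : Smp e) (he' : Smp e')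
    (hf : ∀ m ∈ LS e U, ∀ h ∈ H, single h 1 * m = m)
    (hf' : ∀ m ∈ LS e' U, ∀ h ∈ H, single h 1 * m = m) : e * e' ≠ 0 := by
  intro h0
  obtain ⟨h1, h2⟩ := hB.ne_zero he hf
  have := Fintype.ofFinite G
  choose c hc using h2
  have h3 : sgS k H * (sgS k U * single w 1 * sgS k U) * sgS k H * e =
      sgS k H * (sgS k U * (single w 1 * e) * sgS k U) * sgS k H := by
    simp only [mul_assoc, (he.cen _).eq]
  rw [H19.eq_sum_single (single w 1 * e), mul_sum, sum_mul, mul_sum, sum_mul,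
    sum_congr rfl fun g _ => by
      rw [mul_smul_comm, smul_mul_assoc, mul_smul_comm, smul_mul_assoc, hc, smul_smul],
    ← sum_smul] at h3
  have h4 := congrArg (· * e') h3
  simp only [mul_assoc _ e, h0, mul_zero, smul_mul_assoc] at h4
  rcases smul_eq_zero.1 h4.symm with h | h
  · exact h1 (by rw [h3, h, zero_smul])
  · exact (hB.ne_zero he' hf').1 h

section One
variable {F : Type*} [Field F] [Fintype F] {x : F → G} {U' : Subgroup G} {s : G}

theorem sgS_fac (hU' : U' ≤ U) (hx : ∀ a, x a ∈ U) (hfac : ∀ u ∈ U, ∃! a, (x a)⁻¹ * u ∈ U') :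
    sgS k U = (∑ a, single (x a) 1) * sgS k U' := by
  classical
  refine ext_coeff fun g => ?_
  simp_rw [sum_mul, H19.coeff_sum_apply, coeff_single_mul_apply, one_mul, coeff_sgS]
  split_ifs with h
  · obtain ⟨a, ha, h1⟩ := hfac g h
    rw [sum_eq_single a (fun b _ hb => if_neg fun h => hb (h1 b h)) (by simp), if_pos ha]
  · exact (sum_eq_zero fun a _ => if_neg fun h' => h (by simpa using U.mul_mem (hx a) (hU' h'))).symm

theorem BH.surj (hB : BH p U H w) (he : Smp e) (hU' : U' ≤ U) (hx : ∀ a, x a ∈ U)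
    (hfac : ∀ u ∈ U, ∃! a, (x a)⁻¹ * u ∈ U') (hxn : ∀ a, x a ∈ nrm U') (hs : s ∈ nrm U')
    (h1 : ∀ h ∈ H, ∀ a, (s⁻¹ * (h * w))⁻¹ * x a * (s⁻¹ * (h * w)) ∈ U) (hm : m ∈ LS e U) :
    ∃ m' ∈ LS e U, (∑ a, single (x a) 1) * single s 1 * m' = m := by
  refine hB.LS_le he (N := (LS e U).map (LinearMap.mulLeft k ((∑ a, single (x a) 1) * single s 1)))
    (fun h hh y => ⟨sgS k U' * single (s⁻¹ * (h * w)) 1 * sgS k U * y * e, ⟨?_, fun u hu => ?_⟩, ?_⟩)
    hm
  · rw [(he.cen _).eq, mul_assoc _ e, he.idem.eq]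
  · obtain ⟨a, ha, -⟩ := hfac u hu
    rw [← mul_inv_cancel_left (x a) u, sng_mul (x a)]
    conv_rhs => rw [← single_mul_sgS (h1 h hh a)]
    generalize s⁻¹ * (h * w) = g
    simp only [mul_assoc, single_mul_sgS' ha, single_comm_sgS' (hxn a)]
    simp only [sng_mul, mul_assoc, sng_mul_inv]
  · rw [LinearMap.mulLeft_apply]
    conv_rhs => enter [1, 1, 1, 1]; rw [sgS_fac hU' hx hfac]
    simp only [mul_assoc, single_comm_sgS' hs, sng_mul s⁻¹, sng_mul_inv]

theorem BH.fix [CharP F p] (hB : BH p U H w) (he : Smp e) (hU' : U' ≤ U) (hx : ∀ a, x a ∈ U)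
    (hadd : ∀ a b, x (a + b) = x a * x b)
    (hfac : ∀ u ∈ U, ∃! a, (x a)⁻¹ * u ∈ U') (hxn : ∀ a, x a ∈ nrm U') (hs : s ∈ nrm U')
    (h1 : ∀ h ∈ H, ∀ a, (s⁻¹ * (h * w))⁻¹ * x a * (s⁻¹ * (h * w)) ∈ U)
    (h2 : ∀ h ∈ H, ∀ a, (s * (h * w))⁻¹ * x a * (s * (h * w)) ∈ U) {t : F → G}
    (tmul : ∀ a b, a ≠ 0 → b ≠ 0 → t a * t b = t (a * b))
    (ht : ∀ a ≠ 0, ∃ μ ≠ 0, ∀ b, t a * x b * (t a)⁻¹ = x (μ * b))
    (hrel : ∀ a ≠ 0, ∃ c d, s * x a * s⁻¹ = x c * (t a⁻¹ * s) * x d) (hm : m ∈ LS e U) {b : F}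
    (hb : b ≠ 0) : single (t b) 1 * m = m := by
  classical
  obtain ⟨m1, hm1, rfl⟩ := hB.surj he hU' hx hfac hxn hs h1 hm
  obtain ⟨m2, hm2, rfl⟩ := hB.surj he hU' hx hfac hxn (inv_mem hs) (by simpa using h2) hm1
  obtain ⟨X, hX⟩ : ∃ X : k[G], X = ∑ a, single (x a) 1 := ⟨_, rfl⟩
  rw [← hX]
  have x0 : x 0 = 1 := by simpa using hadd 0 0
  have h3 : ∀ c, X * single (x c) 1 = X := fun c => by
    rw [hX, sum_mul]
    simp_rw [single_mul_single, one_mul, ← hadd]
    exact Equiv.sum_comp (Equiv.addRight c) fun a => single (x a) (1 : k)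
  have h4 : ∀ a ≠ 0, X * single (t a) 1 = single (t a) 1 * X := fun a ha => by
    obtain ⟨μ, hμ, h⟩ := ht a ha
    rw [hX, sum_mul, mul_sum, ← Equiv.sum_comp (Equiv.mulLeft₀ μ hμ)]
    simp [single_mul_single, ← h]
  have h6 : X * m2 = 0 := by
    rw [hX, sum_mul, sum_congr rfl fun a _ => hm2.2 _ (hx a), sum_const, card_univ,
      ← Nat.cast_smul_eq_nsmul k, (CharP.cast_eq_zero_iff k p _).2
        ((CharP.cast_eq_zero_iff F p _).1 (FiniteField.cast_card_eq_zero F)), zero_smul]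
  have h5 : X * single s 1 * (X * single s⁻¹ 1 * m2) =
      (∑ a ∈ univ.erase 0, single (t a⁻¹) 1) * (X * single s 1 * m2) := by
    conv_lhs => enter [2]; rw [hX]
    rw [sum_mul, sum_mul, mul_sum, ← add_sum_erase _ _ (mem_univ 0), sum_mul, x0,
      show X * single s 1 * (single 1 1 * single s⁻¹ 1 * m2) = X * m2 by
        rw [← one_def, one_mul, mul_assoc, sng_mul_inv], h6, zero_add]
    refine sum_congr rfl fun a ha => ?_
    obtain ⟨c, d, h⟩ := hrel a (ne_of_mem_erase ha)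
    rw [← mul_assoc (single _ _), ← mul_assoc (single _ _),
      ← h4 _ (inv_ne_zero (ne_of_mem_erase ha))]
    conv_rhs => rw [← h3 c, ← hm2.2 _ (hx d)]
    replace h := congrArg (fun g => X * single g (1 : k) * m2) h
    simpa only [sng_mul, mul_assoc] using h
  rw [h5, ← mul_assoc, mul_sum]
  congr 1
  refine sum_bij' (fun a _ => a * b⁻¹) (fun a _ => a * b) (by simp [hb]) (by simp [hb])
    (by simp [hb]) (by simp [hb]) fun a ha => ?_
  rw [single_mul_single, one_mul, tmul _ _ hb (inv_ne_zero (ne_of_mem_erase ha)), mul_inv, inv_inv,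
    mul_comm]

end One

end Alg

section Blk
variable {O : ValuationSubring ℂ} {G : Type*} [Group G] [Finite G] {p : ℕ} [hp : Fact p.Prime]
  [CharP (kk O) p] {χ ψ : IrrCharacter G}

omit hp [CharP (kk O) p] in
theorem tr_mul_fB [Fintype G] (χ : IrrCharacter G) {n : ℕ} (hn : (χ : G → ℂ) 1 * n = Nat.card G)
    (a : ℂ[G]) : (∑ h, cj h a) * fB {χ} = ((n : ℂ) ^ 2 * (a * fB {χ}).coeff 1) • fB {χ} := by
  classical
  have h1 : ∑ h, cj h a ∈ ZZ ℂ G := mem_cen_top_iff.1 (mem_cen_top.2 fun g _ => by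
    rw [map_sum]
    simp_rw [← cj_mul]
    exact Equiv.sum_comp (Equiv.mulLeft g) fun h => cj h a)
  have h2 := H19.sum_deg_mul_ev (a * fB {χ})
  rw [sum_eq_single χ (fun ψ _ h => by
      rw [← H19.ZZ_comm (H19.fB_mem_ZZ _), H19.ev_fB_mul_of_not_mem (A := {χ}) h, mul_zero]) (by simp),
    ← H19.ZZ_comm (H19.fB_mem_ZZ _), H19.ev_fB_mul_of_mem (A := {χ}) rfl, ← hn, mul_assoc,
    mul_right_inj' (H19.irr_one_ne_zero χ), H19.ZZ_comm (H19.fB_mem_ZZ _)] at h2
  have h3 : om (χ : G → ℂ) (∑ h, cj h a) = (n : ℂ) ^ 2 * (a * fB {χ}).coeff 1 := by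
    rw [H19.om_apply, map_sum, sum_congr rfl fun h _ => by
      rw [cj_eq, H19.ev_mul_comm (H19.irr_class χ), sng_inv_mul], sum_const, card_univ,
      ← Nat.card_eq_fintype_card, nsmul_eq_mul, ← hn, h2, div_eq_iff (H19.irr_one_ne_zero χ)]
    ring
  refine H19.ZZ_ext_om (mul_mem h1 (H19.fB_mem_ZZ _)) (Subalgebra.smul_mem _ (H19.fB_mem_ZZ _) _)
    fun ψ => ?_
  rw [H19.om_central_mul ψ.2 h1, map_smul, smul_eq_mul]
  by_cases h : ψ = χ
  · rw [h, h3]
  · rw [H19.om_fB_of_not_mem (A := {χ}) h, mul_zero, mul_zero]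

theorem smp_of_vd (h : vd p χ = (Nat.card G).factorization p) : Smp (eG (lam O χ)) := by
  have := Fintype.ofFinite G
  have hc : ∀ a, Commute (eG (lam O χ)) a := H19.ZZ_comm (eB (lam O χ)).2
  refine ⟨hc, eG_idem _, (isBlk_eG _).ne_zero, fun a ha N b c hN => ?_⟩
  have hn := H19.not_dvd_div_iff_vd.2 h
  have h1 : ∀ a, (∑ h, cj h a) * eG (lam O χ) = (((Nat.card G / charDegree (χ : G → ℂ) : ℕ) : kk O) ^ 2
      * (a * eG (lam O χ)).coeff 1) • eG (lam O χ) := fun a => by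
    have h2 := congrArg (red O) (tr_mul_fB χ (n := Nat.card G / charDegree (χ : G → ℂ))
      (by rw [← H19.cast_deg, ← Nat.cast_mul, Nat.mul_div_cancel' (deg_dvd χ)]) (H19.liftG O a))
    have h3 := H19.fB_irr_mem_OG (lam O χ)
    have h4 := H19.liftG_mem_OG (O := O) a
    rw [← H19.singleton_of_vd (O := O) h, H19.red_mul (sum_mem fun h _ => cj_mem_OG h h4) h3,
      H19.red_sum _ fun h _ => cj_mem_OG h h4, H19.red_smul (mul_mem (pow_mem (natCast_mem O _) 2)
        (H19.mem_OG.1 (mul_mem h4 h3) 1)) h3, H19.res_mul (pow_mem (natCast_mem O _) 2)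
        (H19.mem_OG.1 (mul_mem h4 h3) 1), H19.res_pow (natCast_mem O _), H19.res_natCast,
      ← H19.coeff_red, H19.red_mul h4 h3, red_fB] at h2
    simpa only [red_cj, H19.red_liftG] using h2
  obtain ⟨g, hg⟩ := exists_coeff_ne_zero ha
  have h2 : (((Nat.card G / charDegree (χ : G → ℂ) : ℕ) : kk O) ^ 2 *
      (a * single g⁻¹ 1 * eG (lam O χ)).coeff 1) ≠ 0 := by
    rw [mul_assoc, ← (hc _).eq, ← mul_assoc, coeff_mul_single_apply, one_mul, inv_inv, mul_one]
    exact mul_ne_zero (pow_ne_zero _ fun h => hn ((CharP.cast_eq_zero_iff _ p _).1 h)) hg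
  rw [← N.smul_mem_iff h2, ← smul_mul_assoc, ← mul_smul_comm, ← h1, sum_mul, mul_sum, sum_mul]
  refine sum_mem fun x _ => ?_
  have := hN x (single g⁻¹ 1 * single x⁻¹ 1 * c)
  simp only [cj_eq, mul_assoc, (hc c).eq] at this ⊢
  exact this

theorem eq_of_smp (h : vd p χ = (Nat.card G).factorization p)
    (h1 : eG (lam O χ) * eG (lam O ψ) ≠ 0) : ψ = χ := by
  have h2 := eG_injective ((isBlk_eG _).eq_of_mul_ne_zero' (isBlk_eG _) h1)
  have h3 : ψ ∈ irr (lam O χ) := h2.symm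
  rwa [H19.singleton_of_vd O h] at h3

end Blk

section St
open H24 St0
variable {ι Φ : Type} [Fintype ι] [DecidableEq ι] [Fintype Φ] [DecidableEq Φ] {R : CD ι Φ}
  {F : Type*} [Field F] [Fintype F] {G : Type*} [Group G] [Finite G] (S : St R F G)
  {p : ℕ} [hp : Fact p.Prime] [CharP F p] {w : G} {w0 : Equiv.Perm Φ}

theorem st_bh (hG : S.Gr = ⊤) (h3 : S.R3) (hw : w ∈ S.N) (hr : S.Rep w w0)
    (h0 : ∀ r, R.Pos (w0 r) ↔ ¬ R.Pos r) (hW : w0 ∈ R.W) : BH p S.U S.H w := by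
  refine ⟨S.isPGroup_U p, S.not_dvd_card_H h3 p, S.H_le_normalizer _, fun g => ?_⟩
  obtain ⟨v, hv, b, hb, n, hn, hnv, b', hb', rfl⟩ := S.mem_Gr_iff.1 (hG ▸ mem_top g)
  rw [S.BK_univ] at hb hb'
  by_cases h : v = w0
  · subst h
    obtain ⟨u, hu, h, hh, rfl⟩ := S.mem_B_iff.1 hb
    obtain ⟨h', hh', u', hu', rfl⟩ := S.mem_B_iff'.1 hb'
    refine .inr ⟨u, hu, h * (w * (w⁻¹ * n * h') * w⁻¹), mul_mem hh (S.conj_mem_H hw
      (mul_mem (S.mem_H_of_rep hw hn hr hnv) hh')), u', hu', by group⟩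
  · obtain ⟨i, hi⟩ : ∃ i, R.Pos (v (R.sim i)) := by
      by_contra! h1
      refine h (inv_mul_eq_one.1 (RS.W_eq_one_of_pos (mul_mem (inv_mem hW) hv) fun i => ?_)).symm
      by_contra h2
      exact h1 i (by simpa using (h0 _).2 h2)
    obtain ⟨c, hc, h2⟩ := hnv.exists_conj (R.sim i)
    refine .inl ⟨b * S.x (v (R.sim i)) (c * 1) * b⁻¹,
      (mem_normalizer_iff.1 (S.B_le_normalizer_U hb) _).1 (S.x_mem_U hi _), fun h => hc ?_, ?_⟩
    · rwa [conj_eq_one_iff, S.x_eq_one_iff, mul_one] at h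
    · rw [← h2]
      convert (mem_normalizer_iff.1 (inv_mem (S.B_le_normalizer_U hb')) _).1
        (S.x_mem_U (R.pos_sim i) 1) using 1
      group

theorem st_fix {k : Type*} [Field k] [CharP k p] {e : k[G]} (hG : S.Gr = ⊤) (h3 : S.R3)
    (hw : w ∈ S.N) (hr : S.Rep w w0) (h0 : ∀ r, R.Pos (w0 r) ↔ ¬ R.Pos r) (hW : w0 ∈ R.W)
    (he : Smp e) : ∀ m ∈ LS e S.U, ∀ h ∈ S.H, single h 1 * m = m := by
  intro m hm h hh
  obtain ⟨c, rfl⟩ := (S.range_hh h3).ge hh
  refine S.hh_induction h3 (fun c => single (S.hh h3 c) 1 * m = m) (fun i t => ?_)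
    (by rw [map_one, ← one_def, one_mul]) (fun c d hc hd => by
      rw [map_mul, sng_mul, mul_assoc, hd, hc]) c
  have h1 : ∀ s, S.Rep s (R.s i) → ∀ h ∈ S.H, ∀ a,
      (s * (h * w))⁻¹ * S.x (R.sim i) a * (s * (h * w)) ∈ S.U := fun s hs h hh a => by
    obtain ⟨c, -, hc⟩ := (hs.mul ((S.rep_of_mem_H hh).mul hr)).inv.exists_conj (R.sim i)
    rw [← inv_inv (s * (h * w)), inv_inv (s * (h * w))⁻¹, hc]
    refine S.x_mem_U ?_ _
    by_contra h2
    have h4 := (h0 _).2 h2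
    simp only [one_mul, mul_inv_rev, Equiv.Perm.coe_mul, Function.comp_apply,
      R.s_inv, R.s_sim] at h4
    exact R.not_pos_neg_sim i (by simpa using h4)
  have h2 : S.UJ {i} ≤ S.U := S.UJ_le_U _
  have h4 : S.PJ {i} ≤ nrm (S.UJ {i}) := S.PJ_le_normalizer _
  rw [S.hh_single]
  refine (st_bh S hG h3 hw hr h0 hW).fix he (x := S.x (R.sim i)) (s := S.n (R.sim i) 1) h2
    (fun a => S.x_mem_U (R.pos_sim i) a) (S.x_add _) (fun u hu => ?_)
    (fun a => h4 (S.B_le_PJ _ (S.x_mem_B (R.pos_sim i) a))) (h4 (S.n_mem_PJ rfl))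
    (h1 _ (R.s_inv i ▸ (S.n_rep_s i one_ne_zero).inv)) (h1 _ (S.n_rep_s i one_ne_zero)) (h3 _)
    (fun a ha => ⟨_, zpow_ne_zero _ ha, S.h_conj _ _ ha⟩) (fun a ha => ⟨(-a)⁻¹, (-a)⁻¹, ?_⟩) hm
    t.ne_zero
  · obtain ⟨a, ha, b, hb, rfl⟩ := S.exists_mul_of_part (f := RS.htv) R.closed_pos
      (fun r hr => R.ht_pos hr) (· = R.sim i) hu
    obtain ⟨a, rfl⟩ := S.mem_XS_singleton.1 (S.XS_mono (fun r hr => hr.2) ha)
    have h5 : b ∈ S.UJ {i} := by rwa [UJ, RS.pos_not_InJ_singleton]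
    refine ⟨a, by simpa using h5, fun a' ha' => ?_⟩
    beta_reduce at ha'
    rw [← mul_assoc, mul_mem_cancel_right h5, ← S.x_neg, ← S.x_add] at ha'
    by_contra h6
    exact (S.mem_of_x_mem (f := RS.htv) (R.closed_UJ _) (fun r hr => R.ht_pos hr.1)
      (R.ht_pos (R.pos_sim i)) (fun h => h6 (neg_add_eq_zero.1 h)) ha').2 (R.InJ_sim.2 rfl)
  · rw [S.n_conj_self _ one_ne_zero, S.x_neg_eq, ← S.n_eq]
    simp

theorem st_unique (hG : S.Gr = ⊤) (h3 : S.R3) {χ ψ : IrrCharacter G}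
    (hχ : vd p χ = (Nat.card G).factorization p) (hψ : vd p ψ = (Nat.card G).factorization p) :
    ψ = χ := by
  obtain ⟨O, _⟩ := H19.exists_val p
  obtain ⟨w0, hW, h0⟩ := R.exists_w0
  obtain ⟨w, hw, hr⟩ := S.exists_N_rep hW
  exact eq_of_smp (O := O) hχ ((st_bh S hG h3 hw hr h0 hW).unique (smp_of_vd hχ) (smp_of_vd hψ)
    (st_fix S hG h3 hw hr h0 hW (smp_of_vd hχ)) (st_fix S hG h3 hw hr h0 hW (smp_of_vd hψ)))

theorem vd_stCh [Fintype G] (hG : S.Gr = ⊤) (h3 : S.R3) :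
    vd p ⟨_, S.isIrr_stCh hG⟩ = (Nat.card G).factorization p := by
  change (charDegree S.stCh).factorization p = _
  rw [charDegree, S.stCh_one hG, Complex.natCast_re, Nat.floor_natCast]
  have := (S.sylU hG h3 p).card_eq_multiplicity
  change Nat.card S.U = _ at this
  rw [this, Nat.Prime.factorization_pow Fact.out, Finsupp.single_eq_same]

end St

end H20
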