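import Cfsg.Agent.H1.Frattini

/-!
Norm-map lemmas for an element of prime order acting on a module (core and two cases).
-/

set_option autoImplicit false

namespace H20Tu

open Subgroup
open scoped commutatorElement

section Abstract
variable {Q : Type*} [Group Q] {x w : Q} {r : ℕ}

theorem comm_of_pow (hr : r.Prime) (hx : x ^ r = 1) {i : ℕ} (hi : ¬ r ∣ i)
    (h : Commute (x ^ i) w) : Commute x w := by
  have hc : Nat.Coprime i r := ((Nat.Prime.coprime_iff_not_dvd hr).2 hi).symm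
  obtain ⟨j, -, hj⟩ := Nat.exists_mul_mod_eq_one_of_coprime hc hr.one_lt
  have e : (x ^ i) ^ j = x := by
    rw [← pow_mul, ← Nat.div_add_mod (i * j) r, hj, pow_add, pow_mul, hx, one_pow, one_mul, pow_one]
  rw [← e]
  exact h.pow_left j

theorem eq_one_of_pows {u : Q} {n : ℕ} (hn : n.Coprime r) (h1 : u ^ n = 1) (h2 : u ^ r = 1) :
    u = 1 := by
  have := Nat.dvd_gcd (orderOf_dvd_of_pow_eq_one h1) (orderOf_dvd_of_pow_eq_one h2)
  rw [hn.gcd_eq_one, Nat.dvd_one] at this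
  exact orderOf_eq_one_iff.1 this

theorem clos (hr : r.Prime) (hx : x ^ r = 1) {i : ℕ} (hi : ¬ r ∣ i) {n : ℕ} (hn : n.Coprime r)
    (hu : (w⁻¹ * (x ^ i * w * (x ^ i)⁻¹)) ^ n = 1)
    (hc : Commute x (w⁻¹ * (x ^ i * w * (x ^ i)⁻¹))) : Commute x w := by
  set u := w⁻¹ * (x ^ i * w * (x ^ i)⁻¹) with hud
  have hxi : (x ^ i) ^ r = 1 := by rw [← pow_mul, mul_comm, pow_mul, hx, one_pow]
  have e : u * x ^ i = w⁻¹ * x ^ i * w⁻¹⁻¹ := by rw [hud]; group
  have h1 : (u * x ^ i) ^ r = 1 := by rw [e, conj_pow, hxi]; group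
  rw [(hc.pow_left i).symm.mul_pow, hxi, mul_one] at h1
  have h2 : u = 1 := eq_one_of_pows hn hu h1
  refine comm_of_pow hr hx hi ?_
  rw [hud, inv_mul_eq_one, eq_mul_inv_iff_mul_eq] at h2
  exact h2.symm

end Abstract

section Quot
variable {Y : Type*} [Group Y]

/-- The quotient of the normalizer of `K` by `K`. -/
abbrev QK (K : Subgroup Y) : Type _ :=
  (normalizer (K : Set Y)) ⧸ K.subgroupOf (normalizer (K : Set Y))

/-- The projection. -/
def pr (K : Subgroup Y) : normalizer (K : Set Y) →* QK K := QuotientGroup.mk' _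

theorem pr_eq_one {K : Subgroup Y} (a : normalizer (K : Set Y)) : pr K a = 1 ↔ (a : Y) ∈ K := by
  rw [pr, QuotientGroup.mk'_apply, QuotientGroup.eq_one_iff, mem_subgroupOf]

theorem pr_eq {K : Subgroup Y} (a b : normalizer (K : Set Y)) :
    pr K a = pr K b ↔ (a : Y)⁻¹ * b ∈ K := by
  rw [← inv_mul_eq_one, ← map_inv, ← map_mul, pr_eq_one]
  simp

theorem comm_iff {K : Subgroup Y} (a b : normalizer (K : Set Y)) :
    Commute (pr K a) (pr K b) ↔ (b : Y)⁻¹ * ((a : Y) * b * (a : Y)⁻¹) ∈ K := by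
  have : (b : Y)⁻¹ * ((a : Y) * b * (a : Y)⁻¹) = ((b⁻¹ * (a * b * a⁻¹) : normalizer (K : Set Y)) : Y) := by
    simp
  rw [this, ← pr_eq_one]
  simp only [map_mul, map_inv]
  rw [inv_mul_eq_one, eq_mul_inv_iff_mul_eq, commute_iff_eq, eq_comm]

theorem comm_iff' {K : Subgroup Y} (a b : normalizer (K : Set Y)) :
    Commute (pr K a) (pr K b) ↔ ⁅(a : Y), (b : Y)⁆ ∈ K := by
  have : ⁅(a : Y), (b : Y)⁆ = ((⁅a, b⁆ : normalizer (K : Set Y)) : Y) := by
    simp [commutatorElement_def]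
  rw [this, ← pr_eq_one, map_commutatorElement, commutatorElement_eq_one_iff_commute]

theorem conj_mem {K : Subgroup Y} {a k : Y} (ha : a ∈ normalizer (K : Set Y)) (hk : k ∈ K) :
    a * k * a⁻¹ ∈ K := (mem_normalizer_iff.1 ha k).1 hk

theorem mem_norm_inf {K L : Subgroup Y} {a : Y} (h1 : a ∈ normalizer (K : Set Y))
    (h2 : a ∈ normalizer (L : Set Y)) : a ∈ normalizer ((K ⊓ L : Subgroup Y) : Set Y) := by
  rw [mem_normalizer_iff] at h1 h2 ⊢
  intro g
  simp only [coe_inf, Set.mem_inter_iff, mem_inf]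
  rw [h1 g, h2 g]

end Quot

variable {Y M : Type*} [Group Y] [AddCommGroup M] (ρ : Y →* Module.End ℤ M) {x : Y} {r : ℕ}

/-- The norm map. -/
def nm (x : Y) (r : ℕ) : Module.End ℤ M := ∑ i ∈ Finset.range r, ρ (x ^ i)

theorem nm_apply (m : M) : nm ρ x r m = ∑ i ∈ Finset.range r, ρ (x ^ i) m := by
  simp [nm, LinearMap.sum_apply]

/-- The stabiliser of a vector. -/
def stab (l : M) : Subgroup Y where
  carrier := {y | ρ y l = l}
  one_mem' := by simp
  mul_mem' := fun {a b} ha hb => by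
    simp only [Set.mem_setOf_eq] at ha hb ⊢
    rw [map_mul, Module.End.mul_apply, hb, ha]
  inv_mem' := fun {a} ha => by
    simp only [Set.mem_setOf_eq] at ha ⊢
    conv_lhs => rw [← ha]
    rw [← Module.End.mul_apply, ← map_mul, inv_mul_cancel, map_one, Module.End.one_apply]

theorem mem_stab {l : M} {y : Y} : y ∈ stab ρ l ↔ ρ y l = l := Iff.rfl

theorem app_mul (a b : Y) (m : M) : ρ a (ρ b m) = ρ (a * b) m := by
  rw [map_mul, Module.End.mul_apply]

theorem nm_fixed {ν : M} (hν : ρ x ν = ν) : nm ρ x r ν = r • ν := by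
  rw [nm_apply, Finset.sum_congr rfl fun i _ => (mem_stab ρ).1 (pow_mem ((mem_stab ρ).2 hν) i)]
  simp

theorem nm_comm {d : Y} (h : Commute x d) (m : M) : ρ d (nm ρ x r m) = nm ρ x r (ρ d m) := by
  rw [nm_apply, nm_apply, map_sum]
  refine Finset.sum_congr rfl fun i _ => ?_
  rw [app_mul, app_mul, (h.pow_left i).eq]

/-- The double norm expansion. -/
theorem nm_nm {ν : M} (hν : ρ x ν = ν) (a w : Y) :
    nm ρ x r (ρ a (nm ρ x r (ρ w ν))) =
      ∑ i ∈ Finset.range r, nm ρ x r (ρ (a * (x ^ i * w * (x ^ i)⁻¹)) ν) := by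
  rw [nm_apply ρ (ρ w ν), map_sum, map_sum]
  refine Finset.sum_congr rfl fun i _ => ?_
  have h1 : ρ (x ^ i)⁻¹ ν = ν := (mem_stab ρ).1 (inv_mem (pow_mem ((mem_stab ρ).2 hν) i))
  rw [← app_mul ρ a, ← app_mul ρ (x ^ i * w), h1, ← app_mul ρ (x ^ i)]

theorem core (hr : 0 < r) (hM : ∀ m : M, r • m = 0 → m = 0) {ν : M} (hν : ρ x ν = ν) {w : Y}
    (h0 : nm ρ x r (ρ w ν) = 0)
    (h : ∀ i, 0 < i → i < r → nm ρ x r (ρ (w⁻¹ * (x ^ i * w * (x ^ i)⁻¹)) ν) = 0) : ν = 0 := by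
  have h1 := nm_nm ρ (r := r) hν w⁻¹ w
  rw [h0, map_zero, map_zero, Finset.sum_eq_single 0] at h1
  · simp only [pow_zero, inv_one, mul_one, one_mul, inv_mul_cancel, map_one,
      Module.End.one_apply] at h1
    rw [nm_fixed ρ hν] at h1
    exact hM _ h1.symm
  · intro i hi hi0
    exact h i (Nat.pos_of_ne_zero hi0) (Finset.mem_range.1 hi)
  · intro h2
    exact absurd (Finset.mem_range.2 hr) h2

theorem mem_stab_of_fixed {l : M} (hl : ρ x l = l) {w : Y} (h : ρ x (ρ w l) = ρ w l) :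
    ρ (w⁻¹ * (x * w * x⁻¹)) l = l := by
  have h1 : ρ x⁻¹ l = l := (mem_stab ρ).1 (inv_mem ((mem_stab ρ).2 hl))
  rw [← app_mul, ← app_mul, h1, ← app_mul, h, app_mul, inv_mul_cancel, map_one,
    Module.End.one_apply]

theorem key [Finite Y] (hr : r.Prime) (hx : x ^ r = 1) (hM : ∀ m : M, r • m = 0 → m = 0)
    {W K : Subgroup Y} (hW : (Nat.card W).Coprime r) (hxW : x ∈ normalizer (W : Set Y))
    (hxK : x ∈ normalizer (K : Set Y)) (hWK : W ≤ normalizer (K : Set Y)) {l ν : M}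
    (hl : ρ x l = l) (hν : ρ x ν = ν) (hHK : ∀ w ∈ W, ρ w l = l → w ∈ K)
    (h : ∀ w ∈ W, ρ x (ρ w l) ≠ ρ w l → nm ρ x r (ρ w ν) = 0) :
    ν = 0 ∨ ⁅W, zpowers x⁆ ≤ K := by
  have hin : ∀ w ∈ W, ∀ i : ℕ, w⁻¹ * (x ^ i * w * (x ^ i)⁻¹) ∈ W := fun w hw i =>
    mul_mem (inv_mem hw) (conj_mem (pow_mem hxW i) hw)
  have hΩ : ∀ w ∈ W, w⁻¹ * (x * w * x⁻¹) ∉ K → nm ρ x r (ρ w ν) = 0 := fun w hw hk =>
    h w hw fun e => hk (hHK _ (by simpa using hin w hw 1) (mem_stab_of_fixed ρ hl e))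
  by_cases hne : ∃ w ∈ W, w⁻¹ * (x * w * x⁻¹) ∉ K
  · obtain ⟨w, hw, hk⟩ := hne
    refine Or.inl (core ρ hr.pos hM hν (hΩ w hw hk) fun i hi0 hi => hΩ _ (hin w hw i) fun hu => hk ?_)
    let x' : normalizer (K : Set Y) := ⟨x, hxK⟩
    let w' : normalizer (K : Set Y) := ⟨w, hWK hw⟩
    have hx' : pr K x' ^ r = 1 := by
      rw [← map_pow, show x' ^ r = 1 from Subtype.ext hx, map_one]
    refine (comm_iff x' w').1 (clos hr hx' (Nat.not_dvd_of_pos_of_lt hi0 hi) hW ?_ ?_)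
    · have e : (w'⁻¹ * (x' ^ i * w' * (x' ^ i)⁻¹)) ^ Nat.card W = 1 := by
        apply Subtype.ext
        have := congrArg Subtype.val (pow_card_eq_one' (x := (⟨_, hin w hw i⟩ : W)))
        rw [SubmonoidClass.coe_pow] at this
        simpa [x', w'] using this
      have := congrArg (pr K) e
      simpa using this
    · have := (comm_iff x' (w'⁻¹ * (x' ^ i * w' * (x' ^ i)⁻¹))).2 (by simpa [x', w'] using hu)
      simpa using this
  · push Not at hne
    refine Or.inr (commutator_le.2 fun w hw c hc => ?_)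
    obtain ⟨k, rfl⟩ := mem_zpowers_iff.1 hc
    have h1 := ((comm_iff ⟨x, hxK⟩ ⟨w, hWK hw⟩).2 (hne w hw)).zpow_left k
    rw [← map_zpow] at h1
    simpa using (comm_iff' _ _).1 h1.symm

theorem gam [Finite Y] (hr : r.Prime) (hx : orderOf x = r) (hM : ∀ m : M, r • m = 0 → m = 0)
    {S : Subgroup Y}
    (hS : (Nat.card S).Coprime r) (hxS : x ∈ normalizer (S : Set Y)) (hab : ⁅S, S⁆ = ⊥) {l : M}
    (hl : ρ x l = l)
    (h : ∀ s ∈ S, ρ x (ρ s l) ≠ ρ s l → ∑ i ∈ Finset.range r, ρ (x ^ i) (ρ s l) = 0) :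
    ∀ t ∈ ⁅S, zpowers x⁆, ρ t l = l := by
  have hx' : x ^ r = 1 := hx ▸ pow_orderOf_eq_one x
  have hc : S ≤ centralizer (S : Set Y) := commutator_eq_bot_iff_le_centralizer.1 hab
  rcases key ρ hr hx' hM (W := S) (K := stab ρ l ⊓ S) hS hxS
    (mem_norm_inf (le_normalizer ((mem_stab ρ).2 hl)) hxS)
    ((hc.trans (centralizer_le inf_le_right)).trans (centralizer_le_normalizer _)) hl hl
    (fun w hw e => ⟨e, hw⟩) (fun w hw e => by rw [nm_apply]; exact h w hw e) with h0 | h0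
  · intro t _
    rw [h0, map_zero]
  · intro t ht
    exact (h0 ht).1

end H20Tu
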