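import Cfsg.Agent.H20.TuA1

/-!
Norm-map lemmas: class two case and the case of a commuting coprime group.
-/

set_option autoImplicit false

namespace H20Tu

open Subgroup
open scoped commutatorElement Pointwise

variable {Y M : Type*} [Group Y] [AddCommGroup M] (ρ : Y →* Module.End ℤ M) {x : Y} {r : ℕ}

/-- `(H ∩ S) S'`. -/
def q1 (l : M) (S : Subgroup Y) : Subgroup Y := (stab ρ l ⊓ S) ⊔ ⁅S, S⁆

theorem ss_le (S : Subgroup Y) : ⁅S, S⁆ ≤ S := le_normalizer_iff_commutator_le_left.1 le_normalizer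

theorem q1_le (l : M) (S : Subgroup Y) : q1 ρ l S ≤ S := sup_le inf_le_right (ss_le S)

theorem le_norm_q1 (l : M) (S : Subgroup Y) : S ≤ normalizer (q1 ρ l S : Set Y) :=
  le_normalizer_iff_commutator_le_left.2
    ((commutator_mono (q1_le ρ l S) le_rfl).trans le_sup_right)

theorem norm_ss {S : Subgroup Y} (hxS : x ∈ normalizer (S : Set Y)) :
    x ∈ normalizer ((⁅S, S⁆ : Subgroup Y) : Set Y) :=
  H1.le_normalizer_commutator le_rfl le_rfl hxS

theorem x_norm_q1 {l : M} {S : Subgroup Y} (hl : ρ x l = l) (hxS : x ∈ normalizer (S : Set Y)) :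
    x ∈ normalizer (q1 ρ l S : Set Y) :=
  normalizer_inf_normalizer_le_normalizer_sup _ _
    ⟨mem_norm_inf (le_normalizer ((mem_stab ρ).2 hl)) hxS, norm_ss hxS⟩

theorem mem_q1 {l : M} {S : Subgroup Y} {k : Y} (hk : k ∈ q1 ρ l S) :
    ∃ h ∈ stab ρ l ⊓ S, ∃ z ∈ ⁅S, S⁆, h * z = k := by
  have h1 := coe_mul_of_left_le_normalizer_right (stab ρ l ⊓ S) ⁅S, S⁆
    (inf_le_right.trans (normalizer_commutator_ge_left S S))
  have h2 : k ∈ ((stab ρ l ⊓ S) ⊔ ⁅S, S⁆ : Subgroup Y) := hk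
  rw [← SetLike.mem_coe, h1] at h2
  obtain ⟨h, hh, z, hz, e⟩ := h2
  exact ⟨h, hh, z, hz, e⟩

theorem al [Finite Y] (hr : r.Prime) (hx : orderOf x = r) (hM : ∀ m : M, r • m = 0 → m = 0)
    {S : Subgroup Y}
    (hS : (Nat.card S).Coprime r) (hxS : x ∈ normalizer (S : Set Y)) (hcl : ⁅⁅S, S⁆, S⁆ = ⊥)
    {l : M} (hl : ρ x l = l)
    {d : Y} (hd : d ∈ S) (hxd : Commute x d)
    (h : ∀ s ∈ S, ρ x (ρ s l) ≠ ρ s l →
      ρ d (∑ i ∈ Finset.range r, ρ (x ^ i) (ρ s l)) = ∑ i ∈ Finset.range r, ρ (x ^ i) (ρ s l))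
    (ht : ∃ t ∈ ⁅S, zpowers x⁆, ρ t l ≠ l) : ρ d l = l := by
  have hx' : x ^ r = 1 := hx ▸ pow_orderOf_eq_one x
  have hz : ∀ z ∈ ⁅S, S⁆, ∀ s ∈ S, s * z = z * s := fun z hz s hs =>
    commutator_eq_bot_iff_le_centralizer.1 hcl hz s hs
  have hν : ρ x (ρ d l - l) = ρ d l - l := by
    rw [map_sub, hl, app_mul, hxd.eq, ← app_mul, hl]
  have hN : ∀ w ∈ S, ρ (w * d) l = ρ (d * w) l → ρ x (ρ w l) ≠ ρ w l →
      nm ρ x r (ρ w (ρ d l - l)) = 0 := by
    intro w hw e hne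
    have h1 := h w hw hne
    rw [← nm_apply, nm_comm ρ hxd] at h1
    rw [map_sub, map_sub, app_mul, e, ← app_mul, h1, sub_self]
  have hAS : zpowers x ≤ normalizer (S : Set Y) := (zpowers_le.2 hxS)
  have hAH : zpowers x ≤ stab ρ l := zpowers_le.2 ((mem_stab ρ).2 hl)
  rw [← sub_eq_zero]
  by_cases hc : ⁅⁅S, S⁆, zpowers x⁆ ≤ stab ρ l
  · have hTS : ⁅S, zpowers x⁆ ≤ S := le_normalizer_iff_commutator_le_left.1 hAS
    have hφS : ∀ s ∈ S, s⁻¹ * d⁻¹ * s * d ∈ ⁅S, S⁆ := fun s hs => by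
      simpa [commutatorElement_def] using commutator_mem_commutator (inv_mem hs) (inv_mem hd)
    have hφ : ∀ s ∈ S, ∀ t ∈ S, (s * t)⁻¹ * d⁻¹ * (s * t) * d =
        (s⁻¹ * d⁻¹ * s * d) * (t⁻¹ * d⁻¹ * t * d) := by
      intro s hs t ht
      have := hz _ (hφS s hs) _ (inv_mem ht)
      calc (s * t)⁻¹ * d⁻¹ * (s * t) * d = t⁻¹ * (s⁻¹ * d⁻¹ * s * d) * (d⁻¹ * t * d) := by group
        _ = (s⁻¹ * d⁻¹ * s * d) * t⁻¹ * (d⁻¹ * t * d) := by rw [this]
        _ = _ := by group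
    have hφi : ∀ s ∈ S, s⁻¹⁻¹ * d⁻¹ * s⁻¹ * d = (s⁻¹ * d⁻¹ * s * d)⁻¹ := by
      intro s hs
      rw [eq_inv_iff_mul_eq_one, ← hφ _ (inv_mem hs) _ hs]
      group
    let L : Subgroup Y :=
      { carrier := {s | s ∈ S ∧ s⁻¹ * d⁻¹ * s * d ∈ stab ρ l}
        one_mem' := ⟨one_mem _, by simp⟩
        mul_mem' := fun {a b} ha hb => ⟨mul_mem ha.1 hb.1, by
          rw [hφ _ ha.1 _ hb.1]; exact mul_mem ha.2 hb.2⟩
        inv_mem' := fun {a} ha => ⟨inv_mem ha.1, by rw [hφi _ ha.1]; exact inv_mem ha.2⟩ }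
    have hTL : ⁅S, zpowers x⁆ ≤ L := by
      refine commutator_le.2 fun s hs c hcA => ⟨hTS (commutator_mem_commutator hs hcA), ?_⟩
      have hcd : Commute c d := by
        obtain ⟨k, rfl⟩ := mem_zpowers_iff.1 hcA
        exact hxd.zpow_left k
      have e1 : ⁅s, c⁆ = s * (c * s⁻¹ * c⁻¹) := by rw [commutatorElement_def]; group
      have e2 : (c * s⁻¹ * c⁻¹)⁻¹ * d⁻¹ * (c * s⁻¹ * c⁻¹) * d =
          c * (s⁻¹⁻¹ * d⁻¹ * s⁻¹ * d) * c⁻¹ := by
        have a1 : c⁻¹ * d⁻¹ * c = d⁻¹ := by rw [hcd.inv_inv.eq]; group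
        have a2 : c⁻¹ * d = d * c⁻¹ := hcd.inv_left.eq
        calc (c * s⁻¹ * c⁻¹)⁻¹ * d⁻¹ * (c * s⁻¹ * c⁻¹) * d
            = c * s * (c⁻¹ * d⁻¹ * c) * s⁻¹ * (c⁻¹ * d) := by group
          _ = _ := by rw [a1, a2]; group
      rw [e1, hφ _ hs _ (conj_mem (hAS hcA) (inv_mem hs)), e2, hφi _ hs]
      have := hc (commutator_mem_commutator (hφS s hs) hcA)
      rw [commutatorElement_def] at this
      simpa only [mul_assoc] using this
    have hTT : ⁅⁅S, zpowers x⁆, zpowers x⁆ = ⁅S, zpowers x⁆ :=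
      H1.commutator_commutator_eq hAS (by rw [Nat.card_zpowers, hx]; exact hS.symm)
        (Or.inl inferInstance)
    rcases key ρ hr hx' hM (W := ⁅S, zpowers x⁆) (K := q1 ρ l S)
      (hS.coprime_dvd_left (card_dvd_of_le hTS))
      (normalizer_commutator_ge_right S (zpowers x) (mem_zpowers x)) (x_norm_q1 ρ hl hxS)
      (hTS.trans (le_norm_q1 ρ l S)) hl hν
      (fun w hw e => mem_sup_left ⟨e, hTS hw⟩)
      (fun w hw e => hN w (hTS hw) (by
        have h1 : ρ (w⁻¹ * d⁻¹ * w * d) l = l := (hTL hw).2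
        have h2 : w * d = (d * w) * (w⁻¹ * d⁻¹ * w * d) := by group
        rw [h2, ← app_mul, h1]) e) with h0 | h0
    · exact h0
    · exfalso
      obtain ⟨t, ht1, ht2⟩ := ht
      apply ht2
      rw [hTT] at h0
      have h1 : ⁅q1 ρ l S, zpowers x⁆ ≤ stab ρ l := by
        refine commutator_le.2 fun k hk c hcA => ?_
        obtain ⟨g, hg, z, hzz, rfl⟩ := mem_q1 ρ hk
        have e : ⁅g * z, c⁆ = g * ⁅z, c⁆ * c * g⁻¹ * c⁻¹ := by
          simp only [commutatorElement_def]; group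
        rw [e]
        exact mul_mem (mul_mem (mul_mem (mul_mem hg.1 (hc (commutator_mem_commutator hzz hcA)))
          (hAH hcA)) (inv_mem hg.1)) (inv_mem (hAH hcA))
      rw [← hTT] at ht1
      exact h1 (commutator_mono h0 le_rfl ht1)
  · have hc2 : ⁅S, S⁆ ≤ centralizer ((⁅S, S⁆ : Subgroup Y) : Set Y) := fun z hzz s hs =>
      hz z hzz s (ss_le S hs)
    rcases key ρ hr hx' hM (W := ⁅S, S⁆) (K := stab ρ l ⊓ ⁅S, S⁆)
      (hS.coprime_dvd_left (card_dvd_of_le (ss_le S))) (norm_ss hxS)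
      (mem_norm_inf (le_normalizer ((mem_stab ρ).2 hl)) (norm_ss hxS))
      ((hc2.trans (centralizer_le inf_le_right)).trans (centralizer_le_normalizer _)) hl hν
      (fun w hw e => ⟨e, hw⟩)
      (fun w hw e => hN w (ss_le S hw) (by rw [hz w hw d hd]) e) with h0 | h0
    · exact h0
    · exact absurd (h0.trans inf_le_left) hc

/-- Fixed-point-freeness on an abelian section equal to its commutator with `x`. -/
theorem fpf [Finite Y] (hx : x ^ r = 1) {S K : Subgroup Y} (hS : (Nat.card S).Coprime r)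
    (hxS : x ∈ normalizer (S : Set Y)) (hxK : x ∈ normalizer (K : Set Y))
    (hSK : S ≤ normalizer (K : Set Y)) (hK : ⁅S, S⁆ ≤ K) (h2 : S ≤ ⁅S, zpowers x⁆) {s : Y}
    (hs : s ∈ S) (hc : Commute (pr K ⟨x, hxK⟩) (pr K ⟨s, hSK hs⟩)) : s ∈ K := by
  set x' : normalizer (K : Set Y) := ⟨x, hxK⟩ with hx'
  set S' := S.subgroupOf (normalizer (K : Set Y)) with hS'
  have hV : IsMulCommutative (S'.map (pr K)) := ⟨⟨fun a b => Subtype.ext (by
    obtain ⟨a, a', ha, rfl⟩ := a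
    obtain ⟨b, b', hb, rfl⟩ := b
    exact ((comm_iff' a' b').2 (hK (commutator_mem_commutator ha hb))).eq)⟩⟩
  have hA : zpowers (pr K x') ≤ normalizer ((S'.map (pr K) : Subgroup _) : Set (QK K)) := by
    refine le_normalizer_iff.2 fun c hc v hv => ?_
    obtain ⟨k, rfl⟩ := mem_zpowers_iff.1 hc
    obtain ⟨a, ha, rfl⟩ := hv
    refine ⟨x' ^ k * a * (x' ^ k)⁻¹, ?_, by simp⟩
    have := conj_mem (zpow_mem hxS k) (show (a : Y) ∈ S from ha)
    simpa [hS', mem_subgroupOf, hx'] using this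
  have hcop : (Nat.card (zpowers (pr K x'))).Coprime (Nat.card (S'.map (pr K))) := by
    have a1 : Nat.card (zpowers (pr K x')) ∣ r := by
      rw [Nat.card_zpowers]
      apply orderOf_dvd_of_pow_eq_one
      rw [← map_pow, show x' ^ r = 1 from Subtype.ext hx, map_one]
    have a2 : Nat.card (S'.map (pr K)) ∣ Nat.card S := by
      refine (card_map_dvd _ _).trans ?_
      rw [hS', Nat.card_congr (subgroupOfEquivOfLe hSK).toEquiv]
    exact (hS.symm.coprime_dvd_left a1).coprime_dvd_right a2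
  have h3 : S' ≤ ⁅S', zpowers x'⁆ := by
    rw [← map_le_map_iff_of_injective (normalizer (K : Set Y)).subtype_injective, map_commutator,
      MonoidHom.map_zpowers, hS', subgroupOf_map_subtype, inf_of_le_left hSK]
    exact h2
  have h4 : S'.map (pr K) ≤ ⁅S'.map (pr K), zpowers (pr K x')⁆ := by
    rw [← MonoidHom.map_zpowers, ← map_commutator]
    exact map_mono h3
  have h5 := H1.inf_centralizer_inf_commutator_eq_bot hA hcop
  have h6 : pr K ⟨s, hSK hs⟩ ∈ S'.map (pr K) := ⟨_, hs, rfl⟩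
  have h7 : pr K ⟨s, hSK hs⟩ ∈ (⊥ : Subgroup (QK K)) := by
    rw [← h5]
    refine ⟨⟨h6, fun c hc' => ?_⟩, h4 h6⟩
    obtain ⟨k, rfl⟩ := mem_zpowers_iff.1 hc'
    exact (hc.zpow_left k).eq
  exact (pr_eq_one _).1 (mem_bot.1 h7)

theorem bl [Finite Y] (hr : r.Prime) (hx : orderOf x = r) (hM : ∀ m : M, r • m = 0 → m = 0)
    {S D : Subgroup Y} {q : ℕ}
    [Fact q.Prime] (hq : IsPGroup q S) (hqr : q ≠ r) (hxS : x ∈ normalizer (S : Set Y))
    (hDS : D ≤ normalizer (S : Set Y)) (hD : (Nat.card D).Coprime r) (hxd : ∀ d ∈ D, Commute x d)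
    (h1 : S ≤ ⁅S, D⁆) (h2 : S ≤ ⁅S, zpowers x⁆) {l : M} (hl : ρ x l = l)
    (h : ∀ s ∈ S, ρ x (ρ s l) ≠ ρ s l → ∀ d ∈ D,
      ρ d (∑ i ∈ Finset.range r, ρ (x ^ i) (ρ s l)) = ∑ i ∈ Finset.range r, ρ (x ^ i) (ρ s l))
    (ht : ∃ t ∈ S, ρ t l ≠ l) : ∀ d ∈ D, ρ d l = l := by
  have hx' : x ^ r = 1 := hx ▸ pow_orderOf_eq_one x
  have hS : (Nat.card S).Coprime r := by
    obtain ⟨n, hn⟩ := IsPGroup.iff_card.1 hq
    rw [hn]
    exact Nat.Coprime.pow_left n ((Nat.coprime_primes Fact.out hr).2 hqr)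
  set K := q1 ρ l S with hKd
  have hxK : x ∈ normalizer (K : Set Y) := x_norm_q1 ρ hl hxS
  have hSK : S ≤ normalizer (K : Set Y) := le_norm_q1 ρ l S
  have hne : ¬ S ≤ K := by
    intro hle
    obtain ⟨t, ht1, ht2⟩ := ht
    have : Group.IsNilpotent S := hq.isNilpotent
    have e := H1.eq_of_sup_frattiniOf (H := stab ρ l ⊓ S) (N := ⁅S, S⁆) (K := S) inf_le_right (by
      have := map_mono (f := S.subtype) (H3.commutator_le_frattini (G := S))
      rwa [commutator_def, map_commutator, ← MonoidHom.range_eq_map, range_subtype] at this)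
      (le_antisymm (q1_le ρ l S) hle)
    rw [← e] at ht1
    exact ht2 ht1.1
  set x' : normalizer (K : Set Y) := ⟨x, hxK⟩ with hx'd
  have hxq : pr K x' ^ r = 1 := by
    rw [← map_pow, show x' ^ r = 1 from Subtype.ext hx', map_one]
  have hfp : ∀ s (hs : s ∈ S), Commute (pr K x') (pr K ⟨s, hSK hs⟩) → s ∈ K := fun s hs hc =>
    fpf hx' hS hxS hxK hSK le_sup_right h2 hs hc
  have hin : ∀ w ∈ S, ∀ i : ℕ, x ^ i * w * (x ^ i)⁻¹ ∈ S := fun w hw i =>
    conj_mem (pow_mem hxS i) hw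
  -- the norms of the vectors outside `K` are `D`-fixed
  have hμ : ∀ s ∈ S, s ∉ K → ∀ d ∈ D, ρ d (nm ρ x r (ρ s l)) = nm ρ x r (ρ s l) := by
    intro s hs hk d hd
    rw [nm_apply]
    refine h s hs (fun e => hk (hfp s hs ((comm_iff _ _).2 ?_))) d hd
    exact mem_sup_left (mem_inf.2 ⟨mem_stab_of_fixed ρ hl e,
      S.mul_mem (S.inv_mem hs) (conj_mem hxS hs)⟩)
  have hout : ∀ s ∈ S, s ∉ K → ∀ i, 0 < i → i < r → s⁻¹ * (x ^ i * s * (x ^ i)⁻¹) ∉ K := by
    intro s hs hk i hi0 hi hm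
    refine hk (hfp s hs (comm_of_pow hr hxq (Nat.not_dvd_of_pos_of_lt hi0 hi) ?_))
    rw [← map_pow]
    exact (comm_iff _ _).2 (by simpa [hx'd] using hm)
  by_cases hc : ∃ s ∈ S, s ∉ K ∧ ∃ d ∈ D, ∀ i < r, (d * s * d⁻¹)⁻¹ * (x ^ i * s * (x ^ i)⁻¹) ∉ K
  · obtain ⟨s, hs, hk, d, hd, hall⟩ := hc
    -- `F` is the `D`-fixed part
    set F := ∑ i ∈ (Finset.range r).erase 0, nm ρ x r (ρ (s⁻¹ * (x ^ i * s * (x ^ i)⁻¹)) l) with hF
    have hFd : ∀ e ∈ D, ρ e F = F := fun e he => by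
      rw [hF, map_sum]
      refine Finset.sum_congr rfl fun i hi => ?_
      rw [Finset.mem_erase, Finset.mem_range] at hi
      exact hμ _ (mul_mem (inv_mem hs) (hin s hs i))
        (hout s hs hk i (Nat.pos_of_ne_zero hi.1) hi.2) e he
    have e1 : nm ρ x r (ρ s⁻¹ (nm ρ x r (ρ s l))) = r • l + F := by
      rw [nm_nm ρ hl, ← Finset.add_sum_erase _ _ (Finset.mem_range.2 hr.pos), ← hF]
      simp only [pow_zero, inv_one, mul_one, one_mul, inv_mul_cancel, map_one,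
        Module.End.one_apply]
      rw [nm_fixed ρ hl]
    have e2 : ρ d (nm ρ x r (ρ s⁻¹ (nm ρ x r (ρ s l)))) =
        nm ρ x r (ρ (d * s * d⁻¹)⁻¹ (nm ρ x r (ρ s l))) := by
      rw [nm_comm ρ (hxd d hd), app_mul]
      conv_rhs => rw [← hμ s hs hk d hd, app_mul]
      congr 3
      group
    have e3 : ∀ e ∈ D, ρ e (nm ρ x r (ρ (d * s * d⁻¹)⁻¹ (nm ρ x r (ρ s l)))) =
        nm ρ x r (ρ (d * s * d⁻¹)⁻¹ (nm ρ x r (ρ s l))) := fun e he => by
      rw [nm_nm ρ hl, map_sum]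
      refine Finset.sum_congr rfl fun i hi => ?_
      exact hμ _ (mul_mem (inv_mem (conj_mem (hDS hd) hs)) (hin s hs i))
        (hall i (Finset.mem_range.1 hi)) e he
    have e4 : ∀ e ∈ D, ρ e (ρ d l) = ρ d l := fun e he => by
      have a := e3 e he
      rw [← e2, e1, map_add, map_add, hFd d hd, hFd e he, add_left_inj, map_nsmul, map_nsmul,
        ← sub_eq_zero, ← nsmul_sub] at a
      exact sub_eq_zero.1 (hM _ a)
    intro e he
    have a1 := e4 (e * d⁻¹) (mul_mem he (inv_mem hd))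
    have a2 := e4 d⁻¹ (inv_mem hd)
    rw [app_mul, inv_mul_cancel, map_one, Module.End.one_apply] at a2
    rw [app_mul, inv_mul_cancel_right] at a1
    rw [a1, ← a2]
  · exfalso
    push Not at hc
    have hDout : ∀ s ∈ S, s ∉ K → ∀ d ∈ D, d * s * d⁻¹ ∉ K := by
      intro s hs hk d hd hm
      obtain ⟨i, -, hi⟩ := hc s hs hk d hd
      have a : x ^ i * s * (x ^ i)⁻¹ ∈ K := (mul_mem_cancel_left (inv_mem hm)).1 hi
      exact hk ((mem_normalizer_iff.1 (pow_mem hxK i) s).2 a)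
    have hDK : D ≤ normalizer (K : Set Y) := by
      refine le_normalizer_iff.2 fun d hd k hk => ?_
      by_contra hm
      apply hDout _ (conj_mem (hDS hd) (q1_le ρ l S hk)) hm d⁻¹ (inv_mem hd)
      simpa [mul_assoc] using hk
    refine hne (h1.trans (commutator_le.2 fun s hs d hd => ?_))
    by_cases hk : s ∈ K
    · have := mul_mem hk (conj_mem (hDK hd) (inv_mem hk))
      simpa [commutatorElement_def, mul_assoc] using this
    obtain ⟨i, hi, hm⟩ := hc s hs hk d hd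
    set s' : normalizer (K : Set Y) := ⟨s, hSK hs⟩ with hs'd
    set d' : normalizer (K : Set Y) := ⟨d, hDK hd⟩ with hd'd
    have a1 : pr K (d' * s' * d'⁻¹) = pr K (x' ^ i * s' * (x' ^ i)⁻¹) :=
      (pr_eq _ _).2 (by simpa [hx'd, hs'd, hd'd] using hm)
    simp only [map_mul, map_inv, map_pow] at a1
    have a2 : Commute ((pr K x' ^ i)⁻¹ * pr K d') (pr K s') := by
      rw [commute_iff_eq]
      calc (pr K x' ^ i)⁻¹ * pr K d' * pr K s'
          = (pr K x' ^ i)⁻¹ * (pr K d' * pr K s' * (pr K d')⁻¹) * pr K d' := by group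
        _ = _ := by rw [a1]; group
    have a3 : Commute (pr K x') (pr K d') :=
      (show Commute x' d' from Subtype.ext (hxd d hd).eq).map _
    have a4 : pr K d' ^ Nat.card D = 1 := by
      rw [← map_pow, show d' ^ Nat.card D = 1 from Subtype.ext (by
        have := congrArg Subtype.val (pow_card_eq_one' (x := (⟨d, hd⟩ : D)))
        rw [SubmonoidClass.coe_pow] at this
        simpa [hd'd] using this), map_one]
    rcases Nat.eq_zero_or_pos i with rfl | hi0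
    · rw [pow_zero, inv_one, one_mul] at a2
      exact (comm_iff' s' d').1 a2.symm
    · exfalso
      have a5 := a2.pow_left (Nat.card D)
      rw [(a3.pow_left i).inv_left.mul_pow, a4, mul_one, inv_pow, Commute.inv_left_iff,
        ← pow_mul] at a5
      refine hk (hfp s hs (comm_of_pow hr hxq ?_ a5))
      intro hdv
      rcases (Nat.Prime.dvd_mul hr).1 hdv with b | b
      · exact Nat.not_dvd_of_pos_of_lt hi0 hi b
      · exact (Nat.Prime.coprime_iff_not_dvd hr).1 hD.symm b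

end H20Tu
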