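import Mathlib

/-! Wedderburn data of a finite-dimensional algebra, ranks of idempotents. -/

set_option autoImplicit false
set_option linter.unusedSectionVars false

namespace H20
open Matrix Finset

/-- product of matrix rings -/
abbrev MP (k : Type*) {n : ℕ} (d : Fin n → ℕ) := ∀ i, Matrix (Fin (d i + 1)) (Fin (d i + 1)) k

/-- a surjection onto a product of matrix rings with nilpotent kernel, with lifts of the
corner matrix units -/
structure Wed (k A : Type*) [Field k] [Ring A] [Algebra k A] where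
  n : ℕ
  d : Fin n → ℕ
  π : A →ₐ[k] MP k d
  surj : Function.Surjective π
  nilp : ∃ N, ∀ l : List A, l.length = N → (∀ a ∈ l, π a = 0) → l.prod = 0
  f : Fin n → A
  idem : ∀ i, IsIdempotentElem (f i)
  πf : ∀ i, π (f i) = Pi.single i (single 0 0 1)

variable {k A : Type*} [Field k] [Ring A] [Algebra k A]

theorem list_prod_mem_pow (I : Ideal A) [I.IsTwoSided] (l : List A) (h : ∀ a ∈ l, a ∈ I) :
    l.prod ∈ I ^ l.length := by
  induction l using List.reverseRecOn with
  | nil => simp [Submodule.pow_zero]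
  | append_singleton l a ih =>
    rw [List.prod_append, List.prod_singleton, List.length_append, List.length_singleton,
      Submodule.pow_succ]
    exact Ideal.mul_mem_mul (ih fun b hb => h b (by simp [hb])) (h a (by simp))

theorem nil_of_nilp {B : Type*} [Ring B] [Algebra k B] {π : A →ₐ[k] B}
    (h : ∃ N, ∀ l : List A, l.length = N → (∀ a ∈ l, π a = 0) → l.prod = 0) {a : A}
    (ha : π a = 0) : IsNilpotent a := by
  obtain ⟨N, hN⟩ := h
  refine ⟨N, ?_⟩
  rw [← List.prod_replicate]
  exact hN _ (by simp) fun b hb => by rw [List.eq_of_mem_replicate hb, ha]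

theorem nilp_of_nil [FiniteDimensional k A] {B : Type*} [Ring B] [Algebra k B] {π : A →ₐ[k] B}
    (h : ∀ a, π a = 0 → IsNilpotent a) :
    ∃ N, ∀ l : List A, l.length = N → (∀ a ∈ l, π a = 0) → l.prod = 0 := by
  have := IsArtinianRing.of_finite k A
  obtain ⟨N, hN⟩ := IsSemiprimaryRing.isNilpotent (R := A)
  refine ⟨N, fun l h1 h2 => ?_⟩
  have := list_prod_mem_pow (Ring.jacobson A) l fun a ha => by
    rw [← Ideal.jacobson_bot, Ideal.mem_jacobson_iff]
    intro y
    obtain ⟨u, hu⟩ := (h (y * a) (by rw [map_mul, h2 a ha, mul_zero])).isUnit_add_one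
    exact ⟨↑u⁻¹, by rw [mul_assoc, ← mul_add_one, ← hu, Units.inv_mul, sub_self]; exact zero_mem _⟩
  rwa [h1, hN, Submodule.zero_eq_bot, Submodule.mem_bot] at this

theorem idem_single_MP {n : ℕ} (d : Fin n → ℕ) (i : Fin n) :
    IsIdempotentElem (Pi.single i (single 0 0 1) : MP k d) := by
  rw [IsIdempotentElem, ← Pi.single_mul, single_mul_single_same, one_mul]

theorem exists_lift_single {n : ℕ} {d : Fin n → ℕ} (π : A →ₐ[k] MP k d)
    (hs : Function.Surjective π) (h : ∀ a, π a = 0 → IsNilpotent a) (i : Fin n) :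
    ∃ f, IsIdempotentElem f ∧ π f = Pi.single i (single 0 0 1) :=
  exists_isIdempotentElem_eq_of_ker_isNilpotent (π : A →+* MP k d) h _ (hs _) (idem_single_MP d i)

/-- Wedderburn data from a surjection with nil kernel -/
noncomputable def Wed.of [FiniteDimensional k A] {n : ℕ} {d : Fin n → ℕ} (π : A →ₐ[k] MP k d)
    (hs : Function.Surjective π) (h : ∀ a, π a = 0 → IsNilpotent a) : Wed k A :=
  ⟨n, d, π, hs, nilp_of_nil h, fun i => (exists_lift_single π hs h i).choose,
    fun i => (exists_lift_single π hs h i).choose_spec.1,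
    fun i => (exists_lift_single π hs h i).choose_spec.2⟩

variable (k A) in
theorem nonempty_wed [IsAlgClosed k] [FiniteDimensional k A] : Nonempty (Wed k A) := by
  have := IsArtinianRing.of_finite k A
  have : FiniteDimensional k (A ⧸ Ring.jacobson A) :=
    Module.Finite.of_surjective (Ideal.Quotient.mkₐ k _).toLinearMap Ideal.Quotient.mk_surjective
  obtain ⟨n, d, hd, ⟨e⟩⟩ :=
    IsSemisimpleRing.exists_algEquiv_pi_matrix_of_isAlgClosed k (A ⧸ Ring.jacobson A)
  choose d' hd' using fun i => Nat.exists_eq_succ_of_ne_zero (hd i).ne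
  obtain rfl : d = fun i => d' i + 1 := funext hd'
  obtain ⟨N, hN⟩ := IsSemiprimaryRing.isNilpotent (R := A)
  let e' : (A ⧸ Ring.jacobson A) ≃ₐ[k] MP k d' := e
  refine ⟨Wed.of (e'.toAlgHom.comp (Ideal.Quotient.mkₐ k _))
    (e'.surjective.comp Ideal.Quotient.mk_surjective) fun a ha => ⟨N, ?_⟩⟩
  have := list_prod_mem_pow (Ring.jacobson A) (List.replicate N a) fun b hb => by
    rw [List.eq_of_mem_replicate hb]
    simpa [Ideal.Quotient.eq_zero_iff_mem] using ha
  rwa [List.length_replicate, hN, Submodule.zero_eq_bot, Submodule.mem_bot,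
    List.prod_replicate] at this

theorem mat_rank_eq_zero {m : Type*} [Fintype m] [DecidableEq m] {X : Matrix m m k} :
    X.rank = 0 ↔ X = 0 := by
  refine ⟨fun h => ?_, fun h => h ▸ rank_zero⟩
  rw [rank, Submodule.finrank_eq_zero, LinearMap.range_eq_bot] at h
  exact toLin'.injective (by rw [toLin'_apply', h, map_zero])

theorem rank_add_of_orth {m : Type*} [Fintype m] [DecidableEq m] {X Y : Matrix m m k}
    (hX : X * X = X) (hY : Y * Y = Y) (h1 : X * Y = 0) (h2 : Y * X = 0) :
    (X + Y).rank = X.rank + Y.rank := by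
  have hs : LinearMap.range (X + Y).mulVecLin =
      LinearMap.range X.mulVecLin ⊔ LinearMap.range Y.mulVecLin := by
    refine le_antisymm ?_ (sup_le ?_ ?_)
    · rintro _ ⟨v, rfl⟩
      rw [mulVecLin_add, LinearMap.add_apply]
      exact Submodule.add_mem_sup ⟨v, rfl⟩ ⟨v, rfl⟩
    · rintro _ ⟨v, rfl⟩
      exact ⟨X *ᵥ v, by simp [mulVec_mulVec, add_mul, hX, h2]⟩
    · rintro _ ⟨v, rfl⟩
      exact ⟨Y *ᵥ v, by simp [mulVec_mulVec, add_mul, hY, h1]⟩
  have hi : LinearMap.range X.mulVecLin ⊓ LinearMap.range Y.mulVecLin = ⊥ := by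
    rw [eq_bot_iff]
    rintro _ ⟨⟨v, rfl⟩, w, hw⟩
    have := congrArg (X *ᵥ ·) hw
    simp only [mulVecLin_apply, mulVec_mulVec, hX, h1, zero_mulVec] at this
    exact this.symm
  have := Submodule.finrank_sup_add_finrank_inf_eq (LinearMap.range X.mulVecLin)
    (LinearMap.range Y.mulVecLin)
  rw [hi, finrank_bot, add_zero, ← hs] at this
  exact this

theorem rank_mul_comm_of_idem {m : Type*} [Fintype m] [DecidableEq m] {X Y : Matrix m m k}
    (h1 : X * Y * (X * Y) = X * Y) : (X * Y).rank ≤ (Y * X).rank := by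
  rw [← h1, show X * Y * (X * Y) = X * (Y * X) * Y by simp only [mul_assoc]]
  exact (rank_mul_le_left _ _).trans (rank_mul_le_right _ _)

/-- additive invariants of idempotents -/
structure IsTau {M : Type*} [AddCommMonoid M] (τ : A → M) : Prop where
  zero : τ 0 = 0
  add : ∀ e e', IsIdempotentElem e → IsIdempotentElem e' → e * e' = 0 → e' * e = 0 →
    τ (e + e') = τ e + τ e'
  comm : ∀ a b, IsIdempotentElem (a * b) → IsIdempotentElem (b * a) → τ (a * b) = τ (b * a)

namespace Wed
variable (W : Wed k A) {a b e e' : A} {i j : Fin W.n}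

theorem nil (h : W.π a = 0) : IsNilpotent a := nil_of_nilp W.nilp h

theorem eq_zero (he : IsIdempotentElem e) (h : W.π e = 0) : e = 0 :=
  he.eq_zero_of_isNilpotent (W.nil h)

/-- the trace of the `i`-th simple module -/
noncomputable def t (i : Fin W.n) : A →ₗ[k] k :=
  (traceLinearMap _ k k).comp ((LinearMap.proj i).comp W.π.toLinearMap)

theorem t_apply (i : Fin W.n) (a : A) : W.t i a = (W.π a i).trace := rfl

theorem t_comm (i : Fin W.n) (a b : A) : W.t i (a * b) = W.t i (b * a) := by
  rw [t_apply, t_apply, map_mul, map_mul, Pi.mul_apply, Pi.mul_apply, trace_mul_comm]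

theorem t_f (i j : Fin W.n) : W.t i (W.f j) = if i = j then 1 else 0 := by
  rw [t_apply, W.πf]
  split_ifs with h
  · subst h; simp
  · simp [Pi.single_eq_of_ne h]

/-- the rank of an element on the `i`-th simple module -/
noncomputable def r (e : A) (i : Fin W.n) : ℕ := (W.π e i).rank

theorem r_f (i j : Fin W.n) : W.r (W.f j) i = if i = j then 1 else 0 := by
  rw [r, W.πf]
  split_ifs with h
  · subst h
    rw [Pi.single_eq_same]
    refine le_antisymm ?_ (Nat.pos_of_ne_zero fun h => ?_)
    · rw [single_eq_single_vecMulVec_single]; exact rank_vecMulVec_le _ _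
    · have := congrFun (congrFun (mat_rank_eq_zero.1 h) 0) 0
      simp at this
  · simp [Pi.single_eq_of_ne h]

theorem r_eq_zero_iff : W.r e i = 0 ↔ W.π e i = 0 := mat_rank_eq_zero

theorem r_of_one (h : W.π e i = 1) : W.r e i = W.d i + 1 := by simp [r, h]

theorem r_le (e : A) (i : Fin W.n) : W.r e i ≤ W.d i + 1 := by
  simpa [r] using rank_le_card_width (W.π e i)

theorem π_idem (he : IsIdempotentElem e) (i : Fin W.n) : W.π e i * W.π e i = W.π e i := by
  rw [← Pi.mul_apply, ← map_mul, he.eq]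

theorem isTau_r : IsTau W.r where
  zero := funext fun i => by simp [r]
  add e e' h h' h1 h2 := funext fun i => by
    rw [Pi.add_apply, r, map_add, Pi.add_apply]
    exact rank_add_of_orth (W.π_idem h i) (W.π_idem h' i)
      (by rw [← Pi.mul_apply, ← map_mul, h1, map_zero, Pi.zero_apply])
      (by rw [← Pi.mul_apply, ← map_mul, h2, map_zero, Pi.zero_apply])
  comm a b h h' := funext fun i => by
    have h1 := W.π_idem h i
    have h2 := W.π_idem h' i
    simp only [r, map_mul, Pi.mul_apply] at h1 h2 ⊢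
    exact le_antisymm (rank_mul_comm_of_idem h1) (rank_mul_comm_of_idem h2)

theorem isUnit_of (h : W.π a = 1) : IsUnit a := by
  have := (W.nil (a := a - 1) (by simp [h])).isUnit_add_one
  rwa [sub_add_cancel] at this

theorem exists_inv (he : IsIdempotentElem e) (h1 : e * a = a) (h2 : a * e = a)
    (h : W.π a = W.π e) : ∃ b, a * b = e ∧ b * a = e ∧ W.π b = W.π e := by
  obtain ⟨u, hu⟩ := W.isUnit_of (a := a + (1 - e)) (by simp [h])
  have e1 : e * u = a := by rw [hu, mul_add, h1, he.mul_one_sub_self, add_zero]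
  have e2 : u * e = a := by rw [hu, add_mul, h2, he.one_sub_mul_self, add_zero]
  have e3 : W.π u = 1 := by simp [hu, h]
  refine ⟨u⁻¹ * e, ?_, ?_, ?_⟩
  · rw [← e1, mul_assoc, Units.mul_inv_cancel_left, he.eq]
  · rw [mul_assoc, h1, ← e2, Units.inv_mul_cancel_left]
  · rw [map_mul, ← one_mul (W.π _), ← e3, ← map_mul, Units.mul_inv, map_one, one_mul]

theorem exists_eqv (he : IsIdempotentElem e) (he' : IsIdempotentElem e') {x y : MP k W.d}
    (h1 : x * y = W.π e) (h2 : y * x = W.π e') : ∃ a b, a * b = e ∧ b * a = e' := by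
  obtain ⟨a, rfl⟩ := W.surj x
  obtain ⟨b, rfl⟩ := W.surj y
  have i1 : W.π e * W.π e = W.π e := by rw [← map_mul, he.eq]
  rw [← h1, mul_assoc] at i1
  have i2 : ∀ z, W.π a * (W.π b * (W.π a * (W.π b * z))) = W.π a * (W.π b * z) := fun z => by
    simpa only [mul_assoc] using congrArg (· * z) i1
  have i3 : W.π e' * W.π e' = W.π e' := by rw [← map_mul, he'.eq]
  rw [← h2, mul_assoc] at i3
  have j1 : ∀ z, e * (e * z) = e * z := fun z => by rw [← mul_assoc, he.eq]
  have j2 : ∀ z, e' * (e' * z) = e' * z := fun z => by rw [← mul_assoc, he'.eq]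
  obtain ⟨c, c1, -, c3⟩ := W.exists_inv he (a := e * (a * (e' * (b * e))))
    (j1 _) (by simp only [mul_assoc, he.eq]) (by simp only [map_mul, ← h1, ← h2, mul_assoc, i1, i2])
  have k1 : e * (a * e') * (e' * (b * (e * c))) = e := by simpa only [mul_assoc, j2] using c1
  refine ⟨e * (a * e'), e' * (b * (e * c)), k1, ?_⟩
  have hi : IsIdempotentElem (e' * (b * (e * c)) * (e * (a * e'))) := by
    rw [IsIdempotentElem, mul_assoc, ← mul_assoc (e * (a * e')), k1, j1]
  refine (sub_eq_zero.1 (W.eq_zero (hi.sub he' (by simp only [mul_assoc, he'.eq])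
    (by simp only [mul_assoc, j2])) ?_)).symm
  simp only [map_sub, map_mul, c3, ← h1, ← h2, mul_assoc, i2, i3, sub_self]

theorem exists_le (he : IsIdempotentElem e) (h : W.π e i ≠ 0) :
    ∃ a b, a * b = W.f i ∧ IsIdempotentElem (b * a) ∧ e * (b * a) = b * a ∧ b * a * e = b * a := by
  obtain ⟨j, l, hjl⟩ : ∃ j l, W.π e i j l ≠ 0 := by
    by_contra! h'; exact h (Matrix.ext h')
  obtain ⟨E, hE0⟩ : ∃ E, E = W.π e := ⟨_, rfl⟩
  have hE : E * E = E := by rw [hE0, ← map_mul, he.eq]
  rw [← hE0] at hjl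
  obtain ⟨x, hx⟩ : ∃ x : MP k W.d, x = E * Pi.single i (single l 0 1) := ⟨_, rfl⟩
  obtain ⟨y, hy⟩ : ∃ y : MP k W.d, y = Pi.single i (single 0 j (E i j l)⁻¹) * E := ⟨_, rfl⟩
  have h1 : y * x = W.π (W.f i) := by
    rw [hx, hy, W.πf, mul_assoc, ← mul_assoc E, hE, ← mul_assoc, ← Pi.single_mul_left,
      ← Pi.single_mul, single_mul_mul_single, inv_mul_cancel₀ hjl, one_mul]
  have h2 : x * (y * x) = x := by
    rw [h1, W.πf, hx, mul_assoc, ← Pi.single_mul, single_mul_single_same, one_mul]
  have h5 : E * x = x := by rw [hx, ← mul_assoc, hE]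
  have h6 : y * E = y := by rw [hy, mul_assoc, hE]
  obtain ⟨g, g1, g2, g3, g4⟩ := exists_isIdempotentElem_mul_eq_zero_of_ker_isNilpotent
    (W.π : A →+* MP k W.d) (fun x hx => W.nil hx) (x * y) (W.surj _)
    (by rw [IsIdempotentElem, mul_assoc, ← mul_assoc y, ← mul_assoc, h2]) (1 - e) he.one_sub
    (by rw [map_sub, map_one, mul_sub, mul_one, mul_assoc, RingHom.coe_coe, ← hE0, h6, sub_self])
    (by rw [map_sub, map_one, sub_mul, one_mul, ← mul_assoc, RingHom.coe_coe, ← hE0, h5, sub_self])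
  obtain ⟨a, b, h3, h4⟩ := W.exists_eqv (W.idem i) g1 h1 g2.symm
  rw [mul_sub, mul_one, sub_eq_zero] at g3
  rw [sub_mul, one_mul, sub_eq_zero] at g4
  exact ⟨a, b, h3, h4 ▸ g1, h4 ▸ g4.symm, h4 ▸ g3.symm⟩

theorem tau_eq {M : Type*} [AddCommMonoid M] {τ : A → M} (hτ : IsTau τ) (he : IsIdempotentElem e) :
    τ e = ∑ i, W.r e i • τ (W.f i) := by
  induction h : ∑ i, W.r e i generalizing e with
  | zero =>
    rw [sum_eq_zero_iff] at h
    rw [W.eq_zero he (funext fun i => W.r_eq_zero_iff.1 (h i (mem_univ i))), hτ.zero,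
      W.isTau_r.zero]
    simp
  | succ m ih =>
    obtain ⟨i, -, hi⟩ := exists_ne_zero_of_sum_ne_zero (h.trans_ne m.succ_ne_zero)
    obtain ⟨a, b, h1, h2, h3, h4⟩ := W.exists_le he (mt W.r_eq_zero_iff.2 hi)
    have h5 := h2.sub he h4 h3
    have h6 : b * a * (e - b * a) = 0 := by rw [mul_sub, h4, h2.eq, sub_self]
    have h7 : (e - b * a) * (b * a) = 0 := by rw [sub_mul, h3, h2.eq, sub_self]
    have h8 := hτ.add _ _ h2 h5 h6 h7
    have h9 := W.isTau_r.add _ _ h2 h5 h6 h7
    rw [add_sub_cancel, ← hτ.comm a b (h1 ▸ W.idem i) h2, h1] at h8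
    rw [add_sub_cancel, ← W.isTau_r.comm a b (h1 ▸ W.idem i) h2, h1] at h9
    simp only [h9, Pi.add_apply, sum_add_distrib, add_smul, W.r_f, ite_smul, one_smul, zero_smul,
      sum_ite_eq', mem_univ, if_true] at h ⊢
    rw [h8, ih h5 (by omega)]

theorem t_idem (he : IsIdempotentElem e) (i : Fin W.n) : W.t i e = W.r e i := by
  rw [W.tau_eq (τ := W.t i) ⟨map_zero _, fun _ _ _ _ _ _ => map_add _ _ _,
    fun a b _ _ => W.t_comm i a b⟩ he]
  simp [W.t_f]

theorem central_idem (he : IsIdempotentElem e) (hc : ∀ a, a * e = e * a) (i : Fin W.n) :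
    W.π e i = 0 ∨ W.π e i = 1 := by
  obtain ⟨c, hc⟩ : W.π e i ∈ Set.range (scalar (Fin (W.d i + 1))) :=
    mem_range_scalar_iff_commute_single'.2 fun j l => by
      obtain ⟨a, ha⟩ := W.surj (Pi.single i (single j l 1))
      have := congrFun (congrArg W.π (hc a)) i
      rwa [map_mul, map_mul, ha, Pi.mul_apply, Pi.mul_apply, Pi.single_eq_same] at this
  have := W.π_idem he i
  rw [← hc, ← map_mul, (scalar_inj)] at this
  rcases IsIdempotentElem.iff_eq_zero_or_one.1 this with rfl | rfl
  · left; rw [← hc, map_zero]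
  · right; rw [← hc, map_one]

theorem f_mul_of_zero (he : IsIdempotentElem e) (hc : ∀ a, a * e = e * a) (h : W.π e i = 0) :
    W.f i * e = 0 :=
  W.eq_zero ((W.idem i).mul_of_commute (hc _) he) (by
    rw [map_mul, W.πf, ← Pi.single_mul_left, h, mul_zero, Pi.single_zero])

theorem f_mul_of_one (he : IsIdempotentElem e) (hc : ∀ a, a * e = e * a) (h : W.π e i = 1) :
    W.f i * e = W.f i := by
  have := W.f_mul_of_zero he.one_sub (fun a => by rw [mul_sub, sub_mul, hc, mul_one, one_mul])
    (i := i) (by simp [h])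
  rw [mul_sub, mul_one, sub_eq_zero] at this
  exact this.symm

theorem f_ne_zero (i : Fin W.n) : W.f i ≠ 0 := fun h => by simpa [h] using W.t_f i i

/-- a central idempotent living on a single component is generated by the corner idempotent -/
theorem exists_sum_eq (he : IsIdempotentElem e) (hc : ∀ a, a * e = e * a) (h : W.π e i = 1)
    (h' : ∀ j ≠ i, W.π e j = 0) : ∃ x y : Fin (W.d i + 1) → A, ∑ l, x l * W.f i * y l = e := by
  choose x hx using fun l => W.surj (Pi.single i (single l 0 1))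
  choose y hy using fun l => W.surj (Pi.single i (single 0 l 1))
  have hf := W.f_mul_of_one he hc h
  obtain ⟨c, c1, -, -⟩ := W.exists_inv he (a := ∑ l, x l * W.f i * y l)
    (by rw [mul_sum]; exact sum_congr rfl fun l _ => by
          rw [← hc, mul_assoc, hc, ← mul_assoc, mul_assoc _ _ e, hf])
    (by rw [sum_mul]; exact sum_congr rfl fun l _ => by
          rw [mul_assoc, hc, ← mul_assoc, mul_assoc _ _ e, hf]) (by
      simp only [map_sum, map_mul, hx, hy, W.πf, ← Pi.single_mul, single_mul_single_same, one_mul]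
      funext j
      rw [Finset.sum_apply]
      by_cases hj : j = i
      · subst hj; simp [h, sum_single_one]
      · simp [Pi.single_eq_of_ne hj, h' j hj])
  exact ⟨x, fun l => y l * c, by rw [← c1, sum_mul]; simp only [mul_assoc]⟩

theorem π_corner (h : W.f i * a * W.f i = a) : W.π a = W.t i a • W.π (W.f i) := by
  have h1 : W.π a = Pi.single i (single 0 0 (W.π a i 0 0)) := by
    conv_lhs => rw [← h, map_mul, map_mul, W.πf, ← Pi.single_mul_left, ← Pi.single_mul,
      single_mul_mul_single, one_mul, mul_one]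
  rw [t_apply, W.πf, ← Pi.single_smul, smul_single, smul_eq_mul, mul_one, h1]
  simp

theorem finrank_target : Module.finrank k (MP k W.d) = ∑ i, (W.d i + 1) ^ 2 := by
  simp [Module.finrank_pi_fintype, Module.finrank_matrix, sq]

/-- transport along a surjection with nil kernel -/
noncomputable def comap {B : Type*} [Ring B] [Algebra k B] [FiniteDimensional k B]
    (φ : B →ₐ[k] A) (hs : Function.Surjective φ) (hn : ∀ b, φ b = 0 → IsNilpotent b) : Wed k B :=
  Wed.of (W.π.comp φ) (W.surj.comp hs) fun b hb => by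
    obtain ⟨m, hm⟩ := W.nil hb
    exact IsNilpotent.of_pow (m := m) (hn _ (by rw [map_pow]; exact hm))

theorem r_comap {B : Type*} [Ring B] [Algebra k B] [FiniteDimensional k B]
    (φ : B →ₐ[k] A) (hs : Function.Surjective φ) (hn : ∀ b, φ b = 0 → IsNilpotent b) (b : B) :
    (W.comap φ hs hn).r b = W.r (φ b) := rfl

end Wed
end H20
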